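import Groth.Agent.Hensel.Gabber

/-!
Henselian pairs: lifting of sections of étale algebras, uniqueness, and the converse.
-/

set_option autoImplicit false

namespace Groth.Agent.Hensel

universe u v

open Polynomial
open scoped TensorProduct

variable {A : Type u} [CommRing A] {I : Ideal A}

/-- Two maps from an unramified algebra which agree modulo an ideal in the radical are equal. -/
theorem algHom_eq_of_unramified {E : Type*} [CommRing E] [Algebra A E] [Algebra.FormallyUnramified A E]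
    [Algebra.EssFiniteType A E] {T : Type*} [CommRing T] [Algebra A T] {J : Ideal T} (hJ : J ≤ Ideal.jacobson ⊥)
    (f g : E →ₐ[A] T) (h : ∀ x, f x - g x ∈ J) : f = g := by
  obtain ⟨t, ht1, ht2⟩ := (Algebra.FormallyUnramified.iff_exists_tensorProduct (R := A) (S := E)).1 inferInstance
  let F : E ⊗[A] E →ₐ[A] T := Algebra.TensorProduct.lift f g fun _ _ => .all _ _
  have hu : IsUnit (F t) := by
    refine isUnit_of_mk hJ ?_
    have : (Ideal.Quotient.mkₐ A J).comp F = ((Ideal.Quotient.mkₐ A J).comp f).comp (Algebra.TensorProduct.lmul' A) := by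
      apply Algebra.TensorProduct.ext'
      intro a b
      simp only [AlgHom.comp_apply, F, Algebra.TensorProduct.lift_tmul, Algebra.TensorProduct.lmul'_apply_tmul, map_mul]
      rw [Ideal.Quotient.mkₐ_eq_mk, Ideal.Quotient.eq.2 (h b)]
    have h1 := AlgHom.congr_fun this t
    simp only [AlgHom.comp_apply, ht2, map_one, Ideal.Quotient.mkₐ_eq_mk] at h1
    rw [h1]; exact isUnit_one
  refine AlgHom.ext fun s => ?_
  have h2 := congrArg F (ht1 s)
  rw [map_mul, map_sub, map_zero] at h2
  simp only [F, Algebra.TensorProduct.lift_tmul, map_one, one_mul, mul_one] at h2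
  exact (sub_eq_zero.1 (hu.mul_left_eq_zero.1 h2)).symm

/-- A kernel-killing element for a section of an unramified algebra modulo `I`. -/
theorem exists_killing {E : Type*} [CommRing E] [Algebra A E] [Algebra.FormallyUnramified A E]
    [Algebra.EssFiniteType A E] (σ : E →ₐ[A] A ⧸ I) :
    ∃ u : E, σ u = 1 ∧ ∀ x, σ x = 0 → u * x ∈ I • (⊤ : Submodule A E) := by
  obtain ⟨t, ht1, ht2⟩ := (Algebra.FormallyUnramified.iff_exists_tensorProduct (R := A) (S := E)).1 inferInstance
  let J : Ideal E := I.map (algebraMap A E)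
  let j : (A ⧸ I) →ₐ[A] E ⧸ J := Ideal.Quotient.liftₐ I (Algebra.ofId A (E ⧸ J)) fun a ha => by
    rw [Algebra.ofId_apply, IsScalarTower.algebraMap_apply A E (E ⧸ J), Ideal.Quotient.algebraMap_eq,
      Ideal.Quotient.eq_zero_iff_mem]
    exact Ideal.mem_map_of_mem _ ha
  let F : E ⊗[A] E →ₐ[A] E ⧸ J := Algebra.TensorProduct.lift (Ideal.Quotient.mkₐ A J) (j.comp σ) fun _ _ => .all _ _
  obtain ⟨u, hu⟩ := Ideal.Quotient.mk_surjective (F t)
  have hJI : J ≤ RingHom.ker σ.toRingHom := Ideal.map_le_iff_le_comap.2 fun a ha => by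
    change σ (algebraMap A E a) = 0
    rw [AlgHom.commutes, Ideal.Quotient.algebraMap_eq]
    exact Ideal.Quotient.eq_zero_iff_mem.2 ha
  let σ' : (E ⧸ J) →ₐ[A] A ⧸ I := Ideal.Quotient.liftₐ J σ fun a ha => hJI ha
  have hσ'j : ∀ z, σ' (j z) = z := fun z => by
    obtain ⟨a, rfl⟩ := Ideal.Quotient.mk_surjective z
    change σ' (Ideal.Quotient.mk J (algebraMap A E a)) = _
    exact σ.commutes a
  have h1 : σ'.comp F = σ.comp (Algebra.TensorProduct.lmul' A) := by
    apply Algebra.TensorProduct.ext'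
    intro a b
    simp only [AlgHom.comp_apply, F, Algebra.TensorProduct.lift_tmul, Algebra.TensorProduct.lmul'_apply_tmul, map_mul,
      hσ'j]
    rfl
  refine ⟨u, ?_, fun x hx => ?_⟩
  · have h2 := AlgHom.congr_fun h1 t
    simp only [AlgHom.comp_apply, ht2, map_one, ← hu] at h2
    exact h2
  · have h2 := congrArg F (ht1 x)
    rw [map_mul, map_sub, map_zero] at h2
    simp only [F, Algebra.TensorProduct.lift_tmul, map_one, one_mul, mul_one, AlgHom.comp_apply, hx, map_zero,
      zero_sub] at h2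
    rw [Ideal.smul_top_eq_map, Submodule.restrictScalars_mem, ← Ideal.Quotient.eq_zero_iff_mem, map_mul, hu, mul_comm,
      ← neg_eq_zero, ← neg_mul]
    exact h2

/-- Sections of étale algebras modulo `I` lift. -/
theorem exists_algHom_lift_of_gRoot (h : GRoot A I) {E : Type v} [CommRing E] [Algebra A E] [Algebra.Etale A E]
    (σ : E →ₐ[A] A ⧸ I) : ∃ τ : E →ₐ[A] A, ∀ x, Ideal.Quotient.mk I (τ x) = σ x := by
  classical
  let C := integralClosure A E
  let Jc : Ideal C :=
    { carrier := {g | ∀ e : E, ∃ n : ℕ, (g : E) ^ n * e ∈ C}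
      zero_mem' := fun e => ⟨1, by simp [C.zero_mem]⟩
      add_mem' := fun {g g'} hg hg' e => by
        obtain ⟨n, hn⟩ := hg e
        obtain ⟨m, hm⟩ := hg' e
        refine ⟨n + m, ?_⟩
        change ((g : E) + g') ^ (n + m) * e ∈ C
        rw [add_pow, Finset.sum_mul]
        refine C.sum_mem fun i _ => ?_
        rcases le_or_gt n i with hi | hi
        · obtain ⟨k, rfl⟩ := Nat.exists_eq_add_of_le hi
          rw [show (g : E) ^ (n + k) * (g' : E) ^ (n + m - (n + k)) * ((n + m).choose (n + k) : E) * e =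
            ((g : E) ^ n * e) * ((g : E) ^ k * (g' : E) ^ (n + m - (n + k)) * ((n + m).choose (n + k) : E)) by ring]
          exact C.mul_mem hn (C.mul_mem (C.mul_mem (C.pow_mem g.2 _) (C.pow_mem g'.2 _)) (natCast_mem C _))
        · obtain ⟨k, hk⟩ := Nat.exists_eq_add_of_le (show m ≤ n + m - i by omega)
          rw [hk, show (g : E) ^ i * (g' : E) ^ (m + k) * ((n + m).choose i : E) * e =
            ((g' : E) ^ m * e) * ((g : E) ^ i * (g' : E) ^ k * ((n + m).choose i : E)) by ring]
          exact C.mul_mem hm (C.mul_mem (C.mul_mem (C.pow_mem g.2 _) (C.pow_mem g'.2 _)) (natCast_mem C _))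
      smul_mem' := fun c g hg e => by
        obtain ⟨n, hn⟩ := hg e
        refine ⟨n, ?_⟩
        change ((c : E) * g) ^ n * e ∈ C
        rw [mul_pow, mul_assoc]
        exact C.mul_mem (C.pow_mem c.2 _) hn }
  let σC : C →+* A ⧸ I := σ.toRingHom.comp C.val.toRingHom
  have hσC : Function.Surjective σC := fun z => by
    obtain ⟨a, rfl⟩ := Ideal.Quotient.mk_surjective z
    exact ⟨algebraMap A C a, σ.commutes a⟩
  have htop : Jc.map σC = ⊤ := by
    by_contra hne
    obtain ⟨M, hM, hle⟩ := Ideal.exists_le_maximal _ hne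
    let p : Ideal E := M.comap σ.toRingHom
    haveI : p.IsPrime := Ideal.comap_isPrime _ M
    obtain ⟨r, hrp, hr, hr'⟩ :=
      Algebra.zariskisMainProperty_iff.1 (Algebra.ZariskisMainProperty.of_finiteType (R := A) (S := E) p)
    exact hrp (hle (Ideal.mem_map_of_mem σC (x := (⟨r, hr⟩ : C)) fun e => hr' e))
  obtain ⟨s₀, hs₀J, hs₀⟩ : ∃ s ∈ Jc, σC s = 1 :=
    (Ideal.mem_map_iff_of_surjective σC hσC).1 ((Ideal.eq_top_iff_one _).1 htop)
  obtain ⟨u, hu, huk⟩ := exists_killing σ
  obtain ⟨T, hT⟩ := (Algebra.FiniteType.out : (⊤ : Subalgebra A E).FG)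
  choose nf hnf using hs₀J
  -- a finite subalgebra
  let G : Finset E := insert (s₀ : E) (insert ((s₀ : E) ^ nf u * u) (T.image fun t => (s₀ : E) ^ nf t * t))
  let B := Algebra.adjoin A (G : Set E)
  have hint : ∀ x ∈ (G : Set E), IsIntegral A x := by
    intro x hx
    simp only [G, Finset.coe_insert, Finset.coe_image, Set.mem_insert_iff, Set.mem_image] at hx
    rcases hx with rfl | rfl | ⟨t, -, rfl⟩
    · exact s₀.2
    · exact hnf u
    · exact hnf t
  haveI : Module.Finite A B := Module.Finite.iff_fg.2 (fg_adjoin_of_finite (Finset.finite_toSet G) hint)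
  have hmemG : ∀ x ∈ G, x ∈ B := fun x hx => Algebra.subset_adjoin hx
  have hsB : (s₀ : E) ∈ B := hmemG _ (Finset.mem_insert_self _ _)
  let sB : B := ⟨s₀, hsB⟩
  have hden : ∀ e : E, ∃ n : ℕ, (s₀ : E) ^ n * e ∈ B := fun e => by
    have he : e ∈ Algebra.adjoin A (T : Set E) := hT ▸ Algebra.mem_top
    induction he using Algebra.adjoin_induction with
    | mem x hx =>
      exact ⟨nf x, hmemG _ (Finset.mem_insert_of_mem (Finset.mem_insert_of_mem (Finset.mem_image_of_mem _ hx)))⟩
    | algebraMap a => exact ⟨0, by simpa using B.algebraMap_mem a⟩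
    | add x y _ _ hx hy =>
      obtain ⟨n, hn⟩ := hx
      obtain ⟨m, hm⟩ := hy
      refine ⟨n + m, ?_⟩
      rw [show (s₀ : E) ^ (n + m) * (x + y) = (s₀ : E) ^ m * ((s₀ : E) ^ n * x) + (s₀ : E) ^ n * ((s₀ : E) ^ m * y) by ring]
      exact B.add_mem (B.mul_mem (B.pow_mem hsB _) hn) (B.mul_mem (B.pow_mem hsB _) hm)
    | mul x y _ _ hx hy =>
      obtain ⟨n, hn⟩ := hx
      obtain ⟨m, hm⟩ := hy
      refine ⟨n + m, ?_⟩
      rw [show (s₀ : E) ^ (n + m) * (x * y) = ((s₀ : E) ^ n * x) * ((s₀ : E) ^ m * y) by ring]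
      exact B.mul_mem hn hm
  have hu0 : (s₀ : E) ^ nf u * u ∈ B := hmemG _ (Finset.mem_insert_of_mem (Finset.mem_insert_self _ _))
  let σB : B →ₐ[A] A ⧸ I := σ.comp B.val
  have hσs : σB sB = 1 := hs₀
  -- denominators for `I • ⊤`
  have hIden : ∀ e ∈ I • (⊤ : Submodule A E), ∃ (n : ℕ) (y : B), y ∈ I • (⊤ : Submodule A B) ∧ (y : E) = (s₀ : E) ^ n * e := by
    intro e he
    induction he using Submodule.smul_induction_on' with
    | smul a ha x _ =>
      obtain ⟨n, hn⟩ := hden x
      exact ⟨n, a • (⟨_, hn⟩ : B), Submodule.smul_mem_smul ha trivial, (mul_smul_comm a _ _).symm⟩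
    | add x _ y _ hx hy =>
      obtain ⟨n, y₁, h1, e1⟩ := hx
      obtain ⟨m, y₂, h2, e2⟩ := hy
      refine ⟨n + m, sB ^ m * y₁ + sB ^ n * y₂, add_mem ?_ ?_, ?_⟩
      · have := Submodule.mem_map_of_mem (f := LinearMap.mulLeft A (sB ^ m)) h1
        rw [Submodule.map_smul''] at this
        exact Submodule.smul_mono le_rfl le_top this
      · have := Submodule.mem_map_of_mem (f := LinearMap.mulLeft A (sB ^ n)) h2
        rw [Submodule.map_smul''] at this
        exact Submodule.smul_mono le_rfl le_top this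
      · push_cast
        rw [e1, e2]; ring
  let ub : B := ⟨_, hu0⟩
  have hub : σB ub = 1 := by
    have : σ (s₀ : E) = 1 := hs₀
    change σ ((s₀ : E) ^ nf u * u) = 1
    rw [map_mul, map_pow, this, hu, one_pow, one_mul]
  obtain ⟨ngens, gens, hgens⟩ := Module.Finite.exists_fin (R := A) (M := B)
  have hres : ∀ i, ∃ a : A, σB (gens i - algebraMap A B a) = 0 := fun i => by
    obtain ⟨a, ha⟩ := Ideal.Quotient.mk_surjective (σB (gens i))
    exact ⟨a, by rw [map_sub, AlgHom.commutes, Ideal.Quotient.algebraMap_eq, ha, sub_self]⟩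
  choose ag hag using hres
  have hev : ∀ i, ∃ N : ℕ, ∀ M, N ≤ M → sB ^ M * ub * (gens i - algebraMap A B (ag i)) ∈ I • (⊤ : Submodule A B) := by
    intro i
    obtain ⟨n, y, hy, e⟩ := hIden _ (huk ((gens i - algebraMap A B (ag i) : B) : E) (hag i))
    refine ⟨n, fun M hM => ?_⟩
    have : sB ^ M * ub * (gens i - algebraMap A B (ag i)) = (sB ^ (M - n) * sB ^ nf u) * y := by
      apply Subtype.ext
      push_cast
      rw [e]
      obtain ⟨k, rfl⟩ := Nat.exists_eq_add_of_le hM
      rw [Nat.add_sub_cancel_left, pow_add]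
      simp only [sB, ub, AddSubgroupClass.coe_sub, Subalgebra.coe_algebraMap]
      ring
    rw [this]
    have h3 := Submodule.mem_map_of_mem (f := LinearMap.mulLeft A (sB ^ (M - n) * sB ^ nf u)) hy
    rw [Submodule.map_smul''] at h3
    exact Submodule.smul_mono le_rfl le_top h3
  choose N hN using hev
  let M := ∑ i, N i
  let b : B := sB ^ M * ub
  have hb : σB b = 1 := by rw [map_mul, map_pow, hσs, hub, one_pow, one_mul]
  have hker : ∀ x, σB x = 0 → b * x ∈ I • (⊤ : Submodule A B) := by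
    intro x hx
    obtain ⟨c, hc⟩ := (Submodule.mem_span_range_iff_exists_fun A).1 (hgens.symm ▸ Submodule.mem_top : x ∈ Submodule.span A (Set.range gens))
    have hsum : b * x = ∑ i, c i • (b * (gens i - algebraMap A B (ag i))) + (∑ i, c i * ag i) • b := by
      rw [← hc, Finset.mul_sum, Finset.sum_smul, ← Finset.sum_add_distrib]
      refine Finset.sum_congr rfl fun i _ => ?_
      simp only [Algebra.smul_def, map_mul]
      ring
    rw [hsum]
    refine add_mem (Submodule.sum_mem _ fun i _ => Submodule.smul_mem _ _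
      (hN i M (Finset.single_le_sum (fun _ _ => Nat.zero_le _) (Finset.mem_univ i)))) ?_
    refine Submodule.smul_mem_smul ?_ trivial
    have h4 : σB (∑ i, c i • (gens i - algebraMap A B (ag i))) = 0 := by
      rw [map_sum]
      exact Finset.sum_eq_zero fun i _ => by rw [map_smul, hag, smul_zero]
    have h5 : ∑ i, c i • (gens i - algebraMap A B (ag i)) = x - algebraMap A B (∑ i, c i * ag i) := by
      rw [Finset.sum_congr rfl fun i _ => smul_sub (c i) (gens i) _, Finset.sum_sub_distrib, hc, map_sum]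
      exact congrArg _ (Finset.sum_congr rfl fun i _ => by rw [Algebra.smul_def, ← map_mul])
    rw [h5, map_sub, hx, zero_sub, neg_eq_zero, AlgHom.commutes, Ideal.Quotient.algebraMap_eq] at h4
    exact Ideal.Quotient.eq_zero_iff_mem.1 h4
  obtain ⟨τ, q, hq1, hτ, hτs, hτq, hinj⟩ := exists_section_lift h B.val Subtype.val_injective sB
    (fun e => by obtain ⟨n, hn⟩ := hden e; exact ⟨n, ⟨_, hn⟩, rfl⟩) σB (hσs ▸ isUnit_one) b hb hker
  have hinj' : ∀ a : A, a • (q : E) = 0 → a = 0 := fun a ha => hinj a (Subtype.ext ha)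
  have hex : ∀ e : E, ∃ a : A, (q : E) * e = a • (q : E) := fun e => by
    obtain ⟨n, hn⟩ := hden e
    refine ⟨(hτs.pow n).unit⁻¹.1 * τ ⟨_, hn⟩, ?_⟩
    have h1 : q * sB ^ n = τ (sB ^ n) • q := hτq _
    have h1' : (τ sB ^ n) • ((q : E) * e) = τ ⟨_, hn⟩ • (q : E) := by
      have h2 := congrArg (fun z : B => (z : E)) (hτq ⟨_, hn⟩)
      have h3 := congrArg (fun z : B => (z : E) * e) h1
      simp only [Subalgebra.coe_mul, Subalgebra.coe_pow, SetLike.val_smul, map_pow, smul_mul_assoc] at h2 h3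
      rw [← h3, ← h2, mul_assoc]
    rw [mul_smul, ← h1', smul_smul, IsUnit.val_inv_mul, one_smul]
  choose t ht using hex
  have huniq : ∀ e a, (q : E) * e = a • (q : E) → t e = a := fun e a h' =>
    sub_eq_zero.1 (hinj' _ (by rw [sub_smul, ← ht, h', sub_self]))
  let τE : E →ₐ[A] A :=
    { toFun := t
      map_one' := huniq 1 1 (by rw [mul_one, one_smul])
      map_mul' := fun x y => huniq _ _ (by rw [← mul_assoc, ht x, smul_mul_assoc, ht y, smul_smul])
      map_zero' := huniq 0 0 (by rw [mul_zero, zero_smul])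
      map_add' := fun x y => huniq _ _ (by rw [mul_add, ht x, ht y, add_smul])
      commutes' := fun a => huniq _ _ (by rw [mul_comm, ← Algebra.smul_def, Algebra.algebraMap_self, RingHom.id_apply]) }
  refine ⟨τE, fun x => ?_⟩
  have h1 := congrArg σ (ht x)
  have hq1' : σ (q : E) = 1 := hq1
  rw [map_mul, hq1', one_mul, map_smul, hq1', Algebra.smul_def, mul_one, Ideal.Quotient.algebraMap_eq] at h1
  exact h1.symm

/-- Conversely, lifting sections of étale algebras gives the henselian property. -/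
theorem henselianRing_of_lift (hI : I ≤ Ideal.jacobson ⊥)
    (h : ∀ (E : Type u) [CommRing E] [Algebra A E] [Algebra.Etale A E] (σ : E →ₐ[A] A ⧸ I),
      ∃ τ : E →ₐ[A] A, ∀ x, Ideal.Quotient.mk I (τ x) = σ x) : HenselianRing A I := by
  refine ⟨hI, fun f hf a₀ h₁ h₂ => ?_⟩
  let P : StandardEtalePair A := ⟨f, hf, f.derivative, 1, 0, 1, by ring⟩
  have hev : ∀ g : A[X], aeval (Ideal.Quotient.mk I a₀) g = Ideal.Quotient.mk I (g.eval a₀) := fun g => by
    rw [← Ideal.Quotient.algebraMap_eq, aeval_algebraMap_apply, ← coe_aeval_eq_eval]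
  have hmap : P.HasMap (Ideal.Quotient.mk I a₀) :=
    ⟨by rw [hev]; exact Ideal.Quotient.eq_zero_iff_mem.2 h₁, by rw [hev]; exact h₂⟩
  obtain ⟨τ, hτ⟩ := h P.Ring (P.lift _ hmap)
  refine ⟨τ P.X, ?_, ?_⟩
  · have := (P.hasMap_X.map τ).1
    rwa [coe_aeval_eq_eval] at this
  · rw [← Ideal.Quotient.eq, hτ, StandardEtalePair.lift_X]

/-- Gabber's criterion. -/
theorem henselianRing_iff_gRoot : HenselianRing A I ↔ GRoot A I :=
  ⟨fun _ => gRoot_of_henselianRing, fun h => henselianRing_of_lift h.1 fun _ _ _ _ σ => exists_algHom_lift_of_gRoot h σ⟩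

/-- Sections of étale algebras over a henselian pair lift uniquely. -/
theorem existsUnique_algHom_lift [HenselianRing A I] {E : Type v} [CommRing E] [Algebra A E] [Algebra.Etale A E]
    (σ : E →ₐ[A] A ⧸ I) : ∃! τ : E →ₐ[A] A, ∀ x, Ideal.Quotient.mk I (τ x) = σ x := by
  obtain ⟨τ, hτ⟩ := exists_algHom_lift_of_gRoot gRoot_of_henselianRing σ
  exact ⟨τ, hτ, fun τ' hτ' => algHom_eq_of_unramified (J := I) HenselianRing.jac τ' τ fun x =>
    Ideal.Quotient.eq.1 ((hτ' x).trans (hτ x).symm)⟩

end Groth.Agent.Hensel
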