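import Groth.Agent.Hensel.Smooth

/-!
Henselian local rings.
-/

set_option autoImplicit false

namespace Groth.Agent.Hensel

universe u v

open scoped TensorProduct
open Polynomial

theorem henselianLocalRing_iff (R : Type u) [CommRing R] [IsLocalRing R] :
    HenselianLocalRing R ↔ HenselianRing R (IsLocalRing.maximalIdeal R) := by
  refine ⟨fun _ => inferInstance, fun h => ⟨fun f hf a₀ h₁ h₂ => h.is_henselian f hf a₀ h₁ (h₂.map _)⟩⟩

/-- Maps from an étale algebra into a henselian pair are detected modulo the ideal. -/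
theorem existsUnique_algHom_of_quotient {A : Type u} [CommRing A] {B₁ : Type u} [CommRing B₁] [Algebra A B₁]
    [Algebra.Etale A B₁] {B₂ : Type u} [CommRing B₂] [Algebra A B₂] {T : Type u} [CommRing T] [Algebra A T]
    (π : B₂ →ₐ[A] T) (hπ : Function.Surjective π) (hK : HenselianRing B₂ (RingHom.ker π.toRingHom))
    (σ : B₁ →ₐ[A] T) : ∃! f : B₁ →ₐ[A] B₂, π.comp f = σ := by
  haveI := hK
  let K := RingHom.ker π.toRingHom
  let e : (B₂ ⧸ K) ≃ₐ[A] T := Ideal.quotientKerAlgEquivOfSurjective hπ
  have he : ∀ x, e (Ideal.Quotient.mk K x) = π x := fun x => rfl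
  let σ' : B₂ ⊗[A] B₁ →ₐ[B₂] B₂ ⧸ K :=
    Algebra.TensorProduct.lift (Algebra.ofId B₂ (B₂ ⧸ K)) (e.symm.toAlgHom.comp σ) fun _ _ => .all _ _
  obtain ⟨τ, hτ, huniq⟩ := existsUnique_algHom_lift σ'
  refine ⟨(τ.restrictScalars A).comp Algebra.TensorProduct.includeRight, AlgHom.ext fun x => ?_, fun f hf => ?_⟩
  · have := hτ (1 ⊗ₜ x)
    simp only [σ', Algebra.TensorProduct.lift_tmul, map_one, one_mul, AlgHom.comp_apply] at this
    have h2 := congrArg e this
    rw [he] at h2
    change π (τ (1 ⊗ₜ x)) = σ x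
    rw [h2]
    exact e.apply_symm_apply _
  · let F : B₂ ⊗[A] B₁ →ₐ[B₂] B₂ := Algebra.TensorProduct.lift (Algebra.ofId B₂ B₂) f fun _ _ => .all _ _
    have : F = τ := huniq F fun z => by
      have h3 : ((Ideal.Quotient.mkₐ B₂ K).comp F) = σ' := by
        refine Algebra.TensorProduct.ext (by ext) (AlgHom.ext fun x => e.injective ?_)
        simp only [AlgHom.comp_apply, AlgHom.coe_restrictScalars', Algebra.TensorProduct.includeRight_apply, F, σ',
          Algebra.TensorProduct.lift_tmul, map_one, one_mul, Ideal.Quotient.mkₐ_eq_mk, AlgHom.comp_apply]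
        rw [he, ← AlgHom.comp_apply π f, hf]
        exact (e.apply_symm_apply _).symm
      exact AlgHom.congr_fun h3 z
    rw [← this]
    exact AlgHom.ext fun x => by simp [F]

/-- Base change to a quotient by (part of) the henselian ideal is bijective on maps of algebras. -/
theorem bijective_baseChange {A : Type u} [CommRing A] (I : Ideal A) [HenselianRing A I] (X : Type u) [CommRing X]
    [Algebra A X] (hX : Function.Surjective (algebraMap A X)) (hker : RingHom.ker (algebraMap A X) ≤ I)
    (B₁ B₂ : Type u) [CommRing B₁] [CommRing B₂] [Algebra A B₁] [Algebra A B₂] [Algebra.Etale A B₁]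
    [Algebra.IsIntegral A B₂] :
    Function.Bijective (fun φ : B₁ →ₐ[A] B₂ => Algebra.TensorProduct.map (AlgHom.id X X) φ) := by
  let π : B₂ →ₐ[A] X ⊗[A] B₂ := Algebra.TensorProduct.includeRight
  have hπ : Function.Surjective π := TensorProduct.mk_surjective A B₂ X hX
  haveI := henselianRing_integral A I B₂
  have hK : RingHom.ker π.toRingHom ≤ I.map (algebraMap A B₂) := by
    intro x hx
    let K' := RingHom.ker (algebraMap A X)
    let e : (A ⧸ K') ≃ₐ[A] X := Ideal.quotientKerAlgEquivOfSurjective (f := Algebra.ofId A X) hX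
    have h0 : (1 : A ⧸ K') ⊗ₜ[A] x = 0 := by
      refine (Algebra.TensorProduct.congr e AlgEquiv.refl).injective ?_
      rw [map_zero]
      change e 1 ⊗ₜ[A] x = 0
      rw [map_one]
      exact hx
    have h1 := congrArg (TensorProduct.quotTensorEquivQuotSMul B₂ K') h0
    rw [← map_one (Ideal.Quotient.mk K'), TensorProduct.quotTensorEquivQuotSMul_mk_tmul, one_smul, map_zero,
      Submodule.Quotient.mk_eq_zero, Ideal.smul_top_eq_map] at h1
    exact Ideal.map_mono hker h1
  have hH : HenselianRing B₂ (RingHom.ker π.toRingHom) := henselianRing_mono hK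
  have hcomp : ∀ (φ : B₁ →ₐ[A] B₂) (x : B₁),
      Algebra.TensorProduct.map (AlgHom.id X X) φ (1 ⊗ₜ x) = π (φ x) := fun φ x => rfl
  refine ⟨fun φ φ' h => ?_, fun ψ => ?_⟩
  · refine (existsUnique_algHom_of_quotient π hπ hH (π.comp φ')).unique ?_ rfl
    exact AlgHom.ext fun x => (hcomp φ x).symm.trans ((AlgHom.congr_fun h (1 ⊗ₜ x)).trans (hcomp φ' x))
  · obtain ⟨f, hf, -⟩ := existsUnique_algHom_of_quotient π hπ hH
      ((ψ.restrictScalars A).comp Algebra.TensorProduct.includeRight)
    refine ⟨f, ?_⟩
    refine Algebra.TensorProduct.ext (by ext) (AlgHom.ext fun x => ?_)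
    exact AlgHom.congr_fun hf x

/-- An algebra is a finite product of local rings when it is finite over a henselian local ring. -/
theorem exists_pi_local (R : Type u) [CommRing R] [HenselianLocalRing R] (S : Type u) [CommRing S] [Algebra R S]
    [Module.Finite R S] :
    ∃ (ι : Type u) (_ : Fintype ι) (e : ι → S), CompleteOrthogonalIdempotents e ∧
      ∀ i, IsLocalRing (S ⧸ Ideal.span {1 - e i}) := by
  classical
  set m := IsLocalRing.maximalIdeal R
  set J := (m.map (algebraMap R S)).radical with hJdef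
  haveI h1 : HenselianRing S (m.map (algebraMap R S)) := henselianRing_integral R m S
  haveI h2 : HenselianRing S J := (henselianRing_iff_of_radical (Ideal.radical_idem _).symm).1 h1
  haveI hred : IsReduced (S ⧸ J) := (Ideal.isRadical_iff_quotient_reduced J).1 (Ideal.radical_isRadical _)
  haveI : Module.Finite (R ⧸ m) (S ⧸ m.map (algebraMap R S)) := Module.Finite.of_restrictScalars_finite R _ _
  haveI hart : IsArtinianRing (S ⧸ m.map (algebraMap R S)) := by
    letI := Ideal.Quotient.field m
    exact IsArtinianRing.of_finite (R ⧸ m) _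
  haveI : IsArtinianRing (S ⧸ J) :=
    (Ideal.Quotient.factor_surjective (Ideal.le_radical : m.map (algebraMap R S) ≤ J)).isArtinianRing
  let E := IsArtinianRing.equivPi (S ⧸ J)
  let ι := MaximalSpectrum (S ⧸ J)
  haveI : Fintype ι := Fintype.ofFinite _
  let ebar : ι → S ⧸ J := fun i => E.symm (Pi.single i 1)
  have hebar : CompleteOrthogonalIdempotents ebar :=
    (CompleteOrthogonalIdempotents.single _).map E.symm.toRingEquiv.toRingHom
  have hlift : ∀ i, ∃ e : S, IsIdempotentElem e ∧ Ideal.Quotient.mk J e = ebar i := fun i => by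
    obtain ⟨b, hb⟩ := Ideal.Quotient.mk_surjective (ebar i)
    have hb2 : b * b - b ∈ J := by
      rw [← Ideal.Quotient.eq, map_mul, hb]; exact hebar.idem i
    obtain ⟨e, he, heb⟩ := exists_idempotent_lift (A := S) (I := J) (B := S) b (by
      rw [Algebra.algebraMap_self, Ideal.map_id]; exact hb2)
    rw [Algebra.algebraMap_self, Ideal.map_id] at heb
    exact ⟨e, he, (Ideal.Quotient.eq.2 heb).trans hb⟩
  choose e he hee using hlift
  have hjac : J ≤ Ideal.jacobson ⊥ := HenselianRing.jac
  have horth : Pairwise fun i j => e i * e j = 0 := fun i j hij => by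
    refine eq_of_idempotent hjac ((he i).mul (he j)) IsIdempotentElem.zero ?_
    rw [sub_zero, ← Ideal.Quotient.eq_zero_iff_mem, map_mul, hee, hee]
    exact hebar.ortho hij
  have hcomplete : ∑ i, e i = 1 := by
    refine eq_of_idempotent hjac ?_ IsIdempotentElem.one ?_
    · exact OrthogonalIdempotents.isIdempotentElem_sum ⟨he, horth⟩
    · rw [← Ideal.Quotient.eq, map_sum, map_one, Finset.sum_congr rfl fun i _ => hee i]
      exact hebar.complete
  refine ⟨ι, inferInstance, e, ⟨⟨he, horth⟩, hcomplete⟩, fun i => ?_⟩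
  -- maximal ideals containing `1 - e i` correspond to the `i`-th point
  have hmax : ∀ M : Ideal S, M.IsMaximal → 1 - e i ∈ M → M = i.asIdeal.comap (Ideal.Quotient.mk J) := by
    intro M hM hMe
    have hJM : J ≤ M := hjac.trans (sInf_le ⟨bot_le, hM⟩)
    have hi : i.asIdeal.comap (Ideal.Quotient.mk J) ≤ M := fun x hx => by
      have hz : Ideal.Quotient.mk J (e i * x) = 0 := by
        rw [map_mul, hee]
        apply E.injective
        rw [map_mul, map_zero]
        funext j
        simp only [Pi.mul_apply, ebar, AlgEquiv.apply_symm_apply, Pi.zero_apply]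
        rcases eq_or_ne j i with rfl | hj
        · have h0 : E (Ideal.Quotient.mk J x) j = Ideal.Quotient.mk j.asIdeal (Ideal.Quotient.mk J x) := rfl
          rw [h0, Ideal.Quotient.eq_zero_iff_mem.2 (Ideal.mem_comap.1 hx), mul_zero]
        · rw [Pi.single_eq_of_ne hj, zero_mul]
      have h2 := M.add_mem (M.mul_mem_right x hMe) (hJM (Ideal.Quotient.eq_zero_iff_mem.1 hz))
      rwa [show (1 - e i) * x + e i * x = x by ring] at h2
    exact ((Ideal.comap_isMaximal_of_surjective _ Ideal.Quotient.mk_surjective).eq_of_le hM.ne_top hi).symm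
  haveI : Nontrivial (S ⧸ Ideal.span {1 - e i}) := Ideal.Quotient.nontrivial_iff.2 fun h => by
    have hu : IsUnit (1 - e i) := Ideal.span_singleton_eq_top.1 h
    have h0 : e i = 0 := hu.mul_right_eq_zero.1 (by rw [sub_mul, one_mul, (he i).eq, sub_self])
    have h3 := hee i
    rw [h0, map_zero] at h3
    have h4 := congrArg (fun z => E z i) h3
    simp only [ebar, map_zero, AlgEquiv.apply_symm_apply, Pi.single_eq_same, Pi.zero_apply] at h4
    exact zero_ne_one h4
  obtain ⟨M, hM⟩ := Ideal.exists_maximal (S ⧸ Ideal.span {1 - e i})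
  refine IsLocalRing.of_unique_max_ideal ⟨M, hM, fun M' hM' => ?_⟩
  have key : ∀ N : Ideal (S ⧸ Ideal.span {1 - e i}), N.IsMaximal →
      N.comap (Ideal.Quotient.mk _) = i.asIdeal.comap (Ideal.Quotient.mk J) := fun N hN =>
    hmax _ (Ideal.comap_isMaximal_of_surjective _ Ideal.Quotient.mk_surjective) (by
      rw [Ideal.mem_comap, Ideal.Quotient.eq_zero_iff_mem.2 (Ideal.mem_span_singleton_self _)]
      exact N.zero_mem)
  exact Ideal.comap_injective_of_surjective _ Ideal.Quotient.mk_surjective ((key M' hM').trans (key M hM).symm)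

/-- A local ring over which every finite algebra is a product of local rings is henselian. -/
theorem henselianLocalRing_of_pi_local (R : Type u) [CommRing R] [IsLocalRing R]
    (h : ∀ (S : Type u) [CommRing S] [Algebra R S], Module.Finite R S →
      ∃ (ι : Type u) (_ : Fintype ι) (A : ι → Type u) (_ : ∀ i, CommRing (A i)),
        (∀ i, IsLocalRing (A i)) ∧ Nonempty (S ≃+* (∀ i, A i))) : HenselianLocalRing R := by
  classical
  rw [henselianLocalRing_iff]
  refine henselianRing_of_idempotents fun B _ _ _ => ?_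
  set J := (IsLocalRing.maximalIdeal R).map (algebraMap R B)
  have hjac : J ≤ Ideal.jacobson ⊥ := map_le_jacobson (IsLocalRing.jacobson_eq_maximalIdeal ⊥ bot_ne_top).ge
  refine ⟨fun e he => he.map _, fun e he f hf hef => eq_of_idempotent hjac he hf (Ideal.Quotient.eq.1 hef),
    fun z hz => ?_⟩
  obtain ⟨b, rfl⟩ := Ideal.Quotient.mk_surjective z
  obtain ⟨ι, _, A, _, hA, ⟨φ⟩⟩ := h B inferInstance
  have hmem : b * b - b ∈ J := by rw [← Ideal.Quotient.eq, map_mul]; exact hz
  have hcase : ∀ i, φ b i ∈ IsLocalRing.maximalIdeal (A i) ∨ φ b i - 1 ∈ IsLocalRing.maximalIdeal (A i) := fun i => by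
    refine (IsLocalRing.maximalIdeal.isMaximal (A i)).isPrime.mem_or_mem ?_
    have hu := Ideal.mem_jacobson_bot.1 (hjac hmem)
    have : φ (b * b - b) i ∈ Ideal.jacobson (⊥ : Ideal (A i)) := Ideal.mem_jacobson_bot.2 fun y => by
      have h1 := (hu (φ.symm (Function.update 0 i y))).map ((Pi.evalRingHom A i).comp φ.toRingHom)
      rw [map_add, map_mul, map_one] at h1
      simpa using h1
    rw [IsLocalRing.jacobson_eq_maximalIdeal _ bot_ne_top] at this
    simpa [map_sub, map_mul, mul_sub] using this
  let c : ∀ i, A i := fun i => if φ b i ∈ IsLocalRing.maximalIdeal (A i) then 0 else 1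
  refine ⟨φ.symm c, ?_, ?_⟩
  · refine IsIdempotentElem.map ?_ φ.symm
    funext i
    by_cases hi : φ b i ∈ IsLocalRing.maximalIdeal (A i) <;> simp [c, hi]
  rw [Ideal.Quotient.eq]
  -- each coordinate differs by a unit multiple of `b * b - b`
  have hd : ∀ i, ∃ w : A i, c i - φ b i = w * φ (b * b - b) i := fun i => by
    rw [map_sub, map_mul, Pi.sub_apply, Pi.mul_apply]
    by_cases hi : φ b i ∈ IsLocalRing.maximalIdeal (A i)
    · obtain ⟨u, hu⟩ : IsUnit (1 - φ b i) := by
        rw [← IsLocalRing.notMem_maximalIdeal]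
        intro h'
        have h1 := (IsLocalRing.maximalIdeal (A i)).add_mem h' hi
        rw [sub_add_cancel] at h1
        exact (IsLocalRing.maximalIdeal.isMaximal (A i)).ne_top ((Ideal.eq_top_iff_one _).2 h1)
      refine ⟨↑u⁻¹, ?_⟩
      simp only [c, if_pos hi]
      have : (↑u⁻¹ : A i) * (1 - φ b i) = 1 := by rw [← hu, Units.inv_mul]
      linear_combination (φ b i) * this
    · obtain ⟨u, hu⟩ := IsLocalRing.notMem_maximalIdeal.1 hi
      refine ⟨-↑u⁻¹, ?_⟩
      simp only [c, if_neg hi]
      have : (↑u⁻¹ : A i) * φ b i = 1 := by rw [← hu, Units.inv_mul]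
      linear_combination (φ b i - 1) * this
  choose w hw using hd
  have : φ.symm c - b = φ.symm w * (b * b - b) := φ.injective (by
    rw [map_sub, map_mul, RingEquiv.apply_symm_apply, RingEquiv.apply_symm_apply]
    exact funext hw)
  rw [this]
  exact J.mul_mem_left _ hmem

theorem henselianLocalRing_finite (R : Type u) [CommRing R] [HenselianLocalRing R] (S : Type u) [CommRing S]
    [IsLocalRing S] [Algebra R S] [Algebra.IsIntegral R S] : HenselianLocalRing S := by
  rw [henselianLocalRing_iff]
  have h1 := henselianRing_integral R (IsLocalRing.maximalIdeal R) S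
  refine (henselianRing_iff_of_radical ?_).1 h1
  rw [(IsLocalRing.maximalIdeal.isMaximal S).isPrime.radical, Ideal.radical_eq_sInf]
  refine le_antisymm (sInf_le ⟨?_, inferInstance⟩) (le_sInf ?_)
  · exact Ideal.map_le_iff_le_comap.2 (IsLocalRing.eq_maximalIdeal
      (Ideal.isMaximal_comap_of_isIntegral_of_isMaximal (R := R) (IsLocalRing.maximalIdeal S))).ge
  · rintro q ⟨hq, hqp⟩
    haveI := hqp
    have : (q.comap (algebraMap R S)).IsMaximal := by
      have := (IsLocalRing.maximalIdeal.isMaximal R).eq_of_le (Ideal.IsPrime.ne_top (hqp.comap _)) (Ideal.map_le_iff_le_comap.1 hq)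
      rw [← this]; exact IsLocalRing.maximalIdeal.isMaximal R
    exact (IsLocalRing.eq_maximalIdeal (Ideal.isMaximal_of_isIntegral_of_isMaximal_comap q this)).ge

/-- Henselian as soon as étale algebras with a trivial residue extension have retractions. -/
theorem henselianLocalRing_of_retraction (R : Type u) [CommRing R] [IsLocalRing R]
    (h : ∀ (S : Type u) [CommRing S] [Algebra R S] [Algebra.Etale R S] (q : Ideal S) [q.IsPrime],
      q.LiesOver (IsLocalRing.maximalIdeal R) → Function.Surjective (algebraMap R q.ResidueField) →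
      Nonempty (S →ₐ[R] R)) : HenselianLocalRing R := by
  refine ⟨fun f hf a₀ h₁ h₂ => ?_⟩
  set m := IsLocalRing.maximalIdeal R
  let k := IsLocalRing.ResidueField R
  obtain ⟨Q, hQ⟩ := dvd_iff_isRoot.2 (show (f - C (f.eval a₀)).IsRoot a₀ by simp [IsRoot])
  have hQa : Q.eval a₀ = f.derivative.eval a₀ := by
    have := congrArg (fun P : R[X] => P.derivative.eval a₀) hQ
    simp at this
    exact this.symm
  let P : StandardEtalePair R := ⟨f, hf, f.derivative * Q, Q, 0, 1, by ring⟩
  have hev : ∀ g : R[X], aeval (IsLocalRing.residue R a₀) g = IsLocalRing.residue R (g.eval a₀) := fun g => by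
    rw [← IsLocalRing.ResidueField.algebraMap_eq, aeval_algebraMap_apply, ← coe_aeval_eq_eval]
  have hmap : P.HasMap (IsLocalRing.residue R a₀) :=
    ⟨by rw [hev]; exact (IsLocalRing.residue_eq_zero_iff _).2 h₁,
     by rw [hev, eval_mul, hQa]; exact (h₂.mul h₂).map _⟩
  let σ := P.lift _ hmap
  have hσs : Function.Surjective σ := fun z => by
    obtain ⟨r, rfl⟩ := IsLocalRing.residue_surjective z
    exact ⟨algebraMap R _ r, σ.commutes r⟩
  let q := RingHom.ker σ.toRingHom
  haveI hqm : q.IsMaximal := RingHom.ker_isMaximal_of_surjective σ.toRingHom hσs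
  have hq : q.LiesOver m := ⟨by
    rw [Ideal.under, RingHom.comap_ker]
    change m = RingHom.ker (σ.toRingHom.comp (algebraMap R P.Ring))
    rw [AlgHom.toRingHom_eq_coe, AlgHom.comp_algebraMap, IsLocalRing.ResidueField.algebraMap_eq, IsLocalRing.ker_residue]⟩
  have hsurj : Function.Surjective (algebraMap R q.ResidueField) := fun z => by
    obtain ⟨y, rfl⟩ := q.algebraMap_residueField_surjective z
    obtain ⟨r, hr⟩ := IsLocalRing.residue_surjective (σ y)
    refine ⟨r, ?_⟩
    rw [IsScalarTower.algebraMap_apply R P.Ring q.ResidueField, ← sub_eq_zero, ← map_sub,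
      Ideal.algebraMap_residueField_eq_zero]
    change σ (algebraMap R P.Ring r - y) = 0
    rw [map_sub, AlgHom.commutes, ← hr, sub_eq_zero]
    rfl
  obtain ⟨τ⟩ := h P.Ring q hq hsurj
  have hroot := P.hasMap_X.map τ
  have h5 : f.eval (τ P.X) = 0 := by
    have := hroot.1
    rwa [coe_aeval_eq_eval] at this
  refine ⟨τ P.X, h5, ?_⟩
  have hQu : IsUnit (Q.eval (τ P.X)) := by
    have := hroot.2
    rw [coe_aeval_eq_eval, eval_mul] at this
    exact isUnit_of_mul_isUnit_right this
  have h6 := congrArg (fun g : R[X] => g.eval (τ P.X)) hQ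
  simp only [eval_sub, eval_C, eval_mul, eval_X, h5, zero_sub] at h6
  refine (Ideal.mul_unit_mem_iff_mem m hQu).1 ?_
  rw [← h6]
  exact m.neg_mem h₁

end Groth.Agent.Hensel
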