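import Groth.Agent.Hensel.Envelope

/-!
The envelope is henselian, and its universal property.
-/

set_option autoImplicit false

namespace Groth.Agent.Hensel

universe u v w

open IsLocalRing
open scoped Polynomial

variable (R : Type u) [CommRing R] (K : Type u) [Field K] [Algebra R K]

/-- A local ring which has all the universal points and is made of their fractions is henselian. -/
theorem henselian_of_points {S : Type u} [CommRing S] [IsLocalRing S] [Algebra R S] (π : S →ₐ[R] K)
    (hπ : ∀ z, π z = 0 ↔ z ∈ maximalIdeal S) (ι : EnvTop R K →ₐ[R] S) (hι : ∀ x, π (ι x) = envEv R K x)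
    (hloc : ∀ z, ∃ x t, IsUnit (ι t) ∧ z * ι t = ι x) : HenselianLocalRing S := by
  classical
  refine ⟨fun f hf a₀ ha₀ hd => ?_⟩
  set n := f.natDegree
  choose x t ht hxt using fun k : Fin n => hloc (f.coeff k)
  choose Fx zx hzx using fun k => exists_etMap_eq (P := envPairs R K) (x k)
  choose Ft zt hzt using fun k => exists_etMap_eq (P := envPairs R K) (t k)
  let F : Finset (EnvIdx R K) := Finset.univ.biUnion fun k => Fx k ∪ Ft k
  have hFx : ∀ k, Fx k ⊆ F := fun k =>
    Finset.subset_union_left.trans (Finset.subset_biUnion_of_mem (fun k => Fx k ∪ Ft k) (Finset.mem_univ k))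
  have hFt : ∀ k, Ft k ⊆ F := fun k =>
    Finset.subset_union_right.trans (Finset.subset_biUnion_of_mem (fun k => Fx k ∪ Ft k) (Finset.mem_univ k))
  let A := EtProd (envPairs R K ∘ ((↑) : F → EnvIdx R K))
  let inc : A →ₐ[R] EnvTop R K := etMap (P := envPairs R K) ((↑) : F → EnvIdx R K)
  let x' : Fin n → A := fun k =>
    etMap (P := envPairs R K ∘ ((↑) : F → EnvIdx R K)) (fun j : Fx k => (⟨j.1, hFx k j.2⟩ : F)) (zx k)
  let t' : Fin n → A := fun k =>
    etMap (P := envPairs R K ∘ ((↑) : F → EnvIdx R K)) (fun j : Ft k => (⟨j.1, hFt k j.2⟩ : F)) (zt k)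
  have hx' : ∀ k, ι (inc (x' k)) = ι (x k) := fun k => by
    rw [← hzx k]
    exact congrArg ι (AlgHom.congr_fun
      (etMap_comp (P := envPairs R K) ((↑) : F → EnvIdx R K) fun j : Fx k => (⟨j.1, hFx k j.2⟩ : F)) (zx k))
  have ht' : ∀ k, ι (inc (t' k)) = ι (t k) := fun k => by
    rw [← hzt k]
    exact congrArg ι (AlgHom.congr_fun
      (etMap_comp (P := envPairs R K) ((↑) : F → EnvIdx R K) fun j : Ft k => (⟨j.1, hFt k j.2⟩ : F)) (zt k))
  haveI : Algebra.Etale R A := etale_etProd
  let T₀ : A := ∏ k, t' k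
  have hT₀ : IsUnit (ι.comp inc T₀) := by
    rw [map_prod]
    refine IsUnit.prod_univ_iff.2 fun k => ?_
    rw [AlgHom.comp_apply, ht']
    exact ht k
  let E₁ := Localization.Away T₀
  haveI : Algebra.Etale R E₁ := inferInstance
  let χ : E₁ →ₐ[R] S := IsLocalization.Away.liftAlgHom T₀ (f := ι.comp inc) hT₀
  have hχ : ∀ a, χ (algebraMap A E₁ a) = ι (inc a) := fun a => IsLocalization.Away.lift_eq T₀ hT₀ a
  have hu : ∀ k, IsUnit (algebraMap A E₁ (t' k)) := fun k =>
    isUnit_of_dvd_unit (map_dvd (algebraMap A E₁) (Finset.dvd_prod_of_mem t' (Finset.mem_univ k)))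
      (IsLocalization.Away.algebraMap_isUnit T₀)
  let c : Fin n → E₁ := fun k => algebraMap A E₁ (x' k) * ↑(hu k).unit⁻¹
  have hc : ∀ k : Fin n, χ (c k) = f.coeff k := fun k => by
    have h1 : c k * algebraMap A E₁ (t' k) = algebraMap A E₁ (x' k) := by
      rw [mul_assoc, IsUnit.val_inv_mul, mul_one]
    have h2 := congrArg χ h1
    rw [map_mul, hχ, hχ, hx', ht', ← hxt k] at h2
    exact (ht k).mul_left_injective h2
  let f₁ : E₁[X] := Polynomial.X ^ n + ∑ k : Fin n, Polynomial.C (c k) * Polynomial.X ^ (k : ℕ)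
  have hf₁ : f₁.Monic := Polynomial.monic_X_pow_add (Polynomial.degree_sum_fin_lt c)
  have hmap : f₁.map χ.toRingHom = f := by
    conv_rhs => rw [hf.as_sum]
    simp only [f₁, Polynomial.map_add, Polynomial.map_pow, Polynomial.map_X, Polynomial.map_sum,
      Polynomial.map_mul, Polynomial.map_C]
    rw [← Fin.sum_univ_eq_sum_range (fun k => Polynomial.C (f.coeff k) * Polynomial.X ^ k)]
    congr 1
    exact Finset.sum_congr rfl fun k _ => by rw [← hc k]; rfl
  letI : Algebra E₁ K := (π.comp χ).toRingHom.toAlgebra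
  haveI : IsScalarTower R E₁ K := IsScalarTower.of_algebraMap_eq fun r => ((π.comp χ).commutes r).symm
  let P₂ : StandardEtalePair E₁ := ⟨f₁, hf₁, Polynomial.derivative f₁, 1, 0, 1, by ring⟩
  have heval : ∀ p : E₁[X], Polynomial.aeval (π a₀) p = π ((p.map χ.toRingHom).eval a₀) := fun p => by
    rw [Polynomial.eval_map, Polynomial.aeval_def]
    exact (Polynomial.hom_eval₂ p χ.toRingHom π.toRingHom a₀).symm
  have hP₂ : P₂.HasMap (π a₀) := by
    refine ⟨?_, ?_⟩
    · change Polynomial.aeval (π a₀) f₁ = 0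
      rw [heval, hmap, (hπ _).2 ha₀]
    · change IsUnit (Polynomial.aeval (π a₀) (Polynomial.derivative f₁))
      rw [heval, ← Polynomial.derivative_map, hmap]
      exact hd.map π
  letI : Algebra R P₂.Ring := ((algebraMap E₁ P₂.Ring).comp (algebraMap R E₁)).toAlgebra
  haveI : IsScalarTower R E₁ P₂.Ring := IsScalarTower.of_algebraMap_eq' rfl
  haveI : Algebra.Etale R P₂.Ring := Algebra.Etale.comp R E₁ P₂.Ring
  let ev₂ : P₂.Ring →ₐ[R] K := (P₂.lift (π a₀) hP₂).restrictScalars R
  haveI : (RingHom.ker ev₂.toRingHom).IsPrime := RingHom.ker_isPrime _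
  haveI : Algebra.IsEtaleAt R (RingHom.ker ev₂.toRingHom) :=
    haveI : Algebra.FormallyEtale P₂.Ring (Localization.AtPrime (RingHom.ker ev₂.toRingHom)) :=
      Algebra.FormallyEtale.of_isLocalization (RingHom.ker ev₂.toRingHom).primeCompl
    Algebra.FormallyEtale.comp R P₂.Ring _
  obtain ⟨h, hh, hstd⟩ := Algebra.IsEtaleAt.exists_isStandardEtale (R := R) (RingHom.ker ev₂.toRingHom)
  obtain ⟨pr⟩ := hstd.nonempty_standardEtalePresentation
  have hev₂h : IsUnit (ev₂ h) := isUnit_iff_ne_zero.2 hh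
  let ev₃ : Localization.Away h →ₐ[R] K := IsLocalization.Away.liftAlgHom h (f := ev₂) hev₂h
  let i : EnvIdx R K := ⟨pr.P, ev₃ pr.x, pr.hasMap.map ev₃⟩
  have hpt : pr.P.HasMap (ι (etPt (envPairs R K) i)) := (hasMap_etPt (P := envPairs R K) i).map ι
  let φ₃ : Localization.Away h →ₐ[R] S := (pr.P.lift _ hpt).comp pr.equivRing.toAlgHom
  have hφ₃ : π.comp φ₃ = ev₃ := pr.hom_ext (by
    change π (pr.P.lift _ hpt (pr.equivRing pr.x)) = _
    rw [pr.equivRing_x, StandardEtalePair.lift_X, hι]
    exact etLift_etPt (P := envPairs R K) _ _ i)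
  let φ₂ : P₂.Ring →ₐ[R] S := φ₃.comp (IsScalarTower.toAlgHom R P₂.Ring (Localization.Away h))
  have hφ₂ : ∀ z, π (φ₂ z) = ev₂ z := fun z =>
    (AlgHom.congr_fun hφ₃ (algebraMap P₂.Ring (Localization.Away h) z)).trans
      (IsLocalization.Away.lift_eq h hev₂h z)
  have hφχ : φ₂.comp (IsScalarTower.toAlgHom R E₁ P₂.Ring) = χ := by
    refine algHom_eq_of_unramified (maximalIdeal_le_jacobson ⊥) _ _ fun z => (hπ _).1 ?_
    rw [map_sub, sub_eq_zero]
    exact (hφ₂ _).trans ((P₂.lift (π a₀) hP₂).commutes z)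
  refine ⟨φ₂ P₂.X, ?_, (hπ _).1 ?_⟩
  · have h1 : φ₂ (Polynomial.aeval P₂.X f₁) = 0 := by
      rw [show Polynomial.aeval P₂.X f₁ = 0 from P₂.hasMap_X.1, map_zero]
    rw [Polynomial.IsRoot, ← hmap, Polynomial.eval_map, ← hφχ]
    exact (Polynomial.hom_eval₂ f₁ (algebraMap E₁ P₂.Ring) φ₂.toRingHom P₂.X).symm.trans h1
  · rw [map_sub, sub_eq_zero, hφ₂]
    exact StandardEtalePair.lift_X P₂ _ hP₂

section separable

variable [IsLocalRing R] [Algebra (ResidueField R) K] [IsScalarTower R (ResidueField R) K]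
  [Algebra.IsSeparable (ResidueField R) K]

theorem henselian_env : HenselianLocalRing (Env R K) :=
  henselian_of_points (S := Env R K) R K (envRes R K) (envRes_eq_zero_iff R K)
    (IsScalarTower.toAlgHom R (EnvTop R K) (Env R K)) (envRes_algebraMap R K) fun z => by
      obtain ⟨x, s, rfl⟩ := IsLocalization.exists_mk'_eq (envPrime R K).primeCompl z
      exact ⟨x, s.1, IsLocalization.map_units _ s, IsLocalization.mk'_spec (Env R K) x s⟩

/-- Universal property of the envelope. -/
theorem env_existsUnique (T : Type u) [CommRing T] [HenselianLocalRing T] [Algebra R T]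
    (τ : K →ₐ[R] ResidueField T) :
    ∃! g : Env R K →ₐ[R] T, ∀ z, residue T (g z) = τ (envRes R K z) := by
  have hK : HenselianRing T (RingHom.ker (IsScalarTower.toAlgHom R T (ResidueField T)).toRingHom) := by
    have : RingHom.ker (IsScalarTower.toAlgHom R T (ResidueField T)).toRingHom = maximalIdeal T := ker_residue (R := T)
    rw [this]; infer_instance
  have hpts : ∀ i : EnvIdx R K, ∃ y : T, i.1.HasMap y ∧ residue T y = τ i.2.1 := fun i => by
    obtain ⟨φ, hφ, -⟩ := existsUnique_algHom_of_quotient (IsScalarTower.toAlgHom R T (ResidueField T))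
      residue_surjective hK (i.1.lift (τ i.2.1) (i.2.2.map τ))
    exact ⟨φ i.1.X, i.1.hasMap_X.map φ, (AlgHom.congr_fun hφ i.1.X).trans (StandardEtalePair.lift_X _ _ _)⟩
  choose y hy hyr using hpts
  let g₀ : EnvTop R K →ₐ[R] T := etLift y hy
  have hg₀ : (IsScalarTower.toAlgHom R T (ResidueField T)).comp g₀ = τ.comp (envEv R K) :=
    etProd_hom_ext fun i => by
      simp only [AlgHom.comp_apply, g₀, envEv, etLift_etPt]
      exact hyr i
  have hunit : ∀ s : (envPrime R K).primeCompl, IsUnit (g₀ s) := fun s => by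
    rw [← notMem_maximalIdeal, ← residue_eq_zero_iff]
    intro h0
    have h1 : τ (envEv R K s) = 0 := (AlgHom.congr_fun hg₀ s).symm.trans h0
    rw [map_eq_zero] at h1
    exact s.2 h1
  refine ⟨IsLocalization.liftAlgHom (M := (envPrime R K).primeCompl) hunit, fun z => ?_, fun g hg => ?_⟩
  · obtain ⟨x, s, rfl⟩ := IsLocalization.exists_mk'_eq (envPrime R K).primeCompl z
    have hs : IsUnit (residue T (g₀ s)) := (hunit s).map _
    refine hs.mul_left_injective ?_
    change residue T _ * residue T (g₀ s) = τ _ * residue T (g₀ s)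
    rw [← map_mul, show residue T (g₀ s) = τ (envEv R K s) from AlgHom.congr_fun hg₀ s, ← map_mul,
      ← envRes_algebraMap R K s.1, ← map_mul, IsLocalization.mk'_spec, envRes_algebraMap]
    rw [show g₀ (s : EnvTop R K) = IsLocalization.liftAlgHom (M := (envPrime R K).primeCompl) hunit
      (algebraMap _ (Env R K) s.1) from (IsLocalization.lift_eq _ _).symm, ← map_mul, IsLocalization.mk'_spec]
    exact (congrArg (residue T) (IsLocalization.lift_eq _ x)).trans (AlgHom.congr_fun hg₀ x)
  · refine IsLocalization.algHom_ext (envPrime R K).primeCompl (etProd_hom_ext fun i => ?_)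
    refine (hasMap_unique i.1 ((hasMap_envPt R K i).map g) (hy i) ?_).trans ?_
    · rw [← residue_eq_zero_iff, map_sub, hg, envRes_envPt, hyr, sub_self]
    · exact ((IsLocalization.lift_eq _ _).trans (etLift_etPt (P := envPairs R K) y hy i)).symm

end separable

end Groth.Agent.Hensel
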