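import Groth.Prelude.Def_Hensel
import Groth.Agent.Hensel.EnvelopeHensel

/-!
Existence and uniqueness of the henselization and of the strict henselization of a local ring.
-/

set_option autoImplicit false

namespace Groth.Agent.Hensel

universe u v

open IsLocalRing

theorem isSepClosed_of_ringEquiv {k : Type u} {L : Type v} [Field k] [Field L] (e : k ≃+* L) [IsSepClosed k] :
    IsSepClosed L := by
  refine ⟨fun p hp => ?_⟩
  have := (IsSepClosed.splits_of_separable (p.map e.symm.toRingHom) hp.map).map e.toRingHom
  rwa [Polynomial.map_map, e.toRingHom_comp_symm_toRingHom, Polynomial.map_id] at this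

section envelope

variable (R : Type u) [CommRing R] [IsLocalRing R] (K : Type u) [Field K] [Algebra R K]
  [Algebra (ResidueField R) K] [IsScalarTower R (ResidueField R) K] [Algebra.IsSeparable (ResidueField R) K]

/-- The residue field of the envelope is `K`. -/
theorem exists_residueEquiv_env : ∃ (_ : IsLocalHom (algebraMap R (Env R K)))
    (e : ResidueField (Env R K) ≃ₐ[ResidueField R] K), ∀ z, e (residue (Env R K) z) = envRes R K z := by
  haveI := isLocalHom_env R K
  let φ : ResidueField (Env R K) →+* K := Ideal.Quotient.lift _ (envRes R K).toRingHom fun z hz =>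
    (envRes_eq_zero_iff R K z).2 hz
  have hφ : ∀ z, φ (residue _ z) = envRes R K z := fun z => rfl
  have hbij : Function.Bijective φ := ⟨φ.injective, fun a => by
    obtain ⟨z, hz⟩ := envRes_surjective R K a
    exact ⟨residue _ z, (hφ z).trans hz⟩⟩
  refine ⟨inferInstance, AlgEquiv.ofRingEquiv (f := RingEquiv.ofBijective φ hbij) fun c => ?_, hφ⟩
  obtain ⟨r, rfl⟩ := residue_surjective c
  change φ (residue _ (algebraMap R (Env R K) r)) = algebraMap (ResidueField R) K (residue R r)
  rw [hφ, AlgHom.commutes, IsScalarTower.algebraMap_apply R (ResidueField R) K]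
  rfl

/-- Compatible maps of residue fields are algebra maps. -/
noncomputable def resAlgHom (T : Type u) [CommRing T] [IsLocalRing T] [Algebra R T] [IsLocalHom (algebraMap R T)]
    (τ : K →+* ResidueField T) (hτ : τ.comp (algebraMap (ResidueField R) K) = ResidueField.map (algebraMap R T)) :
    K →ₐ[R] ResidueField T :=
  { τ with
    commutes' := fun r => by
      rw [IsScalarTower.algebraMap_apply R (ResidueField R) K, ResidueField.algebraMap_eq]
      exact (RingHom.congr_fun hτ (residue R r)).trans (ResidueField.map_residue _ r) }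

/-- Universal property of the envelope with ring maps. -/
theorem env_universal (T : Type u) [CommRing T] [HenselianLocalRing T] (f : R →+* T) [IsLocalHom f]
    (τ : K →+* ResidueField T) (hτ : τ.comp (algebraMap (ResidueField R) K) = ResidueField.map f) :
    ∃! g : Env R K →+* T, g.comp (algebraMap R (Env R K)) = f ∧
      ∀ x, residue T (g x) = τ (envRes R K x) := by
  letI := f.toAlgebra
  haveI : IsLocalHom (algebraMap R T) := ‹IsLocalHom f›
  obtain ⟨g, hg, hu⟩ := env_existsUnique R K T (resAlgHom R K T τ hτ)
  refine ⟨g.toRingHom, ⟨RingHom.ext g.commutes, hg⟩, fun g' hg' => ?_⟩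
  obtain ⟨hgf, hgr⟩ := hg'
  let G : Env R K →ₐ[R] T := { g' with commutes' := RingHom.congr_fun hgf }
  exact congrArg AlgHom.toRingHom (hu G hgr)

end envelope

/-- The envelope along the residue field is a henselization. -/
theorem exists_henselization (R : Type u) [CommRing R] [IsLocalRing R] :
    ∃ (_ : IsLocalHom (algebraMap R (Env R (ResidueField R)))),
      _root_.Hensel.IsHenselization R (Env R (ResidueField R)) := by
  obtain ⟨hloc, e, he⟩ := exists_residueEquiv_env R (ResidueField R)
  refine ⟨hloc, ⟨henselian_env R _, fun T _ _ f hf => ?_⟩⟩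
  haveI := hf
  have hτ : (ResidueField.map f).comp (algebraMap (ResidueField R) (ResidueField R)) = ResidueField.map f := by
    rw [Algebra.algebraMap_self, RingHom.comp_id]
  obtain ⟨g, ⟨hgf, hgr⟩, hu⟩ := env_universal R (ResidueField R) T f (ResidueField.map f) hτ
  refine ⟨g, hgf, fun g' hg' => hu g' ⟨hg', fun z => ?_⟩⟩
  obtain ⟨r, hr⟩ := residue_surjective (envRes R (ResidueField R) z)
  have hmem : z - algebraMap R _ r ∈ (maximalIdeal R).map (algebraMap R (Env R (ResidueField R))) := by
    rw [map_maximalIdeal_env, ← envRes_eq_zero_iff, map_sub, AlgHom.commutes, ← hr, ResidueField.algebraMap_eq,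
      sub_self]
  have key : (maximalIdeal R).map (algebraMap R (Env R (ResidueField R))) ≤ (maximalIdeal T).comap g' := by
    refine Ideal.map_le_iff_le_comap.2 fun x hx => ?_
    rw [Ideal.mem_comap, Ideal.mem_comap, ← RingHom.comp_apply, hg']
    exact map_nonunit f x hx
  have h1 : g' (z - algebraMap R _ r) ∈ maximalIdeal T := key hmem
  rw [map_sub, ← RingHom.comp_apply, hg', ← residue_eq_zero_iff, map_sub, sub_eq_zero] at h1
  rw [h1, ← hr, ResidueField.map_residue]

/-- Any henselization is the envelope. -/
theorem henselization_equiv (R : Type u) [CommRing R] [IsLocalRing R] (S : Type u) [CommRing S] [IsLocalRing S]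
    [Algebra R S] [IsLocalHom (algebraMap R S)] [_root_.Hensel.IsHenselization R S] :
    Nonempty (S ≃ₐ[R] Env R (ResidueField R)) := by
  obtain ⟨hloc, hH⟩ := exists_henselization R
  haveI := henselian_env R (ResidueField R)
  haveI : HenselianLocalRing S := _root_.Hensel.IsHenselization.henselian (R := R)
  obtain ⟨g, hg, -⟩ := _root_.Hensel.IsHenselization.universal (R := R) (S := S) (Env R (ResidueField R)) _ hloc
  obtain ⟨h, hh, -⟩ := hH.universal S _ ‹IsLocalHom (algebraMap R S)›
  have h1 : h.comp g = RingHom.id S := by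
    refine (_root_.Hensel.IsHenselization.universal (R := R) (S := S) S _ ‹IsLocalHom (algebraMap R S)›).unique ?_ ?_
    · rw [RingHom.comp_assoc, hg, hh]
    · exact RingHom.id_comp _
  have h2 : g.comp h = RingHom.id _ := by
    refine (hH.universal (Env R (ResidueField R)) _ hloc).unique ?_ ?_
    · rw [RingHom.comp_assoc, hh, hg]
    · exact RingHom.id_comp _
  exact ⟨AlgEquiv.ofRingEquiv (f := RingEquiv.ofRingHom g h h2 h1) fun r => RingHom.congr_fun hg r⟩

/-- The envelope along a separable closure is a strict henselization. -/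
theorem exists_strictHenselization (R : Type u) [CommRing R] [IsLocalRing R] :
    ∃ (_ : IsLocalHom (algebraMap R (Env R (SeparableClosure (ResidueField R))))),
      _root_.Hensel.IsStrictHenselization R (Env R (SeparableClosure (ResidueField R))) := by
  obtain ⟨hloc, e, he⟩ := exists_residueEquiv_env R (SeparableClosure (ResidueField R))
  refine ⟨hloc, ⟨henselian_env R _, ⟨isSepClosed_of_ringEquiv e.symm.toRingEquiv,
      Algebra.IsSeparable.of_algHom _ _ e.toAlgHom⟩,
    fun T _ _ f _ τ hτ => ?_⟩⟩
  have hτ' : (τ.comp e.symm.toRingEquiv.toRingHom).comp (algebraMap (ResidueField R) _) = ResidueField.map f := by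
    rw [RingHom.comp_assoc, ← hτ]
    congr 1
    exact RingHom.ext fun c => e.symm.commutes c
  obtain ⟨g, ⟨hgf, hgr⟩, hu⟩ := env_universal R _ T f _ hτ'
  refine ⟨g, ⟨hgf, fun z => ?_⟩, fun g' hg' => hu g' ⟨hg'.1, fun z => ?_⟩⟩
  · rw [hgr]
    change τ (e.symm (envRes R _ z)) = _
    rw [← he, AlgEquiv.symm_apply_apply]
  · rw [hg'.2]
    change _ = τ (e.symm (envRes R _ z))
    rw [← he, AlgEquiv.symm_apply_apply]

/-- Any strict henselization is the envelope along a separable closure. -/
theorem strictHenselization_equiv (R : Type u) [CommRing R] [IsLocalRing R] (S : Type u) [CommRing S]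
    [IsLocalRing S] [Algebra R S] [IsLocalHom (algebraMap R S)] [_root_.Hensel.IsStrictHenselization R S] :
    Nonempty (S ≃ₐ[R] Env R (SeparableClosure (ResidueField R))) := by
  obtain ⟨hloc, hH⟩ := exists_strictHenselization R
  haveI := henselian_env R (SeparableClosure (ResidueField R))
  haveI : HenselianLocalRing S := _root_.Hensel.IsStrictHenselization.henselian (R := R)
  haveI : IsSepClosure (ResidueField R) (ResidueField S) := _root_.Hensel.IsStrictHenselization.isSepClosure
  haveI : IsSepClosure (ResidueField R) (ResidueField (Env R (SeparableClosure (ResidueField R)))) :=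
    hH.isSepClosure
  let ε := IsSepClosure.equiv (ResidueField R) (ResidueField S)
    (ResidueField (Env R (SeparableClosure (ResidueField R))))
  have hε : ε.toRingEquiv.toRingHom.comp (ResidueField.map (algebraMap R S)) =
      ResidueField.map (algebraMap R (Env R (SeparableClosure (ResidueField R)))) :=
    RingHom.ext fun c => ε.commutes c
  obtain ⟨g, ⟨hg, hgr⟩, -⟩ := _root_.Hensel.IsStrictHenselization.universal (R := R) (S := S)
    (Env R (SeparableClosure (ResidueField R))) _ ε.toRingEquiv.toRingHom hε
  obtain ⟨h, ⟨hh, hhr⟩, -⟩ := hH.universal S (algebraMap R S) ε.symm.toRingEquiv.toRingHom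
    (RingHom.ext fun c => ε.symm.commutes c)
  have h1 : h.comp g = RingHom.id S := by
    refine (_root_.Hensel.IsStrictHenselization.universal (R := R) (S := S) S (algebraMap R S) (RingHom.id _)
      (RingHom.id_comp _)).unique ⟨?_, fun x => ?_⟩ ⟨RingHom.id_comp _, fun x => rfl⟩
    · rw [RingHom.comp_assoc, hg, hh]
    · rw [RingHom.comp_apply, hhr, hgr]
      exact ε.symm_apply_apply _
  have h2 : g.comp h = RingHom.id _ := by
    refine (hH.universal _ (algebraMap R _) (RingHom.id _) (RingHom.id_comp _)).unique
      ⟨?_, fun x => ?_⟩ ⟨RingHom.id_comp _, fun x => rfl⟩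
    · rw [RingHom.comp_assoc, hh, hg]
    · rw [RingHom.comp_apply, hgr, hhr]
      exact ε.apply_symm_apply _
  exact ⟨AlgEquiv.ofRingEquiv (f := RingEquiv.ofRingHom g h h2 h1) fun r => RingHom.congr_fun hg r⟩

end Groth.Agent.Hensel
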