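import Groth.Agent.Hensel.Idempotent
import Mathlib.RingTheory.Etale.Field
import Mathlib.RingTheory.Etale.Pi
import Mathlib.RingTheory.Etale.StandardEtale
import Mathlib.FieldTheory.PrimitiveElement

/-!
Lifting finite étale algebras from the residue field.
-/

set_option autoImplicit false

namespace Groth.Agent.Hensel

universe u v w

open Polynomial
open scoped TensorProduct

/-- Base change of `AdjoinRoot`. -/
noncomputable def adjoinRootBaseChange {R : Type u} [CommRing R] (κ : Type v) [CommRing κ] [Algebra R κ] (F : R[X]) :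
    κ ⊗[R] AdjoinRoot F ≃ₐ[κ] AdjoinRoot (F.map (algebraMap R κ)) :=
  AlgEquiv.ofAlgHom
    (Algebra.TensorProduct.lift (Algebra.ofId κ _)
      (AdjoinRoot.liftAlgHom F (Algebra.ofId R _) (AdjoinRoot.root (F.map (algebraMap R κ))) (by
        change eval₂ (algebraMap R _) _ F = 0
        rw [IsScalarTower.algebraMap_eq R κ (AdjoinRoot (F.map (algebraMap R κ))), ← eval₂_map]
        exact AdjoinRoot.eval₂_root _))
      fun _ _ => .all _ _)
    (AdjoinRoot.liftAlgHom (F.map (algebraMap R κ)) (Algebra.ofId κ _) (1 ⊗ₜ AdjoinRoot.root F) (by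
      change aeval ((1 : κ) ⊗ₜ[R] AdjoinRoot.root F) (F.map (algebraMap R κ)) = 0
      rw [aeval_map_algebraMap, ← Algebra.TensorProduct.includeRight_apply, aeval_algHom_apply,
        AdjoinRoot.aeval_eq, AdjoinRoot.mk_self, map_zero]))
    (AdjoinRoot.algHom_ext (by simp))
    (Algebra.TensorProduct.ext (by ext) (AdjoinRoot.algHom_ext (by simp)))

theorem etale_adjoinRoot {R : Type u} [CommRing R] {F : R[X]} (hF : F.Monic)
    (hc : IsCoprime F (derivative F)) : Algebra.Etale R (AdjoinRoot F) := by
  obtain ⟨a, b, hab⟩ := hc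
  let P : StandardEtalePair R := ⟨F, hF, 1, b, a, 1, by rw [pow_one, ← hab]; ring⟩
  let e : AdjoinRoot F ≃ₐ[R] Localization.Away (AdjoinRoot.mk F 1) :=
    (IsLocalization.atUnits (AdjoinRoot F) (Submonoid.powers (AdjoinRoot.mk F 1)) (by
      rw [map_one]; exact Submonoid.powers_le.2 isUnit_one)).restrictScalars R
  exact Algebra.Etale.of_equiv (P.equivAwayAdjoinRoot.trans e.symm)

/-- Finite étale algebras over the residue field lift. -/
theorem exists_finite_etale_lift (R : Type u) [CommRing R] [IsLocalRing R] (A : Type u) [CommRing A]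
    [Algebra (IsLocalRing.ResidueField R) A] [Module.Finite (IsLocalRing.ResidueField R) A]
    [Algebra.Etale (IsLocalRing.ResidueField R) A] :
    ∃ (S : Type u) (_ : CommRing S) (_ : Algebra R S), Module.Finite R S ∧ Algebra.Etale R S ∧
      Nonempty (IsLocalRing.ResidueField R ⊗[R] S ≃ₐ[IsLocalRing.ResidueField R] A) := by
  classical
  obtain ⟨I, _, K, _, _, φ, hsep⟩ := (Algebra.FormallyEtale.iff_exists_algEquiv_prod (IsLocalRing.ResidueField R) A).1 inferInstance
  haveI : Fintype I := Fintype.ofFinite I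
  haveI : ∀ i, Module.Finite (IsLocalRing.ResidueField R) (K i) := fun i =>
    Module.Finite.of_surjective ((Pi.evalAlgHom _ K i).comp φ.toAlgHom).toLinearMap
      ((Function.surjective_eval i).comp φ.surjective)
  let κ := IsLocalRing.ResidueField R
  let pb : ∀ i, PowerBasis κ (K i) := fun i =>
    haveI := hsep i; Field.powerBasisOfFiniteOfSeparable κ (K i)
  have hlift : ∀ i, ∃ F : R[X], F.map (algebraMap R κ) = minpoly κ (pb i).gen ∧ F.Monic := fun i => by
    obtain ⟨F, h1, -, h2⟩ := lifts_and_degree_eq_and_monic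
      ((lifts_iff_coeff_lifts (minpoly κ (pb i).gen)).2 fun k => IsLocalRing.residue_surjective _)
      (minpoly.monic (pb i).isIntegral_gen)
    exact ⟨F, h1, h2⟩
  choose F hFmap hFmon using hlift
  have hcop : ∀ i, IsCoprime (F i) (derivative (F i)) := fun i => by
    refine isCoprime_of_map (I := IsLocalRing.maximalIdeal R) (IsLocalRing.maximalIdeal_le_jacobson ⊥) (hFmon i) ?_
    rw [← derivative_map]
    change (Polynomial.map (algebraMap R κ) (F i)).Separable
    rw [hFmap]
    haveI := hsep i
    exact Algebra.IsSeparable.isSeparable κ (pb i).gen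
  let S : I → Type u := fun i => AdjoinRoot (F i)
  haveI : ∀ i, Algebra.Etale R (S i) := fun i => etale_adjoinRoot (hFmon i) (hcop i)
  haveI : ∀ i, Module.Finite R (S i) := fun i => (hFmon i).finite_adjoinRoot
  refine ⟨∀ i, S i, inferInstance, inferInstance, inferInstance, inferInstance, ⟨?_⟩⟩
  refine (Algebra.TensorProduct.piRight R κ κ S).trans (AlgEquiv.trans ?_ φ.symm)
  refine AlgEquiv.piCongrRight fun i => (adjoinRootBaseChange κ (F i)).trans ?_
  refine AdjoinRoot.equiv' _ (pb i) ?_ ?_
  · rw [← hFmap i, AdjoinRoot.aeval_eq, AdjoinRoot.mk_self]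
  · rw [hFmap i, minpoly.aeval]

end Groth.Agent.Hensel
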