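import Groth.Agent.Hensel.Etale

/-!
Henselian pairs: lifting of coprime factorisations and of idempotents of integral algebras, and the converses.
-/

set_option autoImplicit false

namespace Groth.Agent.Hensel

universe u v

open Polynomial

variable {A : Type u} [CommRing A] {I : Ideal A}

theorem map_le_jacobson {B : Type v} [CommRing B] [Algebra A B] [Algebra.IsIntegral A B]
    (hI : I ≤ Ideal.jacobson ⊥) : I.map (algebraMap A B) ≤ Ideal.jacobson ⊥ := by
  refine le_sInf ?_
  rintro M ⟨-, hM⟩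
  haveI := hM
  exact Ideal.map_le_iff_le_comap.2 (hI.trans (sInf_le ⟨bot_le, Ideal.isMaximal_comap_of_isIntegral_of_isMaximal M⟩))

theorem eq_of_idempotent {B : Type v} [CommRing B] {J : Ideal B} (hJ : J ≤ Ideal.jacobson ⊥) {e f : B}
    (he : IsIdempotentElem e) (hf : IsIdempotentElem f) (h : e - f ∈ J) : e = f := by
  have h3 : (e - f) * ((e - f) * (e - f) - 1) = 0 := by
    linear_combination (e + 1 - 3 * f) * he.eq + (3 * e - f - 1) * hf.eq
  have hu : IsUnit ((e - f) * (e - f) - 1) := by
    refine isUnit_of_mk hJ ?_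
    rw [map_sub, map_mul, Ideal.Quotient.eq_zero_iff_mem.2 h, zero_mul, zero_sub, map_one]
    exact isUnit_one.neg
  exact sub_eq_zero.1 (hu.mul_left_eq_zero.1 h3)

/-- Coprime monic factorisations lift over a henselian pair. -/
theorem exists_factor_lift [HenselianRing A I] (p : A[X]) (hp : p.Monic) (g₀ h₀ : (A ⧸ I)[X]) (hg : g₀.Monic)
    (hh : h₀.Monic) (hc : IsCoprime g₀ h₀) (hf : p.map (Ideal.Quotient.mk I) = g₀ * h₀) :
    ∃ g h : A[X], g.Monic ∧ h.Monic ∧ p = g * h ∧ g.map (Ideal.Quotient.mk I) = g₀ ∧ h.map (Ideal.Quotient.mk I) = h₀ := by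
  nontriviality A
  rcases subsingleton_or_nontrivial (A ⧸ I) with hs | hs
  · exact ⟨p, 1, hp, monic_one, (mul_one p).symm, Subsingleton.elim _ _, Subsingleton.elim _ _⟩
  have hn : p.natDegree = g₀.natDegree + h₀.natDegree := by
    rw [← hg.natDegree_mul hh, ← hf, hp.natDegree_map]
  let P : MonicDegreeEq A p.natDegree := MonicDegreeEq.mk p hp rfl
  let G : MonicDegreeEq (A ⧸ I) g₀.natDegree := MonicDegreeEq.mk g₀ hg rfl
  let H : MonicDegreeEq (A ⧸ I) h₀.natDegree := MonicDegreeEq.mk h₀ hh rfl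
  let σ := (UniversalCoprimeFactorizationRing.homEquiv (A ⧸ I) g₀.natDegree h₀.natDegree hn P).symm
    ⟨(G, H), hf.symm, hc⟩
  obtain ⟨τ, hτ, -⟩ := existsUnique_algHom_lift σ
  let r := UniversalCoprimeFactorizationRing.homEquiv A g₀.natDegree h₀.natDegree hn P τ
  have hσ : (Ideal.Quotient.mkₐ A I).comp τ = σ := AlgHom.ext hτ
  refine ⟨r.1.1.1, r.1.2.1, r.1.1.monic, r.1.2.monic, ?_, ?_, ?_⟩
  · exact (Polynomial.map_id (R := A) (p := p)).symm.trans r.2.1.symm
  · have h1 := congrArg Subtype.val (UniversalCoprimeFactorizationRing.homEquiv_comp_fst (S := A)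
      g₀.natDegree h₀.natDegree hn P τ (Ideal.Quotient.mkₐ A I))
    rw [hσ] at h1
    simp only [σ, Equiv.apply_symm_apply] at h1
    exact h1.symm
  · have h1 := congrArg Subtype.val (UniversalCoprimeFactorizationRing.homEquiv_comp_snd (S := A)
      g₀.natDegree h₀.natDegree hn P τ (Ideal.Quotient.mkₐ A I))
    rw [hσ] at h1
    simp only [σ, Equiv.apply_symm_apply] at h1
    exact h1.symm

/-- Monic polynomials generating the unit ideal modulo `I` do so in `A[X]`. -/
theorem isCoprime_of_map (hI : I ≤ Ideal.jacobson ⊥) {g h : A[X]} (hg : g.Monic)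
    (hc : IsCoprime (g.map (Ideal.Quotient.mk I)) (h.map (Ideal.Quotient.mk I))) : IsCoprime g h := by
  obtain ⟨a, b, hab⟩ := hc
  obtain ⟨a', rfl⟩ := Polynomial.map_surjective (Ideal.Quotient.mk I) Ideal.Quotient.mk_surjective a
  obtain ⟨b', rfl⟩ := Polynomial.map_surjective (Ideal.Quotient.mk I) Ideal.Quotient.mk_surjective b
  haveI : Module.Finite A (AdjoinRoot g) := hg.finite_adjoinRoot
  have hk : a' * g + b' * h - 1 ∈ I.map (C : A →+* A[X]) := by
    rw [Ideal.mem_map_C_iff]
    intro n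
    rw [← Ideal.Quotient.eq_zero_iff_mem, ← coeff_map, Polynomial.map_sub, Polynomial.map_add, Polynomial.map_mul,
      Polynomial.map_mul, hab, Polynomial.map_one, sub_self, coeff_zero]
  have hk' : AdjoinRoot.mk g (b' * h) - 1 ∈ I.map (algebraMap A (AdjoinRoot g)) := by
    have h2 := Ideal.mem_map_of_mem (AdjoinRoot.mk g) hk
    rw [Ideal.map_map, map_sub, map_add, map_mul (AdjoinRoot.mk g) a' g, AdjoinRoot.mk_self, mul_zero, zero_add,
      map_one] at h2
    exact h2
  have hu : IsUnit (AdjoinRoot.mk g (b' * h)) := by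
    have h3 := Ideal.mem_jacobson_bot.1 (map_le_jacobson hI hk') 1
    rwa [mul_one, sub_add_cancel] at h3
  rw [map_mul] at hu
  obtain ⟨w, hw⟩ := (isUnit_of_mul_isUnit_right hu).exists_left_inv
  obtain ⟨w', rfl⟩ := AdjoinRoot.mk_surjective w
  rw [← map_mul, ← map_one (AdjoinRoot.mk g), AdjoinRoot.mk_eq_mk] at hw
  obtain ⟨c, hc⟩ := hw
  exact ⟨-c, w', by linear_combination hc⟩

/-- Idempotents of integral algebras lift over a henselian pair. -/
theorem exists_idempotent_lift [HenselianRing A I] {B : Type v} [CommRing B] [Algebra A B] [Algebra.IsIntegral A B]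
    (b : B) (hb : b * b - b ∈ I.map (algebraMap A B)) :
    ∃ e : B, IsIdempotentElem e ∧ e - b ∈ I.map (algebraMap A B) := by
  classical
  set c := b * b - b with hcdef
  -- `c` is integral over `I`
  obtain ⟨B₀, hB₀, hbB₀, hcB₀⟩ : ∃ B₀ : Subalgebra A B, Module.Finite A B₀ ∧ b ∈ B₀ ∧
      ∃ h : c ∈ B₀, (⟨c, h⟩ : B₀) ∈ I.map (algebraMap A B₀) := by
    have hc' : c ∈ (I • ⊤ : Submodule A B) := by rw [Ideal.smul_top_eq_map]; exact hb
    obtain ⟨s, hs⟩ : ∃ s : Finset B, c ∈ I • Submodule.span A (s : Set B) := by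
      clear_value c
      clear hcdef hb
      induction hc' using Submodule.smul_induction_on' with
      | smul a ha x _ => exact ⟨{x}, Submodule.smul_mem_smul ha (Submodule.subset_span (by simp))⟩
      | add x _ y _ hx hy =>
        obtain ⟨s, hs⟩ := hx
        obtain ⟨t, ht⟩ := hy
        exact ⟨s ∪ t, add_mem (Submodule.smul_mono le_rfl (Submodule.span_mono (by simp)) hs)
          (Submodule.smul_mono le_rfl (Submodule.span_mono (by simp)) ht)⟩
    let S := Algebra.adjoin A ((insert b s : Finset B) : Set B)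
    have hbS : b ∈ S := Algebra.subset_adjoin (Finset.mem_insert_self _ _)
    have hle : Submodule.span A (s : Set B) ≤ Subalgebra.toSubmodule S :=
      Submodule.span_le.2 fun x hx => Algebra.subset_adjoin (Finset.mem_insert_of_mem hx)
    refine ⟨S, Module.Finite.iff_fg.2 (fg_adjoin_of_finite (Finset.finite_toSet _) fun x _ => Algebra.IsIntegral.isIntegral x),
      hbS, S.sub_mem (S.mul_mem hbS hbS) hbS, ?_⟩
    have h1 : I • Subalgebra.toSubmodule S = Submodule.map S.val.toLinearMap (I • (⊤ : Submodule A S)) := by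
      rw [Submodule.map_smul'']
      congr 1
      ext x
      simp
    have h2 := Submodule.smul_mono le_rfl hle hs
    rw [h1] at h2
    obtain ⟨y, hy, hyc⟩ := h2
    rw [Ideal.smul_top_eq_map] at hy
    have : (⟨c, S.sub_mem (S.mul_mem hbS hbS) hbS⟩ : S) = y := Subtype.ext hyc.symm
    rw [this]
    exact hy
  obtain ⟨hcB, hcI⟩ := hcB₀
  let c₀ : B₀ := ⟨c, hcB⟩
  obtain ⟨Q, hQ, -, hQc, hQ0⟩ := LinearMap.exists_monic_and_natDegree_eq_and_coeff_mem_pow_and_aeval_eq_zero (R := A)
    (M := B₀) (LinearMap.mulLeft A c₀) I (by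
      rintro _ ⟨x, rfl⟩
      rw [Ideal.smul_top_eq_map]
      exact Ideal.mul_mem_right x _ hcI)
  have hQc' : ∀ i, i < Q.natDegree → Q.coeff i ∈ I := fun i hi =>
    Ideal.pow_le_self (Nat.sub_ne_zero_of_lt hi) (hQc i)
  have hQmap : Q.map (Ideal.Quotient.mk I) = X ^ Q.natDegree := by
    ext i
    rw [coeff_map, coeff_X_pow]
    rcases lt_trichotomy i Q.natDegree with hi | rfl | hi
    · rw [if_neg hi.ne, Ideal.Quotient.eq_zero_iff_mem]; exact hQc' i hi
    · rw [if_pos rfl, hQ.coeff_natDegree, map_one]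
    · rw [if_neg hi.ne', coeff_eq_zero_of_natDegree_lt hi, map_zero]
  have hQb : aeval c Q = 0 := by
    have h1 : aeval c₀ Q = 0 := by
      have h3 : aeval (LinearMap.mulLeft A c₀) Q = LinearMap.mulLeft A (aeval c₀ Q) := aeval_algHom_apply (Algebra.lmul A B₀) c₀ Q
      have h4 := LinearMap.congr_fun hQ0 1
      rw [h3] at h4
      simpa using h4
    have := congrArg B₀.val h1
    rw [← aeval_algHom_apply, map_zero] at this
    exact this
  set d := Q.natDegree with hd
  let P : A[X] := Q.comp (X ^ 2 - X)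
  have hPm : P.Monic := by
    nontriviality A
    refine hQ.comp ((monic_X_pow 2).sub_of_left (by rw [degree_X_pow, degree_X]; decide)) ?_
    rw [natDegree_sub_eq_left_of_natDegree_lt] <;> simp
  have hPmap : P.map (Ideal.Quotient.mk I) = X ^ d * (X - 1) ^ d := by
    simp only [P, Polynomial.map_comp, hQmap, Polynomial.map_sub, Polynomial.map_pow, map_X, pow_comp, X_comp]
    rw [← mul_pow]; ring
  have hcop : IsCoprime ((X : (A ⧸ I)[X]) ^ d) ((X - 1) ^ d) := IsCoprime.pow ⟨1, -1, by ring⟩
  obtain ⟨g, h, hg, hh, hPgh, hgm, hhm⟩ := exists_factor_lift (I := I) P hPm (X ^ d) ((X - 1) ^ d) (monic_X_pow d)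
    (by rw [← C_1]; exact (monic_X_sub_C 1).pow d) hcop hPmap
  obtain ⟨α, β, hab⟩ := isCoprime_of_map (I := I) (h := h) HenselianRing.jac hg (by rw [hgm, hhm]; exact hcop)
  have hgh0 : aeval b g * aeval b h = 0 := by
    rw [← map_mul, ← hPgh]
    simp only [P, aeval_comp, map_sub, map_pow, aeval_X]
    rw [show b ^ 2 - b = c by rw [hcdef]; ring, hQb]
  have hab' := congrArg (aeval b) hab
  rw [map_add, map_mul, map_mul, map_one] at hab'
  refine ⟨aeval b (α * g), ?_, ?_⟩
  · change aeval b (α * g) * aeval b (α * g) = aeval b (α * g)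
    rw [map_mul]
    linear_combination (aeval b α * aeval b g) * hab' - aeval b α * aeval b β * hgh0
  -- computation modulo `I`
  set J := I.map (algebraMap A B)
  let π : B →ₐ[A] B ⧸ J := Ideal.Quotient.mkₐ A J
  have hker : ∀ p q : A[X], p.map (Ideal.Quotient.mk I) = q.map (Ideal.Quotient.mk I) → π (aeval b p) = π (aeval b q) := by
    intro p q hpq
    rw [← sub_eq_zero, ← map_sub, ← map_sub]
    refine Ideal.Quotient.eq_zero_iff_mem.2 ?_
    rw [aeval_eq_sum_range]
    refine Submodule.sum_mem _ fun i _ => ?_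
    rw [Algebra.smul_def]
    refine Ideal.mul_mem_right _ _ (Ideal.mem_map_of_mem _ ?_)
    rw [← Ideal.Quotient.eq_zero_iff_mem, ← coeff_map, Polynomial.map_sub, hpq, sub_self, coeff_zero]
  set z := π b with hz
  have hz2 : z * z = z := by
    rw [hz, ← map_mul, ← sub_eq_zero, ← map_sub]
    exact Ideal.Quotient.eq_zero_iff_mem.2 hb
  have hzp : ∀ n : ℕ, n ≠ 0 → z ^ n = z := fun n hn => (show IsIdempotentElem z from hz2).pow_eq hn
  have hg' : π (aeval b g) = z ^ d := by
    rw [hker g (X ^ d) (by simp [hgm]), map_pow, map_pow, aeval_X]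
  have hh' : π (aeval b h) = (z - 1) ^ d := by
    rw [hker h ((X - 1) ^ d) (by simp [hhm]), map_pow, map_pow, map_sub, map_sub, aeval_X, map_one, map_one]
  have hab'' : π (aeval b α) * z ^ d + π (aeval b β) * (z - 1) ^ d = 1 := by
    have := congrArg π hab'
    rwa [map_add, map_mul, map_mul, map_one, hg', hh'] at this
  rw [← Ideal.Quotient.eq]
  change π (aeval b (α * g)) = z
  rw [map_mul, map_mul, hg']
  rcases eq_or_ne d 0 with hd0 | hd0
  · have h0 : (1 : B) = 0 := by
      have : Q = 1 := hQ.natDegree_eq_zero.1 hd0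
      rw [this, map_one] at hQb
      exact hQb
    haveI := subsingleton_of_zero_eq_one h0.symm
    rw [hd0, pow_zero, mul_one]
    exact congrArg π (Subsingleton.elim (aeval b α) b)
  rw [hzp d hd0] at hab'' ⊢
  obtain ⟨k, hk⟩ := Nat.exists_eq_succ_of_ne_zero hd0
  have h0 : z * (z - 1) ^ d = 0 := by
    rw [hk, pow_succ, mul_left_comm, mul_sub, mul_one, hz2, sub_self, mul_zero]
  linear_combination z * hab'' - π (aeval b β) * h0 - π (aeval b α) * hz2

theorem bijOn_idempotents [HenselianRing A I] (B : Type v) [CommRing B] [Algebra A B] [Algebra.IsIntegral A B] :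
    Set.BijOn (Ideal.Quotient.mk (I.map (algebraMap A B))) {e : B | IsIdempotentElem e} {e | IsIdempotentElem e} := by
  refine ⟨fun e he => he.map _, fun e he f hf hef => ?_, fun z hz => ?_⟩
  · exact eq_of_idempotent (map_le_jacobson (HenselianRing.jac : I ≤ _)) he hf (Ideal.Quotient.eq.1 hef)
  · obtain ⟨b, rfl⟩ := Ideal.Quotient.mk_surjective z
    obtain ⟨e, he, heb⟩ := exists_idempotent_lift (I := I) b (by rw [← Ideal.Quotient.eq, map_mul]; exact hz)
    exact ⟨e, he, Ideal.Quotient.eq.2 heb⟩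

/-- Idempotent lifting for finite algebras gives the henselian property. -/
theorem henselianRing_of_idempotents
    (h : ∀ (B : Type u) [CommRing B] [Algebra A B], Module.Finite A B →
      Set.BijOn (Ideal.Quotient.mk (Ideal.map (algebraMap A B) I)) {e : B | IsIdempotentElem e} {e | IsIdempotentElem e}) :
    HenselianRing A I := by
  -- `I` lies in the radical: apply the hypothesis to `A / (1 + x)`
  have hI : I ≤ Ideal.jacobson ⊥ := by
    intro x hx
    rw [Ideal.mem_jacobson_bot]
    intro y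
    have hinj := (h (A ⧸ Ideal.span {x * y + 1}) inferInstance).injOn
    have h01 := hinj (x₁ := 0) (x₂ := 1) IsIdempotentElem.zero IsIdempotentElem.one (Ideal.Quotient.eq.2 ?_)
    · rw [← Ideal.span_singleton_eq_top, Ideal.eq_top_iff_one, ← Ideal.Quotient.eq_zero_iff_mem, map_one]
      exact h01.symm
    · rw [zero_sub, Ideal.neg_mem_iff]
      have : (1 : A ⧸ Ideal.span {x * y + 1}) = algebraMap A _ (-(x * y)) := by
        rw [Ideal.Quotient.algebraMap_eq, ← map_one (Ideal.Quotient.mk _), Ideal.Quotient.eq]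
        exact Ideal.mem_span_singleton.2 ⟨1, by ring⟩
      rw [this]
      exact Ideal.mem_map_of_mem _ (I.neg_mem (I.mul_mem_right y hx))
  refine ⟨hI, fun f hf a₀ h₁ h₂ => ?_⟩
  haveI : Module.Finite A (AdjoinRoot f) := hf.finite_adjoinRoot
  haveI : Module.Free A (AdjoinRoot f) := hf.free_adjoinRoot
  let B := AdjoinRoot f
  let r : B := AdjoinRoot.root f
  let J : Ideal B := I.map (algebraMap A B)
  -- `f = (X - a₀) * q + C (f a₀)`
  obtain ⟨q, hq⟩ := dvd_iff_isRoot.2 (show (f - C (f.eval a₀)).IsRoot a₀ by simp [IsRoot])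
  have hqa : q.eval a₀ = f.derivative.eval a₀ := by
    have := congrArg (fun P : A[X] => P.derivative.eval a₀) hq
    simp at this
    exact this.symm
  obtain ⟨w, hw⟩ := isUnit_of_mk hI (hqa ▸ h₂ : IsUnit (Ideal.Quotient.mk I (q.eval a₀)))
  let b : B := algebraMap A B ↑w⁻¹ * aeval r q
  have hrq : (r - algebraMap A B a₀) * aeval r q ∈ J := by
    have h3 := congrArg (aeval r) hq
    rw [map_sub, map_mul, map_sub, aeval_X, aeval_C, aeval_C, show aeval r f = 0 by rw [AdjoinRoot.aeval_eq, AdjoinRoot.mk_self],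
      zero_sub] at h3
    rw [← h3, Ideal.neg_mem_iff]
    exact Ideal.mem_map_of_mem _ h₁
  have hσ : ∀ p : A[X], b * aeval r p - algebraMap A B (p.eval a₀) * b ∈ J := fun p => by
    obtain ⟨p', hp'⟩ := dvd_iff_isRoot.2 (show (p - C (p.eval a₀)).IsRoot a₀ by simp [IsRoot])
    have h3 := congrArg (aeval r) hp'
    rw [map_sub, map_mul, map_sub, aeval_X, aeval_C, aeval_C] at h3
    rw [show b * aeval r p - algebraMap A B (p.eval a₀) * b =
      (algebraMap A B ↑w⁻¹ * aeval r p') * ((r - algebraMap A B a₀) * aeval r q) by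
        linear_combination b * h3]
    exact J.mul_mem_left _ hrq
  have hbb : b * b - b ∈ J := by
    have hx := hσ (C (↑w⁻¹ : A) * q)
    rw [map_mul, aeval_C, eval_mul, eval_C, ← hw, Units.inv_mul, map_one, one_mul] at hx
    exact hx
  obtain ⟨e, he, heb⟩ := (h B inferInstance).surjOn (show IsIdempotentElem (Ideal.Quotient.mk J b) by
    change _ * _ = _
    rw [← map_mul, Ideal.Quotient.eq]; exact hbb)
  rw [Ideal.Quotient.eq] at heb
  let F : B →ₗ[A] B := LinearMap.mulLeft A e
  have hle : LinearMap.range F ≤ Submodule.span A {e} := by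
    refine Submodule.le_of_le_smul_of_le_jacobson_bot (I := I)
      (LinearMap.range_eq_map F ▸ Module.Finite.fg_top.map F) hI ?_
    rintro _ ⟨y, rfl⟩
    obtain ⟨p, rfl⟩ := AdjoinRoot.mk_surjective y
    rw [← AdjoinRoot.aeval_eq]
    refine Submodule.mem_sup.2 ⟨p.eval a₀ • e, Submodule.smul_mem _ _ (Submodule.mem_span_singleton_self e),
      F (e * (aeval r p - algebraMap A B (p.eval a₀))), ?_, ?_⟩
    · have hm : e * (aeval r p - algebraMap A B (p.eval a₀)) ∈ I • (⊤ : Submodule A B) := by
        rw [Ideal.smul_top_eq_map, Submodule.restrictScalars_mem]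
        rw [show e * (aeval r p - algebraMap A B (p.eval a₀)) = (e - b) * (aeval r p - algebraMap A B (p.eval a₀)) +
          (b * aeval r p - algebraMap A B (p.eval a₀) * b) by ring]
        exact J.add_mem (J.mul_mem_right _ heb) (hσ p)
      have := Submodule.mem_map_of_mem (f := F) hm
      rwa [Submodule.map_smul'', ← LinearMap.range_eq_map] at this
    · change p.eval a₀ • e + e * (e * (aeval r p - algebraMap A B (p.eval a₀))) = e * aeval r p
      rw [← mul_assoc, he.eq, Algebra.smul_def]; ring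
  obtain ⟨a, ha⟩ := Submodule.mem_span_singleton.1 (hle ⟨r, rfl⟩)
  change a • e = e * r at ha
  let σ0 : B →ₐ[A] A ⧸ I := AdjoinRoot.liftAlgHom f (Algebra.ofId A (A ⧸ I)) (Ideal.Quotient.mk I a₀) (by
    rw [← Ideal.Quotient.eq_zero_iff_mem.2 h₁]
    exact eval₂_at_apply (Ideal.Quotient.mk I) a₀)
  have hev : ∀ y ∈ J, σ0 y = 0 := fun y hy => by
    induction hy using Submodule.span_induction with
    | mem y hy => obtain ⟨i, hi, rfl⟩ := hy; rw [AlgHom.commutes]; exact Ideal.Quotient.eq_zero_iff_mem.2 hi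
    | zero => exact map_zero _
    | add y z _ _ hy hz => rw [map_add, hy, hz, add_zero]
    | smul y z _ hz => rw [smul_eq_mul, map_mul, hz, mul_zero]
  have hb1 : σ0 b = 1 := by
    rw [map_mul, AlgHom.commutes, ← aeval_algHom_apply, AdjoinRoot.liftAlgHom_root, ← Ideal.Quotient.algebraMap_eq,
      aeval_algebraMap_apply, coe_aeval_eq_eval, ← map_mul]
    change algebraMap A (A ⧸ I) (↑w⁻¹ * q.eval a₀) = 1
    rw [← hw, Units.inv_mul, map_one]
  have he1 : σ0 e = 1 := by
    have := hev _ heb
    rwa [map_sub, hb1, sub_eq_zero] at this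
  have he' : ∀ x : A, x • e ∈ J → x ∈ I := fun x hx => by
    have h4 := hev _ hx
    rwa [map_smul, he1, Algebra.smul_def, mul_one, Ideal.Quotient.algebraMap_eq, Ideal.Quotient.eq_zero_iff_mem] at h4
  -- `A → eB` is injective, as `eB` is flat and `I` lies in the radical
  have hinj : ∀ x : A, x • e = 0 → x = 0 := by
    intro x hx
    have hrel : ∑ _i : Fin 1, x • e = 0 := by simpa using hx
    obtain ⟨k, Cm, y, hy, hC⟩ := Module.Flat.isTrivialRelation_of_sum_smul_eq_zero (R := A) (f := fun _ : Fin 1 => x)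
      (x := fun _ => e) hrel
    choose d hd using fun j => Submodule.mem_span_singleton.1 (hle ⟨y j, rfl⟩)
    have hee : (1 - ∑ j, Cm 0 j * d j) • e = 0 := by
      rw [sub_smul, one_smul, sub_eq_zero, Finset.sum_smul]
      conv_lhs => rw [← he.eq]
      nth_rewrite 2 [show e = ∑ j, Cm 0 j • y j from hy 0]
      rw [Finset.mul_sum]
      exact Finset.sum_congr rfl fun j _ => by rw [mul_smul, hd, mul_smul_comm]; rfl
    have hu : IsUnit (∑ j, Cm 0 j * d j) := isUnit_of_mk hI (by
      rw [← Ideal.Quotient.eq.2 (he' _ (hee ▸ J.zero_mem)), map_one]; exact isUnit_one)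
    refine hu.mul_left_eq_zero.1 ?_
    rw [Finset.mul_sum]
    refine Finset.sum_eq_zero fun j _ => ?_
    have h2 := hC j
    simp only [Fin.sum_univ_one] at h2
    rw [← mul_assoc, h2, zero_mul]
  refine ⟨a, hinj _ ?_, ?_⟩
  · have hpow : ∀ p : A[X], p.eval a • e = e * aeval r p := fun p => by
      induction p using Polynomial.induction_on with
      | C c => rw [eval_C, aeval_C, Algebra.smul_def, mul_comm]
      | add p q hp hq => rw [eval_add, add_smul, hp, hq, map_add, mul_add]
      | monomial n c hn =>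
        rw [pow_succ, ← mul_assoc, eval_mul, eval_X, mul_comm, mul_smul, hn, map_mul (aeval r) _ X, aeval_X,
          ← mul_assoc, ← smul_mul_assoc, ha]
        ring
    rw [hpow, AdjoinRoot.aeval_eq, AdjoinRoot.mk_self, mul_zero]
  · have hx : e * (r - algebraMap A B a₀) ∈ J := by
      have h5 := hσ X
      rw [aeval_X, eval_X] at h5
      rw [show e * (r - algebraMap A B a₀) = (e - b) * (r - algebraMap A B a₀) + (b * r - algebraMap A B a₀ * b) by ring]
      exact J.add_mem (J.mul_mem_right _ heb) h5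
    have h6 : (a - a₀) • e ∈ J := by
      have e' : (a - a₀) • e = e * (r - algebraMap A B a₀) := by rw [sub_smul, ha, Algebra.smul_def]; ring
      rwa [e']
    exact he' _ h6

end Groth.Agent.Hensel
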