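import Groth.Agent.Hensel.EnvelopeHensel
import Groth.Agent.ResExt.Completion
import Groth.Agent.UnramLib.FlatUnram
import Mathlib.RingTheory.Flat.FaithfullyFlat.Algebra
import Mathlib.RingTheory.Ideal.GoingDown

/-!
Noetherianity and dimension of the henselian envelope.
-/

set_option autoImplicit false

namespace Groth.Agent.Hensel

universe u v

open IsLocalRing

variable (R : Type u) [CommRing R] (K : Type u) [Field K] [Algebra R K]

/-- Faithfully flat extensions reflect membership. -/
theorem mem_of_mem_map_ff {A B : Type u} [CommRing A] [CommRing B] [Algebra A B] [Module.FaithfullyFlat A B]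
    {I : Ideal A} {x : A} (h : algebraMap A B x ∈ I.map (algebraMap A B)) : x ∈ I := by
  rw [← Ideal.comap_map_eq_self_of_faithfullyFlat (B := B) I]
  exact h

/-- The finite stage of the envelope. -/
abbrev EnvStage (F : Finset (EnvIdx R K)) := EtProd (envPairs R K ∘ ((↑) : F → EnvIdx R K))

/-- Finitely many elements of the top live at a finite stage. -/
theorem exists_stage {n : ℕ} (x : Fin n → EnvTop R K) :
    ∃ (F : Finset (EnvIdx R K)) (x' : Fin n → EnvStage R K F),
      ∀ k, etMap (P := envPairs R K) ((↑) : F → EnvIdx R K) (x' k) = x k := by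
  classical
  choose Fx zx hzx using fun k => exists_etMap_eq (P := envPairs R K) (x k)
  obtain ⟨F, hFx⟩ : ∃ F : Finset (EnvIdx R K), ∀ k, Fx k ⊆ F :=
    ⟨Finset.univ.biUnion Fx, fun k => Finset.subset_biUnion_of_mem Fx (Finset.mem_univ k)⟩
  refine ⟨F, fun k => etMap (P := envPairs R K ∘ ((↑) : F → EnvIdx R K))
    (fun j : Fx k => (⟨j.1, hFx k j.2⟩ : F)) (zx k), fun k => ?_⟩
  rw [← hzx k]
  exact AlgHom.congr_fun (etMap_comp (P := envPairs R K) ((↑) : F → EnvIdx R K)
    fun j : Fx k => (⟨j.1, hFx k j.2⟩ : F)) (zx k)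

/-- Noetherianity from a completion flat over the base. -/
theorem isNoetherianRing_of_points [IsNoetherianRing R] [IsLocalRing R] {S : Type u} [CommRing S] [IsLocalRing S]
    [Algebra R S] [Module.Flat R S] (hm : (maximalIdeal R).map (algebraMap R S) = maximalIdeal S)
    (ι : EnvTop R K →ₐ[R] S) (hloc : ∀ z, ∃ x t, IsUnit (ι t) ∧ z * ι t = ι x) : IsNoetherianRing S := by
  classical
  set m := maximalIdeal R
  set J := m.map (algebraMap R S) with hJ
  have hJfg : J.FG := Ideal.FG.map (IsNoetherian.noetherian m) _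
  haveI : J.IsMaximal := hm ▸ maximalIdeal.isMaximal S
  haveI : IsNoetherianRing (S ⧸ J) :=
    haveI := (Ideal.Quotient.maximal_ideal_iff_isField_quotient J).1 ‹_›
    letI := this.toField
    inferInstance
  haveI := ResExt.isNoetherianRing_adicCompletion J hJfg
  obtain ⟨D, _, _, θ, hDflat, hDnoeth, hproper⟩ : ∃ (D : Type u) (_ : CommRing D) (_ : Algebra R D) (θ : S →ₐ[R] D),
      Module.Flat R D ∧ IsNoetherianRing D ∧ J.map θ.toRingHom ≠ ⊤ := by
    refine ⟨AdicCompletion J S, inferInstance, inferInstance, IsScalarTower.toAlgHom R S _,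
      ResExt.flat_adicCompletion m S, inferInstance, ?_⟩
    change J.map (algebraMap S (AdicCompletion J S)) ≠ ⊤
    rw [← AdicCompletion.ker_evalOneₐ_eq_map J hJfg]
    exact RingHom.ker_ne_top _
  letI : Algebra S D := θ.toRingHom.toAlgebra
  haveI : IsScalarTower R S D := IsScalarTower.of_algebraMap_eq fun r => (θ.commutes r).symm
  refine (isNoetherianRing_iff_ideal_fg S).2 fun I => ?_
  let 𝒮 : Set (Ideal D) := {M | ∃ g : Finset S, (↑g : Set S) ⊆ I ∧ M = (Ideal.span (↑g : Set S)).map (algebraMap S D)}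
  obtain ⟨M, ⟨g, hgI, rfl⟩, hmax⟩ := set_has_maximal_iff_noetherian.2 inferInstance 𝒮
    ⟨_, ∅, by simp, rfl⟩
  refine ⟨g, le_antisymm (Ideal.span_le.2 hgI) fun a ha => ?_⟩
  have haD : algebraMap S D a ∈ (Ideal.span (↑g : Set S)).map (algebraMap S D) := by
    by_contra hcon
    refine hmax _ ⟨insert a g, by simp [Set.insert_subset_iff, ha, hgI], rfl⟩ (lt_of_le_of_ne
      (Ideal.map_mono (Ideal.span_mono (by simp))) fun h => hcon ?_)
    rw [h]
    exact Ideal.mem_map_of_mem _ (Ideal.subset_span (by simp))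
  -- pass to a finite stage containing `g` and `a`
  let l : List S := a :: g.toList
  choose xs ts hts hxts using fun k : Fin l.length => hloc l[k]
  obtain ⟨F, y, hy⟩ := exists_stage R K (Fin.append xs ts)
  let A := EnvStage R K F
  let inc : A →ₐ[R] S := ι.comp (etMap (P := envPairs R K) ((↑) : F → EnvIdx R K))
  haveI : Algebra.Etale R A := etale_etProd
  haveI : IsNoetherianRing A := Algebra.FiniteType.isNoetherianRing R A
  let p : Ideal A := (maximalIdeal S).comap inc.toRingHom
  haveI : p.IsPrime := Ideal.IsPrime.comap _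
  let A' := Localization.AtPrime p
  haveI : IsNoetherianRing A' := IsLocalization.isNoetherianRing p.primeCompl A' inferInstance
  haveI : Algebra.FormallyUnramified R A' :=
    haveI : Algebra.FormallyUnramified A A' := Algebra.FormallyUnramified.of_isLocalization p.primeCompl
    Algebra.FormallyUnramified.comp R A A'
  let χ : A' →ₐ[R] S := IsLocalization.liftAlgHom (M := p.primeCompl) (f := inc) fun u =>
    notMem_maximalIdeal.1 u.2
  have hχ : ∀ b, χ (algebraMap A A' b) = inc b := fun b => IsLocalization.lift_eq _ b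
  letI : Algebra A' S := χ.toRingHom.toAlgebra
  haveI : IsScalarTower R A' S := IsScalarTower.of_algebraMap_eq fun r => (χ.commutes r).symm
  letI : Algebra A' D := (θ.comp χ).toRingHom.toAlgebra
  haveI : IsScalarTower A' S D := IsScalarTower.of_algebraMap_eq' rfl
  haveI : IsScalarTower R A' D := IsScalarTower.of_algebraMap_eq fun r => ((θ.comp χ).commutes r).symm
  haveI : Algebra.EssFiniteType R A' :=
    haveI : Algebra.EssFiniteType A A' := Algebra.EssFiniteType.of_isLocalization A' p.primeCompl
    Algebra.EssFiniteType.comp R A A'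
  haveI : Module.Flat A' D := UnramLib.flat_of_formallyUnramified R A' D
  haveI : Module.FaithfullyFlat A' D :=
    { submodule_ne_top := fun M hM h => by
        rw [eq_maximalIdeal hM, Ideal.smul_top_eq_map] at h
        have h1 : (maximalIdeal A').map (algebraMap A' D) = ⊤ :=
          (Submodule.restrictScalars_eq_top_iff A' D D).1 h
        refine hproper (top_le_iff.1 (h1.ge.trans ?_))
        rw [← Localization.AtPrime.map_eq_maximalIdeal, Ideal.map_map, Ideal.map_le_iff_le_comap]
        intro b hb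
        rw [Ideal.mem_comap]
        change θ (χ (algebraMap A A' b)) ∈ J.map θ.toRingHom
        rw [hχ]
        exact Ideal.mem_map_of_mem _ (hm ▸ hb) }
  have hlift : ∀ z, z ∈ l → ∃ b : A', χ b = z := fun z hz => by
    obtain ⟨k, hk, rfl⟩ := List.mem_iff_getElem.1 hz
    set k' : Fin l.length := ⟨k, hk⟩
    have hx : inc (y (Fin.castAdd _ k')) = ι (xs k') := by
      exact (congrArg ι (hy _)).trans (congrArg ι (Fin.append_left _ _ _))
    have ht : inc (y (Fin.natAdd _ k')) = ι (ts k') := by
      exact (congrArg ι (hy _)).trans (congrArg ι (Fin.append_right _ _ _))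
    have hmem : y (Fin.natAdd _ k') ∈ p.primeCompl := fun h => by
      have h2 : inc (y (Fin.natAdd _ k')) ∈ maximalIdeal S := h
      rw [ht] at h2
      exact notMem_maximalIdeal.2 (hts k') h2
    refine ⟨IsLocalization.mk' A' (y (Fin.castAdd _ k')) ⟨_, hmem⟩, ?_⟩
    have h2 := congrArg χ (IsLocalization.mk'_spec A' (y (Fin.castAdd _ k')) ⟨_, hmem⟩)
    rw [map_mul, hχ, hχ, hx, ← hxts k', ht] at h2
    exact (hts k').mul_left_injective h2
  have hgl : ∀ z : g, ∃ b : A', χ b = z.1 := fun z => hlift z.1 (List.mem_cons_of_mem _ (Finset.mem_toList.2 z.2))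
  choose b hb using hgl
  obtain ⟨ba, hba⟩ := hlift a List.mem_cons_self
  have hspan : (Ideal.span (Set.range b)).map (algebraMap A' S) = Ideal.span (↑g : Set S) := by
    rw [Ideal.map_span, ← Set.range_comp]
    congr 1
    refine Set.ext fun z => ⟨?_, fun hz => ⟨⟨z, hz⟩, hb _⟩⟩
    rintro ⟨w, rfl⟩
    change χ (b w) ∈ _
    rw [hb]; exact w.2
  have hba2 : ba ∈ ((Ideal.span (Set.range b)).map (algebraMap A' D)).comap (algebraMap A' D) := by
    rw [Ideal.mem_comap, IsScalarTower.algebraMap_eq A' S D, ← Ideal.map_map, hspan]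
    change algebraMap S D (χ ba) ∈ _
    rw [hba]; exact haD
  have hba3 : ba ∈ Ideal.span (Set.range b) := mem_of_mem_map_ff (A := A') (B := D) (Ideal.mem_comap.1 hba2)
  have hfin := Ideal.mem_map_of_mem (algebraMap A' S) hba3
  rw [hspan] at hfin
  rw [← hba]
  exact hfin

/-- Primes of the envelope with the same trace on `R` are incomparable. -/
theorem eq_of_le_of_points {S : Type u} [CommRing S] [Algebra R S] (ι : EnvTop R K →ₐ[R] S)
    (hloc : ∀ z, ∃ x t, IsUnit (ι t) ∧ z * ι t = ι x) (P Q : Ideal S) [P.IsPrime] [Q.IsPrime] (hle : P ≤ Q)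
    (h : P.under R = Q.under R) : P = Q := by
  refine le_antisymm hle fun z hz => ?_
  obtain ⟨x, t, ht, hzt⟩ := hloc z
  obtain ⟨F, y, hy⟩ := exists_stage R K fun _ : Fin 1 => x
  let inc : EnvStage R K F →ₐ[R] S := ι.comp (etMap (P := envPairs R K) ((↑) : F → EnvIdx R K))
  haveI : Algebra.Etale R (EnvStage R K F) := etale_etProd
  haveI : (P.comap inc.toRingHom).IsPrime := Ideal.IsPrime.comap _
  haveI : (Q.comap inc.toRingHom).IsPrime := Ideal.IsPrime.comap _
  have hu : ∀ I : Ideal S, (I.comap inc.toRingHom).under R = I.under R := fun I => Ideal.ext fun r => by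
    change inc (algebraMap R _ r) ∈ I ↔ algebraMap R S r ∈ I
    rw [AlgHom.commutes]
  have h1 := Algebra.QuasiFinite.eq_of_le_of_under_eq (R := R) (P.comap inc.toRingHom) (Q.comap inc.toRingHom)
    (Ideal.comap_mono hle) (by rw [hu, hu, h])
  have hx : inc (y 0) = ι x := congrArg ι (hy 0)
  have h2 : y 0 ∈ Q.comap inc.toRingHom := by
    change inc (y 0) ∈ Q
    rw [hx, ← hzt]
    exact Ideal.mul_mem_right _ _ hz
  rw [← h1] at h2
  change inc (y 0) ∈ P at h2
  rw [hx, ← hzt] at h2
  exact (Ideal.mul_unit_mem_iff_mem _ ht).1 h2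

/-- The dimension of a flat local algebra made of fractions of the points is that of `R`. -/
theorem ringKrullDim_of_points [IsLocalRing R] {S : Type u} [CommRing S] [IsLocalRing S] [Algebra R S]
    [IsLocalHom (algebraMap R S)] [Module.Flat R S] (ι : EnvTop R K →ₐ[R] S)
    (hloc : ∀ z, ∃ x t, IsUnit (ι t) ∧ z * ι t = ι x) : ringKrullDim S = ringKrullDim R := by
  refine le_antisymm (Order.krullDim_le_of_strictMono (PrimeSpectrum.comap (algebraMap R S)) fun P Q hPQ => ?_) ?_
  · have hle : PrimeSpectrum.comap (algebraMap R S) P ≤ PrimeSpectrum.comap (algebraMap R S) Q :=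
      Ideal.comap_mono hPQ.le
    refine lt_of_le_of_ne hle fun h => hPQ.ne ?_
    exact PrimeSpectrum.ext (eq_of_le_of_points R K ι hloc P.asIdeal Q.asIdeal hPQ.le
      (congrArg PrimeSpectrum.asIdeal h))
  · haveI : Module.FaithfullyFlat R S := Module.FaithfullyFlat.of_flat_of_isLocalHom
    refine iSup_le fun l => ?_
    obtain ⟨P, hP⟩ := PrimeSpectrum.comap_surjective_of_faithfullyFlat (A := R) (B := S) l.last
    have : P.asIdeal.LiesOver l.last.asIdeal := ⟨by rw [← hP]; rfl⟩
    obtain ⟨L, hL, -, -⟩ := Ideal.exists_ltSeries_of_hasGoingDown l P.asIdeal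
    exact le_iSup_of_le L (by rw [hL])

end Groth.Agent.Hensel
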