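import Groth.Agent.Hensel.HenselizationProps
import Groth.Agent.Hensel.EnvelopeNoeth
import Mathlib.RingTheory.RegularLocalRing.Defs

/-!
Noetherianity, dimension and regularity of (strict) henselizations.
-/

set_option autoImplicit false

namespace Groth.Agent.Hensel

universe u v

open IsLocalRing

/-- A Noetherian faithfully flat extension forces a Noetherian base. -/
theorem isNoetherianRing_of_faithfullyFlat {R S : Type u} [CommRing R] [CommRing S] [Algebra R S]
    [Module.FaithfullyFlat R S] [IsNoetherianRing S] : IsNoetherianRing R :=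
  (isNoetherianRing_iff_ideal_fg R).2 fun I => by
    classical
    let 𝒮 : Set (Ideal S) := {M | ∃ g : Finset R, (↑g : Set R) ⊆ I ∧ M = (Ideal.span (↑g : Set R)).map (algebraMap R S)}
    obtain ⟨M, ⟨g, hgI, rfl⟩, hmax⟩ := set_has_maximal_iff_noetherian.2 inferInstance 𝒮 ⟨_, ∅, by simp, rfl⟩
    refine ⟨g, le_antisymm (Ideal.span_le.2 hgI) fun a ha => mem_of_mem_map_ff (B := S) ?_⟩
    by_contra hcon
    refine hmax _ ⟨insert a g, by simp [Set.insert_subset_iff, ha, hgI], rfl⟩ (lt_of_le_of_ne
      (Ideal.map_mono (Ideal.span_mono (by simp))) fun h => hcon ?_)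
    rw [h]
    exact Ideal.mem_map_of_mem _ (Ideal.subset_span (by simp))

variable (R : Type u) [CommRing R] (K : Type u) [Field K] [Algebra R K]

/-- Every element of the envelope is a fraction of points. -/
theorem env_hloc (z : Env R K) : ∃ x t, IsUnit (algebraMap (EnvTop R K) (Env R K) t) ∧
    z * algebraMap (EnvTop R K) (Env R K) t = algebraMap (EnvTop R K) (Env R K) x := by
  obtain ⟨x, s, rfl⟩ := IsLocalization.exists_mk'_eq (envPrime R K).primeCompl z
  exact ⟨x, s.1, IsLocalization.map_units _ s, IsLocalization.mk'_spec (Env R K) x s⟩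

variable [IsLocalRing R] [Algebra (ResidueField R) K] [IsScalarTower R (ResidueField R) K]
  [Algebra.IsSeparable (ResidueField R) K]

theorem isNoetherianRing_env [IsNoetherianRing R] : IsNoetherianRing (Env R K) :=
  haveI := flat_env R K
  isNoetherianRing_of_points (S := Env R K) R K (map_maximalIdeal_env R K)
    (IsScalarTower.toAlgHom R (EnvTop R K) (Env R K)) (env_hloc R K)

theorem ringKrullDim_env : ringKrullDim (Env R K) = ringKrullDim R :=
  haveI := flat_env R K
  haveI := isLocalHom_env R K
  ringKrullDim_of_points (S := Env R K) R K (IsScalarTower.toAlgHom R (EnvTop R K) (Env R K)) (env_hloc R K)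

end Groth.Agent.Hensel

namespace Groth.Agent.Hensel

universe u

open IsLocalRing

variable (R : Type u) [CommRing R] [IsLocalRing R] (S : Type u) [CommRing S] [IsLocalRing S] [Algebra R S]
  [IsLocalHom (algebraMap R S)]

theorem henselization_isNoetherianRing_iff [_root_.Hensel.IsHenselization R S] :
    IsNoetherianRing R ↔ IsNoetherianRing S := by
  haveI := henselization_faithfullyFlat R S
  refine ⟨fun _ => ?_, fun _ => isNoetherianRing_of_faithfullyFlat (S := S)⟩
  obtain ⟨e⟩ := henselization_equiv R S
  haveI := isNoetherianRing_env R (ResidueField R)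
  exact isNoetherianRing_of_ringEquiv _ e.symm.toRingEquiv

theorem strictHenselization_isNoetherianRing_iff [_root_.Hensel.IsStrictHenselization R S] :
    IsNoetherianRing R ↔ IsNoetherianRing S := by
  haveI := strictHenselization_faithfullyFlat R S
  refine ⟨fun _ => ?_, fun _ => isNoetherianRing_of_faithfullyFlat (S := S)⟩
  obtain ⟨e⟩ := strictHenselization_equiv R S
  haveI := isNoetherianRing_env R (SeparableClosure (ResidueField R))
  exact isNoetherianRing_of_ringEquiv _ e.symm.toRingEquiv

theorem henselization_ringKrullDim [_root_.Hensel.IsHenselization R S] : ringKrullDim S = ringKrullDim R := by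
  obtain ⟨e⟩ := henselization_equiv R S
  exact (ringKrullDim_eq_of_ringEquiv e.toRingEquiv).trans (ringKrullDim_env R _)

theorem strictHenselization_ringKrullDim [_root_.Hensel.IsStrictHenselization R S] :
    ringKrullDim S = ringKrullDim R := by
  obtain ⟨e⟩ := strictHenselization_equiv R S
  exact (ringKrullDim_eq_of_ringEquiv e.toRingEquiv).trans (ringKrullDim_env R _)

/-- If `m` generates the maximal ideal and residue fields agree, `m` and `m_S` need the same number of generators. -/
theorem spanFinrank_maximalIdeal_eq_of_map_eq [IsNoetherianRing R] [IsNoetherianRing S] [Module.FaithfullyFlat R S]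
    (hm : (maximalIdeal R).map (algebraMap R S) = maximalIdeal S)
    (hres : ∀ z : S, ∃ r : R, z - algebraMap R S r ∈ maximalIdeal S) :
    (maximalIdeal S).spanFinrank = (maximalIdeal R).spanFinrank := by
  classical
  refine le_antisymm ?_ ?_
  · rw [← hm]; exact Ideal.spanFinrank_map_le_of_fg _ (IsNoetherian.noetherian _)
  obtain ⟨t, ht, hts⟩ := Submodule.FG.exists_span_finset_card_eq_spanFinrank (IsNoetherian.noetherian (maximalIdeal S))
  have happrox : ∀ x ∈ maximalIdeal S, ∃ a ∈ maximalIdeal R, x - algebraMap R S a ∈ maximalIdeal S ^ 2 := fun x hx => by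
    rw [← hm, Ideal.map] at hx
    refine Submodule.span_induction ?_ ?_ ?_ ?_ hx
    · rintro _ ⟨a, ha, rfl⟩
      exact ⟨a, ha, by simp⟩
    · exact ⟨0, zero_mem _, by simp⟩
    · rintro a b _ _ ⟨a', ha', ha⟩ ⟨b', hb', hb⟩
      exact ⟨a' + b', add_mem ha' hb', by rw [map_add, add_sub_add_comm]; exact add_mem ha hb⟩
    · rintro c a _ ⟨a', ha', ha⟩
      obtain ⟨d, hd⟩ := hres c
      refine ⟨d * a', Ideal.mul_mem_left _ _ ha', ?_⟩
      rw [smul_eq_mul, map_mul, show c * a - algebraMap R S d * algebraMap R S a' =
        c * (a - algebraMap R S a') + (c - algebraMap R S d) * algebraMap R S a' by ring]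
      refine add_mem (Ideal.mul_mem_left _ _ ha) ?_
      rw [pow_two]
      exact Ideal.mul_mem_mul hd (hm ▸ Ideal.mem_map_of_mem _ ha')
  have hmem : ∀ x : t, x.1 ∈ maximalIdeal S := fun x => hts ▸ Submodule.subset_span x.2
  choose a ha hsub using fun x : t => happrox x.1 (hmem x)
  let I : Ideal R := Ideal.span (Set.range a)
  have h1 : maximalIdeal S ≤ I.map (algebraMap R S) := by
    refine Submodule.le_of_le_smul_of_le_jacobson_bot (IsNoetherian.noetherian _)
      (maximalIdeal_le_jacobson (⊥ : Ideal S)) ?_
    conv_lhs => rw [← hts]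
    refine Submodule.span_le.2 fun x hx => Submodule.mem_sup.2
      ⟨algebraMap R S (a ⟨x, hx⟩), Ideal.mem_map_of_mem _ (Ideal.subset_span (Set.mem_range_self _)),
        x - algebraMap R S (a ⟨x, hx⟩), ?_, by abel⟩
    have := hsub ⟨x, hx⟩
    rwa [pow_two] at this
  have h2 : maximalIdeal R ≤ I := fun r hr =>
    mem_of_mem_map_ff (B := S) (h1 (hm ▸ Ideal.mem_map_of_mem _ hr))
  have h3 : I = maximalIdeal R := le_antisymm (Ideal.span_le.2 (Set.range_subset_iff.2 ha)) h2
  rw [← h3, ← ht]
  refine (Submodule.spanFinrank_span_le_ncard_of_finite (Set.finite_range a)).trans ?_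
  rw [← Set.image_univ]
  exact (Set.ncard_image_le Set.finite_univ).trans (by rw [Set.ncard_univ, Nat.card_eq_fintype_card, Fintype.card_coe])

theorem henselization_isRegularLocalRing_iff [_root_.Hensel.IsHenselization R S] [IsNoetherianRing R] :
    IsRegularLocalRing R ↔ IsRegularLocalRing S := by
  haveI : IsNoetherianRing S := (henselization_isNoetherianRing_iff R S).1 ‹_›
  haveI := henselization_faithfullyFlat R S
  rw [isRegularLocalRing_iff, isRegularLocalRing_iff, henselization_ringKrullDim R S,
    spanFinrank_maximalIdeal_eq_of_map_eq R S (henselization_map_maximalIdeal R S)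
      (henselization_exists_sub_mem R S)]

end Groth.Agent.Hensel
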