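import Mathlib.RingTheory.Etale.StandardEtale
import Mathlib.RingTheory.DedekindDomain.Different
import Mathlib.RingTheory.Polynomial.GaussLemma
import Mathlib.FieldTheory.SeparableClosure
import Mathlib.RingTheory.IntegralClosure.IntegrallyClosed

/-!
Local rings of standard étale algebras over integrally closed domains are integrally closed domains.
-/

set_option autoImplicit false

namespace Groth.Agent.Hensel

universe u v

open Polynomial

/-- Euler–Tate: the derivative times an element integral over `R` is a polynomial in the generator. -/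
theorem derivative_mul_mem_adjoin {R : Type u} [CommRing R] [IsDomain R] [IsIntegrallyClosed R]
    (K : Type u) [Field K] [Algebra R K] [IsFractionRing R K] {L : Type u} [Field L] [Algebra K L] [Algebra R L]
    [IsScalarTower R K L] [FiniteDimensional K L] [Algebra.IsSeparable K L] {x : L}
    (hx : Algebra.adjoin K {x} = ⊤) (hRx : IsIntegral R x) {z : L} (hz : IsIntegral R z) :
    aeval x (derivative (minpoly K x)) * z ∈ Algebra.adjoin R {x} := by
  have h1 : z ∈ (Algebra.traceForm K L).dualSubmodule (Subalgebra.toSubmodule (Algebra.adjoin R {x})) := by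
    rw [LinearMap.BilinForm.mem_dualSubmodule]
    intro y hy
    have hy' : IsIntegral R y :=
      (Algebra.adjoin_le (S := integralClosure R L) (Set.singleton_subset_iff.2 hRx) hy : y ∈ integralClosure R L)
    rw [Submodule.mem_one, Algebra.traceForm_apply]
    exact IsIntegrallyClosed.isIntegral_iff.1 (Algebra.isIntegral_trace (hz.mul hy'))
  rw [traceForm_dualSubmodule_adjoin R K hx hRx, ← SetLike.mem_coe, Submodule.coe_pointwise_smul,
    Set.mem_smul_set] at h1
  obtain ⟨w, hw, rfl⟩ := h1
  rw [smul_eq_mul, ← mul_assoc,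
    mul_inv_cancel₀ ((Algebra.IsSeparable.isSeparable K x).aeval_derivative_ne_zero (minpoly.aeval K x)), one_mul]
  exact hw

theorem normal_localization_standardEtale {R : Type u} [CommRing R] [IsDomain R] [IsIntegrallyClosed R]
    (P : StandardEtalePair R) (S : Type u) [CommRing S] [IsLocalRing S] [Algebra R S] (ι : P.Ring →ₐ[R] S)
    (hloc : ∀ z, ∃ b c, IsUnit (ι c) ∧ z * ι c = ι b)
    (hker : ∀ b, ι b = 0 → ∃ c, IsUnit (ι c) ∧ b * c = 0) : IsDomain S ∧ IsIntegrallyClosed S := by
  classical
  let K := FractionRing R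
  have hinjRK : Function.Injective (algebraMap R K) := IsFractionRing.injective R K
  set x := ι P.X with hx
  have hxg : IsUnit (aeval x P.g) := (P.hasMap_X.map ι).2
  have hxf : aeval x P.f = 0 := (P.hasMap_X.map ι).1
  have hxd : IsUnit (aeval x (derivative P.f)) := (P.hasMap_X.map ι).isUnit_derivative_f
  -- polynomial fractions
  have hfrac : ∀ z : S, ∃ p u : R[X], IsUnit (aeval x u) ∧ z * aeval x u = aeval x p := fun z => by
    obtain ⟨b, c, hc, hz⟩ := hloc z
    let pr : StandardEtalePresentation R P.Ring :=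
      ⟨P, P.X, P.hasMap_X, by simpa [StandardEtalePair.lift_X_left] using Function.bijective_id⟩
    obtain ⟨p, m, hp⟩ := pr.exists_mul_aeval_x_g_pow_eq_aeval_x b
    obtain ⟨u, k, hu⟩ := pr.exists_mul_aeval_x_g_pow_eq_aeval_x c
    have hp' := congrArg ι hp
    have hu' := congrArg ι hu
    simp only [map_mul, map_pow, ← Polynomial.aeval_algHom_apply, pr] at hp' hu'
    rw [← hx] at hp' hu'
    refine ⟨p * P.g ^ k, u * P.g ^ m, ?_, ?_⟩
    · rw [map_mul, map_pow, ← hu']; exact (hc.mul (hxg.pow _)).mul (hxg.pow _)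
    · rw [map_mul, map_mul, map_pow, map_pow, ← hu', ← hp', ← hz]; ring
  -- the factor of `f` vanishing at the point
  have hex : ∃ n, ∃ d : R[X], d.Monic ∧ d.natDegree = n ∧ d ∣ P.f ∧ ¬ IsUnit (aeval x d) :=
    ⟨_, P.f, P.monic_f, rfl, dvd_rfl, by rw [hxf]; exact not_isUnit_zero⟩
  obtain ⟨d, hd, hdn, ⟨f₂, hf₂⟩, hdx⟩ := Nat.find_spec hex
  have hdeg0 : d.natDegree ≠ 0 := fun h => hdx (by
    rw [hd.natDegree_eq_zero.1 h, map_one]; exact isUnit_one)
  have hsum : IsUnit (aeval x (derivative d) * aeval x f₂ + aeval x d * aeval x (derivative f₂)) := by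
    rw [← map_mul, ← map_mul, ← map_add, ← derivative_mul, ← hf₂]; exact hxd
  have hboth : IsUnit (aeval x (derivative d)) ∧ IsUnit (aeval x f₂) := by
    rcases IsLocalRing.isUnit_or_isUnit_of_isUnit_add hsum with h | h
    · exact ⟨isUnit_of_mul_isUnit_left h, isUnit_of_mul_isUnit_right h⟩
    · exact absurd (isUnit_of_mul_isUnit_left h) hdx
  have hd0 : aeval x d = 0 := by
    have := hxf
    rw [hf₂, map_mul] at this
    exact hboth.2.mul_left_eq_zero.1 this
  have hf₂m : f₂.Monic := hd.of_mul_monic_left (hf₂ ▸ P.monic_f)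
  have hirr : Irreducible (d.map (algebraMap R K)) := by
    refine (irreducible_of_monic (hd.map _) fun h => hdeg0 ?_).2 fun a b ha hb hab => ?_
    · have := congrArg natDegree h
      rwa [hd.natDegree_map, natDegree_one] at this
    obtain ⟨a', ha'⟩ := IsIntegrallyClosed.eq_map_mul_C_of_dvd (R := R) (K := K) hd (g := a) (hab ▸ dvd_mul_right a b)
    obtain ⟨b', hb'⟩ := IsIntegrallyClosed.eq_map_mul_C_of_dvd (R := R) (K := K) hd (g := b) (hab ▸ dvd_mul_left b a)
    rw [ha.leadingCoeff, map_one, mul_one] at ha'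
    rw [hb.leadingCoeff, map_one, mul_one] at hb'
    have ha'm : a'.Monic := monic_of_injective hinjRK (ha' ▸ ha)
    have hb'm : b'.Monic := monic_of_injective hinjRK (hb' ▸ hb)
    have hab' : a' * b' = d := map_injective _ hinjRK (by rw [Polynomial.map_mul, ha', hb', hab])
    have hu : ¬ (IsUnit (aeval x a') ∧ IsUnit (aeval x b')) := fun h => hdx (by
      rw [← hab', map_mul]; exact h.1.mul h.2)
    have hdegab : a'.natDegree + b'.natDegree = d.natDegree := by
      rw [← hab', ha'm.natDegree_mul hb'm]
    rcases not_and_or.1 hu with h | h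
    · have := Nat.find_min' hex ⟨a', ha'm, rfl, dvd_trans ⟨b', hab'.symm⟩ ⟨f₂, hf₂⟩, h⟩
      right
      rw [← hb', hb'm.natDegree_eq_zero.1 (by omega), Polynomial.map_one]
    · have := Nat.find_min' hex ⟨b', hb'm, rfl, dvd_trans ⟨a', by rw [mul_comm, hab']⟩ ⟨f₂, hf₂⟩, h⟩
      left
      rw [← ha', ha'm.natDegree_eq_zero.1 (by omega), Polynomial.map_one]
  haveI : Fact (Irreducible (d.map (algebraMap R K))) := ⟨hirr⟩
  let L := AdjoinRoot (d.map (algebraMap R K))
  let θ : L := AdjoinRoot.root _
  have hθ : ∀ p : R[X], aeval θ p = 0 → aeval x p = 0 := fun p hp => by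
    rw [← aeval_map_algebraMap K, AdjoinRoot.aeval_eq, AdjoinRoot.mk_eq_zero, map_dvd_map _ hinjRK hd] at hp
    obtain ⟨c, rfl⟩ := hp
    rw [map_mul, hd0, zero_mul]
  have hθd : aeval θ d = 0 := by
    rw [← aeval_map_algebraMap K, AdjoinRoot.aeval_eq, AdjoinRoot.mk_self]
  have hP : P.HasMap θ := ⟨by rw [hf₂, map_mul, hθd, zero_mul],
    isUnit_iff_ne_zero.2 fun h => not_isUnit_zero (hθ _ h ▸ hxg)⟩
  -- the embedding of `S` into `L`
  have hu0 : ∀ u : R[X], IsUnit (aeval x u) → aeval θ u ≠ 0 := fun u hu h => not_isUnit_zero (hθ _ h ▸ hu)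
  have hx0 : ∀ p : R[X], aeval x p = 0 → aeval θ p = 0 := fun p hp => by
    obtain ⟨c, hc, hpc⟩ := hker (aeval P.X p) (by rw [← Polynomial.aeval_algHom_apply]; exact hp)
    have h1 := congrArg (P.lift θ hP) hpc
    rw [map_mul, map_zero, ← Polynomial.aeval_algHom_apply, StandardEtalePair.lift_X] at h1
    refine (mul_eq_zero.1 h1).resolve_right fun h2 => ?_
    let pr : StandardEtalePresentation R P.Ring :=
      ⟨P, P.X, P.hasMap_X, by simpa [StandardEtalePair.lift_X_left] using Function.bijective_id⟩
    obtain ⟨u, k, hu⟩ := pr.exists_mul_aeval_x_g_pow_eq_aeval_x c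
    have h3 := congrArg (P.lift θ hP) hu
    have h4 := congrArg ι hu
    simp only [map_mul, map_pow, ← Polynomial.aeval_algHom_apply, pr, StandardEtalePair.lift_X] at h3 h4
    rw [← hx] at h4
    rw [h2, zero_mul] at h3
    exact hu0 u (h4 ▸ hc.mul (hxg.pow _)) h3.symm
  choose pz uz huz hzu using hfrac
  let ν₀ : S → L := fun z => aeval θ (pz z) / aeval θ (uz z)
  have hν₀ : ∀ (z : S) (p u : R[X]), IsUnit (aeval x u) → z * aeval x u = aeval x p → ν₀ z * aeval θ u = aeval θ p := by
    intro z p u hu h
    have h1 : aeval x (pz z * u - p * uz z) = 0 := by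
      rw [map_sub, map_mul, map_mul, ← hzu, ← h]; ring
    have h2 := hx0 _ h1
    rw [map_sub, map_mul, map_mul, sub_eq_zero] at h2
    rw [div_mul_eq_mul_div, div_eq_iff (hu0 _ (huz z)), h2]
  have hν₁ : ∀ p : R[X], ν₀ (aeval x p) = aeval θ p := fun p => by
    simpa using hν₀ (aeval x p) p 1 (by simp) (by simp)
  let ν : S →ₐ[R] L :=
    { toFun := ν₀
      map_one' := by simpa using hν₁ 1
      map_zero' := by simpa using hν₁ 0
      map_add' := fun a b => by
        have h := hν₀ (a + b) (pz a * uz b + pz b * uz a) (uz a * uz b) (by rw [map_mul]; exact (huz a).mul (huz b))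
          (by rw [map_add, map_mul, map_mul, map_mul, ← hzu, ← hzu]; ring)
        rw [map_add, map_mul, map_mul, map_mul, ← hν₀ a _ _ (huz a) (hzu a), ← hν₀ b _ _ (huz b) (hzu b)] at h
        refine mul_right_cancel₀ (mul_ne_zero (hu0 _ (huz a)) (hu0 _ (huz b))) ?_
        linear_combination h
      map_mul' := fun a b => by
        have h := hν₀ (a * b) (pz a * pz b) (uz a * uz b) (by rw [map_mul]; exact (huz a).mul (huz b))
          (by rw [map_mul, map_mul, ← hzu, ← hzu]; ring)
        rw [map_mul, map_mul, ← hν₀ a _ _ (huz a) (hzu a), ← hν₀ b _ _ (huz b) (hzu b)] at h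
        refine mul_right_cancel₀ (mul_ne_zero (hu0 _ (huz a)) (hu0 _ (huz b))) ?_
        linear_combination h
      commutes' := fun r => by simpa using hν₁ (C r) }
  have hν : ∀ p : R[X], ν (aeval x p) = aeval θ p := hν₁
  have hinj : Function.Injective ν := (injective_iff_map_eq_zero ν).2 fun z hz => by
    have h := hν₀ z _ _ (huz z) (hzu z)
    rw [show ν₀ z = 0 from hz, zero_mul] at h
    exact (huz z).mul_left_eq_zero.1 ((hzu z).trans (hθ _ h.symm))
  haveI : IsDomain S := hinj.isDomain ν.toRingHom
  refine ⟨inferInstance, ?_⟩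
  -- separability
  haveI : FiniteDimensional K L := (AdjoinRoot.powerBasis (hd.map _).ne_zero).finite
  have hmin : minpoly K θ = d.map (algebraMap R K) := by
    rw [AdjoinRoot.minpoly_root (hd.map _).ne_zero, (hd.map _).leadingCoeff, inv_one, map_one, mul_one]
  have hder : aeval θ (derivative d) ≠ 0 := hu0 _ hboth.1
  have hsep : (minpoly K θ).Separable := by
    rw [hmin, separable_iff_derivative_ne_zero hirr, derivative_map]
    intro h
    apply hder
    rw [← aeval_map_algebraMap K, h, map_zero]
  haveI : Algebra.IsSeparable K L := by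
    have h1 : IntermediateField.adjoin K {θ} = ⊤ :=
      IntermediateField.adjoin_eq_top_of_algebra K {θ} (AdjoinRoot.adjoinRoot_eq_top)
    haveI : Algebra.IsSeparable K (IntermediateField.adjoin K {θ}) :=
      (IntermediateField.isSeparable_adjoin_simple_iff_isSeparable K L).2 hsep
    exact Algebra.IsSeparable.of_algHom K (IntermediateField.adjoin K {θ})
      ((IntermediateField.equivOfEq h1).trans IntermediateField.topEquiv).symm.toAlgHom
  have hθint : IsIntegral R θ := ⟨d, hd, hθd⟩
  have hpoly : ∀ p : R[X], IsIntegral R (aeval θ p) := fun p =>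
    (integralClosure R L).toSubmodule.zero_mem |> fun _ =>
      (Algebra.adjoin_le (S := integralClosure R L) (Set.singleton_subset_iff.2 hθint)
        (aeval_mem_adjoin_singleton R θ) : aeval θ p ∈ integralClosure R L)
  letI : Algebra S L := ν.toRingHom.toAlgebra
  -- integral elements of `L` come from `S`
  have key : ∀ y : L, IsIntegral S y → ∃ s, ν s = y := fun y hy => by
    obtain ⟨F, hF, hFy⟩ := hy
    let W : R[X] := ∏ k ∈ Finset.range F.natDegree, uz (F.coeff k)
    have hW : IsUnit (aeval x W) := by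
      rw [map_prod]; exact IsUnit.prod_iff.2 fun k _ => huz _
    have hWy : IsIntegral R (aeval θ W * y) := by
      let O := integralClosure R L
      refine isIntegral_trans (A := O) _ ?_
      let G : S[X] := F.scaleRoots (aeval x W)
      have hG : G.Monic := (monic_scaleRoots_iff _).2 hF
      have hGy : eval₂ ν.toRingHom (aeval θ W * y) G = 0 := by
        rw [← hν W]
        exact scaleRoots_eval₂_eq_zero ν.toRingHom hFy
      have hc : ∀ k, ν (G.coeff k) ∈ O := fun k => by
        rcases lt_trichotomy k F.natDegree with hk | hk | hk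
        · have hk' : k ∈ Finset.range F.natDegree := Finset.mem_range.2 hk
          obtain ⟨j, hj⟩ : ∃ j, F.natDegree - k = j + 1 := ⟨F.natDegree - k - 1, by omega⟩
          have h1 : ν (F.coeff k) * aeval θ W = aeval θ (pz (F.coeff k)) *
              aeval θ (∏ i ∈ (Finset.range F.natDegree).erase k, uz (F.coeff i)) := by
            simp only [W]
            rw [← Finset.mul_prod_erase _ _ hk', map_mul, ← mul_assoc]
            congr 1
            exact hν₀ _ _ _ (huz _) (hzu _)
          rw [coeff_scaleRoots, map_mul, map_pow, hν, hj, pow_succ', ← mul_assoc, h1]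
          exact (((hpoly _).mul (hpoly _)).mul ((hpoly W).pow j))
        · rw [coeff_scaleRoots, hk, hF.coeff_natDegree, tsub_self, pow_zero, one_mul, map_one]
          exact one_mem _
        · rw [coeff_scaleRoots, coeff_eq_zero_of_natDegree_lt hk, zero_mul, map_zero]
          exact zero_mem _
      obtain ⟨G', hG', -, hG'm⟩ := lifts_and_degree_eq_and_monic (f := O.val.toRingHom)
        ((lifts_iff_coeff_lifts (G.map ν.toRingHom)).2 fun k => ⟨⟨_, hc k⟩, by rw [coeff_map]; rfl⟩) (hG.map _)
      refine ⟨G', hG'm, ?_⟩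
      rw [eval₂_eq_eval_map, show algebraMap O L = O.val.toRingHom from rfl, hG', eval_map]
      exact hGy
    obtain ⟨p, hp⟩ : ∃ p : R[X], aeval θ p = aeval θ (derivative d) * (aeval θ W * y) := by
      have h := derivative_mul_mem_adjoin K (x := θ) AdjoinRoot.adjoinRoot_eq_top hθint hWy
      rw [hmin, derivative_map, aeval_map_algebraMap, Algebra.adjoin_singleton_eq_range_aeval] at h
      exact h
    obtain ⟨v, hv⟩ := (hboth.1.mul hW).exists_left_inv
    refine ⟨v * aeval x p, ?_⟩
    have h1 := congrArg ν hv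
    simp only [map_mul, map_one, hν] at h1
    rw [map_mul, hν, hp, ← mul_assoc (aeval θ _), ← mul_assoc, h1, one_mul]
  -- conclusion
  rw [isIntegrallyClosed_iff (FractionRing S)]
  intro y hy
  let Ν : FractionRing S →+* L := IsFractionRing.lift (g := ν.toRingHom) hinj
  have hΝ : ∀ s, Ν (algebraMap S _ s) = ν s := fun s => IsLocalization.lift_eq _ s
  obtain ⟨s, hs⟩ := key (Ν y) (by
    obtain ⟨F, hF, hFy⟩ := hy
    refine ⟨F, hF, ?_⟩
    have := congrArg Ν hFy
    rw [map_zero, hom_eval₂] at this
    rwa [show Ν.comp (algebraMap S (FractionRing S)) = algebraMap S L from RingHom.ext hΝ] at this)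
  exact ⟨s, Ν.injective ((hΝ s).trans hs)⟩

end Groth.Agent.Hensel
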