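import Groth.Agent.Hensel.EnvelopeNoeth
import Groth.Agent.Hensel.EtaleNormal
import Groth.Agent.SmoothRed.Basic

/-!
The henselian envelope as a directed union of local rings of standard étale algebras.
-/

set_option autoImplicit false

namespace Groth.Agent.Hensel

universe u v

open IsLocalRing

variable (R : Type u) [CommRing R] (K : Type u) [Field K] [Algebra R K]

/-- The points of a single index. -/
noncomputable def idxHom {S : Type u} [CommRing S] [Algebra R S] (ι : EnvTop R K →ₐ[R] S) (i : EnvIdx R K) :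
    i.1.Ring →ₐ[R] S :=
  i.1.lift (ι (etPt (envPairs R K) i)) ((hasMap_etPt (P := envPairs R K) i).map ι)

/-- An étale algebra mapping to `S` factors through a single index. -/
theorem exists_idx_factor {S : Type u} [CommRing S] [IsLocalRing S] [Algebra R S] (π : S →ₐ[R] K)
    (hπ : ∀ z, π z = 0 ↔ z ∈ maximalIdeal S) (ι : EnvTop R K →ₐ[R] S) (hι : ∀ x, π (ι x) = envEv R K x)
    (E : Type u) [CommRing E] [Algebra R E] [Algebra.Etale R E] (χ : E →ₐ[R] S) :
    ∃ i : EnvIdx R K, ∀ e, ∃ b, idxHom R K ι i b = χ e := by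
  let ev : E →ₐ[R] K := π.comp χ
  haveI : (RingHom.ker ev.toRingHom).IsPrime := RingHom.ker_isPrime _
  haveI : Algebra.IsEtaleAt R (RingHom.ker ev.toRingHom) :=
    haveI : Algebra.FormallyEtale E (Localization.AtPrime (RingHom.ker ev.toRingHom)) :=
      Algebra.FormallyEtale.of_isLocalization (RingHom.ker ev.toRingHom).primeCompl
    Algebra.FormallyEtale.comp R E _
  obtain ⟨h, hh, hstd⟩ := Algebra.IsEtaleAt.exists_isStandardEtale (R := R) (RingHom.ker ev.toRingHom)
  obtain ⟨pr⟩ := hstd.nonempty_standardEtalePresentation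
  have hevh : IsUnit (ev h) := isUnit_iff_ne_zero.2 hh
  let ev₃ : Localization.Away h →ₐ[R] K := IsLocalization.Away.liftAlgHom h (f := ev) hevh
  let i : EnvIdx R K := ⟨pr.P, ev₃ pr.x, pr.hasMap.map ev₃⟩
  let φ₃ : Localization.Away h →ₐ[R] S := (idxHom R K ι i).comp pr.equivRing.toAlgHom
  have hφ₃ : π.comp φ₃ = ev₃ := pr.hom_ext (by
    change π (idxHom R K ι i (pr.equivRing pr.x)) = _
    rw [pr.equivRing_x, idxHom, StandardEtalePair.lift_X, hι]
    exact etLift_etPt (P := envPairs R K) _ _ i)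
  have hφ : φ₃.comp (IsScalarTower.toAlgHom R E (Localization.Away h)) = χ := by
    refine algHom_eq_of_unramified (maximalIdeal_le_jacobson ⊥) _ _ fun e => (hπ _).1 ?_
    rw [map_sub, sub_eq_zero]
    exact (AlgHom.congr_fun hφ₃ (algebraMap E _ e)).trans (IsLocalization.Away.lift_eq h hevh e)
  exact ⟨i, fun e => ⟨pr.equivRing (algebraMap E (Localization.Away h) e), AlgHom.congr_fun hφ e⟩⟩

/-- Finitely many elements lie in the local ring of a single standard étale algebra, embedded in `S`. -/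
theorem exists_local_stage {S : Type u} [CommRing S] [IsLocalRing S] [Algebra R S] [Module.Flat R S] (π : S →ₐ[R] K)
    (hπ : ∀ z, π z = 0 ↔ z ∈ maximalIdeal S) (ι : EnvTop R K →ₐ[R] S) (hι : ∀ x, π (ι x) = envEv R K x)
    (hloc : ∀ z, ∃ x t, IsUnit (ι t) ∧ z * ι t = ι x) {n : ℕ} (z : Fin n → S) :
    ∃ (P : StandardEtalePair R) (T : Type u) (_ : CommRing T) (_ : IsLocalRing T) (_ : Algebra R T)
      (ψ : P.Ring →ₐ[R] T) (χ : T →ₐ[R] S), (∀ y, ∃ b c, IsUnit (ψ c) ∧ y * ψ c = ψ b) ∧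
      (∀ b, ψ b = 0 → ∃ c, IsUnit (ψ c) ∧ b * c = 0) ∧ Function.Injective χ ∧ ∀ k, ∃ y, χ y = z k := by
  classical
  choose x t ht hxt using fun k => hloc (z k)
  obtain ⟨F, y, hy⟩ := exists_stage R K (Fin.append x t)
  let A := EnvStage R K F
  let inc : A →ₐ[R] S := ι.comp (etMap (P := envPairs R K) ((↑) : F → EnvIdx R K))
  haveI : Algebra.Etale R A := etale_etProd
  let T₀ : A := ∏ k, y (Fin.natAdd n k)
  have hyx : ∀ k, inc (y (Fin.castAdd n k)) = ι (x k) := fun k =>
    (congrArg ι (hy _)).trans (congrArg ι (Fin.append_left _ _ _))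
  have hyt : ∀ k, inc (y (Fin.natAdd n k)) = ι (t k) := fun k =>
    (congrArg ι (hy _)).trans (congrArg ι (Fin.append_right _ _ _))
  have hT₀ : IsUnit (inc T₀) := by
    rw [map_prod]
    exact IsUnit.prod_univ_iff.2 fun k => by rw [hyt]; exact ht k
  let E₁ := Localization.Away T₀
  haveI : Algebra.Etale R E₁ := inferInstance
  let χ₁ : E₁ →ₐ[R] S := IsLocalization.Away.liftAlgHom T₀ (f := inc) hT₀
  have hχ₁ : ∀ a, χ₁ (algebraMap A E₁ a) = inc a := fun a => IsLocalization.Away.lift_eq T₀ hT₀ a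
  have hzmem : ∀ k, ∃ e, χ₁ e = z k := fun k => by
    have hu : IsUnit (algebraMap A E₁ (y (Fin.natAdd n k))) :=
      isUnit_of_dvd_unit (map_dvd (algebraMap A E₁) (Finset.dvd_prod_of_mem (fun k => y (Fin.natAdd n k))
        (Finset.mem_univ k))) (IsLocalization.Away.algebraMap_isUnit T₀)
    refine ⟨algebraMap A E₁ (y (Fin.castAdd n k)) * ↑hu.unit⁻¹, (ht k).mul_left_injective ?_⟩
    change _ * ι (t k) = z k * ι (t k)
    rw [hxt, ← hyt, ← hχ₁, ← map_mul, mul_assoc, IsUnit.val_inv_mul, mul_one, hχ₁, hyx]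
  obtain ⟨i, hi⟩ := exists_idx_factor R K π hπ ι hι E₁ χ₁
  let p : Ideal i.1.Ring := (maximalIdeal S).comap (idxHom R K ι i).toRingHom
  haveI : p.IsPrime := Ideal.IsPrime.comap _
  let T := Localization.AtPrime p
  haveI : Algebra.FormallyUnramified R T :=
    haveI : Algebra.FormallyUnramified i.1.Ring T := Algebra.FormallyUnramified.of_isLocalization p.primeCompl
    Algebra.FormallyUnramified.comp R i.1.Ring T
  haveI : Algebra.EssFiniteType R T :=
    haveI : Algebra.EssFiniteType i.1.Ring T := Algebra.EssFiniteType.of_isLocalization T p.primeCompl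
    Algebra.EssFiniteType.comp R i.1.Ring T
  let χ : T →ₐ[R] S := IsLocalization.liftAlgHom (M := p.primeCompl) (f := idxHom R K ι i) fun u =>
    notMem_maximalIdeal.1 u.2
  have hχ : ∀ b, χ (algebraMap i.1.Ring T b) = idxHom R K ι i b := fun b => IsLocalization.lift_eq _ b
  letI : Algebra T S := χ.toRingHom.toAlgebra
  haveI : IsScalarTower R T S := IsScalarTower.of_algebraMap_eq fun r => (χ.commutes r).symm
  haveI : Module.Flat T S := UnramLib.flat_of_formallyUnramified R T S
  haveI : IsLocalHom (algebraMap T S) := ⟨fun w hw => by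
    obtain ⟨b, u, rfl⟩ := IsLocalization.exists_mk'_eq p.primeCompl w
    refine (IsLocalization.AtPrime.isUnit_mk'_iff T p b u).2 fun hb => ?_
    have h2 := congrArg χ (IsLocalization.mk'_spec T b u)
    rw [map_mul, hχ, hχ] at h2
    exact notMem_maximalIdeal.2 (h2 ▸ IsUnit.mul hw (notMem_maximalIdeal.1 u.2)) hb⟩
  haveI : Module.FaithfullyFlat T S := Module.FaithfullyFlat.of_flat_of_isLocalHom
  refine ⟨i.1, T, inferInstance, inferInstance, inferInstance, IsScalarTower.toAlgHom R i.1.Ring T, χ,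
    fun w => ?_, fun b hb => ?_, FaithfulSMul.algebraMap_injective T S, fun k => ?_⟩
  · obtain ⟨b, u, rfl⟩ := IsLocalization.exists_mk'_eq p.primeCompl w
    exact ⟨b, u.1, IsLocalization.map_units _ u, IsLocalization.mk'_spec T b u⟩
  · obtain ⟨c, hc⟩ := (IsLocalization.map_eq_zero_iff p.primeCompl T b).1 hb
    exact ⟨c.1, IsLocalization.map_units _ c, by rw [mul_comm, hc]⟩
  · obtain ⟨e, he⟩ := hzmem k
    obtain ⟨b, hb⟩ := hi e
    exact ⟨algebraMap _ T b, (hχ b).trans (hb.trans he)⟩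

/-- The envelope of an integrally closed domain is an integrally closed domain. -/
theorem normal_of_points [IsDomain R] [IsIntegrallyClosed R] {S : Type u} [CommRing S] [IsLocalRing S] [Algebra R S]
    [Module.Flat R S] (π : S →ₐ[R] K) (hπ : ∀ z, π z = 0 ↔ z ∈ maximalIdeal S) (ι : EnvTop R K →ₐ[R] S)
    (hι : ∀ x, π (ι x) = envEv R K x) (hloc : ∀ z, ∃ x t, IsUnit (ι t) ∧ z * ι t = ι x) :
    IsDomain S ∧ IsIntegrallyClosed S := by
  classical
  haveI : NoZeroDivisors S := ⟨fun {a b} hab => by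
    obtain ⟨P, T, _, _, _, ψ, χ, h1, h2, hinj, hz⟩ := exists_local_stage R K π hπ ι hι hloc ![a, b]
    obtain ⟨hT, -⟩ := normal_localization_standardEtale P T ψ h1 h2
    obtain ⟨a', ha⟩ := hz 0
    obtain ⟨b', hb⟩ := hz 1
    simp only [Matrix.cons_val_zero, Matrix.cons_val_one] at ha hb
    subst ha hb
    rw [← map_mul, ← map_zero χ] at hab
    rcases mul_eq_zero.1 (hinj hab) with h | h <;> simp [h]⟩
  haveI : IsDomain S := NoZeroDivisors.to_isDomain S
  refine ⟨inferInstance, (isIntegrallyClosed_iff (FractionRing S)).2 fun {q} hq => ?_⟩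
  obtain ⟨f, hf, hfq⟩ := hq
  obtain ⟨a, b, rfl⟩ := IsLocalization.exists_mk'_eq (nonZeroDivisors S) q
  obtain ⟨P, T, _, _, _, ψ, χ, h1, h2, hinj, hz⟩ := exists_local_stage R K π hπ ι hι hloc
    (Fin.append ![a, b.1] fun k : Fin f.natDegree => f.coeff k)
  obtain ⟨hT, hTic⟩ := normal_localization_standardEtale P T ψ h1 h2
  obtain ⟨a', ha⟩ := hz (Fin.castAdd _ 0)
  obtain ⟨b', hb⟩ := hz (Fin.castAdd _ 1)
  rw [Fin.append_left] at ha hb
  simp only [Matrix.cons_val_zero, Matrix.cons_val_one] at ha hb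
  have hcoef : ∀ k : Fin f.natDegree, ∃ c, χ c = f.coeff k := fun k => by
    obtain ⟨c, hc⟩ := hz (Fin.natAdd _ k)
    rw [Fin.append_right] at hc
    exact ⟨c, hc⟩
  choose c hc using hcoef
  let g : Polynomial T := Polynomial.X ^ f.natDegree + ∑ k : Fin f.natDegree, Polynomial.C (c k) * Polynomial.X ^ (k : ℕ)
  have hgm : g.Monic := Polynomial.monic_X_pow_add (Polynomial.degree_sum_fin_lt c)
  have hgmap : g.map χ.toRingHom = f := by
    conv_rhs => rw [hf.as_sum]
    simp only [g, Polynomial.map_add, Polynomial.map_pow, Polynomial.map_X, Polynomial.map_sum,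
      Polynomial.map_mul, Polynomial.map_C]
    rw [← Fin.sum_univ_eq_sum_range (fun k => Polynomial.C (f.coeff k) * Polynomial.X ^ k)]
    congr 1
    exact Finset.sum_congr rfl fun k _ => by rw [← hc k]; rfl
  let Ν : FractionRing T →+* FractionRing S :=
    IsFractionRing.lift (g := (algebraMap S (FractionRing S)).comp χ.toRingHom)
      ((IsFractionRing.injective S _).comp hinj)
  have hΝ : ∀ w, Ν (algebraMap T _ w) = algebraMap S _ (χ w) := fun w => IsLocalization.lift_eq _ w
  have hb0 : b' ≠ 0 := fun h => nonZeroDivisors.ne_zero b.2 (by rw [← hb, h, map_zero])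
  let q' : FractionRing T := IsLocalization.mk' _ a' ⟨b', mem_nonZeroDivisors_of_ne_zero hb0⟩
  have hq' : Ν q' = IsLocalization.mk' (FractionRing S) a b := by
    refine (IsLocalization.map_units (FractionRing S) b).mul_left_injective ?_
    change Ν q' * algebraMap S _ b.1 = IsLocalization.mk' (FractionRing S) a b * algebraMap S _ b.1
    rw [IsLocalization.mk'_spec, ← hb, ← hΝ, ← map_mul, IsLocalization.mk'_spec, hΝ, ha]
  have hint : IsIntegral T q' := ⟨g, hgm, by
    apply Ν.injective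
    rw [Polynomial.hom_eval₂, map_zero, hq', show Ν.comp (algebraMap T _) = (algebraMap S _).comp χ.toRingHom from
      RingHom.ext hΝ, ← Polynomial.eval₂_map, hgmap]
    exact hfq⟩
  obtain ⟨w, hw⟩ := (isIntegrallyClosed_iff (FractionRing T)).1 hTic hint
  exact ⟨χ w, by rw [← hΝ, hw, hq']⟩

/-- The envelope of a reduced ring is reduced. -/
theorem isReduced_of_points [IsReduced R] {S : Type u} [CommRing S] [IsLocalRing S] [Algebra R S]
    [Module.Flat R S] (π : S →ₐ[R] K) (hπ : ∀ z, π z = 0 ↔ z ∈ maximalIdeal S) (ι : EnvTop R K →ₐ[R] S)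
    (hι : ∀ x, π (ι x) = envEv R K x) (hloc : ∀ z, ∃ x t, IsUnit (ι t) ∧ z * ι t = ι x) : IsReduced S := by
  refine ⟨fun z hz => ?_⟩
  obtain ⟨P, T, _, _, _, ψ, χ, h1, h2, hinj, hzm⟩ := exists_local_stage R K π hπ ι hι hloc ![z]
  obtain ⟨y, hy⟩ := hzm 0
  simp only [Matrix.cons_val_fin_one] at hy
  subst hy
  obtain ⟨m, hm⟩ := hz
  haveI : IsReduced P.Ring := SmoothRed.isReduced_of_smooth R P.Ring
  obtain ⟨b, c, hc, hbc⟩ := h1 y
  have hm' : y ^ (m + 1) = 0 := hinj (by rw [map_pow, map_zero, pow_succ, hm, zero_mul])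
  obtain ⟨d, hd, hbd⟩ := h2 (b ^ (m + 1)) (by rw [map_pow, ← hbc, mul_pow, hm', zero_mul])
  have hbd0 : b * d = 0 := IsReduced.eq_zero _ ⟨m + 1, by rw [mul_pow, pow_succ' d, ← mul_assoc, hbd, zero_mul]⟩
  have hψ : ψ b = 0 := hd.mul_left_eq_zero.1 (by rw [← map_mul, hbd0, map_zero])
  rw [hψ] at hbc
  rw [hc.mul_left_eq_zero.1 hbc, map_zero]

end Groth.Agent.Hensel
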