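import Groth.Agent.Hensel.HenselizationNoeth
import Groth.Agent.Hensel.EnvelopeStage

/-!
Reducedness and normality of henselizations.
-/

set_option autoImplicit false

namespace Groth.Agent.Hensel

universe u

open IsLocalRing

section env

variable (R : Type u) [CommRing R] [IsLocalRing R] (K : Type u) [Field K] [Algebra R K] [Algebra (ResidueField R) K]
  [IsScalarTower R (ResidueField R) K] [Algebra.IsSeparable (ResidueField R) K]

theorem isReduced_env [IsReduced R] : IsReduced (Env R K) :=
  haveI := flat_env R K
  isReduced_of_points (S := Env R K) R K (envRes R K) (envRes_eq_zero_iff R K)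
    (IsScalarTower.toAlgHom R (EnvTop R K) (Env R K)) (envRes_algebraMap R K) (env_hloc R K)

theorem normal_env [IsDomain R] [IsIntegrallyClosed R] : IsDomain (Env R K) ∧ IsIntegrallyClosed (Env R K) :=
  haveI := flat_env R K
  normal_of_points (S := Env R K) R K (envRes R K) (envRes_eq_zero_iff R K)
    (IsScalarTower.toAlgHom R (EnvTop R K) (Env R K)) (envRes_algebraMap R K) (env_hloc R K)

end env

/-- Integral closedness descends along faithfully flat maps into a domain. -/
theorem normal_of_faithfullyFlat {R S : Type u} [CommRing R] [CommRing S] [Algebra R S] [Module.FaithfullyFlat R S]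
    [IsDomain S] [IsIntegrallyClosed S] : IsDomain R ∧ IsIntegrallyClosed R := by
  have hinj : Function.Injective (algebraMap R S) := FaithfulSMul.algebraMap_injective R S
  haveI : IsDomain R := hinj.isDomain (algebraMap R S)
  refine ⟨inferInstance, (isIntegrallyClosed_iff (FractionRing R)).2 fun {q} hq => ?_⟩
  obtain ⟨a, b, rfl⟩ := IsLocalization.exists_mk'_eq (nonZeroDivisors R) q
  let ν : FractionRing R →+* FractionRing S := IsFractionRing.lift (g := (algebraMap S _).comp (algebraMap R S))
    ((IsFractionRing.injective S _).comp hinj)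
  have hν : ∀ r, ν (algebraMap R _ r) = algebraMap S _ (algebraMap R S r) := fun r => IsLocalization.lift_eq _ r
  obtain ⟨f, hf, hfq⟩ := hq
  have hint : IsIntegral S (ν (IsLocalization.mk' (FractionRing R) a b)) := by
    refine ⟨f.map (algebraMap R S), hf.map _, ?_⟩
    rw [Polynomial.eval₂_map, ← show ν.comp (algebraMap R _) = (algebraMap S (FractionRing S)).comp (algebraMap R S)
      from RingHom.ext hν, ← Polynomial.hom_eval₂, hfq, map_zero]
  obtain ⟨s, hs⟩ := (isIntegrallyClosed_iff (FractionRing S)).1 ‹_› hint
  have h1 : algebraMap R S a ∈ (Ideal.span {b.1}).map (algebraMap R S) := by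
    rw [Ideal.map_span, Set.image_singleton, Ideal.mem_span_singleton]
    refine ⟨s, IsFractionRing.injective S (FractionRing S) ?_⟩
    rw [map_mul, hs, ← hν, ← hν, ← map_mul, mul_comm, IsLocalization.mk'_spec]
  obtain ⟨r, hr⟩ := Ideal.mem_span_singleton.1 (mem_of_mem_map_ff (B := S) h1)
  refine ⟨r, ?_⟩
  rw [eq_comm, IsLocalization.mk'_eq_iff_eq_mul, ← map_mul, hr, mul_comm]

variable (R : Type u) [CommRing R] [IsLocalRing R] (S : Type u) [CommRing S] [IsLocalRing S] [Algebra R S]
  [IsLocalHom (algebraMap R S)] [_root_.Hensel.IsHenselization R S]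

theorem henselization_isReduced_iff : IsReduced R ↔ IsReduced S := by
  haveI := henselization_faithfullyFlat R S
  refine ⟨fun _ => ?_, fun _ => isReduced_of_injective _ (FaithfulSMul.algebraMap_injective R S)⟩
  obtain ⟨e⟩ := henselization_equiv R S
  haveI := isReduced_env R (ResidueField R)
  exact isReduced_of_injective e e.injective

theorem henselization_normal_iff :
    (IsDomain R ∧ IsIntegrallyClosed R) ↔ (IsDomain S ∧ IsIntegrallyClosed S) := by
  haveI := henselization_faithfullyFlat R S
  refine ⟨fun ⟨_, _⟩ => ?_, fun ⟨_, _⟩ => normal_of_faithfullyFlat (S := S)⟩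
  obtain ⟨e⟩ := henselization_equiv R S
  obtain ⟨hd, hic⟩ := normal_env R (ResidueField R)
  haveI := hd
  haveI := hic
  exact ⟨e.toRingEquiv.injective.isDomain e.toRingHom, IsIntegrallyClosed.of_equiv (R := Env R (ResidueField R)) (S := S) e.toRingEquiv.symm⟩

end Groth.Agent.Hensel
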