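import Groth.Agent.Hensel.Henselization
import Mathlib.RingTheory.Flat.FaithfullyFlat.Algebra

/-!
First properties of (strict) henselizations.
-/

set_option autoImplicit false

namespace Groth.Agent.Hensel

universe u v

open IsLocalRing

theorem map_maximalIdeal_of_equiv {R : Type u} [CommRing R] [IsLocalRing R] {S E : Type v} [CommRing S]
    [IsLocalRing S] [CommRing E] [IsLocalRing E] [Algebra R S] [Algebra R E] (e : S ≃ₐ[R] E)
    (h : (maximalIdeal R).map (algebraMap R E) = maximalIdeal E) :
    (maximalIdeal R).map (algebraMap R S) = maximalIdeal S := by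
  have h1 : (maximalIdeal R).map (algebraMap R S) = (maximalIdeal E).map e.symm.toRingEquiv := by
    rw [← h, ← Ideal.map_coe (e.symm.toRingEquiv), Ideal.map_map]
    congr 1
    exact RingHom.ext fun r => (e.symm.commutes r).symm
  rw [h1]
  haveI := Ideal.map_isMaximal_of_equiv e.symm.toRingEquiv (p := maximalIdeal E)
  exact eq_maximalIdeal this

variable (R : Type u) [CommRing R] [IsLocalRing R] (S : Type u) [CommRing S] [IsLocalRing S] [Algebra R S]
  [IsLocalHom (algebraMap R S)]

section henselization

variable [_root_.Hensel.IsHenselization R S]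

theorem henselization_map_maximalIdeal : (maximalIdeal R).map (algebraMap R S) = maximalIdeal S := by
  obtain ⟨e⟩ := henselization_equiv R S
  exact map_maximalIdeal_of_equiv (R := R) (S := S) (E := Env R _) e (map_maximalIdeal_env R _)

theorem henselization_flat : Module.Flat R S := by
  obtain ⟨e⟩ := henselization_equiv R S
  haveI := flat_env R (ResidueField R)
  exact Module.Flat.of_linearEquiv e.toLinearEquiv

theorem henselization_faithfullyFlat : Module.FaithfullyFlat R S := by
  haveI := henselization_flat R S
  exact Module.FaithfullyFlat.of_flat_of_isLocalHom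

theorem henselization_exists_sub_mem (z : S) :
    ∃ r : R, z - algebraMap R S r ∈ maximalIdeal S := by
  obtain ⟨e⟩ := henselization_equiv R S
  obtain ⟨r, hr⟩ := residue_surjective (envRes R (ResidueField R) (e z))
  refine ⟨r, ?_⟩
  have h1 : e (z - algebraMap R S r) ∈ maximalIdeal (Env R (ResidueField R)) := by
    rw [map_sub, AlgEquiv.commutes, ← envRes_eq_zero_iff, map_sub, AlgHom.commutes, ← hr, ResidueField.algebraMap_eq,
      sub_self]
  rw [mem_maximalIdeal, mem_nonunits_iff] at h1 ⊢
  exact fun hu => h1 (hu.map e)

theorem henselization_residue_bijective : Function.Bijective (ResidueField.map (algebraMap R S)) := by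
  refine ⟨RingHom.injective _, fun x => ?_⟩
  obtain ⟨z, rfl⟩ := residue_surjective x
  obtain ⟨r, hr⟩ := henselization_exists_sub_mem R S z
  refine ⟨residue R r, ?_⟩
  rw [ResidueField.map_residue, eq_comm, ← sub_eq_zero, ← map_sub, residue_eq_zero_iff]
  exact hr

theorem henselization_quotient_bijective (n : ℕ) :
    Function.Bijective (Ideal.quotientMap (Ideal.map (algebraMap R S) (maximalIdeal R ^ n)) (algebraMap R S)
      Ideal.le_comap_map) := by
  haveI := henselization_faithfullyFlat R S
  refine ⟨Ideal.quotientMap_injective' (le_of_eq (Ideal.comap_map_eq_self_of_faithfullyFlat _)), fun x => ?_⟩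
  obtain ⟨z, rfl⟩ := Ideal.Quotient.mk_surjective x
  suffices h : ∀ (k : ℕ) (z : S), ∃ r : R, z - algebraMap R S r ∈ (maximalIdeal R ^ k).map (algebraMap R S) by
    obtain ⟨r, hr⟩ := h n z
    refine ⟨Ideal.Quotient.mk _ r, ?_⟩
    rw [Ideal.quotientMap_mk, eq_comm, Ideal.Quotient.eq]
    exact hr
  intro k
  induction k with
  | zero => exact fun z => ⟨0, by rw [pow_zero, Ideal.one_eq_top, Ideal.map_top]; trivial⟩
  | succ k ih =>
    intro z
    obtain ⟨r, hr⟩ := ih z
    rw [Ideal.map] at hr
    have hspan : ∀ w ∈ (maximalIdeal R ^ k).map (algebraMap R S), ∃ r' ∈ maximalIdeal R ^ k,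
        w - algebraMap R S r' ∈ (maximalIdeal R ^ (k + 1)).map (algebraMap R S) := fun w hw => by
      refine Submodule.span_induction ?_ ?_ ?_ ?_ hw
      · rintro _ ⟨a, ha, rfl⟩
        exact ⟨a, ha, by simp⟩
      · exact ⟨0, zero_mem _, by simp⟩
      · rintro a b _ _ ⟨a', ha', ha⟩ ⟨b', hb', hb⟩
        exact ⟨a' + b', add_mem ha' hb', by rw [map_add, add_sub_add_comm]; exact add_mem ha hb⟩
      · rintro c a _ ⟨a', ha', ha⟩
        obtain ⟨d, hd⟩ := henselization_exists_sub_mem R S c
        refine ⟨d * a', Ideal.mul_mem_left _ _ ha', ?_⟩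
        rw [smul_eq_mul, map_mul, show c * a - algebraMap R S d * algebraMap R S a' =
          c * (a - algebraMap R S a') + (c - algebraMap R S d) * algebraMap R S a' by ring]
        refine add_mem (Ideal.mul_mem_left _ _ ha) ?_
        rw [pow_succ', Ideal.map_mul]
        refine Ideal.mul_mem_mul ?_ (Ideal.mem_map_of_mem _ ha')
        rw [henselization_map_maximalIdeal]; exact hd
    obtain ⟨r', -, hr'⟩ := hspan _ hr
    exact ⟨r + r', by rw [map_add, ← sub_sub]; exact hr'⟩

end henselization

section strict

variable [_root_.Hensel.IsStrictHenselization R S]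

theorem strictHenselization_map_maximalIdeal : (maximalIdeal R).map (algebraMap R S) = maximalIdeal S := by
  obtain ⟨e⟩ := strictHenselization_equiv R S
  exact map_maximalIdeal_of_equiv (R := R) (S := S) (E := Env R _) e (map_maximalIdeal_env R _)

theorem strictHenselization_flat : Module.Flat R S := by
  obtain ⟨e⟩ := strictHenselization_equiv R S
  haveI := flat_env R (SeparableClosure (ResidueField R))
  exact Module.Flat.of_linearEquiv e.toLinearEquiv

theorem strictHenselization_faithfullyFlat : Module.FaithfullyFlat R S := by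
  haveI := strictHenselization_flat R S
  exact Module.FaithfullyFlat.of_flat_of_isLocalHom

end strict

end Groth.Agent.Hensel
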