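import Groth.Agent.Hensel.HenselizationNormal
import Groth.Agent.SerreReg.Descent
import Mathlib.RingTheory.DiscreteValuationRing.TFAE
import Mathlib.RingTheory.KrullDimension.PID
import Mathlib.RingTheory.RegularLocalRing.Defs

/-!
More permanence properties of (strict) henselizations.
-/

set_option autoImplicit false

namespace Groth.Agent.Hensel

universe u

open IsLocalRing
open scoped TensorProduct

/-- The nilradical of a smooth algebra is extended from the base. -/
theorem nilradical_smooth (R A : Type u) [CommRing R] [CommRing A] [Algebra R A] [Algebra.Smooth R A] :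
    nilradical A = (nilradical R).map (algebraMap R A) := by
  refine le_antisymm ?_ (Ideal.map_le_iff_le_comap.2 fun r hr => mem_nilradical.2 ((mem_nilradical.1 hr).map _))
  intro x hx
  let R₀ := R ⧸ nilradical R
  haveI : IsReduced R₀ := (Ideal.isRadical_iff_quotient_reduced _).1 (Ideal.radical_isRadical _)
  haveI : Algebra.Smooth R₀ (R₀ ⊗[R] A) := inferInstance
  haveI : IsReduced (R₀ ⊗[R] A) := SmoothRed.isReduced_of_smooth R₀ _
  have h1 : (Algebra.TensorProduct.includeRight : A →ₐ[R] R₀ ⊗[R] A) x = 0 :=
    ((mem_nilradical.1 hx).map _).eq_zero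
  have h2 := congrArg (TensorProduct.quotTensorEquivQuotSMul A (nilradical R)) h1
  rw [map_zero] at h2
  change TensorProduct.quotTensorEquivQuotSMul A (nilradical R) (Ideal.Quotient.mk _ 1 ⊗ₜ x) = 0 at h2
  rw [TensorProduct.quotTensorEquivQuotSMul_mk_tmul, one_smul, Submodule.Quotient.mk_eq_zero,
    Ideal.smul_top_eq_map] at h2
  exact h2

/-- Formal étaleness of the envelope. -/
theorem formallyEtale_env (R : Type u) [CommRing R] (K : Type u) [Field K] [Algebra R K] :
    Algebra.FormallyEtale R (Env R K) :=
  haveI : Algebra.FormallyEtale (EnvTop R K) (Env R K) :=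
    Algebra.FormallyEtale.of_isLocalization (envPrime R K).primeCompl
  Algebra.FormallyEtale.comp R (EnvTop R K) (Env R K)

theorem nilradical_map_of_points (R : Type u) [CommRing R] (K : Type u) [Field K] [Algebra R K] {S : Type u}
    [CommRing S] [IsLocalRing S] [Algebra R S] [Module.Flat R S] (π : S →ₐ[R] K)
    (hπ : ∀ z, π z = 0 ↔ z ∈ maximalIdeal S) (ι : EnvTop R K →ₐ[R] S) (hι : ∀ x, π (ι x) = envEv R K x)
    (hloc : ∀ z, ∃ x t, IsUnit (ι t) ∧ z * ι t = ι x) :
    (nilradical R).map (algebraMap R S) = nilradical S := by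
  refine le_antisymm (Ideal.map_le_iff_le_comap.2 fun r hr => mem_nilradical.2 ((mem_nilradical.1 hr).map _))
    fun z hz => ?_
  obtain ⟨P, T, _, _, _, ψ, χ, h1, h2, hinj, hzm⟩ := exists_local_stage R K π hπ ι hι hloc ![z]
  obtain ⟨y, hy⟩ := hzm 0
  simp only [Matrix.cons_val_fin_one] at hy
  subst hy
  obtain ⟨m, hm⟩ := mem_nilradical.1 hz
  obtain ⟨b, c, hc, hbc⟩ := h1 y
  have hm' : y ^ (m + 1) = 0 := hinj (by rw [map_pow, map_zero, pow_succ, hm, zero_mul])
  obtain ⟨d, hd, hbd⟩ := h2 (b ^ (m + 1)) (by rw [map_pow, ← hbc, mul_pow, hm', zero_mul])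
  have hbd0 : b * d ∈ (nilradical R).map (algebraMap R P.Ring) := by
    rw [← nilradical_smooth]
    exact mem_nilradical.2 ⟨m + 1, by rw [mul_pow, pow_succ' d, ← mul_assoc, hbd, zero_mul]⟩
  have h3 := Ideal.mem_map_of_mem (χ.comp ψ).toRingHom hbd0
  rw [Ideal.map_map, show (χ.comp ψ).toRingHom.comp (algebraMap R P.Ring) = algebraMap R S from
    RingHom.ext fun r => (χ.comp ψ).commutes r] at h3
  have h4 : (χ.comp ψ).toRingHom (b * d) = χ y * (χ (ψ c) * χ (ψ d)) := by
    change χ (ψ (b * d)) = _
    rw [map_mul, ← hbc, map_mul, map_mul, mul_assoc]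
  rw [h4, Ideal.mul_unit_mem_iff_mem _ ((hc.map χ).mul (hd.map χ))] at h3
  exact h3

section transfer

variable (R : Type u) [CommRing R] [IsLocalRing R] (S : Type u) [CommRing S] [IsLocalRing S] [Algebra R S]
  [IsLocalHom (algebraMap R S)]

theorem henselization_formallyEtale [_root_.Hensel.IsHenselization R S] : Algebra.FormallyEtale R S := by
  obtain ⟨e⟩ := henselization_equiv R S
  haveI := formallyEtale_env R (ResidueField R)
  exact Algebra.FormallyEtale.of_equiv (R := R) (A := Env R (ResidueField R)) (B := S) e.symm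

theorem strictHenselization_formallyEtale [_root_.Hensel.IsStrictHenselization R S] :
    Algebra.FormallyEtale R S := by
  obtain ⟨e⟩ := strictHenselization_equiv R S
  haveI := formallyEtale_env R (SeparableClosure (ResidueField R))
  exact Algebra.FormallyEtale.of_equiv (R := R) (A := Env R (SeparableClosure (ResidueField R))) (B := S) e.symm

theorem strictHenselization_isReduced_iff [_root_.Hensel.IsStrictHenselization R S] :
    IsReduced S ↔ IsReduced R := by
  haveI := strictHenselization_faithfullyFlat R S
  refine ⟨fun _ => isReduced_of_injective _ (FaithfulSMul.algebraMap_injective R S), fun _ => ?_⟩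
  obtain ⟨e⟩ := strictHenselization_equiv R S
  haveI := isReduced_env R (SeparableClosure (ResidueField R))
  exact isReduced_of_injective e e.injective

theorem strictHenselization_normal_iff [_root_.Hensel.IsStrictHenselization R S] :
    (IsDomain S ∧ IsIntegrallyClosed S) ↔ (IsDomain R ∧ IsIntegrallyClosed R) := by
  haveI := strictHenselization_faithfullyFlat R S
  refine ⟨fun ⟨_, _⟩ => normal_of_faithfullyFlat (S := S), fun ⟨_, _⟩ => ?_⟩
  obtain ⟨e⟩ := strictHenselization_equiv R S
  obtain ⟨hd, hic⟩ := normal_env R (SeparableClosure (ResidueField R))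
  haveI := hd
  haveI := hic
  exact ⟨e.toRingEquiv.injective.isDomain e.toRingHom,
    IsIntegrallyClosed.of_equiv (R := Env R (SeparableClosure (ResidueField R))) (S := S) e.toRingEquiv.symm⟩

theorem nilradical_map_env (K : Type u) [Field K] [Algebra R K] [Algebra (ResidueField R) K]
    [IsScalarTower R (ResidueField R) K] [Algebra.IsSeparable (ResidueField R) K] :
    (nilradical R).map (algebraMap R (Env R K)) = nilradical (Env R K) :=
  haveI := flat_env R K
  nilradical_map_of_points (S := Env R K) R K (envRes R K) (envRes_eq_zero_iff R K)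
    (IsScalarTower.toAlgHom R (EnvTop R K) (Env R K)) (envRes_algebraMap R K) (env_hloc R K)

theorem nilradical_map_of_equiv {E : Type u} [CommRing E] [Algebra R E] (e : S ≃ₐ[R] E)
    (h : (nilradical R).map (algebraMap R E) = nilradical E) :
    (nilradical R).map (algebraMap R S) = nilradical S := by
  refine le_antisymm (Ideal.map_le_iff_le_comap.2 fun r hr => mem_nilradical.2 ((mem_nilradical.1 hr).map _))
    fun z hz => ?_
  have h1 : e z ∈ (nilradical R).map (algebraMap R E) := h ▸ mem_nilradical.2 ((mem_nilradical.1 hz).map e)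
  have h2 := Ideal.mem_map_of_mem e.symm.toAlgHom.toRingHom h1
  rw [Ideal.map_map, show e.symm.toAlgHom.toRingHom.comp (algebraMap R E) = algebraMap R S from
    RingHom.ext fun r => e.symm.commutes r] at h2
  simpa using h2

theorem strictHenselization_isRegularLocalRing_iff [_root_.Hensel.IsStrictHenselization R S] [IsNoetherianRing R] :
    IsRegularLocalRing S ↔ IsRegularLocalRing R := by
  haveI : IsNoetherianRing S := (strictHenselization_isNoetherianRing_iff R S).1 ‹_›
  haveI := strictHenselization_flat R S
  refine ⟨fun _ => SerreReg.isRegularLocalRing_of_flat R S, fun h => ?_⟩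
  refine IsRegularLocalRing.of_spanFinrank_maximalIdeal_le _ ?_
  rw [← strictHenselization_map_maximalIdeal R S, strictHenselization_ringKrullDim R S,
    ← IsRegularLocalRing.spanFinrank_maximalIdeal (R := R)]
  exact_mod_cast Ideal.spanFinrank_map_le_of_fg _ (IsNoetherian.noetherian _)

end transfer

/-- A discrete valuation ring is a one-dimensional regular local domain. -/
theorem dvr_iff (R : Type u) [CommRing R] [IsLocalRing R] [IsNoetherianRing R] :
    (∃ _ : IsDomain R, IsDiscreteValuationRing R) ↔ IsDomain R ∧ IsRegularLocalRing R ∧ ringKrullDim R = 1 := by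
  refine ⟨?_, ?_⟩
  · rintro ⟨_, _⟩
    exact ⟨inferInstance, inferInstance, IsDiscreteValuationRing.ringKrullDim_eq_one R⟩
  · rintro ⟨_, hreg, hdim⟩
    refine ⟨inferInstance, ?_⟩
    have h1 := IsRegularLocalRing.spanFinrank_maximalIdeal (R := R)
    rw [hdim] at h1
    have h2 : (maximalIdeal R).spanFinrank = 1 := by exact_mod_cast h1
    obtain ⟨hp, hne⟩ := (Submodule.spanFinrank_eq_one_iff _).1 h2
    exact ((IsDiscreteValuationRing.TFAE R (isField_iff_maximalIdeal_eq.not.2 hne)).out 4 0).1 hp

end Groth.Agent.Hensel
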