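import Groth.Agent.Hensel.Depth
import Groth.Agent.Hensel.HenselizationMore
import Mathlib.RingTheory.Ideal.AssociatedPrime.Localization
import Mathlib.RingTheory.Unramified.LocalRing

/-!
Fibres of (strict) henselizations are unramified: consequences for localizations.
-/

set_option autoImplicit false

namespace Groth.Agent.Hensel

universe u

open IsLocalRing

/-- In an étale algebra, a prime is locally extended from the base. -/
theorem exists_mul_mem_map_of_etale {R E : Type u} [CommRing R] [CommRing E] [Algebra R E] [Algebra.Etale R E]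
    (Q : Ideal E) [Q.IsPrime] {z : E} (hz : z ∈ Q) :
    ∃ s ∉ Q, s * z ∈ (Q.comap (algebraMap R E)).map (algebraMap R E) := by
  let p := Q.comap (algebraMap R E)
  haveI : Q.LiesOver p := ⟨rfl⟩
  letI : Algebra (Localization.AtPrime p) (Localization.AtPrime Q) :=
    (Localization.localRingHom p Q (algebraMap R E) rfl).toAlgebra
  haveI : Localization.AtPrime.IsLiesOverAlgebra p Q := ⟨rfl⟩
  haveI : Algebra.IsUnramifiedAt R Q :=
    haveI : Algebra.FormallyUnramified E (Localization.AtPrime Q) :=
      Algebra.FormallyUnramified.of_isLocalization Q.primeCompl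
    Algebra.FormallyUnramified.comp R E _
  have h := ((Algebra.isUnramifiedAt_iff_map_eq R p Q).1 inferInstance).2
  have h1 : algebraMap E (Localization.AtPrime Q) z ∈
      (p.map (algebraMap R E)).map (algebraMap E (Localization.AtPrime Q)) := by
    rw [Ideal.map_map, ← IsScalarTower.algebraMap_eq, h, ← Localization.AtPrime.map_eq_maximalIdeal]
    exact Ideal.mem_map_of_mem _ hz
  obtain ⟨⟨⟨i, hi⟩, ⟨m, hm⟩⟩, hzm⟩ := (IsLocalization.mem_map_algebraMap_iff Q.primeCompl _).1 h1
  rw [← map_mul] at hzm
  obtain ⟨⟨c, hc⟩, hc'⟩ := (IsLocalization.eq_iff_exists Q.primeCompl _).1 hzm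
  refine ⟨c * m, Q.primeCompl.mul_mem hc hm, ?_⟩
  rw [mul_assoc, mul_comm m, hc']
  exact Ideal.mul_mem_left _ _ hi

/-- The unramified-fibre property of `S` over `R`. -/
def UnramifiedFibres (R S : Type u) [CommRing R] [CommRing S] [Algebra R S] : Prop :=
  ∀ P : Ideal S, P.IsPrime → ∀ z ∈ P, ∃ s ∉ P, s * z ∈ (P.comap (algebraMap R S)).map (algebraMap R S)

theorem UnramifiedFibres.of_equiv {R S S' : Type u} [CommRing R] [CommRing S] [Algebra R S] [CommRing S']
    [Algebra R S'] (h : UnramifiedFibres R S) (e : S ≃ₐ[R] S') : UnramifiedFibres R S' := fun P hP z hz => by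
  have hP' : (P.comap e.toAlgHom).IsPrime := Ideal.comap_isPrime _ _
  obtain ⟨s, hs, hsz⟩ := h (P.comap e.toAlgHom) hP' (e.symm z) (by
    rw [Ideal.mem_comap]; simpa using hz)
  refine ⟨e s, hs, ?_⟩
  have h2 := Ideal.mem_map_of_mem e.toAlgHom.toRingHom hsz
  rw [Ideal.map_map, show e.toAlgHom.toRingHom.comp (algebraMap R S) = algebraMap R S' from
    RingHom.ext e.toAlgHom.commutes] at h2
  have h3 : (P.comap e.toAlgHom).comap (algebraMap R S) = P.comap (algebraMap R S') := by
    ext r; simp
  rw [h3] at h2
  simpa using h2

theorem unramifiedFibres_env (R : Type u) [CommRing R] (K : Type u) [Field K] [Algebra R K] :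
    UnramifiedFibres R (Env R K) := fun P hP z hz => by
  obtain ⟨x, t, ht, hxt⟩ := env_hloc R K z
  obtain ⟨F, x', hx'⟩ := exists_etMap_eq (P := envPairs R K) x
  haveI : Algebra.Etale R (EtProd (envPairs R K ∘ ((↑) : F → EnvIdx R K))) := etale_etProd
  let ι : EtProd (envPairs R K ∘ ((↑) : F → EnvIdx R K)) →ₐ[R] Env R K :=
    (IsScalarTower.toAlgHom R (EnvTop R K) (Env R K)).comp (etMap (P := envPairs R K) ((↑) : F → EnvIdx R K))
  have hxP : ι x' ∈ P := by
    change algebraMap (EnvTop R K) (Env R K) (etMap (P := envPairs R K) ((↑) : F → EnvIdx R K) x') ∈ P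
    rw [hx', ← hxt]
    exact P.mul_mem_right _ hz
  haveI : (P.comap ι).IsPrime := Ideal.comap_isPrime _ _
  obtain ⟨s, hs, hsx⟩ := exists_mul_mem_map_of_etale (R := R) (P.comap ι) (z := x') hxP
  refine ⟨ι s, hs, ?_⟩
  have h2 := Ideal.mem_map_of_mem ι.toRingHom hsx
  rw [Ideal.map_map, show ι.toRingHom.comp (algebraMap R _) = algebraMap R (Env R K) from
    RingHom.ext ι.commutes,
    show (P.comap ι).comap (algebraMap R (EtProd (envPairs R K ∘ ((↑) : F → EnvIdx R K)))) =
      P.comap (algebraMap R (Env R K)) by ext r; simp] at h2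
  have h3 : ι.toRingHom (s * x') = ι s * z * algebraMap (EnvTop R K) (Env R K) t := by
    change ι (s * x') = _
    rw [map_mul, show ι x' = algebraMap (EnvTop R K) (Env R K) x by rw [← hx']; rfl, ← hxt, mul_assoc]
  rw [h3, Ideal.mul_unit_mem_iff_mem _ ht] at h2
  exact h2

theorem henselization_unramifiedFibres (R S : Type u) [CommRing R] [IsLocalRing R] [CommRing S] [IsLocalRing S]
    [Algebra R S] [IsLocalHom (algebraMap R S)] [_root_.Hensel.IsHenselization R S] : UnramifiedFibres R S := by
  obtain ⟨e⟩ := henselization_equiv R S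
  exact (unramifiedFibres_env R (ResidueField R)).of_equiv e.symm

theorem strictHenselization_unramifiedFibres (R S : Type u) [CommRing R] [IsLocalRing R] [CommRing S]
    [IsLocalRing S] [Algebra R S] [IsLocalHom (algebraMap R S)] [_root_.Hensel.IsStrictHenselization R S] :
    UnramifiedFibres R S := by
  obtain ⟨e⟩ := strictHenselization_equiv R S
  exact (unramifiedFibres_env R (SeparableClosure (ResidueField R))).of_equiv e.symm

section

variable {R S : Type u} [CommRing R] [CommRing S] [Algebra R S] (hU : UnramifiedFibres R S)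
  (P : Ideal S) [P.IsPrime]
  [Algebra (Localization.AtPrime (P.comap (algebraMap R S))) (Localization.AtPrime P)]
  [IsScalarTower R (Localization.AtPrime (P.comap (algebraMap R S))) (Localization.AtPrime P)]

include hU

/-- The closed fibre of the localized map is trivial. -/
theorem map_maximalIdeal_localization :
    (maximalIdeal (Localization.AtPrime (P.comap (algebraMap R S)))).map
      (algebraMap _ (Localization.AtPrime P)) = maximalIdeal (Localization.AtPrime P) := by
  rw [← Localization.AtPrime.map_eq_maximalIdeal, Ideal.map_map, ← IsScalarTower.algebraMap_eq,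
    ← Localization.AtPrime.map_eq_maximalIdeal, IsScalarTower.algebraMap_eq R S (Localization.AtPrime P),
    ← Ideal.map_map]
  refine le_antisymm (Ideal.map_mono Ideal.map_comap_le) (Ideal.map_le_iff_le_comap.2 fun z hz => ?_)
  obtain ⟨s, hs, hsz⟩ := hU P ‹_› z hz
  have h := Ideal.mem_map_of_mem (algebraMap S (Localization.AtPrime P)) hsz
  rwa [map_mul, Ideal.unit_mul_mem_iff_mem _ (IsLocalization.map_units (Localization.AtPrime P) (⟨s, hs⟩ : P.primeCompl))] at h

end

/-- The canonical algebra of the localized map. -/
noncomputable abbrev localAlgebra (R : Type u) {S : Type u} [CommRing R] [CommRing S] [Algebra R S] (P : Ideal S)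
    [P.IsPrime] : Algebra (Localization.AtPrime (P.comap (algebraMap R S))) (Localization.AtPrime P) :=
  (Localization.localRingHom (P.comap (algebraMap R S)) P (algebraMap R S) rfl).toAlgebra

theorem localAlgebra_tower (R : Type u) {S : Type u} [CommRing R] [CommRing S] [Algebra R S] (P : Ideal S)
    [P.IsPrime] : letI := localAlgebra R P
    IsScalarTower R (Localization.AtPrime (P.comap (algebraMap R S))) (Localization.AtPrime P) := by
  letI := localAlgebra R P
  refine IsScalarTower.of_algebraMap_eq fun r => ?_
  change _ = Localization.localRingHom (P.comap (algebraMap R S)) P (algebraMap R S) rfl (algebraMap R _ r)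
  rw [Localization.localRingHom_to_map, ← IsScalarTower.algebraMap_apply]

/-- Localizations of a flat map are faithfully flat. -/
theorem localAlgebra_faithfullyFlat (R : Type u) {S : Type u} [CommRing R] [CommRing S] [Algebra R S]
    [Module.Flat R S] (P : Ideal S) [P.IsPrime] : letI := localAlgebra R P
    Module.FaithfullyFlat (Localization.AtPrime (P.comap (algebraMap R S))) (Localization.AtPrime P) := by
  letI := localAlgebra R P
  haveI := localAlgebra_tower R P
  haveI : Module.Flat S (Localization.AtPrime P) := IsLocalization.flat _ P.primeCompl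
  haveI : Module.Flat R (Localization.AtPrime P) := Module.Flat.trans R S _
  haveI : Module.Flat (Localization.AtPrime (P.comap (algebraMap R S))) (Localization.AtPrime P) :=
    (Module.flat_iff_of_isLocalization _ (P.comap (algebraMap R S)).primeCompl _).2 ‹_›
  haveI : IsLocalHom (algebraMap (Localization.AtPrime (P.comap (algebraMap R S))) (Localization.AtPrime P)) :=
    inferInstanceAs (IsLocalHom (Localization.localRingHom (P.comap (algebraMap R S)) P (algebraMap R S) rfl))
  exact Module.FaithfullyFlat.of_flat_of_isLocalHom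

/-- For a flat local map with trivial closed fibre, the closed point is associated above iff below. -/
theorem maximalIdeal_mem_associatedPrimes_iff {A B : Type u} [CommRing A] [IsLocalRing A] [IsNoetherianRing A]
    [CommRing B] [IsLocalRing B] [IsNoetherianRing B] [Algebra A B] [Module.FaithfullyFlat A B]
    (hm : (maximalIdeal A).map (algebraMap A B) = maximalIdeal B) :
    maximalIdeal B ∈ associatedPrimes B B ↔ maximalIdeal A ∈ associatedPrimes A A := by
  refine ⟨fun h => ?_, fun h => ?_⟩
  · obtain ⟨-, z, hz⟩ := isAssociatedPrime_iff.1 h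
    have hz0 : z ≠ 0 := fun h0 => (maximalIdeal.isMaximal B).ne_top ((Ideal.eq_top_iff_one _).2 (by
      rw [hz, Submodule.mem_colon_singleton, h0, smul_zero]; exact Submodule.zero_mem _))
    have hdis : Disjoint (maximalIdeal A : Set A) (nonZeroDivisors A) := by
      rw [Set.disjoint_left]
      intro r hr hr'
      have hreg : IsSMulRegular A r := fun a b hab =>
        (mem_nonZeroDivisors_iff_right.1 hr' (a - b) (by
          change r • a = r • b at hab
          rw [mul_comm, mul_sub, ← smul_eq_mul, ← smul_eq_mul, hab, sub_self])) |> sub_eq_zero.1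
      have hregB : IsSMulRegular B (algebraMap A B r) :=
        hreg.of_flat_of_isBaseChange (IsBaseChange.linearMap A B)
      have hzr : algebraMap A B r • z = 0 := by
        have h1 : algebraMap A B r ∈ maximalIdeal B := hm ▸ Ideal.mem_map_of_mem _ hr
        rw [hz, Submodule.mem_colon_singleton] at h1
        simpa using h1
      exact hz0 (hregB (hzr.trans (smul_zero _).symm))
    obtain ⟨x, hx, hx0⟩ := SetLike.exists_of_lt (Ideal.bot_lt_annihilator_of_disjoint_nonZeroDivisors hdis)
    refine isAssociatedPrime_iff.2 ⟨inferInstance, x, le_antisymm (fun r hr => ?_) ?_⟩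
    · rw [Submodule.mem_colon_singleton, Submodule.mem_bot, smul_eq_mul, mul_comm, ← smul_eq_mul]
      exact Submodule.mem_annihilator.1 hx r hr
    · refine IsLocalRing.le_maximalIdeal fun htop => hx0 ?_
      have h1 : (1 : A) ∈ Submodule.colon (⊥ : Submodule A A) {x} := htop ▸ Submodule.mem_top
      rw [Submodule.mem_colon_singleton, one_smul] at h1
      exact h1
  · obtain ⟨-, x, hx⟩ := isAssociatedPrime_iff.1 h
    refine isAssociatedPrime_iff.2 ⟨inferInstance, algebraMap A B x, le_antisymm ?_ ?_⟩
    · rw [← hm, Ideal.map_le_iff_le_comap]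
      intro r hr
      rw [hx, Submodule.mem_colon_singleton, Submodule.mem_bot, smul_eq_mul] at hr
      rw [Ideal.mem_comap, Submodule.mem_colon_singleton, Submodule.mem_bot, smul_eq_mul, ← map_mul, hr, map_zero]
    · refine IsLocalRing.le_maximalIdeal fun htop => ?_
      have h1 : (1 : B) ∈ Submodule.colon (⊥ : Submodule B B) {algebraMap A B x} := htop ▸ Submodule.mem_top
      rw [Submodule.mem_colon_singleton, Submodule.mem_bot, one_smul,
        map_eq_zero_iff _ (FaithfulSMul.algebraMap_injective A B)] at h1
      refine (maximalIdeal.isMaximal A).ne_top ((Ideal.eq_top_iff_one _).2 ?_)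
      rw [hx, Submodule.mem_colon_singleton, h1, smul_zero]
      exact Submodule.zero_mem _

/-- Associated primes along a flat map with unramified fibres. -/
theorem mem_associatedPrimes_iff_of_unramifiedFibres {R S : Type u} [CommRing R] [IsNoetherianRing R] [CommRing S]
    [IsNoetherianRing S] [Algebra R S] [Module.Flat R S] (hU : UnramifiedFibres R S) (P : Ideal S) [P.IsPrime] :
    P ∈ associatedPrimes S S ↔ P.comap (algebraMap R S) ∈ associatedPrimes R R := by
  letI := localAlgebra R P
  haveI := localAlgebra_tower R P
  haveI := localAlgebra_faithfullyFlat R P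
  have key : ∀ (T : Type u) [CommRing T] [IsNoetherianRing T] (q : Ideal T) [q.IsPrime],
      q ∈ associatedPrimes T T ↔
        maximalIdeal (Localization.AtPrime q) ∈ associatedPrimes (Localization.AtPrime q) (Localization.AtPrime q) := by
    intro T _ _ q _
    have h := Module.associatedPrimes.preimage_comap_associatedPrimes_eq_associatedPrimes_of_isLocalizedModule
      q.primeCompl (Localization.AtPrime q) (Algebra.linearMap T (Localization.AtPrime q))
    rw [← h, Set.mem_preimage,
      show (maximalIdeal (Localization.AtPrime q)).comap (algebraMap T (Localization.AtPrime q)) = q from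
        Localization.AtPrime.under_maximalIdeal]
  rw [key S P, key R _]
  exact maximalIdeal_mem_associatedPrimes_iff (map_maximalIdeal_localization hU P)

/-- Dimension along a flat local map with trivial closed fibre. -/
theorem ringKrullDim_eq_of_map_maximalIdeal {A B : Type u} [CommRing A] [IsLocalRing A] [IsNoetherianRing A]
    [CommRing B] [IsLocalRing B] [IsNoetherianRing B] [Algebra A B] [Module.FaithfullyFlat A B]
    (hm : (maximalIdeal A).map (algebraMap A B) = maximalIdeal B) : ringKrullDim B = ringKrullDim A := by
  haveI : (maximalIdeal B).LiesOver (maximalIdeal A) :=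
    ⟨((maximalIdeal.isMaximal A).eq_of_le (Ideal.comap_ne_top _ (maximalIdeal.isMaximal B).ne_top)
      (Ideal.map_le_iff_le_comap.1 hm.le))⟩
  rw [← IsLocalRing.maximalIdeal_height_eq_ringKrullDim, ← IsLocalRing.maximalIdeal_height_eq_ringKrullDim,
    Ideal.height_eq_height_add_of_liesOver_of_hasGoingDown (maximalIdeal A) (maximalIdeal B),
    show (maximalIdeal B).map (Ideal.Quotient.mk ((maximalIdeal A).map (algebraMap A B))) = ⊥ by
      rw [hm]; exact Ideal.map_quotient_self _]
  haveI : Nontrivial (B ⧸ (maximalIdeal A).map (algebraMap A B)) :=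
    Ideal.Quotient.nontrivial_iff.2 (hm ▸ (maximalIdeal.isMaximal B).ne_top)
  rw [Ideal.height_bot, add_zero]

/-- Regularity along a flat local map with trivial closed fibre. -/
theorem isRegularLocalRing_iff_of_map_maximalIdeal {A B : Type u} [CommRing A] [IsLocalRing A] [IsNoetherianRing A]
    [CommRing B] [IsLocalRing B] [IsNoetherianRing B] [Algebra A B] [Module.FaithfullyFlat A B]
    (hm : (maximalIdeal A).map (algebraMap A B) = maximalIdeal B) : IsRegularLocalRing B ↔ IsRegularLocalRing A := by
  haveI : IsLocalHom (algebraMap A B) := ((local_hom_TFAE (algebraMap A B)).out 2 0).1 hm.le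
  refine ⟨fun _ => SerreReg.isRegularLocalRing_of_flat A B, fun h => ?_⟩
  refine IsRegularLocalRing.of_spanFinrank_maximalIdeal_le _ ?_
  rw [← hm, ringKrullDim_eq_of_map_maximalIdeal hm, ← IsRegularLocalRing.spanFinrank_maximalIdeal (R := A)]
  exact_mod_cast Ideal.spanFinrank_map_le_of_fg _ (IsNoetherian.noetherian _)

/-- The localization of a ring as a module is the localized ring. -/
noncomputable def localizedSelfEquiv (T : Type u) [CommRing T] (q : Ideal T) [q.IsPrime] :
    LocalizedModule q.primeCompl T ≃ₗ[Localization.AtPrime q] Localization.AtPrime q :=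
  LinearEquiv.extendScalarsOfIsLocalization q.primeCompl (Localization.AtPrime q)
    (IsLocalizedModule.linearEquiv q.primeCompl (LocalizedModule.mkLinearMap q.primeCompl T)
      (Algebra.linearMap T (Localization.AtPrime q)))

/-- Serre's condition as a condition on local rings. -/
theorem hasSk_self_iff (k : ℕ) (T : Type u) [CommRing T] : LocCoh.HasSk k T T ↔ ∀ (q : Ideal T) [q.IsPrime],
    min (k : WithBot ℕ∞) (ringKrullDim (Localization.AtPrime q)) ≤
      ((LocCoh.depth (Localization.AtPrime q) (Localization.AtPrime q) : ℕ∞) : WithBot ℕ∞) := by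
  refine forall₂_congr fun q hq => ?_
  rw [Module.supportDim_eq_of_equiv (localizedSelfEquiv T q), Module.supportDim_self_eq_ringKrullDim,
    LocCoh.depth, LocH.idealDepth_congr (localizedSelfEquiv T q)]

section

variable {R S : Type u} [CommRing R] [IsNoetherianRing R] [CommRing S] [IsNoetherianRing S] [Algebra R S]
  [Module.FaithfullyFlat R S] (hU : UnramifiedFibres R S)

include hU

theorem hasSk_iff_of_unramifiedFibres (k : ℕ) : LocCoh.HasSk k S S ↔ LocCoh.HasSk k R R := by
  rw [hasSk_self_iff, hasSk_self_iff]
  have key : ∀ (P : Ideal S) [P.IsPrime],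
      (min (k : WithBot ℕ∞) (ringKrullDim (Localization.AtPrime P)) ≤
        ((LocCoh.depth (Localization.AtPrime P) (Localization.AtPrime P) : ℕ∞) : WithBot ℕ∞)) ↔
      (min (k : WithBot ℕ∞) (ringKrullDim (Localization.AtPrime (P.comap (algebraMap R S)))) ≤
        ((LocCoh.depth (Localization.AtPrime (P.comap (algebraMap R S)))
          (Localization.AtPrime (P.comap (algebraMap R S))) : ℕ∞) : WithBot ℕ∞)) := fun P _ => by
    letI := localAlgebra R P
    haveI := localAlgebra_tower R P
    haveI := localAlgebra_faithfullyFlat R P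
    rw [ringKrullDim_eq_of_map_maximalIdeal (map_maximalIdeal_localization hU P),
      depth_eq_of_map_maximalIdeal (map_maximalIdeal_localization hU P)]
  refine ⟨fun h p hp => ?_, fun h P hP => (key P).2 (h _)⟩
  obtain ⟨P, hP⟩ := PrimeSpectrum.comap_surjective_of_faithfullyFlat (B := S) (⟨p, hp⟩ : PrimeSpectrum R)
  have hPp : P.asIdeal.comap (algebraMap R S) = p := congrArg PrimeSpectrum.asIdeal hP
  subst hPp
  exact (key P.asIdeal).1 (h _)

theorem hasRk_iff_of_unramifiedFibres (k : ℕ) : LocCoh.HasRk k S ↔ LocCoh.HasRk k R := by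
  have key : ∀ (P : Ideal S) [P.IsPrime],
      (IsRegularLocalRing (Localization.AtPrime P) ↔
        IsRegularLocalRing (Localization.AtPrime (P.comap (algebraMap R S)))) ∧
      P.height = (P.comap (algebraMap R S)).height := fun P _ => by
    letI := localAlgebra R P
    haveI := localAlgebra_tower R P
    haveI := localAlgebra_faithfullyFlat R P
    have h := ringKrullDim_eq_of_map_maximalIdeal (map_maximalIdeal_localization hU P)
    rw [IsLocalization.AtPrime.ringKrullDim_eq_height P, IsLocalization.AtPrime.ringKrullDim_eq_height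
      (P.comap (algebraMap R S))] at h
    exact ⟨isRegularLocalRing_iff_of_map_maximalIdeal (map_maximalIdeal_localization hU P), by exact_mod_cast h⟩
  refine ⟨fun h p hp hk => ?_, fun h P hP hk => (key P).1.2 (h _ ((key P).2 ▸ hk))⟩
  obtain ⟨P, hP⟩ := PrimeSpectrum.comap_surjective_of_faithfullyFlat (B := S) (⟨p, hp⟩ : PrimeSpectrum R)
  have hPp : P.asIdeal.comap (algebraMap R S) = p := congrArg PrimeSpectrum.asIdeal hP
  subst hPp
  exact (key P.asIdeal).1.1 (h _ ((key P.asIdeal).2.symm ▸ hk))

end

end Groth.Agent.Hensel
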