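import Groth.Agent.Hensel.Decomp

/-!
Étale algebras over strictly henselian rings: points are detected over any local algebra.
-/

set_option autoImplicit false

namespace Groth.Agent.Hensel

universe u

open IsLocalRing
open scoped TensorProduct

/-- Points of an unramified algebra in a residue extension are rational over a separably closed residue field. -/
theorem exists_algHom_residue (R : Type u) [CommRing R] [IsLocalRing R] [IsSepClosed (ResidueField R)]
    (E : Type u) [CommRing E] [Algebra R E] [Algebra.Unramified R E] (L : Type u) [Field L]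
    [Algebra R L] [Algebra (ResidueField R) L] [IsScalarTower R (ResidueField R) L] (g : E →ₐ[R] L) :
    ∃ σ : E →ₐ[R] ResidueField R, ∀ x, algebraMap (ResidueField R) L (σ x) = g x := by
  let κ := ResidueField R
  let g' : κ ⊗[R] E →ₐ[κ] L := Algebra.TensorProduct.lift (Algebra.ofId κ L) g fun _ _ => .all _ _
  haveI : Algebra.FormallyUnramified κ g'.range :=
    Algebra.FormallyUnramified.of_surjective g'.rangeRestrict g'.rangeRestrict_surjective
  haveI : Algebra.FiniteType κ g'.range :=
    Algebra.FiniteType.of_surjective g'.rangeRestrict g'.rangeRestrict_surjective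
  haveI : Module.Finite κ g'.range := Algebra.FormallyUnramified.finite_of_free κ _
  letI : Field g'.range := (isField_of_isIntegral_of_isField' (Field.toIsField κ)).toField
  haveI : Algebra.IsSeparable κ g'.range := Algebra.FormallyUnramified.isSeparable κ g'.range
  let e : κ ≃ₐ[κ] g'.range := AlgEquiv.ofBijective (Algebra.ofId κ g'.range)
    ⟨(algebraMap κ g'.range).injective, IsSepClosed.algebraMap_surjective κ g'.range⟩
  refine ⟨((e.symm.toAlgHom.comp g'.rangeRestrict).restrictScalars R).comp Algebra.TensorProduct.includeRight,
    fun x => ?_⟩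
  have h1 : e (e.symm (g'.rangeRestrict (1 ⊗ₜ x))) = g'.rangeRestrict (1 ⊗ₜ x) := e.apply_symm_apply _
  have h2 := congrArg Subtype.val h1
  change algebraMap κ L (e.symm (g'.rangeRestrict (1 ⊗ₜ x))) = g' (1 ⊗ₜ x) at h2
  simp only [g', Algebra.TensorProduct.lift_tmul, map_one, one_mul] at h2
  exact h2

/-- Points of an étale algebra over a strictly henselian ring in a local algebra. -/
theorem bijective_comp_of_strict (R : Type u) [CommRing R] [HenselianLocalRing R] [IsSepClosed (ResidueField R)]
    (S : Type u) [CommRing S] [IsLocalRing S] [Algebra R S] [IsLocalHom (algebraMap R S)]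
    (E : Type u) [CommRing E] [Algebra R E] [Algebra.Etale R E] :
    Function.Bijective (fun f : E →ₐ[R] R => (Algebra.ofId R S).comp f) := by
  haveI : Algebra.Unramified R E := ⟨inferInstance, inferInstance⟩
  refine ⟨fun f f' h => ?_, fun g => ?_⟩
  · refine algHom_eq_of_unramified (maximalIdeal_le_jacobson ⊥) f f' fun x => ?_
    have h1 : algebraMap R S (f x - f' x) = 0 := by
      rw [map_sub, sub_eq_zero]; exact AlgHom.congr_fun h x
    exact (mem_maximalIdeal _).2 fun hu => not_isUnit_zero (h1 ▸ hu.map _)
  · obtain ⟨σ, hσ⟩ := exists_algHom_residue R E (ResidueField S) ((IsScalarTower.toAlgHom R S _).comp g)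
    have hK : HenselianRing R (RingHom.ker (IsScalarTower.toAlgHom R R (ResidueField R)).toRingHom) := by
      have : RingHom.ker (IsScalarTower.toAlgHom R R (ResidueField R)).toRingHom = maximalIdeal R := ker_residue (R := R)
      rw [this]; infer_instance
    obtain ⟨f, hf, -⟩ := existsUnique_algHom_of_quotient (IsScalarTower.toAlgHom R R (ResidueField R))
      residue_surjective hK σ
    refine ⟨f, algHom_eq_of_unramified (maximalIdeal_le_jacobson ⊥) _ g fun x => ?_⟩
    rw [← residue_eq_zero_iff, map_sub, sub_eq_zero]
    change residue S (algebraMap R S (f x)) = residue S (g x)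
    rw [← ResidueField.algebraMap_residue]
    have h1 : residue R (f x) = σ x := AlgHom.congr_fun hf x
    rw [h1, hσ]; rfl

end Groth.Agent.Hensel
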