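import Groth.Agent.Hensel.BranchCount
import Mathlib.FieldTheory.PurelyInseparable.Basic
import Mathlib.FieldTheory.IsAlgClosed.AlgebraicClosure

/-!
The number of geometric branches is the number of minimal primes of the strict henselization.
-/

set_option autoImplicit false

namespace Groth.Agent.Hensel

universe u

open IsLocalRing TensorProduct

variable {A : Type u} [CommRing A] [IsLocalRing A] {S : Type u} [CommRing S] [IsLocalRing S] [Algebra A S]
  [IsLocalHom (algebraMap A S)]

theorem isIntegral_residueField_strict [_root_.Hensel.IsStrictHenselization A S] :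
    Algebra.IsIntegral A (ResidueField S) := by
  haveI : Algebra.IsSeparable (ResidueField A) (ResidueField S) :=
    (_root_.Hensel.IsStrictHenselization.isSepClosure (R := A) (S := S)).separable
  haveI : Algebra.IsAlgebraic (ResidueField A) (ResidueField S) := inferInstance
  haveI : Algebra.IsIntegral A (ResidueField A) :=
    Algebra.IsIntegral.of_surjective (IsScalarTower.toAlgHom A A (ResidueField A)) residue_surjective
  exact Algebra.IsIntegral.trans (ResidueField A)

section Point

variable {N : Type u} [CommRing N] [Algebra A N] [Algebra.IsIntegral A N]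

/-- A strict henselization of a point of an integral algebra is the local ring at any given point above it. -/
theorem isDomain_atPrime_strict_aux [_root_.Hensel.IsStrictHenselization A S] (q : Ideal N) [q.IsMaximal]
    [q.LiesOver (maximalIdeal A)] (M : Ideal (S ⊗[A] N)) [M.IsMaximal]
    (hMS : M.comap (algebraMap S (S ⊗[A] N)) = maximalIdeal S)
    (hMq : M.comap (Algebra.TensorProduct.includeRight : N →ₐ[A] S ⊗[A] N).toRingHom = q)
    (Sh : Type u) [CommRing Sh] [IsLocalRing Sh] [Algebra (Localization.AtPrime q) Sh]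
    [IsLocalHom (algebraMap (Localization.AtPrime q) Sh)]
    [hSh : _root_.Hensel.IsStrictHenselization (Localization.AtPrime q) Sh] [IsDomain Sh] :
    IsDomain (Localization.AtPrime M) := by
  letI : Algebra N Sh := ((algebraMap (Localization.AtPrime q) Sh).comp (algebraMap _ _)).toAlgebra
  haveI : IsScalarTower N (Localization.AtPrime q) Sh := IsScalarTower.of_algebraMap_eq fun _ => rfl
  letI : Algebra A Sh := ((algebraMap N Sh).comp (algebraMap A _)).toAlgebra
  haveI : IsScalarTower A N Sh := IsScalarTower.of_algebraMap_eq fun _ => rfl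
  haveI : HenselianLocalRing Sh := hSh.henselian
  haveI : HenselianLocalRing S := _root_.Hensel.IsStrictHenselization.henselian (R := A)
  letI : Algebra (Localization.AtPrime (maximalIdeal A)) S := atMaximalAlgebra A S
  haveI : IsScalarTower A (Localization.AtPrime (maximalIdeal A)) S :=
    IsScalarTower.of_algebraMap_eq fun a => (IsLocalization.lift_eq _ a).symm
  haveI := isLocalHom_atMaximal A S
  haveI := isStrictHenselization_atMaximal A S
  have hpt : (maximalIdeal Sh).comap (algebraMap A Sh) = maximalIdeal A := by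
    rw [IsScalarTower.algebraMap_eq A N Sh, ← Ideal.comap_comap, comap_point (p := q) Sh]
    exact (q.over_def (maximalIdeal A)).symm
  haveI : IsLocalHom (algebraMap A Sh) := ((local_hom_TFAE (algebraMap A Sh)).out 0 4).2 hpt
  haveI : IsSepClosed (ResidueField Sh) := hSh.isSepClosure.sep_closed
  haveI : Algebra.IsSeparable (ResidueField A) (ResidueField S) :=
    (_root_.Hensel.IsStrictHenselization.isSepClosure (R := A) (S := S)).separable
  haveI := isIntegral_residueField_strict (A := A) (S := S)
  letI := Ideal.Quotient.field M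
  letI := Ideal.Quotient.field q
  set Ω := AlgebraicClosure (ResidueField Sh)
  let h : N →+* Ω := (algebraMap (ResidueField Sh) Ω).comp ((residue Sh).comp (algebraMap N Sh))
  have hq0 : ∀ r ∈ q, h r = 0 := fun r hr => by
    rw [← comap_point (p := q) Sh, Ideal.mem_comap, ← residue_eq_zero_iff] at hr
    simp [h, hr]
  letI : Algebra (N ⧸ q) Ω := (Ideal.Quotient.lift q h hq0).toAlgebra
  let εN : N →ₐ[A] (S ⊗[A] N) ⧸ M := (Ideal.Quotient.mkₐ A M).comp Algebra.TensorProduct.includeRight
  let εN' : N ⧸ q →+* (S ⊗[A] N) ⧸ M := Ideal.Quotient.lift q εN.toRingHom fun r hr => by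
    rw [← hMq] at hr
    exact Ideal.Quotient.eq_zero_iff_mem.2 hr
  letI : Algebra (N ⧸ q) ((S ⊗[A] N) ⧸ M) := εN'.toAlgebra
  haveI : IsScalarTower A (N ⧸ q) ((S ⊗[A] N) ⧸ M) :=
    IsScalarTower.of_algebraMap_eq fun a => (εN.commutes a).symm
  let εS : ResidueField S →+* (S ⊗[A] N) ⧸ M := Ideal.Quotient.lift (maximalIdeal S)
    ((Ideal.Quotient.mk M).comp (algebraMap S (S ⊗[A] N))) fun s hs => by
      rw [← hMS] at hs
      exact Ideal.Quotient.eq_zero_iff_mem.2 hs
  let εSₐ : ResidueField S →ₐ[A] (S ⊗[A] N) ⧸ M := { εS with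
    commutes' := fun a => congrArg (Ideal.Quotient.mk M) (IsScalarTower.algebraMap_apply A S (S ⊗[A] N) a).symm }
  haveI : Algebra.IsIntegral A ((S ⊗[A] N) ⧸ M) := ⟨fun y => by
    obtain ⟨z, rfl⟩ := Ideal.Quotient.mk_surjective y
    induction z using TensorProduct.induction_on with
    | zero => rw [map_zero]; exact isIntegral_zero
    | add a b ha hb => rw [map_add]; exact ha.add hb
    | tmul s r =>
      rw [show s ⊗ₜ[A] r = algebraMap S (S ⊗[A] N) s * ((1 : S) ⊗ₜ[A] r) by simp, map_mul]
      exact ((Algebra.IsIntegral.isIntegral (R := A) (residue S s)).map εSₐ).mul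
        ((Algebra.IsIntegral.isIntegral (R := A) r).map εN)⟩
  haveI : Algebra.IsIntegral (N ⧸ q) ((S ⊗[A] N) ⧸ M) := Algebra.IsIntegral.tower_top A
  haveI : Algebra.IsAlgebraic (N ⧸ q) ((S ⊗[A] N) ⧸ M) := Algebra.IsIntegral.isAlgebraic
  let ι : (S ⊗[A] N) ⧸ M →ₐ[N ⧸ q] Ω := IsAlgClosed.lift
  have hιN : ∀ r, ι (Ideal.Quotient.mk M ((1 : S) ⊗ₜ[A] r)) = h r := fun r => ι.commutes (Ideal.Quotient.mk q r)
  let φ : ResidueField S →ₐ[ResidueField A] Ω := { ι.toRingHom.comp εS with
    commutes' := fun c => by
      obtain ⟨a, rfl⟩ := residue_surjective c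
      change ι (εS (algebraMap (ResidueField A) (ResidueField S) (residue A a))) = _
      rw [ResidueField.algebraMap_residue, show εS (residue S (algebraMap A S a)) = Ideal.Quotient.mk M
        ((1 : S) ⊗ₜ[A] algebraMap A N a) from congrArg (Ideal.Quotient.mk M) (by
          rw [← IsScalarTower.algebraMap_apply]
          exact ((Algebra.TensorProduct.includeRight (R := A) (A := S)).commutes a).symm), hιN,
        IsScalarTower.algebraMap_apply (ResidueField A) (ResidueField Sh) Ω, ResidueField.algebraMap_residue]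
      rfl }
  have hmem : ∀ y, φ y ∈ (algebraMap (ResidueField Sh) Ω).range := fun y =>
    IsPurelyInseparable.inseparable (ResidueField Sh) (φ y)
      (IsSeparable.tower_top (F := ResidueField A) _
        ((Algebra.IsSeparable.isSeparable (ResidueField A) y).map φ φ.toRingHom.injective))
  let e := RingEquiv.ofBijective (algebraMap (ResidueField Sh) Ω).rangeRestrict
    ⟨fun x y hxy => (algebraMap (ResidueField Sh) Ω).injective (congrArg Subtype.val hxy),
      RingHom.rangeRestrict_surjective _⟩
  let τ : ResidueField S →+* ResidueField Sh := e.symm.toRingHom.comp (φ.toRingHom.codRestrict _ hmem)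
  have hτ : ∀ y, algebraMap (ResidueField Sh) Ω (τ y) = φ y := fun y =>
    congrArg Subtype.val (e.apply_symm_apply ⟨φ y, hmem y⟩)
  obtain ⟨g, ⟨hg, hgr⟩, -⟩ := strict_lift (p := maximalIdeal A) S (algebraMap A Sh) hpt τ fun a =>
    (algebraMap (ResidueField Sh) Ω).injective (by
      rw [hτ, ← ResidueField.algebraMap_residue, φ.commutes,
        IsScalarTower.algebraMap_apply (ResidueField A) (ResidueField Sh) Ω, ResidueField.algebraMap_residue])
  letI : Algebra S Sh := g.toAlgebra
  haveI : IsScalarTower A S Sh := IsScalarTower.of_algebraMap_eq' hg.symm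
  have hQM : tPoint A N S Sh = M := by
    have hz : ∀ z, algebraMap (ResidueField Sh) Ω (residue Sh (tLift A N S Sh z)) = ι (Ideal.Quotient.mk M z) := by
      intro z
      induction z using TensorProduct.induction_on with
      | zero => simp
      | add a b ha hb => simp only [map_add, ha, hb]
      | tmul s r =>
        rw [show s ⊗ₜ[A] r = algebraMap S (S ⊗[A] N) s * ((1 : S) ⊗ₜ[A] r) by simp, map_mul, map_mul, map_mul,
          map_mul, map_mul, hιN, show tLift A N S Sh (algebraMap S _ s) = g s by simp [tLift, RingHom.algebraMap_toAlgebra],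
          show tLift A N S Sh ((1 : S) ⊗ₜ[A] r) = algebraMap N Sh r by simp [tLift], hgr, hτ]
        rfl
    ext z
    rw [Ideal.mem_comap, ← residue_eq_zero_iff, ← Ideal.Quotient.eq_zero_iff_mem,
      ← (algebraMap (ResidueField Sh) Ω).injective.eq_iff, ← ι.toRingHom.injective.eq_iff, map_zero, map_zero]
    exact Iff.of_eq (congrArg (· = 0) (hz z))
  subst hQM
  haveI := isIntegral_tPoint A N (maximalIdeal A) q S Sh (strictHenselization_map_maximalIdeal _ S) (exists_finite_stage q)
  obtain ⟨e'⟩ := nonempty_strictEquiv_of_isIntegral A N (maximalIdeal A) q S Sh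
  exact e'.toMulEquiv.isDomain _

theorem isDomain_atPrime_strict [_root_.Hensel.IsStrictHenselization A S] (q : Ideal N) [q.IsMaximal]
    [q.LiesOver (maximalIdeal A)] (M : Ideal (S ⊗[A] N)) [M.IsMaximal]
    (hMS : M.comap (algebraMap S (S ⊗[A] N)) = maximalIdeal S)
    (hMq : M.comap (Algebra.TensorProduct.includeRight : N →ₐ[A] S ⊗[A] N).toRingHom = q)
    [IsDomain (Localization.AtPrime q)] [IsIntegrallyClosed (Localization.AtPrime q)] :
    IsDomain (Localization.AtPrime M) := by
  obtain ⟨hloc, hSh⟩ := exists_strictHenselization (Localization.AtPrime q)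
  haveI := hloc
  haveI := hSh
  haveI := ((strictHenselization_normal_iff (Localization.AtPrime q)
    (Env (Localization.AtPrime q) (SeparableClosure (ResidueField (Localization.AtPrime q))))).2
      ⟨inferInstance, inferInstance⟩).1
  exact isDomain_atPrime_strict_aux q M hMS hMq
    (Env (Localization.AtPrime q) (SeparableClosure (ResidueField (Localization.AtPrime q))))

end Point

set_option synthInstance.maxHeartbeats 1000000 in
/-- Maximal ideals of the base-changed normalisation are the pairs (maximal ideal, embedding). -/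
theorem card_maximal_strict [_root_.Hensel.IsStrictHenselization A S] :
    ENat.card (MaximalSpectrum (brTensor A S)) =
      ENat.card (Σ m' : MaximalSpectrum (CAlg2.normRed A), Brnch.Emb A m') := by
  haveI := isIntegral_normRed A
  haveI := isIntegral_brTensor (A := A) (S := S)
  haveI : IsSepClosed (ResidueField S) :=
    (_root_.Hensel.IsStrictHenselization.isSepClosure (R := A) (S := S)).sep_closed
  haveI : Algebra.IsSeparable (ResidueField A) (ResidueField S) :=
    (_root_.Hensel.IsStrictHenselization.isSepClosure (R := A) (S := S)).separable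
  set Ω := AlgebraicClosure (ResidueField A)
  let j : ResidueField S →ₐ[ResidueField A] Ω := IsSepClosed.lift
  let fS : S →ₐ[A] Ω :=
    { j.toRingHom.comp (residue S) with
      commutes' := fun a => by
        change j (residue S (algebraMap A S a)) = _
        rw [← ResidueField.algebraMap_residue, j.commutes, IsScalarTower.algebraMap_apply A (ResidueField A) Ω]
        rfl }
  have hclos : Brnch.toClosure A = algebraMap A Ω := (IsScalarTower.algebraMap_eq A (ResidueField A) Ω).symm
  let fN : (Σ m' : MaximalSpectrum (CAlg2.normRed A), Brnch.Emb A m') → (CAlg2.normRed A →ₐ[A] Ω) := fun x =>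
    { x.2.1.comp (Ideal.Quotient.mk x.1.asIdeal) with
      commutes' := fun a => (RingHom.congr_fun x.2.2 a).trans (RingHom.congr_fun hclos a) }
  let Θ : (Σ m' : MaximalSpectrum (CAlg2.normRed A), Brnch.Emb A m') → (brTensor A S →ₐ[A] Ω) := fun x =>
    Algebra.TensorProduct.lift fS (fN x) fun _ _ => Commute.all _ _
  have hΘS : ∀ x s, Θ x (algebraMap S (brTensor A S) s) = j (residue S s) := fun x s => by simp [Θ, fS]
  have hΘN : ∀ x r, Θ x ((1 : S) ⊗ₜ[A] r) = x.2.1 (Ideal.Quotient.mk _ r) := fun x r => by
    simp [Θ, fN]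
    all_goals rfl
  have hΘm : ∀ x, (RingHom.ker (Θ x).toRingHom).IsMaximal := fun x => by
    haveI := RingHom.ker_isPrime (Θ x).toRingHom
    refine Ideal.isMaximal_of_isIntegral_of_isMaximal_comap (R := S) _ ?_
    rw [RingHom.comap_ker, show RingHom.ker ((Θ x).toRingHom.comp (algebraMap S _)) = maximalIdeal S by
      rw [show (Θ x).toRingHom.comp (algebraMap S _) = j.toRingHom.comp (residue S) from RingHom.ext (hΘS x),
        RingHom.ker_comp_of_injective _ j.toRingHom.injective, ker_residue]]
    exact maximalIdeal.isMaximal S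
  let F : (Σ m' : MaximalSpectrum (CAlg2.normRed A), Brnch.Emb A m') → MaximalSpectrum (brTensor A S) := fun x =>
    ⟨RingHom.ker (Θ x).toRingHom, hΘm x⟩
  refine (ENat.card_congr (Equiv.ofBijective F ⟨?_, ?_⟩)).symm
  · rintro ⟨m, σ⟩ ⟨m', σ'⟩ hF
    have hk : RingHom.ker (Θ ⟨m, σ⟩).toRingHom = RingHom.ker (Θ ⟨m', σ'⟩).toRingHom :=
      congrArg MaximalSpectrum.asIdeal hF
    have hm : ∀ (x : Σ m' : MaximalSpectrum (CAlg2.normRed A), Brnch.Emb A m') r,
        r ∈ x.1.asIdeal ↔ (1 : S) ⊗ₜ[A] r ∈ RingHom.ker (Θ x).toRingHom := fun x r => by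
      haveI := x.1.isMaximal
      letI := Ideal.Quotient.field x.1.asIdeal
      rw [RingHom.mem_ker, show (Θ x).toRingHom ((1 : S) ⊗ₜ[A] r) = x.2.1 (Ideal.Quotient.mk _ r) from hΘN x r,
        map_eq_zero, Ideal.Quotient.eq_zero_iff_mem]
    obtain rfl : m = m' := MaximalSpectrum.ext (Ideal.ext fun r => by
      rw [hm ⟨m, σ⟩ r, hm ⟨m', σ'⟩ r, hk])
    haveI := hΘm ⟨m, σ⟩
    set M := RingHom.ker (Θ ⟨m, σ⟩).toRingHom with hM
    letI := Ideal.Quotient.field M
    haveI := isIntegral_residueField_strict (A := A) (S := S)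
    let εS : ResidueField S →+* brTensor A S ⧸ M := Ideal.Quotient.lift (maximalIdeal S)
      ((Ideal.Quotient.mk M).comp (algebraMap S (brTensor A S))) fun s hs => by
        rw [RingHom.comp_apply, Ideal.Quotient.eq_zero_iff_mem, hM, RingHom.mem_ker]
        exact (hΘS _ s).trans (by rw [(residue_eq_zero_iff s).2 hs, map_zero])
    letI : Algebra (ResidueField S) (brTensor A S ⧸ M) := εS.toAlgebra
    haveI : IsScalarTower S (ResidueField S) (brTensor A S ⧸ M) := IsScalarTower.of_algebraMap_eq fun _ => rfl
    haveI : Algebra.IsIntegral S (brTensor A S ⧸ M) :=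
      Algebra.IsIntegral.of_surjective (Ideal.Quotient.mkₐ S M) Ideal.Quotient.mk_surjective
    haveI : Algebra.IsIntegral (ResidueField S) (brTensor A S ⧸ M) := Algebra.IsIntegral.tower_top S
    haveI : Algebra.IsAlgebraic (ResidueField S) (brTensor A S ⧸ M) := Algebra.IsIntegral.isAlgebraic
    haveI : IsDomain (brTensor A S ⧸ M) := Ideal.Quotient.isDomain M
    haveI : IsPurelyInseparable (ResidueField S) (brTensor A S ⧸ M) :=
      Algebra.IsAlgebraic.isPurelyInseparable_of_isSepClosed
    let ψ₁ : brTensor A S ⧸ M →+* Ω := Ideal.Quotient.lift M (Θ ⟨m, σ⟩).toRingHom fun _ hx => hx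
    let ψ₂ : brTensor A S ⧸ M →+* Ω := Ideal.Quotient.lift M (Θ ⟨m, σ'⟩).toRingHom fun _ hx => hk.le hx
    have hψ : ψ₁ = ψ₂ := IsPurelyInseparable.injective_comp_algebraMap (ResidueField S) _ Ω (RingHom.ext fun y => by
      obtain ⟨s, rfl⟩ := residue_surjective y
      exact (hΘS ⟨m, σ⟩ s).trans (hΘS ⟨m, σ'⟩ s).symm)
    refine congrArg (Sigma.mk m) (Subtype.ext (Ideal.Quotient.ringHom_ext (RingHom.ext fun r => ?_)))
    exact ((hΘN ⟨m, σ⟩ r).symm.trans (RingHom.congr_fun hψ (Ideal.Quotient.mk M ((1 : S) ⊗ₜ[A] r)))).trans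
      (hΘN ⟨m, σ'⟩ r)
  · intro M
    haveI := M.isMaximal
    letI := Ideal.Quotient.field M.asIdeal
    obtain ⟨hMS, hqm, -⟩ := comap_maximal_brTensor M.asIdeal
    let εS : ResidueField S →+* brTensor A S ⧸ M.asIdeal := Ideal.Quotient.lift (maximalIdeal S)
      ((Ideal.Quotient.mk M.asIdeal).comp (algebraMap S (brTensor A S))) fun s hs => by
        rw [RingHom.comp_apply, Ideal.Quotient.eq_zero_iff_mem, ← Ideal.mem_comap, hMS]
        exact hs
    letI : Algebra (ResidueField S) (brTensor A S ⧸ M.asIdeal) := εS.toAlgebra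
    haveI : IsScalarTower S (ResidueField S) (brTensor A S ⧸ M.asIdeal) :=
      IsScalarTower.of_algebraMap_eq fun _ => rfl
    haveI : Algebra.IsIntegral S (brTensor A S ⧸ M.asIdeal) :=
      Algebra.IsIntegral.of_surjective (Ideal.Quotient.mkₐ S M.asIdeal) Ideal.Quotient.mk_surjective
    haveI : Algebra.IsIntegral (ResidueField S) (brTensor A S ⧸ M.asIdeal) := Algebra.IsIntegral.tower_top S
    haveI : Algebra.IsAlgebraic (ResidueField S) (brTensor A S ⧸ M.asIdeal) := Algebra.IsIntegral.isAlgebraic
    letI : Algebra (ResidueField S) Ω := j.toRingHom.toAlgebra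
    let ι : brTensor A S ⧸ M.asIdeal →ₐ[ResidueField S] Ω := IsAlgClosed.lift
    set m : MaximalSpectrum (CAlg2.normRed A) :=
      ⟨M.asIdeal.comap (Algebra.TensorProduct.includeRight : CAlg2.normRed A →ₐ[A] brTensor A S).toRingHom, hqm⟩
      with hmdef
    let σ : CAlg2.normRed A ⧸ m.asIdeal →+* Ω := Ideal.Quotient.lift m.asIdeal
      (ι.toRingHom.comp ((Ideal.Quotient.mk M.asIdeal).comp
        (Algebra.TensorProduct.includeRight : CAlg2.normRed A →ₐ[A] brTensor A S).toRingHom)) fun r hr => by
      have h0 : Ideal.Quotient.mk M.asIdeal ((1 : S) ⊗ₜ[A] r) = 0 := Ideal.Quotient.eq_zero_iff_mem.2 hr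
      exact (congrArg ι h0).trans (map_zero ι)
    have hσ : σ.comp (Brnch.toResidue A m) = Brnch.toClosure A := by
      ext a
      rw [hclos]
      change ι (Ideal.Quotient.mk M.asIdeal ((1 : S) ⊗ₜ[A] algebraMap A (CAlg2.normRed A) a)) = _
      rw [show (1 : S) ⊗ₜ[A] algebraMap A (CAlg2.normRed A) a = algebraMap S (brTensor A S) (algebraMap A S a) by
        rw [← IsScalarTower.algebraMap_apply]
        exact (Algebra.TensorProduct.includeRight (R := A) (A := S)).commutes a]
      exact (ι.commutes (residue S (algebraMap A S a))).trans (fS.commutes a)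
    refine ⟨⟨m, σ, hσ⟩, MaximalSpectrum.ext (Ideal.ext fun z => ?_)⟩
    have hz : ∀ z, Θ ⟨m, σ, hσ⟩ z = ι (Ideal.Quotient.mk M.asIdeal z) := by
      intro z
      induction z using TensorProduct.induction_on with
      | zero => simp
      | add a b ha hb => simp only [map_add, ha, hb]
      | tmul s r =>
        rw [show s ⊗ₜ[A] r = algebraMap S (brTensor A S) s * ((1 : S) ⊗ₜ[A] r) by simp, map_mul, map_mul, map_mul,
          hΘS, hΘN]
        congr 1
        exact (ι.commutes (residue S s)).symm
    change Θ ⟨m, σ, hσ⟩ z = 0 ↔ _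
    rw [hz]
    exact (map_eq_zero_iff ι ι.toRingHom.injective).trans Ideal.Quotient.eq_zero_iff_mem

/-- Minimal primes of a strict henselization count geometric branches. -/
theorem card_minimalPrimes_strictHenselization [_root_.Hensel.IsStrictHenselization A S] :
    ENat.card (minimalPrimes S) = Brnch.numGeomBranches A := by
  classical
  haveI := strictHenselization_faithfullyFlat A S
  haveI : HenselianLocalRing S := _root_.Hensel.IsStrictHenselization.henselian (R := A)
  unfold Brnch.numGeomBranches
  split_ifs with hfin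
  · rw [← card_maximal_strict (A := A) (S := S), ← card_minimalPrimes_eq_maximal fun M _ => by
      haveI := isIntegral_normRed A
      obtain ⟨hMS, hqm, hqo⟩ := comap_maximal_brTensor M
      haveI := hqm
      haveI := hqo
      obtain ⟨_, _⟩ := normal_atPrime_normRed A hfin
        (M.comap (Algebra.TensorProduct.includeRight : CAlg2.normRed A →ₐ[A] brTensor A S).toRingHom)
      exact isDomain_atPrime_strict (A := A) (S := S)
        (M.comap (Algebra.TensorProduct.includeRight : CAlg2.normRed A →ₐ[A] brTensor A S).toRingHom) M hMS rfl]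
    exact ENat.card_congr (bijOn_minimalPrimes hfin).equiv.symm
  · haveI : Infinite (minimalPrimes A) := Set.infinite_coe_iff.2 hfin
    choose T hT hTp using fun p : minimalPrimes A => exists_minimal_comap_eq (A := A) (S := S) p.2
    haveI : Infinite (minimalPrimes S) := Infinite.of_injective (fun p => (⟨T p, hT p⟩ : minimalPrimes S))
      fun p p' h => Subtype.ext (by
        have h' : T p = T p' := congrArg Subtype.val h
        rw [← hTp p, ← hTp p', h'])
    exact ENat.card_eq_top_of_infinite

end Groth.Agent.Hensel
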