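import Groth.Prelude.Def_Hens2
import Groth.Prelude.Def_EssEt
import Groth.Agent.Hensel.HenselizationProps

/-!
The henselization of a local ring as henselization of a pair; quotients; essentially étale local algebras.
-/

set_option autoImplicit false

namespace Groth.Agent.Hensel

universe u

open IsLocalRing

/-- The envelope along the residue field is a henselization of the pair `(R, m)`. -/
theorem isPairHenselization_env (R : Type u) [CommRing R] [IsLocalRing R] :
    Hens2.IsPairHenselization R (maximalIdeal R) (Env R (ResidueField R)) := by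
  haveI := henselian_env R (ResidueField R)
  refine ⟨?_, fun C _ J f hJ hf => ?_⟩
  · rw [map_maximalIdeal_env]; infer_instance
  haveI := hJ
  letI := f.toAlgebra
  let π : C →ₐ[R] C ⧸ J := Ideal.Quotient.mkₐ R J
  have hK : HenselianRing C (RingHom.ker π.toRingHom) := by
    rw [show RingHom.ker π.toRingHom = J from Ideal.mk_ker]; exact hJ
  let τ : ResidueField R →ₐ[R] C ⧸ J := Ideal.Quotient.liftₐ (maximalIdeal R) (Algebra.ofId R (C ⧸ J)) fun a ha =>
    Ideal.Quotient.eq_zero_iff_mem.2 (hf (Ideal.mem_map_of_mem _ ha))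
  have hpts : ∀ i : EnvIdx R (ResidueField R), ∃! φ : i.1.Ring →ₐ[R] C, π.comp φ = i.1.lift (τ i.2.1) (i.2.2.map τ) :=
    fun i => existsUnique_algHom_of_quotient π Ideal.Quotient.mk_surjective hK _
  choose φ hφ hφu using hpts
  let g₀ : EnvTop R (ResidueField R) →ₐ[R] C := etLift (fun i => φ i i.1.X) fun i => i.1.hasMap_X.map (φ i)
  have hg₀ : π.comp g₀ = τ.comp (envEv R (ResidueField R)) := etProd_hom_ext fun i => by
    simp only [AlgHom.comp_apply, g₀, envEv, etLift_etPt]
    exact (AlgHom.congr_fun (hφ i) i.1.X).trans (StandardEtalePair.lift_X _ _ _)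
  have hunit : ∀ s : (envPrime R (ResidueField R)).primeCompl, IsUnit (g₀ s) := fun s => by
    refine isUnit_of_mk (hJ.jac) ?_
    change IsUnit (π (g₀ s))
    rw [← AlgHom.comp_apply, hg₀]
    exact (isUnit_iff_ne_zero.2 s.2 : IsUnit (envEv R (ResidueField R) s)).map τ
  let G : Env R (ResidueField R) →ₐ[R] C := IsLocalization.liftAlgHom (M := (envPrime R (ResidueField R)).primeCompl) hunit
  refine ⟨G.toRingHom, RingHom.ext G.commutes, fun g' hg' => ?_⟩
  let G' : Env R (ResidueField R) →ₐ[R] C := { g' with commutes' := RingHom.congr_fun hg' }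
  refine congrArg AlgHom.toRingHom (?_ : G' = G)
  refine IsLocalization.algHom_ext (envPrime R (ResidueField R)).primeCompl (etProd_hom_ext fun i => ?_)
  have hres : ∀ z : Env R (ResidueField R), π (G' z) = τ (envRes R (ResidueField R) z) := fun z => by
    obtain ⟨r, hr⟩ := residue_surjective (envRes R (ResidueField R) z)
    have hmem : z - algebraMap R _ r ∈ (maximalIdeal R).map (algebraMap R (Env R (ResidueField R))) := by
      rw [map_maximalIdeal_env, ← envRes_eq_zero_iff, map_sub, AlgHom.commutes, ← hr, ResidueField.algebraMap_eq,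
        sub_self]
    have key : (maximalIdeal R).map (algebraMap R (Env R (ResidueField R))) ≤
        RingHom.ker (π.comp G').toRingHom := Ideal.map_le_iff_le_comap.2 fun x hx => by
      change π (G' (algebraMap R _ x)) = 0
      rw [AlgHom.commutes]
      exact Ideal.Quotient.eq_zero_iff_mem.2 (hf (Ideal.mem_map_of_mem _ hx))
    have h1 : π (G' (z - algebraMap R _ r)) = 0 := key hmem
    rw [map_sub, map_sub, AlgHom.commutes, AlgHom.commutes, sub_eq_zero] at h1
    rw [h1, ← hr, ← ResidueField.algebraMap_eq, AlgHom.commutes]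
  let ψ : i.1.Ring →ₐ[R] C := i.1.lift (G' (envPt R (ResidueField R) i)) ((hasMap_envPt R (ResidueField R) i).map G')
  have hψ : ψ = φ i := hφu i ψ (i.1.hom_ext (by
    simp only [AlgHom.comp_apply, ψ, StandardEtalePair.lift_X]
    rw [hres, envRes_envPt]))
  have h2 : G' (envPt R (ResidueField R) i) = φ i i.1.X := by
    rw [← hψ]; exact (StandardEtalePair.lift_X _ _ _).symm
  exact h2.trans ((IsLocalization.lift_eq _ _).trans (etLift_etPt _ _ i)).symm

/-- Two initial objects agree. -/
theorem algEquiv_of_isPairHenselization {R : Type u} [CommRing R] {I : Ideal R} {B B' : Type u} [CommRing B]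
    [CommRing B'] [Algebra R B] [Algebra R B'] (h : Hens2.IsPairHenselization R I B)
    (h' : Hens2.IsPairHenselization R I B') : Nonempty (B ≃ₐ[R] B') := by
  obtain ⟨g, hg, -⟩ := h.2 B' (I.map (algebraMap R B')) (algebraMap R B') h'.1 le_rfl
  obtain ⟨g', hg', -⟩ := h'.2 B (I.map (algebraMap R B)) (algebraMap R B) h.1 le_rfl
  have h1 : g'.comp g = RingHom.id B :=
    (h.2 B (I.map (algebraMap R B)) (algebraMap R B) h.1 le_rfl).unique (by rw [RingHom.comp_assoc, hg, hg'])
      (RingHom.id_comp _)
  have h2 : g.comp g' = RingHom.id B' :=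
    (h'.2 B' (I.map (algebraMap R B')) (algebraMap R B') h'.1 le_rfl).unique (by rw [RingHom.comp_assoc, hg', hg])
      (RingHom.id_comp _)
  exact ⟨AlgEquiv.ofRingEquiv (f := RingEquiv.ofRingHom g g' h2 h1) fun r => RingHom.congr_fun hg r⟩

theorem isPairHenselization_of_equiv {R : Type u} [CommRing R] {I : Ideal R} {B B' : Type u} [CommRing B]
    [CommRing B'] [Algebra R B] [Algebra R B'] (e : B ≃ₐ[R] B') (h : Hens2.IsPairHenselization R I B)
    (hB' : HenselianRing B' (I.map (algebraMap R B'))) : Hens2.IsPairHenselization R I B' := by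
  refine ⟨hB', fun C _ J f hJ hf => ?_⟩
  obtain ⟨g, hg, hu⟩ := h.2 C J f hJ hf
  refine ⟨g.comp e.symm.toRingEquiv.toRingHom, ?_, fun g' hg' => ?_⟩
  · dsimp only
    rw [RingHom.comp_assoc, ← hg]
    congr 1
    exact RingHom.ext fun r => e.symm.commutes r
  · rw [← hu (g'.comp e.toRingEquiv.toRingHom) (by
      dsimp only at hg' ⊢
      rw [RingHom.comp_assoc, ← hg']
      congr 1
      exact RingHom.ext fun r => e.commutes r)]
    exact RingHom.ext fun z => (congrArg g' (e.apply_symm_apply z)).symm

theorem isHenselization_of_equiv {R : Type u} [CommRing R] [IsLocalRing R] {B B' : Type u} [CommRing B]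
    [IsLocalRing B] [CommRing B'] [IsLocalRing B'] [Algebra R B] [Algebra R B'] [IsLocalHom (algebraMap R B)]
    [IsLocalHom (algebraMap R B')] (e : B ≃ₐ[R] B') (h : _root_.Hensel.IsHenselization R B)
    (hB' : HenselianLocalRing B') : _root_.Hensel.IsHenselization R B' := by
  refine ⟨hB', fun C _ _ f hf => ?_⟩
  obtain ⟨g, hg, hu⟩ := h.universal C f hf
  refine ⟨g.comp e.symm.toRingEquiv.toRingHom, ?_, fun g' hg' => ?_⟩
  · dsimp only
    rw [RingHom.comp_assoc, ← hg]
    congr 1
    exact RingHom.ext fun r => e.symm.commutes r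
  · rw [← hu (g'.comp e.toRingEquiv.toRingHom) (by
      dsimp only at hg' ⊢
      rw [RingHom.comp_assoc, ← hg']
      congr 1
      exact RingHom.ext fun r => e.commutes r)]
    exact RingHom.ext fun z => (congrArg g' (e.apply_symm_apply z)).symm

theorem isPairHenselization_iff (A B : Type u) [CommRing A] [IsLocalRing A] [CommRing B]
    [IsLocalRing B] [Algebra A B] [IsLocalHom (algebraMap A B)] :
    Hens2.IsPairHenselization A (maximalIdeal A) B ↔ _root_.Hensel.IsHenselization A B := by
  haveI := henselian_env A (ResidueField A)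
  obtain ⟨hloc, hH⟩ := exists_henselization A
  refine ⟨fun h => ?_, fun h => ?_⟩
  · obtain ⟨e⟩ := algEquiv_of_isPairHenselization h (isPairHenselization_env A)
    have hm : (maximalIdeal A).map (algebraMap A B) = maximalIdeal B :=
      map_maximalIdeal_of_equiv (R := A) (S := B) (E := Env A (ResidueField A)) e (map_maximalIdeal_env A _)
    have hB : HenselianLocalRing B := (henselianLocalRing_iff B).2 (hm ▸ h.1)
    exact isHenselization_of_equiv (B := Env A (ResidueField A)) (B' := B) e.symm hH hB
  · obtain ⟨e⟩ := henselization_equiv A B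
    haveI : HenselianLocalRing B := h.henselian
    refine isPairHenselization_of_equiv (B := Env A (ResidueField A)) (B' := B) e.symm (isPairHenselization_env A) ?_
    rw [henselization_map_maximalIdeal]
    infer_instance

/-- Quotients of henselizations. -/
theorem isHenselization_quotient {A S : Type u} [CommRing A] [IsLocalRing A] [CommRing S]
    [IsLocalRing S] [Algebra A S] [IsLocalHom (algebraMap A S)] [_root_.Hensel.IsHenselization A S]
    (I : Ideal A) [IsLocalRing (A ⧸ I)] [IsLocalRing (S ⧸ I.map (algebraMap A S))]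
    [IsLocalHom (algebraMap (A ⧸ I) (S ⧸ I.map (algebraMap A S)))] :
    _root_.Hensel.IsHenselization (A ⧸ I) (S ⧸ I.map (algebraMap A S)) := by
  haveI : HenselianLocalRing S := _root_.Hensel.IsHenselization.henselian (R := A)
  refine ⟨?_, fun T _ _ f hf => ?_⟩
  · exact henselianLocalRing_finite S (S ⧸ I.map (algebraMap A S))
  haveI := hf
  haveI : IsLocalHom (Ideal.Quotient.mk I) := IsLocalHom.of_surjective _ Ideal.Quotient.mk_surjective
  have hf' : IsLocalHom (f.comp (Ideal.Quotient.mk I)) := RingHom.isLocalHom_comp _ _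
  obtain ⟨g, hg, hu⟩ := _root_.Hensel.IsHenselization.universal (R := A) (S := S) T (f.comp (Ideal.Quotient.mk I)) hf'
  have hker : I.map (algebraMap A S) ≤ RingHom.ker g := Ideal.map_le_iff_le_comap.2 fun a ha => by
    rw [Ideal.mem_comap, RingHom.mem_ker, ← RingHom.comp_apply, hg, RingHom.comp_apply,
      Ideal.Quotient.eq_zero_iff_mem.2 ha, map_zero]
  refine ⟨Ideal.Quotient.lift _ g fun z hz => hker hz, ?_, fun g' hg' => ?_⟩
  · refine Ideal.Quotient.ringHom_ext (RingHom.ext fun a => ?_)
    exact RingHom.congr_fun hg a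
  · refine Ideal.Quotient.ringHom_ext ?_
    rw [hu (g'.comp (Ideal.Quotient.mk _)) (RingHom.ext fun a => by
      have := RingHom.congr_fun hg' (Ideal.Quotient.mk I a)
      exact this)]
    exact RingHom.ext fun z => rfl

/-- Maps from essentially étale local algebras into henselian local rings. -/
theorem existsUnique_localHom_essentiallyEtale (A A' : Type u) [CommRing A] [IsLocalRing A]
    [CommRing A'] [IsLocalRing A'] [Algebra A A']
    (hA' : EGA4loc.IsEssentiallyEtale A A')
    (B : Type u) [CommRing B] [HenselianLocalRing B] (ψ : A →+* B) [IsLocalHom ψ]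
    (α : ResidueField A' →+* ResidueField B)
    (hα : ∀ a, α (residue A' (algebraMap A A' a)) = residue B (ψ a)) :
    ∃! ψ' : A' →+* B, IsLocalHom ψ' ∧ ψ'.comp (algebraMap A A') = ψ ∧
      ∀ x : A', residue B (ψ' x) = α (residue A' x) := by
  obtain ⟨C, _, _, q, _, _, -, ⟨e⟩⟩ := hA'
  letI := ψ.toAlgebra
  let α' : A' →ₐ[A] ResidueField B :=
    { α.comp (residue A') with commutes' := fun a => hα a }
  have hK : HenselianRing B (RingHom.ker (IsScalarTower.toAlgHom A B (ResidueField B)).toRingHom) := by
    rw [show RingHom.ker (IsScalarTower.toAlgHom A B (ResidueField B)).toRingHom = maximalIdeal B from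
      ker_residue (R := B)]
    infer_instance
  let ι : C →ₐ[A] A' := e.symm.toAlgHom.comp (IsScalarTower.toAlgHom A C (Localization.AtPrime q))
  obtain ⟨φ, hφ, hφu⟩ := existsUnique_algHom_of_quotient (IsScalarTower.toAlgHom A B (ResidueField B))
    residue_surjective hK (α'.comp ι)
  have hφr : ∀ c, residue B (φ c) = α (residue A' (ι c)) := fun c => AlgHom.congr_fun hφ c
  have hunit : ∀ s : q.primeCompl, IsUnit (φ s) := fun s => by
    rw [← notMem_maximalIdeal, ← residue_eq_zero_iff, hφr]
    have h1 : IsUnit (ι s) := (IsLocalization.map_units (Localization.AtPrime q) s).map e.symm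
    exact fun h0 => not_isUnit_zero (h0 ▸ (h1.map _).map α)
  let G : Localization.AtPrime q →ₐ[A] B := IsLocalization.liftAlgHom (M := q.primeCompl) hunit
  have hG : ∀ c, G (algebraMap C _ c) = φ c := fun c => IsLocalization.lift_eq _ c
  let ψ₀ : A' →ₐ[A] B := G.comp e.toAlgHom
  have hres : ∀ x, residue B (ψ₀ x) = α (residue A' x) := fun x => by
    obtain ⟨y, rfl⟩ : ∃ y, e.symm y = x := ⟨e x, e.symm_apply_apply x⟩
    obtain ⟨c, s, rfl⟩ := IsLocalization.exists_mk'_eq q.primeCompl y
    refine ((hunit s).map (residue B)).mul_left_injective ?_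
    change residue B _ * residue B (φ s) = α _ * residue B (φ s)
    rw [← map_mul, hφr s.1, ← map_mul, ← map_mul]
    change residue B (G (e (e.symm _)) * φ s) = α (residue A' (e.symm _ * e.symm (algebraMap C _ s.1)))
    rw [e.apply_symm_apply, ← hG s.1, ← map_mul, ← map_mul, IsLocalization.mk'_spec, hG, hφr]
    rfl
  refine ⟨ψ₀.toRingHom, ⟨⟨fun x hx => ?_⟩, RingHom.ext ψ₀.commutes, hres⟩, fun ψ' hψ' => ?_⟩
  · by_contra hnu
    have h0 : residue A' x = 0 := (residue_eq_zero_iff x).2 hnu
    have := hres x
    rw [h0, map_zero] at this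
    exact not_isUnit_zero (this ▸ hx.map (residue B))
  · obtain ⟨-, hc, hr⟩ := hψ'
    let Ψ : A' →ₐ[A] B := { ψ' with commutes' := RingHom.congr_fun hc }
    refine congrArg AlgHom.toRingHom (?_ : Ψ = ψ₀)
    have h1 : Ψ.comp e.symm.toAlgHom = G := by
      refine IsLocalization.algHom_ext q.primeCompl (AlgHom.ext fun c => ?_)
      have h2 : Ψ.comp ι = φ := hφu _ (AlgHom.ext fun c => hr (ι c))
      exact (AlgHom.congr_fun h2 c).trans (hG c).symm
    refine AlgHom.ext fun x => ?_
    change Ψ x = G (e x)
    rw [← h1, AlgHom.comp_apply]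
    exact congrArg Ψ (e.symm_apply_apply x).symm

end Groth.Agent.Hensel
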