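import Groth.Agent.Hensel.BranchEmb
import Groth.Agent.Hensel.PairHenselization

/-!
Branches: unibranch rings, sums over minimal primes.
-/

set_option autoImplicit false

namespace Groth.Agent.Hensel

universe u

open IsLocalRing

theorem eNat_card_sigma {ι : Type u} [Fintype ι] : ∀ β : ι → Type u,
    ENat.card (Σ i, β i) = ∑ i, ENat.card (β i) := by
  refine Fintype.induction_empty_option
    (P := fun α [Fintype α] => ∀ β : α → Type u, ENat.card (Σ i, β i) = ∑ i, ENat.card (β i)) ?_ ?_ ?_ ι
  · intro α α' _ e h β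
    letI := Fintype.ofEquiv α' e.symm
    rw [← ENat.card_congr (Equiv.sigmaCongrLeft (β := β) e), h, ← e.sum_comp fun i => ENat.card (β i)]
  · intro β
    simp [ENat.card_eq_zero_iff_empty]
  · intro α _ h β
    rw [Fintype.sum_option, ← h, ← ENat.card_sum]
    exact ENat.card_congr
      { toFun := fun x => match x with
          | ⟨none, b⟩ => Sum.inl b
          | ⟨some a, b⟩ => Sum.inr ⟨a, b⟩
        invFun := fun x => match x with
          | Sum.inl b => ⟨none, b⟩
          | Sum.inr ⟨a, b⟩ => ⟨some a, b⟩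
        left_inv := fun x => by rcases x with ⟨_ | a, b⟩ <;> rfl
        right_inv := fun x => by rcases x with b | ⟨a, b⟩ <;> rfl }

theorem nilradical_isPrime_of_subsingleton (A : Type u) [CommRing A] [Nontrivial A]
    [Subsingleton (minimalPrimes A)] : (nilradical A).IsPrime := by
  obtain ⟨M, hM⟩ := Ideal.exists_maximal A
  obtain ⟨p, hp, -⟩ := Ideal.exists_minimalPrimes_le (bot_le : (⊥ : Ideal A) ≤ M)
  haveI := hp.1.1
  suffices nilradical A = p from this ▸ hp.1.1
  refine le_antisymm (nilradical_le_prime p) fun x hx => nilpotent_iff_mem_prime.2 fun J hJ => ?_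
  haveI := hJ
  obtain ⟨q, hq, hle⟩ := Ideal.exists_minimalPrimes_le (bot_le : (⊥ : Ideal A) ≤ J)
  have hpq : p = q := congrArg Subtype.val (Subsingleton.elim (⟨p, hp⟩ : minimalPrimes A) ⟨q, hq⟩)
  exact hle (hpq ▸ hx)

theorem minimalPrimes_eq_of_nilradical_isPrime (A : Type u) [CommRing A] (h : (nilradical A).IsPrime) :
    minimalPrimes A = {nilradical A} := by
  ext p
  constructor
  · intro hp
    haveI := hp.1.1
    exact Set.mem_singleton_iff.2 (le_antisymm (hp.2 ⟨h, bot_le⟩ (nilradical_le_prime p)) (nilradical_le_prime p))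
  · rintro rfl
    refine ⟨⟨h, bot_le⟩, fun q hq _ => ?_⟩
    haveI := hq.1
    exact nilradical_le_prime q

variable (A : Type u) [CommRing A] [IsLocalRing A]

/-- Few minimal primes when there are few branches. -/
theorem subsingleton_minimalPrimes_of_numBranches_eq_one (h : Brnch.numBranches A = 1) :
    Subsingleton (minimalPrimes A) := by
  obtain ⟨hloc, hH⟩ := exists_henselization A
  haveI := hloc
  haveI := hH
  haveI := henselization_faithfullyFlat A (Env A (ResidueField A))
  rw [← card_minimalPrimes_henselization (A := A) (S := Env A (ResidueField A))] at h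
  haveI := (ENat.card_le_one_iff_subsingleton _).1 h.le
  refine ⟨fun p q => Subtype.ext ?_⟩
  obtain ⟨T, hT, hTp⟩ := exists_minimal_comap_eq (A := A) (S := Env A (ResidueField A)) p.2
  obtain ⟨T', hT', hTq⟩ := exists_minimal_comap_eq (A := A) (S := Env A (ResidueField A)) q.2
  have hTT : T = T' := congrArg Subtype.val
    (Subsingleton.elim (⟨T, hT⟩ : minimalPrimes (Env A (ResidueField A))) ⟨T', hT'⟩)
  rw [← hTp, ← hTq, hTT]

theorem subsingleton_minimalPrimes_of_numGeomBranches_eq_one (h : Brnch.numGeomBranches A = 1) :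
    Subsingleton (minimalPrimes A) := by
  obtain ⟨hloc, hH⟩ := exists_strictHenselization A
  haveI := hloc
  haveI := hH
  haveI := strictHenselization_faithfullyFlat A (Env A (SeparableClosure (ResidueField A)))
  rw [← card_minimalPrimes_strictHenselization (A := A) (S := Env A (SeparableClosure (ResidueField A)))] at h
  haveI := (ENat.card_le_one_iff_subsingleton _).1 h.le
  refine ⟨fun p q => Subtype.ext ?_⟩
  obtain ⟨T, hT, hTp⟩ := exists_minimal_comap_eq (A := A) (S := Env A (SeparableClosure (ResidueField A))) p.2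
  obtain ⟨T', hT', hTq⟩ := exists_minimal_comap_eq (A := A) (S := Env A (SeparableClosure (ResidueField A))) q.2
  have hTT : T = T' := congrArg Subtype.val
    (Subsingleton.elim (⟨T, hT⟩ : minimalPrimes (Env A (SeparableClosure (ResidueField A)))) ⟨T', hT'⟩)
  rw [← hTp, ← hTq, hTT]

theorem numBranches_eq_one_iff : Brnch.numBranches A = 1 ↔ CAlg2.IsUnibranch A := by
  constructor
  · intro h
    haveI := subsingleton_minimalPrimes_of_numBranches_eq_one A h
    haveI hP := nilradical_isPrime_of_subsingleton A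
    refine ⟨(Ideal.Quotient.isDomain_iff_prime _).2 hP, ?_⟩
    rw [Brnch.numBranches, if_pos (Set.toFinite _)] at h
    obtain ⟨hu⟩ := ENat.card_eq_one_iff_unique.1 h
    exact IsLocalRing.of_unique_max_ideal ⟨hu.default.asIdeal, hu.default.isMaximal,
      fun M hM => congrArg MaximalSpectrum.asIdeal (hu.uniq ⟨M, hM⟩)⟩
  · rintro ⟨hdom, hloc⟩
    rw [Brnch.numBranches, if_pos (by
      rw [minimalPrimes_eq_of_nilradical_isPrime A ((Ideal.Quotient.isDomain_iff_prime _).1 hdom)]
      exact Set.finite_singleton _)]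
    exact ENat.card_eq_one_iff_unique.2 ⟨⟨⟨⟨maximalIdeal _, inferInstance⟩⟩,
      fun M => MaximalSpectrum.ext (eq_maximalIdeal M.isMaximal)⟩⟩

theorem numGeomBranches_eq_one_iff : Brnch.numGeomBranches A = 1 ↔ CAlg2.IsGeomUnibranch A := by
  constructor
  · intro h
    haveI := subsingleton_minimalPrimes_of_numGeomBranches_eq_one A h
    haveI hP := nilradical_isPrime_of_subsingleton A
    rw [Brnch.numGeomBranches, if_pos (Set.toFinite _)] at h
    obtain ⟨hu⟩ := ENat.card_eq_one_iff_unique.1 h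
    have hM : ∀ M : MaximalSpectrum (CAlg2.normRed A), M = hu.default.1 := fun M => by
      obtain ⟨σ⟩ := (emb_nonempty_and_subsingleton_iff A M).1
      exact congrArg Sigma.fst (hu.uniq ⟨M, σ⟩)
    refine ⟨⟨(Ideal.Quotient.isDomain_iff_prime _).2 hP, IsLocalRing.of_unique_max_ideal
      ⟨hu.default.1.asIdeal, hu.default.1.isMaximal, fun M hM' => congrArg MaximalSpectrum.asIdeal (hM ⟨M, hM'⟩)⟩⟩,
      fun m' hm' => ?_⟩
    refine ((emb_nonempty_and_subsingleton_iff A ⟨m', hm'⟩).2).1 ⟨fun σ σ' => ?_⟩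
    exact eq_of_heq (Sigma.mk.inj_iff.1 ((hu.uniq ⟨⟨m', hm'⟩, σ⟩).trans (hu.uniq ⟨⟨m', hm'⟩, σ'⟩).symm)).2
  · rintro ⟨⟨hdom, hloc⟩, hgeo⟩
    rw [Brnch.numGeomBranches, if_pos (by
      rw [minimalPrimes_eq_of_nilradical_isPrime A ((Ideal.Quotient.isDomain_iff_prime _).1 hdom)]
      exact Set.finite_singleton _)]
    obtain ⟨σ⟩ := (emb_nonempty_and_subsingleton_iff A ⟨maximalIdeal _, inferInstance⟩).1
    refine ENat.card_eq_one_iff_unique.2 ⟨⟨⟨⟨_, σ⟩⟩, ?_⟩⟩
    rintro ⟨M, σ'⟩
    obtain rfl : M = ⟨maximalIdeal _, inferInstance⟩ := MaximalSpectrum.ext (eq_maximalIdeal M.isMaximal)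
    haveI := ((emb_nonempty_and_subsingleton_iff A ⟨maximalIdeal _, inferInstance⟩).2).2 fun x =>
      @hgeo (maximalIdeal _) (maximalIdeal.isMaximal _) x
    rw [Subsingleton.elim σ' σ]
    rfl

/-- Over a separably closed residue field unibranch is geometrically unibranch. -/
theorem isGeomUnibranch_of_isSepClosed [IsSepClosed (ResidueField A)] (h : CAlg2.IsUnibranch A) :
    CAlg2.IsGeomUnibranch A := by
  refine ⟨h, fun m' hm' => ?_⟩
  haveI := isIntegral_normRed A
  refine ((emb_nonempty_and_subsingleton_iff A ⟨m', hm'⟩).2).1 ⟨fun σ σ' => ?_⟩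
  letI := Ideal.Quotient.field m'
  have hm : m'.comap (algebraMap A (CAlg2.normRed A)) = maximalIdeal A :=
    eq_maximalIdeal (Ideal.isMaximal_comap_of_isIntegral_of_isMaximal (R := A) m')
  let κ : ResidueField A →+* CAlg2.normRed A ⧸ m' := Ideal.Quotient.lift (maximalIdeal A)
    (Brnch.toResidue A ⟨m', hm'⟩) fun a ha => Ideal.Quotient.eq_zero_iff_mem.2 (by rw [← hm] at ha; exact ha)
  letI : Algebra (ResidueField A) (CAlg2.normRed A ⧸ m') := κ.toAlgebra
  haveI : IsScalarTower A (ResidueField A) (CAlg2.normRed A ⧸ m') := IsScalarTower.of_algebraMap_eq fun _ => rfl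
  haveI : Algebra.IsIntegral A (CAlg2.normRed A ⧸ m') :=
    Algebra.IsIntegral.of_surjective (Ideal.Quotient.mkₐ A m') Ideal.Quotient.mk_surjective
  haveI : Algebra.IsIntegral (ResidueField A) (CAlg2.normRed A ⧸ m') := Algebra.IsIntegral.tower_top A
  haveI : Algebra.IsAlgebraic (ResidueField A) (CAlg2.normRed A ⧸ m') := Algebra.IsIntegral.isAlgebraic
  haveI : IsPurelyInseparable (ResidueField A) (CAlg2.normRed A ⧸ m') :=
    Algebra.IsAlgebraic.isPurelyInseparable_of_isSepClosed
  exact Subtype.ext (IsPurelyInseparable.injective_comp_algebraMap (ResidueField A) _ _ (RingHom.ext fun y => by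
    obtain ⟨a, rfl⟩ := residue_surjective y
    exact (RingHom.congr_fun σ.2 a).trans (RingHom.congr_fun σ'.2 a).symm))

end Groth.Agent.Hensel
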