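import Groth.Agent.Hensel.BranchCountStrict

/-!
Embeddings at a point of the normalisation and geometric unibranchness.
-/

set_option autoImplicit false

namespace Groth.Agent.Hensel

universe u

open IsLocalRing

variable (A : Type u) [CommRing A] [IsLocalRing A]

/-- There is an embedding at every point, and there is exactly one iff the point is purely inseparable. -/
theorem emb_nonempty_and_subsingleton_iff (m : MaximalSpectrum (CAlg2.normRed A)) :
    Nonempty (Brnch.Emb A m) ∧ (Subsingleton (Brnch.Emb A m) ↔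
      ∀ x : CAlg2.normRed A ⧸ m.asIdeal, ∃ n : ℕ,
        x ^ (ringExpChar (CAlg2.normRed A ⧸ m.asIdeal)) ^ n ∈ (Brnch.toResidue A m).range) := by
  haveI := m.isMaximal
  haveI := isIntegral_normRed A
  letI := Ideal.Quotient.field m.asIdeal
  have hm : m.asIdeal.comap (algebraMap A (CAlg2.normRed A)) = maximalIdeal A :=
    eq_maximalIdeal (Ideal.isMaximal_comap_of_isIntegral_of_isMaximal (R := A) m.asIdeal)
  let κ : ResidueField A →+* CAlg2.normRed A ⧸ m.asIdeal := Ideal.Quotient.lift (maximalIdeal A)
    (Brnch.toResidue A m) fun a ha => Ideal.Quotient.eq_zero_iff_mem.2 (by rw [← hm] at ha; exact ha)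
  letI : Algebra (ResidueField A) (CAlg2.normRed A ⧸ m.asIdeal) := κ.toAlgebra
  haveI : IsScalarTower A (ResidueField A) (CAlg2.normRed A ⧸ m.asIdeal) :=
    IsScalarTower.of_algebraMap_eq fun _ => rfl
  haveI : Algebra.IsIntegral A (CAlg2.normRed A ⧸ m.asIdeal) :=
    Algebra.IsIntegral.of_surjective (Ideal.Quotient.mkₐ A m.asIdeal) Ideal.Quotient.mk_surjective
  haveI : Algebra.IsIntegral (ResidueField A) (CAlg2.normRed A ⧸ m.asIdeal) := Algebra.IsIntegral.tower_top A
  haveI : Algebra.IsAlgebraic (ResidueField A) (CAlg2.normRed A ⧸ m.asIdeal) := Algebra.IsIntegral.isAlgebraic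
  have hclos : Brnch.toClosure A = algebraMap A (AlgebraicClosure (ResidueField A)) :=
    (IsScalarTower.algebraMap_eq A (ResidueField A) _).symm
  let E : Brnch.Emb A m ≃ (CAlg2.normRed A ⧸ m.asIdeal →ₐ[ResidueField A] AlgebraicClosure (ResidueField A)) :=
    { toFun := fun σ =>
        { σ.1 with
          commutes' := fun c => by
            obtain ⟨a, rfl⟩ := residue_surjective c
            exact RingHom.congr_fun σ.2 a }
      invFun := fun σ => ⟨σ.toRingHom, RingHom.ext fun a => σ.commutes (residue A a)⟩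
      left_inv := fun σ => rfl
      right_inv := fun σ => rfl }
  refine ⟨⟨E.symm IsAlgClosed.lift⟩, ?_⟩
  rw [E.subsingleton_congr,
    ← (Field.embEquivOfIsAlgClosed (ResidueField A) (CAlg2.normRed A ⧸ m.asIdeal)
      (AlgebraicClosure (ResidueField A))).subsingleton_congr, ← isPurelyInseparable_iff_subsingleton_emb]
  obtain ⟨q, hq⟩ := ExpChar.exists (ResidueField A)
  haveI := hq
  haveI : ExpChar (CAlg2.normRed A ⧸ m.asIdeal) q := expChar_of_injective_ringHom κ.injective q
  rw [isPurelyInseparable_iff_pow_mem (ResidueField A) q, ringExpChar.eq _ q]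
  have hr : (algebraMap (ResidueField A) (CAlg2.normRed A ⧸ m.asIdeal)).range = (Brnch.toResidue A m).range := by
    ext y
    constructor
    · rintro ⟨c, rfl⟩
      obtain ⟨a, rfl⟩ := residue_surjective c
      exact ⟨a, rfl⟩
    · rintro ⟨a, rfl⟩
      exact ⟨residue A a, rfl⟩
  rw [hr]

end Groth.Agent.Hensel
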