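import Groth.Agent.Hensel.PairNbhd
import Groth.Agent.Hensel.HenselizationNoeth
import Groth.Agent.ResExt.Completion
import Mathlib.RingTheory.AdicCompletion.AsTensorProduct
import Mathlib.RingTheory.AdicCompletion.Functoriality
import Mathlib.RingTheory.Flat.EquationalCriterion

/-!
Henselization of a Noetherian pair: completion, Noetherianity.
-/

set_option autoImplicit false

namespace Groth.Agent.Hensel

universe u

variable {A : Type u} [CommRing A] (I : Ideal A) (S : Type u) [CommRing S] [Algebra A S]

/-- `A → S` is bijective modulo all powers of `I`. -/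
structure PowBij : Prop where
  mem : ∀ (n : ℕ) (a : A), algebraMap A S a ∈ I.map (algebraMap A S) ^ n → a ∈ I ^ n
  exists_sub : ∀ (n : ℕ) (s : S), ∃ a, s - algebraMap A S a ∈ I.map (algebraMap A S) ^ n

theorem exists_sub_mem_pow (h : ∀ s : S, ∃ a, s - algebraMap A S a ∈ I.map (algebraMap A S)) (n : ℕ) (s : S) :
    ∃ a, s - algebraMap A S a ∈ I.map (algebraMap A S) ^ n := by
  induction n generalizing s with
  | zero => exact ⟨0, by simp⟩
  | succ n ih =>
    have key : ∀ y ∈ (I ^ n).map (algebraMap A S), ∃ a, y - algebraMap A S a ∈ I.map (algebraMap A S) ^ (n + 1) := by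
      intro y hy
      induction hy using Submodule.span_induction with
      | mem y hy =>
        obtain ⟨a, -, rfl⟩ := hy
        exact ⟨a, by simp⟩
      | zero => exact ⟨0, by simp⟩
      | add y z _ _ hy hz =>
        obtain ⟨a, ha⟩ := hy
        obtain ⟨c, hc⟩ := hz
        exact ⟨a + c, by rw [map_add, add_sub_add_comm]; exact Ideal.add_mem _ ha hc⟩
      | smul c y hy' hy =>
        obtain ⟨a, ha⟩ := hy
        obtain ⟨d, hd⟩ := h c
        refine ⟨d * a, ?_⟩
        have h1 : (c - algebraMap A S d) * y ∈ I.map (algebraMap A S) ^ (n + 1) := by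
          rw [pow_succ']
          exact Ideal.mul_mem_mul hd (by rw [← Ideal.map_pow]; exact hy')
        have h2 := Ideal.add_mem _ h1 (Ideal.mul_mem_left _ (algebraMap A S d) ha)
        rw [smul_eq_mul, map_mul]
        convert h2 using 1
        ring
    obtain ⟨a, ha⟩ := ih s
    obtain ⟨c, hc⟩ := key _ (by rw [Ideal.map_pow]; exact ha)
    exact ⟨a + c, by rw [map_add, ← sub_sub]; exact hc⟩

variable {I S}

theorem powBij_henselization (hB : Hens2.IsPairHenselization A I S) : PowBij I S :=
  ⟨fun n a ha => pairHenselization_mem_pow hB (n := n) (by rw [Ideal.map_pow]; exact ha), fun n s => by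
    rw [← Ideal.map_pow]; exact pairHenselization_exists_sub_mem hB n s⟩

theorem powBij_nhd (hB : Hens2.IsPairHenselization A I S) {A' : Type u} [CommRing A'] [Algebra A A']
    (h : Function.Bijective (Ideal.quotientMap (I.map (algebraMap A A')) (algebraMap A A') Ideal.le_comap_map))
    (φ : A' →ₐ[A] S) : PowBij I A' := by
  refine ⟨fun n a ha => ?_, exists_sub_mem_pow I A' fun s => ?_⟩
  · have h1 := Ideal.mem_map_of_mem φ.toRingHom ha
    rw [Ideal.map_pow, Ideal.map_map, show φ.toRingHom.comp (algebraMap A A') = algebraMap A S from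
      RingHom.ext φ.commutes, show φ.toRingHom (algebraMap A A' a) = algebraMap A S a from φ.commutes a,
      ← Ideal.map_pow] at h1
    exact pairHenselization_mem_pow hB h1
  · obtain ⟨a, ha⟩ := h.2 (Ideal.Quotient.mk _ s)
    obtain ⟨a, rfl⟩ := Ideal.Quotient.mk_surjective a
    rw [Ideal.quotientMap_mk, eq_comm, Ideal.Quotient.eq] at ha
    exact ⟨a, ha⟩

variable (I S) in
/-- The map `A/I^n → S/(IS)^n`. -/
noncomputable def powMap (n : ℕ) : A ⧸ I ^ n →+* S ⧸ I.map (algebraMap A S) ^ n :=
  Ideal.Quotient.lift _ ((Ideal.Quotient.mk _).comp (algebraMap A S)) fun a ha => by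
    rw [RingHom.comp_apply, Ideal.Quotient.eq_zero_iff_mem, ← Ideal.map_pow]
    exact Ideal.mem_map_of_mem _ ha

theorem PowBij.powMap_bijective (h : PowBij I S) (n : ℕ) : Function.Bijective (powMap I S n) := by
  refine ⟨(injective_iff_map_eq_zero _).2 fun x hx => ?_, fun y => ?_⟩
  · obtain ⟨a, rfl⟩ := Ideal.Quotient.mk_surjective x
    exact Ideal.Quotient.eq_zero_iff_mem.2 (h.mem n a (Ideal.Quotient.eq_zero_iff_mem.1 hx))
  · obtain ⟨s, rfl⟩ := Ideal.Quotient.mk_surjective y
    obtain ⟨a, ha⟩ := h.exists_sub n s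
    exact ⟨Ideal.Quotient.mk _ a, (Ideal.Quotient.eq.2 ha).symm⟩

/-- The inverse map. -/
noncomputable def PowBij.powInv (h : PowBij I S) (n : ℕ) : S ⧸ I.map (algebraMap A S) ^ n →+* A ⧸ I ^ n :=
  (RingEquiv.ofBijective _ (h.powMap_bijective n)).symm.toRingHom

theorem PowBij.powInv_eq (h : PowBij I S) {n : ℕ} {s : S} {a : A}
    (ha : s - algebraMap A S a ∈ I.map (algebraMap A S) ^ n) :
    h.powInv n (Ideal.Quotient.mk _ s) = Ideal.Quotient.mk _ a :=
  (RingEquiv.symm_apply_eq _).2 (Ideal.Quotient.eq.2 ha)

theorem PowBij.powMap_powInv (h : PowBij I S) (n : ℕ) (y : S ⧸ I.map (algebraMap A S) ^ n) :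
    powMap I S n (h.powInv n y) = y :=
  (RingEquiv.ofBijective _ (h.powMap_bijective n)).apply_symm_apply y

theorem PowBij.powInv_powMap (h : PowBij I S) (n : ℕ) (x : A ⧸ I ^ n) : h.powInv n (powMap I S n x) = x :=
  (RingEquiv.ofBijective _ (h.powMap_bijective n)).symm_apply_apply x

theorem PowBij.powInv_compat (h : PowBij I S) {m n : ℕ} (hle : m ≤ n) :
    (Ideal.Quotient.factorPow I hle).comp (h.powInv n) =
      (h.powInv m).comp (Ideal.Quotient.factorPow (I.map (algebraMap A S)) hle) := by
  refine Ideal.Quotient.ringHom_ext (RingHom.ext fun s => ?_)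
  obtain ⟨a, ha⟩ := h.exists_sub n s
  change Ideal.Quotient.factorPow I hle (h.powInv n (Ideal.Quotient.mk _ s)) = h.powInv m (Ideal.Quotient.mk _ s)
  rw [h.powInv_eq ha, h.powInv_eq (Ideal.pow_le_pow_right hle ha)]
  rfl

theorem PowBij.powInv_mk_compat (h : PowBij I S) {m n : ℕ} (hle : m ≤ n) :
    (Ideal.Quotient.factorPow I hle).comp ((h.powInv n).comp (Ideal.Quotient.mk _)) =
      (h.powInv m).comp (Ideal.Quotient.mk (I.map (algebraMap A S) ^ m)) := by
  rw [← RingHom.comp_assoc, h.powInv_compat hle, RingHom.comp_assoc]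
  rfl

/-- The map to the completion of `A`. -/
noncomputable def PowBij.toCompletion (h : PowBij I S) : S →+* AdicCompletion I A :=
  AdicCompletion.liftRingHom I (fun n => (h.powInv n).comp (Ideal.Quotient.mk _)) fun hle => h.powInv_mk_compat hle

theorem PowBij.evalₐ_toCompletion (h : PowBij I S) {n : ℕ} {s : S} {a : A}
    (ha : s - algebraMap A S a ∈ I.map (algebraMap A S) ^ n) :
    AdicCompletion.evalₐ I n (h.toCompletion s) = Ideal.Quotient.mk _ a := by
  exact (AdicCompletion.evalₐ_liftRingHom I (fun n => (h.powInv n).comp (Ideal.Quotient.mk _))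
    (fun hle => h.powInv_mk_compat hle) n s).trans (h.powInv_eq ha)

theorem PowBij.flat [IsNoetherianRing S] (h : PowBij I S) :
    letI := h.toCompletion.toAlgebra; Module.Flat S (AdicCompletion I A) := by
  letI := h.toCompletion.toAlgebra
  let J := I.map (algebraMap A S)
  let Φ : AdicCompletion J S →+* AdicCompletion I A :=
    AdicCompletion.liftRingHom I (fun n => (h.powInv n).comp (AdicCompletion.evalₐ J n).toRingHom) fun {m n} hle => by
      refine RingHom.ext fun x => ?_
      induction x using AdicCompletion.induction_on with | _ a => ?_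
      rw [← RingHom.comp_assoc, h.powInv_compat hle]
      refine congrArg (h.powInv m) ?_
      simp only [RingHom.comp_apply, AlgHom.toRingHom_eq_coe, RingHom.coe_coe, AdicCompletion.evalₐ_mk]
      exact AdicCompletion.Ideal.mk_eq_mk J hle a
  let Ψ : AdicCompletion I A →+* AdicCompletion J S :=
    AdicCompletion.liftRingHom J (fun n => (powMap I S n).comp (AdicCompletion.evalₐ I n).toRingHom) fun {m n} hle => by
      refine RingHom.ext fun x => ?_
      induction x using AdicCompletion.induction_on with | _ a => ?_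
      simp only [RingHom.comp_apply, AlgHom.toRingHom_eq_coe, RingHom.coe_coe, AdicCompletion.evalₐ_mk]
      exact congrArg (powMap I S m) (AdicCompletion.Ideal.mk_eq_mk I hle a)
  have hΦ : ∀ n x, AdicCompletion.evalₐ I n (Φ x) = h.powInv n (AdicCompletion.evalₐ J n x) := fun n x =>
    AdicCompletion.evalₐ_liftRingHom _ _ _ n x
  have hΨ : ∀ n x, AdicCompletion.evalₐ J n (Ψ x) = powMap I S n (AdicCompletion.evalₐ I n x) := fun n x =>
    AdicCompletion.evalₐ_liftRingHom _ _ _ n x
  have hlin : ∀ (s : S) x, Φ (s • x) = s • Φ x := fun s x => by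
    rw [Algebra.smul_def, Algebra.smul_def, map_mul]
    congr 1
  let e : AdicCompletion J S ≃ₗ[S] AdicCompletion I A :=
    { toFun := Φ
      map_add' := map_add Φ
      map_smul' := hlin
      invFun := Ψ
      left_inv := fun x => AdicCompletion.ext_evalₐ fun n => by rw [hΨ, hΦ, h.powMap_powInv]
      right_inv := fun x => AdicCompletion.ext_evalₐ fun n => by rw [hΦ, hΨ, h.powInv_powMap] }
  exact Module.Flat.of_linearEquiv e.symm

variable {B : Type u} [CommRing B] [Algebra A B]

/-- A ring map which is flat from enough stages is flat. -/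
theorem flat_of_stages {C M : Type u} [CommRing C] [CommRing M] (β : C →+* M)
    (H : ∀ (l : ℕ) (f : Fin l → C), ∃ (T : Type u) (_ : CommRing T) (φ : T →+* C) (g : Fin l → T),
      (∀ i, φ (g i) = f i) ∧ (β.comp φ).Flat) : β.Flat := by
  letI := β.toAlgebra
  refine Module.Flat.of_forall_isTrivialRelation fun {l f x} hfx => ?_
  obtain ⟨T, _, φ, g, hg, hflat⟩ := H l f
  letI := (β.comp φ).toAlgebra
  haveI : Module.Flat T M := hflat
  have hsm : ∀ (z : T) (m : M), z • m = φ z • m := fun z m => rfl
  have hrel : ∑ i, g i • x i = 0 := by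
    rw [← hfx]
    exact Finset.sum_congr rfl fun i _ => by rw [hsm, hg]
  obtain ⟨k, a, y, hxy, hfa⟩ := (Module.Flat.iff_forall_isTrivialRelation.mp hflat) hrel
  refine ⟨k, fun i j => φ (a i j), y, fun i => ?_, fun j => ?_⟩
  · rw [hxy i]
    exact Finset.sum_congr rfl fun j _ => hsm _ _
  · have h1 := congrArg φ (hfa j)
    simpa only [map_sum, map_mul, map_zero, hg] using h1

/-- The completion is flat over the henselization of a Noetherian pair. -/
theorem flat_toCompletion [IsNoetherianRing A] (hB : Hens2.IsPairHenselization A I B) :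
    (powBij_henselization hB).toCompletion.Flat := by
  classical
  refine flat_of_stages _ fun l f => ?_
  obtain ⟨A', _, _, _, hbij, φ, hφ⟩ := exists_nhd_finite hB (Finset.univ.image f)
  choose g hg using fun i => hφ (Finset.mem_image_of_mem f (Finset.mem_univ i))
  haveI : IsNoetherianRing A' := Algebra.FiniteType.isNoetherianRing A A'
  refine ⟨A', inferInstance, φ.toRingHom, g, hg, ?_⟩
  have hcomp : (powBij_henselization hB).toCompletion.comp φ.toRingHom = (powBij_nhd hB hbij φ).toCompletion := by
    refine RingHom.ext fun z => AdicCompletion.ext_evalₐ fun n => ?_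
    obtain ⟨a, ha⟩ := (powBij_nhd hB hbij φ).exists_sub n z
    rw [(powBij_nhd hB hbij φ).evalₐ_toCompletion ha]
    refine (powBij_henselization hB).evalₐ_toCompletion ?_
    have h1 := Ideal.mem_map_of_mem φ.toRingHom ha
    rw [Ideal.map_pow, Ideal.map_map, show φ.toRingHom.comp (algebraMap A A') = algebraMap A B from
      RingHom.ext φ.commutes] at h1
    simpa using h1
  rw [hcomp]
  exact (powBij_nhd hB hbij φ).flat

/-- The completion is faithfully flat over the henselization of a Noetherian pair. -/
theorem faithfullyFlat_toCompletion [IsNoetherianRing A] (hB : Hens2.IsPairHenselization A I B) :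
    letI := (powBij_henselization hB).toCompletion.toAlgebra; Module.FaithfullyFlat B (AdicCompletion I A) := by
  classical
  let hb := powBij_henselization hB
  letI := hb.toCompletion.toAlgebra
  haveI : Module.Flat B (AdicCompletion I A) := flat_toCompletion hB
  refine ⟨fun m hm htop => hm.ne_top ?_⟩
  have hIm : I.map (algebraMap A B) ≤ m := hB.1.jac.trans (sInf_le ⟨bot_le, hm⟩)
  have h0 : m.map hb.toCompletion = ⊤ := by
    rw [Ideal.smul_top_eq_map] at htop
    exact Submodule.restrictScalars_injective B _ _ (by simpa [RingHom.algebraMap_toAlgebra] using htop)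
  let q : B →+* A ⧸ I ^ 1 := (AdicCompletion.evalₐ I 1).toRingHom.comp hb.toCompletion
  have hq : q = (hb.powInv 1).comp (Ideal.Quotient.mk _) := RingHom.ext fun b =>
    AdicCompletion.evalₐ_liftRingHom _ _ _ 1 b
  have h1 : (1 : A ⧸ I ^ 1) ∈ m.map q := by
    have h2 : m.map q = ⊤ := by rw [← Ideal.map_map, h0, Ideal.map_top]
    rw [h2]; trivial
  have hs : Function.Surjective q := by
    rw [hq]
    exact (RingEquiv.ofBijective _ (hb.powMap_bijective 1)).symm.surjective.comp Ideal.Quotient.mk_surjective
  obtain ⟨b, hb1, hb2⟩ := (Ideal.mem_map_iff_of_surjective q hs).1 h1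
  rw [hq] at hb2
  have h3 : Ideal.Quotient.mk (I.map (algebraMap A B) ^ 1) b = Ideal.Quotient.mk _ 1 := by
    rw [map_one, ← hb.powMap_powInv 1 (Ideal.Quotient.mk _ b)]
    exact (congrArg (powMap I B 1) hb2).trans (map_one _)
  have h4 := Ideal.Quotient.eq.1 h3
  rw [pow_one] at h4
  exact (Ideal.eq_top_iff_one _).2 (by simpa using Ideal.sub_mem _ hb1 (hIm h4))

theorem isNoetherianRing_pairHenselization [IsNoetherianRing A] (hB : Hens2.IsPairHenselization A I B) :
    IsNoetherianRing B := by
  letI := (powBij_henselization hB).toCompletion.toAlgebra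
  haveI := faithfullyFlat_toCompletion hB
  haveI := Groth.Agent.ResExt.isNoetherianRing_adicCompletion I (IsNoetherian.noetherian I)
  exact isNoetherianRing_of_faithfullyFlat (S := AdicCompletion I A)

theorem adicCompletionMap_bijective (h : PowBij I S) :
    Function.Bijective (AdicCompletion.map I (Algebra.linearMap A S)) := by
  have e : ∀ n, (I ^ n • ⊤ : Submodule A S) = (I.map (algebraMap A S) ^ n).restrictScalars A := fun n => by
    rw [Ideal.smul_top_eq_map, Ideal.map_pow]
  have hb : ∀ n, Function.Bijective ((Algebra.linearMap A S).reduceModIdeal (I ^ n)) := by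
    intro n
    refine ⟨(injective_iff_map_eq_zero _).2 fun x hx => ?_, fun y => ?_⟩
    · obtain ⟨r, rfl⟩ := Submodule.Quotient.mk_surjective _ x
      rw [LinearMap.reduceModIdeal_apply, Submodule.Quotient.mk_eq_zero, e] at hx
      rw [Submodule.Quotient.mk_eq_zero, smul_eq_mul, Ideal.mul_top]
      exact h.mem n r hx
    · obtain ⟨s, rfl⟩ := Submodule.Quotient.mk_surjective _ y
      obtain ⟨a, ha⟩ := h.exists_sub n s
      refine ⟨Submodule.Quotient.mk a, ?_⟩
      rw [LinearMap.reduceModIdeal_apply, Submodule.Quotient.eq, e]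
      exact (Submodule.sub_mem_iff_left _ (zero_mem _)).1 (by simpa using Submodule.neg_mem _ ha)
  refine ⟨fun x y hxy => AdicCompletion.ext fun n => (hb n).1 ?_, fun y => ?_⟩
  · have := congrArg (fun z => z.val n) hxy
    simpa only [AdicCompletion.map_val_apply] using this
  · choose x hx using fun n => (hb n).2 (y.val n)
    refine ⟨⟨x, fun {m n} hmn => (hb m).1 ?_⟩, AdicCompletion.ext fun n => hx n⟩
    have h1 := LinearMap.congr_fun (AdicCompletion.transitionMap_comp_reduceModIdeal I (Algebra.linearMap A S) hmn) (x n)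
    refine Eq.trans ?_ ((y.property hmn).trans (hx m).symm)
    rw [← hx n]
    exact h1.symm

end Groth.Agent.Hensel
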