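import Groth.Agent.Hensel.Idempotent

/-!
Operations on henselian pairs.
-/

set_option autoImplicit false

namespace Groth.Agent.Hensel

universe u v

open Polynomial

variable {A : Type u} [CommRing A] {I J : Ideal A}

theorem nilradical_le_jac : nilradical A ≤ Ideal.jacobson ⊥ :=
  le_sInf fun m hm => by haveI := hm.2.isPrime; exact nilradical_le_prime m

theorem simple_root_sub_mem (hI : I ≤ Ideal.jacobson ⊥) (f : A[X]) {a a₀ : A} (ha : f.IsRoot a) (h₁ : f.eval a₀ ∈ J)
    (hu : IsUnit (Ideal.Quotient.mk I (f.derivative.eval a₀))) (h : a - a₀ ∈ I) : a - a₀ ∈ J := by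
  obtain ⟨k, hk⟩ := f.binomExpansion a₀ (a - a₀)
  rw [add_sub_cancel, ha.eq_zero] at hk
  have hunit : IsUnit (f.derivative.eval a₀ + k * (a - a₀)) := isUnit_of_mk hI (by
    rw [map_add, map_mul, Ideal.Quotient.eq_zero_iff_mem.2 h, mul_zero, add_zero]; exact hu)
  refine (Ideal.unit_mul_mem_iff_mem J hunit).1 ?_
  rw [show (f.derivative.eval a₀ + k * (a - a₀)) * (a - a₀) = -f.eval a₀ by linear_combination -hk]
  exact J.neg_mem h₁

theorem henselianRing_mono [HenselianRing A J] (h : I ≤ J) : HenselianRing A I := by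
  refine ⟨h.trans HenselianRing.jac, fun f hf a₀ h₁ h₂ => ?_⟩
  have h₂' : IsUnit (Ideal.Quotient.mk J (f.derivative.eval a₀)) := by
    rw [← Ideal.Quotient.factor_mk h]; exact h₂.map _
  obtain ⟨a, ha, ha'⟩ := HenselianRing.is_henselian f hf a₀ (h h₁) h₂'
  exact ⟨a, ha, simple_root_sub_mem (I := J) HenselianRing.jac f ha h₁ h₂' ha'⟩

theorem henselianRing_quotient [HenselianRing A J] (hIJ : I ≤ J) :
    HenselianRing (A ⧸ I) (J.map (Ideal.Quotient.mk I)) := by
  have hjac : J ≤ Ideal.jacobson ⊥ := HenselianRing.jac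
  refine ⟨map_le_jacobson (B := A ⧸ I) hjac, fun f hf a₀ h₁ h₂ => ?_⟩
  rcases subsingleton_or_nontrivial (A ⧸ I) with hs | hs
  · exact ⟨a₀, Subsingleton.elim _ _, by rw [sub_self]; exact Submodule.zero_mem _⟩
  obtain ⟨F, hFmap, -, hF⟩ := Polynomial.lifts_and_degree_eq_and_monic
    ((Polynomial.lifts_iff_coeff_lifts _).2 fun n => Ideal.Quotient.mk_surjective (f.coeff n)) hf
  obtain ⟨a₁, rfl⟩ := Ideal.Quotient.mk_surjective a₀
  subst hFmap
  rw [eval_map_apply, ← Ideal.mem_comap, Ideal.comap_map_of_surjective' _ Ideal.Quotient.mk_surjective, Ideal.mk_ker,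
    sup_eq_left.2 hIJ] at h₁
  have h₂' : IsUnit (Ideal.Quotient.mk J (F.derivative.eval a₁)) := by
    rw [derivative_map, eval_map_apply] at h₂
    have := h₂.map (Ideal.Quotient.lift (J.map (Ideal.Quotient.mk I)) (Ideal.Quotient.factor hIJ) (fun x hx => by
      obtain ⟨y, hy, rfl⟩ := (Ideal.mem_map_iff_of_surjective _ Ideal.Quotient.mk_surjective).1 hx
      rw [Ideal.Quotient.factor_mk]; exact Ideal.Quotient.eq_zero_iff_mem.2 hy))
    rwa [Ideal.Quotient.lift_mk, Ideal.Quotient.factor_mk] at this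
  obtain ⟨a, ha, ha'⟩ := HenselianRing.is_henselian F hF a₁ h₁ h₂'
  refine ⟨Ideal.Quotient.mk I a, ?_, ?_⟩
  · rw [IsRoot, eval_map_apply, ha.eq_zero, map_zero]
  · rw [← map_sub]; exact Ideal.mem_map_of_mem _ ha'

theorem henselianRing_of_quotient (hIJ : I ≤ J) [HenselianRing A I]
    (h : HenselianRing (A ⧸ I) (J.map (Ideal.Quotient.mk I))) : HenselianRing A J := by
  have hIjac : I ≤ Ideal.jacobson ⊥ := HenselianRing.jac
  have hJjac : J ≤ Ideal.jacobson ⊥ := fun x hx => Ideal.mem_jacobson_bot.2 fun y => isUnit_of_mk hIjac (by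
    rw [map_add, map_mul, map_one]
    exact Ideal.mem_jacobson_bot.1 (h.jac (Ideal.mem_map_of_mem _ hx)) _)
  refine ⟨hJjac, fun f hf a₀ h₁ h₂ => ?_⟩
  have hu := isUnit_of_mk hJjac h₂
  obtain ⟨ā, hā, hā'⟩ := h.is_henselian (f.map (Ideal.Quotient.mk I)) (hf.map _) (Ideal.Quotient.mk I a₀)
    (by rw [eval_map_apply]; exact Ideal.mem_map_of_mem _ h₁)
    (by rw [derivative_map, eval_map_apply]; exact (hu.map _).map _)
  obtain ⟨a₁, rfl⟩ := Ideal.Quotient.mk_surjective ā
  rw [← map_sub, ← Ideal.mem_comap, Ideal.comap_map_of_surjective' _ Ideal.Quotient.mk_surjective, Ideal.mk_ker,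
    sup_eq_left.2 hIJ] at hā'
  have hu₁ : IsUnit (f.derivative.eval a₁) := isUnit_of_mk hJjac (by
    have : Ideal.Quotient.mk J a₁ = Ideal.Quotient.mk J a₀ := Ideal.Quotient.eq.2 hā'
    rw [mk_eval, this, ← mk_eval]; exact hu.map _)
  obtain ⟨a, ha, ha'⟩ := HenselianRing.is_henselian (I := I) f hf a₁
    (Ideal.Quotient.eq_zero_iff_mem.1 (by rw [mk_eval]; exact hā.eq_zero)) (hu₁.map _)
  refine ⟨a, ha, ?_⟩
  have := J.add_mem (hIJ ha') hā'
  rwa [sub_add_sub_cancel] at this

theorem henselianRing_of_nilpotent (hI : ∀ x ∈ I, IsNilpotent x) : HenselianRing A I := by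
  have hjac : I ≤ Ideal.jacobson ⊥ := fun x hx => nilradical_le_jac (mem_nilradical.2 (hI x hx))
  refine ⟨hjac, fun f hf a₀ h₁ h₂ => ?_⟩
  have hn : IsNilpotent (aeval a₀ f) := by rw [coe_aeval_eq_eval]; exact hI _ h₁
  obtain ⟨a, ⟨ha, haf⟩, -⟩ := Polynomial.existsUnique_nilpotent_sub_and_aeval_eq_zero hn
    (by rw [coe_aeval_eq_eval]; exact isUnit_of_mk hjac h₂)
  rw [coe_aeval_eq_eval] at haf
  have hm : a - a₀ ∈ nilradical A := mem_nilradical.2 (by simpa using ha.neg)
  exact ⟨a, haf, simple_root_sub_mem (I := nilradical A) nilradical_le_jac f haf h₁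
    ((isUnit_of_mk hjac h₂).map _) hm⟩

theorem henselianRing_iff_of_radical (h : I.radical = J.radical) : HenselianRing A I ↔ HenselianRing A J := by
  suffices key : ∀ K : Ideal A, HenselianRing A K ↔ HenselianRing A K.radical by rw [key I, key J, h]
  intro K
  refine ⟨fun _ => henselianRing_of_quotient Ideal.le_radical (henselianRing_of_nilpotent fun x hx => ?_),
    fun _ => henselianRing_mono (J := K.radical) Ideal.le_radical⟩
  obtain ⟨y, hy, rfl⟩ := (Ideal.mem_map_iff_of_surjective _ Ideal.Quotient.mk_surjective).1 hx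
  obtain ⟨n, hn⟩ := hy
  exact ⟨n, by rw [← map_pow]; exact Ideal.Quotient.eq_zero_iff_mem.2 hn⟩

theorem henselianRing_integral (A : Type u) [CommRing A] (I : Ideal A) [HenselianRing A I] (B : Type u) [CommRing B]
    [Algebra A B] [Algebra.IsIntegral A B] : HenselianRing B (I.map (algebraMap A B)) := by
  refine henselianRing_of_idempotents fun C _ _ _ => ?_
  letI : Algebra A C := ((algebraMap B C).comp (algebraMap A B)).toAlgebra
  haveI : IsScalarTower A B C := IsScalarTower.of_algebraMap_eq' rfl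
  haveI : Algebra.IsIntegral A C := Algebra.IsIntegral.trans B
  have e : (I.map (algebraMap A B)).map (algebraMap B C) = I.map (algebraMap A C) := Ideal.map_map _ _
  rw [e]
  exact bijOn_idempotents C

theorem henselianRing_sup [HenselianRing A I] (hJ : HenselianRing A J) : HenselianRing A (I ⊔ J) := by
  refine henselianRing_of_quotient le_sup_left ?_
  have := henselianRing_integral A J (A ⧸ I)
  rw [Ideal.map_sup, Ideal.map_quotient_self, bot_sup_eq]
  exact this

theorem henselianRing_bot : HenselianRing A (⊥ : Ideal A) :=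
  henselianRing_of_nilpotent fun x hx => by rw [Ideal.mem_bot.1 hx]; exact IsNilpotent.zero

theorem exists_greatest_henselian (A : Type u) [CommRing A] :
    ∃ I : Ideal A, HenselianRing A I ∧ ∀ J : Ideal A, HenselianRing A J → J ≤ I := by
  let S := {J : Ideal A | HenselianRing A J}
  have hne : S.Nonempty := ⟨⊥, henselianRing_bot⟩
  have hdir : DirectedOn (· ≤ ·) S := fun J hJ K hK => by
    haveI : HenselianRing A J := hJ
    exact ⟨J ⊔ K, henselianRing_sup hK, le_sup_left, le_sup_right⟩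
  refine ⟨sSup S, ⟨sSup_le fun J hJ => HenselianRing.jac (self := hJ), fun f hf a₀ h₁ h₂ => ?_⟩,
    fun J hJ => le_sSup hJ⟩
  obtain ⟨b, hb⟩ := h₂.exists_right_inv
  obtain ⟨b', rfl⟩ := Ideal.Quotient.mk_surjective b
  rw [← map_mul, ← map_one (Ideal.Quotient.mk (sSup S)), Ideal.Quotient.eq] at hb
  obtain ⟨J₁, hJ₁, h₁'⟩ := (Submodule.mem_sSup_of_directed hne hdir).1 h₁
  obtain ⟨J₂, hJ₂, hb'⟩ := (Submodule.mem_sSup_of_directed hne hdir).1 hb
  obtain ⟨K, hK, hK₁, hK₂⟩ := hdir J₁ hJ₁ J₂ hJ₂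
  haveI : HenselianRing A K := hK
  obtain ⟨a, ha, ha'⟩ := HenselianRing.is_henselian (I := K) f hf a₀ (hK₁ h₁')
    (IsUnit.of_mul_eq_one (Ideal.Quotient.mk K b') (by
      rw [← map_mul, ← map_one (Ideal.Quotient.mk K)]; exact Ideal.Quotient.eq.2 (hK₂ hb')))
  exact ⟨a, ha, le_sSup hK ha'⟩

theorem henselianRing_pi_iff {ι : Type u} {A : ι → Type u} [∀ j, CommRing (A j)] (I : ∀ j, Ideal (A j)) :
    HenselianRing (∀ j, A j) (⨅ j, Ideal.comap (Pi.evalRingHom A j) (I j)) ↔ ∀ j, HenselianRing (A j) (I j) := by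
  classical
  set K := ⨅ j, Ideal.comap (Pi.evalRingHom A j) (I j) with hKdef
  have hmem : ∀ x : ∀ j, A j, x ∈ K ↔ ∀ j, x j ∈ I j := fun x => by simp [hKdef, Ideal.mem_iInf]
  constructor
  · intro h j
    letI : Algebra (∀ j, A j) (A j) := (Pi.evalRingHom A j).toAlgebra
    have hup : ∀ y : A j, algebraMap (∀ j, A j) (A j) (Function.update 0 j y) = y := fun y => Function.update_self (f := (0 : ∀ j, A j)) j y
    have hs : Function.Surjective (algebraMap (∀ j, A j) (A j)) := fun y => ⟨_, hup y⟩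
    haveI : Algebra.IsIntegral (∀ j, A j) (A j) := ⟨fun y => by obtain ⟨x, rfl⟩ := hs y; exact isIntegral_algebraMap⟩
    have h' := henselianRing_integral (∀ j, A j) K (A j)
    have e : K.map (algebraMap (∀ j, A j) (A j)) = I j := by
      ext y
      rw [Ideal.mem_map_iff_of_surjective _ hs]
      refine ⟨fun ⟨x, hx, hxy⟩ => hxy ▸ (hmem x).1 hx j, fun hy => ⟨Function.update 0 j y, (hmem _).2 fun k => ?_,
        hup y⟩⟩
      rcases eq_or_ne k j with rfl | hk
      · rwa [Function.update_self]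
      · rw [Function.update_of_ne hk]; exact (I k).zero_mem
    rwa [e] at h'
  · intro h
    have hjac : ∀ x ∈ K, ∀ y, IsUnit (x * y + 1) := fun x hx y => by
      rw [Pi.isUnit_iff]
      exact fun j => Ideal.mem_jacobson_bot.1 ((h j).jac ((hmem x).1 hx j)) _
    refine ⟨fun x hx => Ideal.mem_jacobson_bot.2 (hjac x hx), fun f hf a₀ h₁ h₂ => ?_⟩
    have hev : ∀ (g : (∀ j, A j)[X]) (x : ∀ j, A j) j, (g.map (Pi.evalRingHom A j)).eval (x j) = g.eval x j :=
      fun g x j => eval_map_apply (Pi.evalRingHom A j) x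
    have hex : ∀ j, ∃ a : A j, (f.map (Pi.evalRingHom A j)).IsRoot a ∧ a - a₀ j ∈ I j := fun j => by
      refine (h j).is_henselian _ (hf.map _) (a₀ j) (by rw [hev]; exact (hmem _).1 h₁ j) ?_
      rw [derivative_map, hev]
      have := h₂.map (Ideal.Quotient.lift K ((Ideal.Quotient.mk (I j)).comp (Pi.evalRingHom A j))
        fun x hx => Ideal.Quotient.eq_zero_iff_mem.2 ((hmem x).1 hx j))
      rwa [Ideal.Quotient.lift_mk] at this
    choose a ha ha' using hex
    exact ⟨a, funext fun j => (hev f a j).symm.trans (ha j), (hmem _).2 ha'⟩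

theorem connectedSpace_quotient_sup (A : Type u) [CommRing A] (I : Ideal A) [HenselianRing A I] (p : Ideal A)
    [p.IsPrime] : ConnectedSpace (PrimeSpectrum (A ⧸ p ⊔ I)) := by
  haveI hne : Nontrivial (A ⧸ p ⊔ I) := Ideal.Quotient.nontrivial_iff.2 fun h => by
    obtain ⟨m, hm, hpm⟩ := Ideal.exists_le_maximal p Ideal.IsPrime.ne_top'
    exact hm.ne_top (top_le_iff.1 (h ▸ sup_le hpm ((HenselianRing.jac : I ≤ _).trans (sInf_le ⟨bot_le, hm⟩))))
  haveI : PreconnectedSpace (PrimeSpectrum (A ⧸ p ⊔ I)) := by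
    rw [preconnectedSpace_iff_clopen]
    intro U hU
    obtain ⟨x, hx, rfl⟩ := PrimeSpectrum.isClopen_iff.1 hU
    suffices h01 : x = 0 ∨ x = 1 by
      rcases h01 with rfl | rfl
      · left; simp
      · right; simp
    obtain ⟨b, rfl⟩ := Ideal.Quotient.mk_surjective x
    obtain ⟨e, he, heb⟩ := exists_idempotent_lift (I := I) (Ideal.Quotient.mk p b) (by
      have : Ideal.Quotient.mk (p ⊔ I) (b * b - b) = 0 := by rw [map_sub, map_mul, hx.eq, sub_self]
      rw [Ideal.Quotient.eq_zero_iff_mem] at this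
      have h2 := Ideal.mem_map_of_mem (Ideal.Quotient.mk p) this
      rwa [Ideal.map_sup, Ideal.map_quotient_self, bot_sup_eq, map_sub, map_mul] at h2)
    obtain ⟨e', rfl⟩ := Ideal.Quotient.mk_surjective e
    have hb : Ideal.Quotient.mk (p ⊔ I) b = Ideal.Quotient.mk (p ⊔ I) e' := by
      rw [eq_comm, Ideal.Quotient.eq]
      rw [← map_sub] at heb
      change _ ∈ I.map (Ideal.Quotient.mk p) at heb
      rwa [← Ideal.mem_comap, Ideal.comap_map_of_surjective' _ Ideal.Quotient.mk_surjective, Ideal.mk_ker, sup_comm] at heb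
    rw [hb]
    rcases IsIdempotentElem.iff_eq_zero_or_one.1 he with h | h
    · left
      rw [Ideal.Quotient.eq_zero_iff_mem] at h ⊢
      exact Ideal.mem_sup_left h
    · right
      rw [← map_one (Ideal.Quotient.mk p), Ideal.Quotient.eq] at h
      rw [← map_one (Ideal.Quotient.mk (p ⊔ I)), Ideal.Quotient.eq]
      exact Ideal.mem_sup_left h
  exact ⟨inferInstance⟩

end Groth.Agent.Hensel
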