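import Groth.Agent.Hensel.System

/-!
Over henselian pairs: idempotent matrices, projective modules and sections of smooth algebras lift.
-/

set_option autoImplicit false

namespace Groth.Agent.Hensel

universe u v

open scoped TensorProduct

variable {A : Type u} [CommRing A] {I : Ideal A}

theorem eval_sub_eval_mem {σ : Type*} (p : MvPolynomial σ A) {b a : σ → A} (h : ∀ i, b i - a i ∈ I) :
    MvPolynomial.eval b p - MvPolynomial.eval a p ∈ I := by
  have h1 : Ideal.Quotient.mk I ∘ b = Ideal.Quotient.mk I ∘ a := funext fun i => Ideal.Quotient.eq.2 (h i)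
  rw [← Ideal.Quotient.eq, MvPolynomial.eval₂_comp, MvPolynomial.eval₂_comp, h1]

/-- Idempotent matrices lift over henselian pairs. -/
theorem exists_matrix_idempotent_lift [HenselianRing A I] {n : ℕ} (N : Matrix (Fin n) (Fin n) (A ⧸ I))
    (hN : IsIdempotentElem N) :
    ∃ e : Matrix (Fin n) (Fin n) A, IsIdempotentElem e ∧ e.map (Ideal.Quotient.mk I) = N := by
  classical
  choose M₀ hM₀ using fun i j => Ideal.Quotient.mk_surjective (N i j)
  let M : Matrix (Fin n) (Fin n) A := Matrix.of M₀
  let φ : Matrix (Fin n) (Fin n) A →ₐ[A] Matrix (Fin n) (Fin n) (A ⧸ I) := (Ideal.Quotient.mkₐ A I).mapMatrix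
  have hM : φ M = N := Matrix.ext hM₀
  set Q := (M * M - M).charpoly with hQdef
  have hQmap : Q.map (Ideal.Quotient.mk I) = Polynomial.X ^ n := by
    rw [hQdef, ← Matrix.charpoly_map]
    have h0 : (M * M - M).map (Ideal.Quotient.mk I) = 0 := by
      change φ (M * M - M) = 0
      rw [map_sub, map_mul, hM, hN.eq, sub_self]
    rw [h0, Matrix.charpoly_zero, Fintype.card_fin]
  let P : Polynomial A := Q.comp (Polynomial.X ^ 2 - Polynomial.X)
  have hPm : P.Monic := by
    nontriviality A
    refine (Matrix.charpoly_monic _).comp ((Polynomial.monic_X_pow 2).sub_of_left (by rw [Polynomial.degree_X_pow, Polynomial.degree_X]; decide)) ?_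
    rw [Polynomial.natDegree_sub_eq_left_of_natDegree_lt] <;> simp
  have hPM : Polynomial.aeval M P = 0 := by
    rw [Polynomial.aeval_comp, map_sub, map_pow, Polynomial.aeval_X, sq]
    exact Matrix.aeval_self_charpoly _
  haveI : Module.Finite A (AdjoinRoot P) := hPm.finite_adjoinRoot
  let ψ : AdjoinRoot P →ₐ[A] Matrix (Fin n) (Fin n) A :=
    Ideal.Quotient.liftₐ _ (Polynomial.aeval M) fun x hx => by
      obtain ⟨c, rfl⟩ := Ideal.mem_span_singleton'.1 hx
      rw [map_mul, hPM, mul_zero]
  set J : Ideal (AdjoinRoot P) := I.map (algebraMap A (AdjoinRoot P)) with hJ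
  let x : AdjoinRoot P := AdjoinRoot.root P
  have hψx : ψ x = M := Polynomial.aeval_X M
  have hx : x * x - x ∈ J.radical := by
    refine ⟨n, ?_⟩
    have hQx : Polynomial.aeval (x * x - x) Q = 0 := by
      have : Polynomial.aeval x P = 0 := by rw [AdjoinRoot.aeval_eq, AdjoinRoot.mk_self]
      rw [Polynomial.aeval_comp, map_sub, map_pow, Polynomial.aeval_X, sq] at this
      exact this
    have hmem : Polynomial.aeval (x * x - x) (Q - Polynomial.X ^ n) ∈ J := by
      rw [Polynomial.aeval_eq_sum_range]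
      refine Submodule.sum_mem _ fun i _ => ?_
      rw [Algebra.smul_def]
      refine Ideal.mul_mem_right _ _ (Ideal.mem_map_of_mem _ ?_)
      rw [← Ideal.Quotient.eq_zero_iff_mem, ← Polynomial.coeff_map, Polynomial.map_sub, hQmap, Polynomial.map_pow,
        Polynomial.map_X, sub_self, Polynomial.coeff_zero]
    rw [map_sub, hQx, zero_sub, map_pow, Polynomial.aeval_X, Ideal.neg_mem_iff] at hmem
    exact hmem
  haveI h1 : HenselianRing (AdjoinRoot P) J := henselianRing_integral A I (AdjoinRoot P)
  haveI h2 : HenselianRing (AdjoinRoot P) J.radical :=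
    (henselianRing_iff_of_radical (Ideal.radical_idem J).symm).1 h1
  obtain ⟨ε, hε, hεx⟩ := exists_idempotent_lift (A := AdjoinRoot P) (I := J.radical) (B := AdjoinRoot P) x
    (by rw [Algebra.algebraMap_self, Ideal.map_id]; exact hx)
  rw [Algebra.algebraMap_self, Ideal.map_id] at hεx
  refine ⟨ψ ε, hε.map ψ, ?_⟩
  obtain ⟨k, hk⟩ := hεx
  have hker : ∀ y ∈ J, φ (ψ y) = 0 := fun y hy => by
    induction hy using Submodule.span_induction with
    | mem y hy =>
      obtain ⟨i, hi, rfl⟩ := hy
      rw [AlgHom.commutes, AlgHom.commutes, IsScalarTower.algebraMap_apply A (A ⧸ I), Ideal.Quotient.algebraMap_eq,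
        Ideal.Quotient.eq_zero_iff_mem.2 hi, map_zero]
    | zero => rw [map_zero, map_zero]
    | add y z _ _ hy hz => rw [map_add, map_add, hy, hz, add_zero]
    | smul y z _ hz => rw [smul_eq_mul, map_mul, map_mul, hz, mul_zero]
  change φ (ψ ε) = N
  set e' := φ (ψ ε) with he'
  have hee : e' * e' = e' := by rw [he', ← map_mul, ← map_mul, hε.eq]
  have hcomm : e' * N = N * e' := by rw [he', ← hM, ← hψx, ← map_mul, ← map_mul, ← map_mul, ← map_mul, mul_comm]
  have hnil : (e' - N) ^ k = 0 := by
    have := hker _ hk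
    rwa [map_pow, map_pow, map_sub, map_sub, hψx, hM] at this
  have h3 : (e' - N) ^ 3 = e' - N := by
    have hNN : N * N = N := hN
    have a1 : ∀ z, e' * (e' * z) = e' * z := fun z => by rw [← mul_assoc, hee]
    have a2 : ∀ z, N * (N * z) = N * z := fun z => by rw [← mul_assoc, hNN]
    have a3 : ∀ z, e' * (N * z) = N * (e' * z) := fun z => by rw [← mul_assoc, hcomm, mul_assoc]
    simp only [pow_succ, pow_zero, one_mul, sub_mul, mul_sub, mul_assoc, hee, hNN, hcomm, a1, a2, a3]
    abel
  have hodd : ∀ j : ℕ, (e' - N) ^ (2 * j + 1) = e' - N := fun j => by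
    induction j with
    | zero => simp
    | succ j ih =>
      rw [show 2 * (j + 1) + 1 = (2 * j + 1) + 2 by ring, pow_add, ih, ← pow_succ']
      exact h3
  have := hodd k
  rw [show 2 * k + 1 = k + (k + 1) by ring, pow_add, hnil, zero_mul] at this
  exact sub_eq_zero.1 this.symm

/-- Finite projective modules lift over henselian pairs. -/
theorem exists_projective_lift [HenselianRing A I] (Q : Type u) [AddCommGroup Q] [Module (A ⧸ I) Q]
    [Module.Finite (A ⧸ I) Q] [Module.Projective (A ⧸ I) Q] :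
    ∃ (P : Type u) (_ : AddCommGroup P) (_ : Module A P), Module.Finite A P ∧ Module.Projective A P ∧
      Nonempty ((A ⧸ I) ⊗[A] P ≃ₗ[A ⧸ I] Q) := by
  classical
  obtain ⟨n, π, hπ⟩ := Module.Finite.exists_fin' (A ⧸ I) Q
  obtain ⟨s, hs⟩ := Module.projective_lifting_property π LinearMap.id hπ
  have hps : ∀ q, π (s q) = q := fun q => LinearMap.congr_fun hs q
  let N : Matrix (Fin n) (Fin n) (A ⧸ I) := LinearMap.toMatrix' (s.comp π)
  have hN : IsIdempotentElem N := by
    change N * N = N
    rw [← LinearMap.toMatrix'_comp]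
    congr 1
    exact LinearMap.ext fun v => by simp [hps]
  obtain ⟨e, he, hem⟩ := exists_matrix_idempotent_lift N hN
  let E : (Fin n → A) →ₗ[A] (Fin n → A) := Matrix.toLin' e
  have hE : ∀ v, E (E v) = E v := fun v => by
    rw [← LinearMap.comp_apply]
    change ((Matrix.toLin' e).comp (Matrix.toLin' e)) v = _
    rw [← Matrix.toLin'_mul, he.eq]
  let P := LinearMap.range E
  haveI hPf : Module.Finite A P := Module.Finite.range E
  haveI hPp : Module.Projective A P := Module.Projective.of_split P.subtype E.rangeRestrict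
    (LinearMap.ext fun ⟨v, w, hw⟩ => Subtype.ext (by change E v = v; rw [← hw, hE]))
  refine ⟨P, inferInstance, inferInstance, hPf, hPp, ?_⟩
  letI : Module A Q := Module.compHom Q (Ideal.Quotient.mk I)
  haveI : IsScalarTower A (A ⧸ I) Q := IsScalarTower.of_algebraMap_smul fun _ _ => rfl
  let red : (Fin n → A) →ₗ[A] (Fin n → A ⧸ I) := (Algebra.linearMap A (A ⧸ I)).compLeft (Fin n)
  have hred : ∀ v, red (E v) = s (π (red v)) := fun v => by
    have h1 : Matrix.mulVec N (red v) = s (π (red v)) := by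
      rw [← Matrix.toLin'_apply, Matrix.toLin'_toMatrix']
      rfl
    rw [← h1, ← hem]
    funext i
    simp [red, E, Matrix.mulVec, dotProduct]
  let g : P →ₗ[A] Q := ((π.restrictScalars A).comp red).comp P.subtype
  have hgsurj : Function.Surjective g := fun q => by
    choose v hv using fun i => Ideal.Quotient.mk_surjective (s q i)
    refine ⟨⟨E v, v, rfl⟩, ?_⟩
    change π (red (E v)) = q
    rw [hred, hps]
    have : red v = s q := funext hv
    rw [this, hps]
  have hgker : LinearMap.ker g = I • (⊤ : Submodule A P) := by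
    refine le_antisymm (fun w hw => ?_) (Submodule.smul_le.2 fun a ha w _ => ?_)
    · obtain ⟨w, v, rfl⟩ := w
      have h1 : π (red (E v)) = 0 := hw
      rw [hred, hps] at h1
      have h2 : red (E v) = 0 := by rw [hred, h1, map_zero]
      have h3 : (⟨E v, v, rfl⟩ : P) = ∑ i, (E v i) • E.rangeRestrict (Pi.single i 1) := by
        apply Subtype.ext
        change E v = _
        conv_lhs => rw [← hE v]
        simp only [Submodule.coe_sum, SetLike.val_smul]
        rw [show ∑ i, E v i • (E.rangeRestrict (Pi.single i 1) : Fin n → A) = E (∑ i, E v i • Pi.single i 1) by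
          rw [map_sum]; exact Finset.sum_congr rfl fun i _ => (map_smul E _ _).symm]
        congr 1
        exact pi_eq_sum_univ' (E v)
      rw [h3]
      refine Submodule.sum_mem _ fun i _ => Submodule.smul_mem_smul ?_ trivial
      exact Ideal.Quotient.eq_zero_iff_mem.1 (congrFun h2 i)
    · change g (a • w) = 0
      rw [map_smul]
      change Ideal.Quotient.mk I a • g w = 0
      rw [Ideal.Quotient.eq_zero_iff_mem.2 ha, zero_smul]
  let gb : (A ⧸ I) ⊗[A] P →ₗ[A ⧸ I] Q := LinearMap.liftBaseChange (A ⧸ I) g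
  refine ⟨LinearEquiv.ofBijective gb ⟨(injective_iff_map_eq_zero gb).2 fun z hz => ?_, fun q => ?_⟩⟩
  · obtain ⟨w, rfl⟩ := TensorProduct.mk_surjective A P (A ⧸ I) Ideal.Quotient.mk_surjective z
    simp only [TensorProduct.mk_apply, gb, LinearMap.liftBaseChange_tmul, one_smul] at hz ⊢
    have hw : w ∈ I • (⊤ : Submodule A P) := hgker ▸ hz
    clear hz
    refine Submodule.smul_induction_on (p := fun w => (1 : A ⧸ I) ⊗ₜ[A] w = 0) hw (fun a ha x _ => ?_)
      (fun x y hx hy => by rw [TensorProduct.tmul_add, hx, hy, add_zero])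
    ·
      rw [TensorProduct.tmul_smul, TensorProduct.smul_tmul', Algebra.smul_def, mul_one, Ideal.Quotient.algebraMap_eq,
        Ideal.Quotient.eq_zero_iff_mem.2 ha, TensorProduct.zero_tmul]
  · obtain ⟨w, hw⟩ := hgsurj q
    exact ⟨1 ⊗ₜ w, by simp [gb, hw]⟩

/-- Isomorphisms of finite projective modules lift. -/
theorem nonempty_linearEquiv_of_quotient (hI : I ≤ Ideal.jacobson ⊥) (P₁ P₂ : Type v) [AddCommGroup P₁] [Module A P₁]
    [AddCommGroup P₂] [Module A P₂] [Module.Finite A P₁] [Module.Projective A P₁] [Module.Finite A P₂]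
    [Module.Projective A P₂] (e : (A ⧸ I) ⊗[A] P₁ ≃ₗ[A ⧸ I] (A ⧸ I) ⊗[A] P₂) : Nonempty (P₁ ≃ₗ[A] P₂) := by
  have key : ∀ (M N : Type v) [AddCommGroup M] [Module A M] [AddCommGroup N] [Module A N] [Module.Finite A N]
      [Module.Projective A M] (f : (A ⧸ I) ⊗[A] M ≃ₗ[A ⧸ I] (A ⧸ I) ⊗[A] N),
      ∃ g : M →ₗ[A] N, Function.Surjective g := by
    intro M N _ _ _ _ _ _ f
    have hs : Function.Surjective (TensorProduct.mk A (A ⧸ I) N 1) :=
      TensorProduct.mk_surjective A N (A ⧸ I) Ideal.Quotient.mk_surjective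
    obtain ⟨g, hg⟩ := Module.projective_lifting_property (TensorProduct.mk A (A ⧸ I) N 1)
      ((f.restrictScalars A).toLinearMap.comp (TensorProduct.mk A (A ⧸ I) M 1)) hs
    refine ⟨g, LinearMap.range_eq_top.1 (top_le_iff.1
      (Submodule.le_of_le_smul_of_le_jacobson_bot (I := I) Module.Finite.fg_top hI fun y _ => ?_))⟩
    obtain ⟨x, hx⟩ := TensorProduct.mk_surjective A M (A ⧸ I) Ideal.Quotient.mk_surjective (f.symm (1 ⊗ₜ y))
    have h1 : (1 : A ⧸ I) ⊗ₜ[A] g x = 1 ⊗ₜ y := (LinearMap.congr_fun hg x).trans (by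
      change f (TensorProduct.mk A (A ⧸ I) M 1 x) = _
      rw [hx, LinearEquiv.apply_symm_apply])
    refine Submodule.mem_sup.2 ⟨g x, ⟨x, rfl⟩, y - g x, ?_, by abel⟩
    have h2 : (1 : A ⧸ I) ⊗ₜ[A] (y - g x) = 0 := by rw [TensorProduct.tmul_sub, h1, sub_self]
    have h3 := congrArg (TensorProduct.quotTensorEquivQuotSMul N I) h2
    rw [← map_one (Ideal.Quotient.mk I), TensorProduct.quotTensorEquivQuotSMul_mk_tmul, one_smul, map_zero,
      Submodule.Quotient.mk_eq_zero] at h3
    exact h3
  obtain ⟨f, hf⟩ := key P₁ P₂ e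
  obtain ⟨g, hg⟩ := key P₂ P₁ e.symm
  have hinj : Function.Injective (g.comp f) :=
    OrzechProperty.injective_of_surjective_endomorphism _ (hg.comp hf)
  exact ⟨LinearEquiv.ofBijective f ⟨fun x y h => hinj (congrArg g h), hf⟩⟩

open MvPolynomial in
/-- Sections of smooth algebras lift over henselian pairs. -/
theorem exists_smooth_lift [HenselianRing A I] (C : Type u) [CommRing C] [Algebra A C] [Algebra.Smooth A C]
    (σ : C →ₐ[A] A ⧸ I) : ∃ τ : C →ₐ[A] A, ∀ x, Ideal.Quotient.mk I (τ x) = σ x := by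
  classical
  obtain ⟨n, π, hπ, hfg⟩ := Algebra.FinitePresentation.out (R := A) (A := C)
  obtain ⟨r, f, hf⟩ := Submodule.fg_iff_exists_fin_generating_family.1 hfg
  set K := RingHom.ker π.toRingHom with hKdef
  let P := MvPolynomial (Fin n) A
  let eC : (P ⧸ K) ≃ₐ[A] C := Ideal.quotientKerAlgEquivOfSurjective hπ
  let p : (P ⧸ K ^ 2) →ₐ[A] C := Ideal.Quotient.liftₐ (K ^ 2) π fun x hx => Ideal.pow_le_self two_ne_zero hx
  have hpsurj : Function.Surjective p := fun c => by
    obtain ⟨x, rfl⟩ := hπ c
    exact ⟨Ideal.Quotient.mk _ x, rfl⟩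
  obtain ⟨sec, hsec⟩ : ∃ sec : C →ₐ[A] P ⧸ K ^ 2, p.comp sec = AlgHom.id A C := by
    refine ⟨Algebra.FormallySmooth.liftOfSurjective (AlgHom.id A C) p hpsurj ?_, Algebra.FormallySmooth.comp_liftOfSurjective _ _ _ _⟩
    refine ⟨2, ?_⟩
    rw [Ideal.zero_eq_bot, eq_bot_iff]
    refine (Ideal.pow_right_mono (I := RingHom.ker p) (J := K.map (Ideal.Quotient.mk (K ^ 2))) (fun y hy => ?_) 2).trans ?_
    · obtain ⟨z, rfl⟩ := Ideal.Quotient.mk_surjective y
      exact Ideal.mem_map_of_mem _ hy
    · rw [← Ideal.map_pow, Ideal.map_quotient_self]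
  choose s hs using fun i => Ideal.Quotient.mk_surjective (sec (π (X i)))
  let θ : P →ₐ[A] P := aeval s
  have hθ : ∀ x, Ideal.Quotient.mk (K ^ 2) (θ x) = sec (π x) := fun x => by
    have : (Ideal.Quotient.mkₐ A (K ^ 2)).comp θ = sec.comp π := MvPolynomial.algHom_ext fun i => by
      simp only [AlgHom.comp_apply, θ, aeval_X, Ideal.Quotient.mkₐ_eq_mk, hs]
    exact AlgHom.congr_fun this x
  let g : Fin n → P := fun i => X i - s i
  have hgK : ∀ i, g i ∈ K := fun i => by
    change π (X i - s i) = 0
    rw [map_sub, sub_eq_zero]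
    have := congrArg p (hs i)
    rw [← AlgHom.comp_apply p sec, hsec] at this
    exact this.symm
  -- Taylor expansion modulo `K ^ 2`
  have hT : ∀ x : P, θ x - x + ∑ i, pderiv i x * g i ∈ K ^ 2 := fun x => by
    induction x using MvPolynomial.induction_on with
    | C a =>
      have : θ (MvPolynomial.C a) = MvPolynomial.C a := θ.commutes a
      simp [this]
    | add x y hx hy =>
      have := (K ^ 2).add_mem hx hy
      convert this using 1
      simp only [map_add, add_mul, Finset.sum_add_distrib]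
      ring
    | mul_X x j hx =>
      have h1 : θ x - x ∈ K := by
        have := K.sub_mem (Ideal.pow_le_self two_ne_zero hx) (K.sum_mem (t := Finset.univ) fun i _ => K.mul_mem_left (pderiv i x) (hgK i))
        rwa [add_sub_cancel_right] at this
      have h2 : (θ x - x) * (θ (X j) - X j) ∈ K ^ 2 := by
        rw [sq]
        refine Ideal.mul_mem_mul h1 ?_
        have := K.neg_mem (hgK j)
        rwa [neg_sub, ← aeval_X (R := A) s j] at this
      have h3 : ∑ i, pderiv i (x * X j) * g i = X j * (∑ i, pderiv i x * g i) + x * g j := by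
        rw [Finset.sum_congr rfl fun i _ => by rw [Derivation.leibniz, smul_eq_mul, smul_eq_mul, pderiv_X, add_mul]]
        rw [Finset.sum_add_distrib, Finset.mul_sum, add_comm]
        congr 1
        · exact Finset.sum_congr rfl fun i _ => by ring
        · simp [Pi.single_apply, mul_assoc]
      have := (K ^ 2).add_mem h2 (Ideal.mul_mem_left _ (X j) hx)
      have hθX : θ (X j) = s j := aeval_X (R := A) s j
      rw [hθX] at this
      convert this using 1
      rw [h3, map_mul, hθX, show g j = X j - s j from rfl]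
      ring
  have hexp : ∀ x ∈ K, x - ∑ i, pderiv i x * g i ∈ K ^ 2 := fun x hx => by
    have h1 : θ x ∈ K ^ 2 := Ideal.Quotient.eq_zero_iff_mem.1 (by rw [hθ, show π x = 0 from hx, map_zero])
    have := (K ^ 2).sub_mem h1 (hT x)
    convert this using 1
    ring
  choose a ha using fun i => Ideal.Quotient.mk_surjective (σ (π (X i)))
  have hKa : ∀ x ∈ K, eval a x ∈ I := fun x hx => by
    rw [← Ideal.Quotient.eq_zero_iff_mem]
    have : (Ideal.Quotient.mkₐ A I).comp (aeval a) = σ.comp π := MvPolynomial.algHom_ext fun i => by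
      simp only [AlgHom.comp_apply, aeval_X, Ideal.Quotient.mkₐ_eq_mk, ha]
    have h2 := AlgHom.congr_fun this x
    simp only [AlgHom.comp_apply, show π x = 0 from hx, map_zero, Ideal.Quotient.mkₐ_eq_mk] at h2
    exact h2
  let N : Matrix (Fin n) (Fin n) (A ⧸ I) := Matrix.of fun i k => Ideal.Quotient.mk I (eval a (pderiv k (g i)))
  have hN : IsIdempotentElem N := by
    refine Matrix.ext fun i l => ?_
    have h1 : ∀ z ∈ K ^ 2, Ideal.Quotient.mk I (eval a (pderiv l z)) = 0 := fun z hz => by
      rw [sq] at hz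
      induction hz using Submodule.mul_induction_on' with
      | mem_mul_mem x hx y hy =>
        rw [Derivation.leibniz, smul_eq_mul, smul_eq_mul, map_add, map_mul, map_mul, Ideal.Quotient.eq_zero_iff_mem]
        exact I.add_mem (I.mul_mem_right _ (hKa x hx)) (I.mul_mem_right _ (hKa y hy))
      | add x _ y _ hx hy => rw [map_add, map_add, map_add, hx, hy, add_zero]
    have h2 := h1 _ (hexp (g i) (hgK i))
    simp only [map_sub, map_sum, Derivation.leibniz, smul_eq_mul, map_add, map_mul,
      Ideal.Quotient.eq_zero_iff_mem.2 (hKa _ (hgK _)), zero_mul, add_zero, sub_eq_zero] at h2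
    rw [Matrix.mul_apply]
    simp only [N, Matrix.of_apply]
    exact h2.symm
  obtain ⟨e, he, heN⟩ := exists_matrix_idempotent_lift N hN
  let G : Fin n → P := fun i => ∑ k, MvPolynomial.C (e i k) * g k + ∑ k, MvPolynomial.C ((1 - e) i k) * (X k - MvPolynomial.C (a k))
  have hGa : ∀ i, eval a (G i) ∈ I := fun i => by
    simp only [G, map_add, map_sum, map_mul, eval_C, map_sub, eval_X, sub_self, mul_zero, Finset.sum_const_zero, add_zero]
    exact I.sum_mem fun k _ => I.mul_mem_left _ (hKa _ (hgK k))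
  have hdet : IsUnit (Ideal.Quotient.mk I (eval a (jacDet G))) := by
    have h1 : (Matrix.of fun i j => pderiv i (G j)).map ((Ideal.Quotient.mk I).comp (eval a)) = (N * N + (1 - N)).transpose := by
      refine Matrix.ext fun i j => ?_
      simp only [Matrix.map_apply, Matrix.of_apply, Matrix.transpose_apply, Matrix.add_apply, Matrix.mul_apply,
        Matrix.sub_apply, RingHom.comp_apply, G]
      simp only [map_add, map_sum, Derivation.leibniz, smul_eq_mul, map_sub, pderiv_C, pderiv_X, mul_zero, add_zero,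
        sub_zero, map_mul, eval_C]
      congr 1
      · refine Finset.sum_congr rfl fun k _ => ?_
        rw [show Ideal.Quotient.mk I (e j k) = N j k from congrFun (congrFun heN j) k]
        rfl
      · rw [Finset.sum_eq_single i (fun k _ hk => by simp [hk.symm]) (by simp)]
        have h4 : Ideal.Quotient.mk I (e j i) = N j i := congrFun (congrFun heN j) i
        simp [Matrix.one_apply, h4, apply_ite]
    rw [← RingHom.comp_apply, jacDet, RingHom.map_det, RingHom.mapMatrix_apply, h1, hN.eq, Matrix.det_transpose,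
      add_sub_cancel, Matrix.det_one]
    exact isUnit_one
  obtain ⟨b, ⟨hbG, hba⟩, -⟩ := existsUnique_root_system G a hGa hdet
  have heg : ∀ i, ∑ k, e i k * eval b (g k) = 0 := fun i => by
    have hv : Matrix.mulVec e (fun k => eval b (g k)) + Matrix.mulVec (1 - e) (fun k => b k - a k) = 0 := by
      funext i
      have := hbG i
      simpa [G, Matrix.mulVec, dotProduct] using this
    have hv2 := congrArg (Matrix.mulVec e) hv
    rw [Matrix.mulVec_add, Matrix.mulVec_mulVec, Matrix.mulVec_mulVec, he.eq, mul_sub, mul_one, he.eq, sub_self,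
      Matrix.zero_mulVec, add_zero, Matrix.mulVec_zero] at hv2
    exact congrFun hv2 i
  let Jb : Ideal A := Ideal.span (Set.range fun j => eval b (f j))
  have hKb : ∀ x ∈ K, eval b x ∈ Jb := fun x hx => by
    rw [← hf] at hx
    obtain ⟨c, rfl⟩ := (Submodule.mem_span_range_iff_exists_fun _).1 hx
    rw [map_sum]
    exact Jb.sum_mem fun j _ => by
      rw [smul_eq_mul, map_mul]
      exact Jb.mul_mem_left _ (Ideal.subset_span ⟨j, rfl⟩)
  have hK2 : ∀ x ∈ K ^ 2, eval b x ∈ I * Jb := fun x hx => by
    rw [sq] at hx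
    induction hx using Submodule.mul_induction_on' with
    | mem_mul_mem x hx y hy =>
      rw [map_mul]
      refine Ideal.mul_mem_mul ?_ (hKb y hy)
      have := I.add_mem (eval_sub_eval_mem x hba) (hKa x hx)
      rwa [sub_add_cancel] at this
    | add x _ y _ hx hy => rw [map_add]; exact Submodule.add_mem _ hx hy
  have hg : ∀ i, eval b (g i) ∈ I * Jb := fun i => by
    have h1 := hK2 _ (hexp (g i) (hgK i))
    rw [map_sub, map_sum, Finset.sum_congr rfl fun k _ => map_mul (eval b) _ _] at h1
    have h2 : ∑ k, eval b (pderiv k (g i)) * eval b (g k) ∈ I * Jb := by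
      rw [← sub_zero (∑ k, eval b (pderiv k (g i)) * eval b (g k)), ← heg i, ← Finset.sum_sub_distrib]
      refine Submodule.sum_mem _ fun k _ => ?_
      rw [← sub_mul]
      refine Ideal.mul_mem_mul ?_ (hKb _ (hgK k))
      rw [← sub_add_sub_cancel (eval b (pderiv k (g i))) (eval a (pderiv k (g i))) (e i k)]
      refine I.add_mem (eval_sub_eval_mem _ hba) (Ideal.Quotient.eq.1 ?_)
      exact (congrFun (congrFun heN i) k).symm
    have := Submodule.add_mem _ h1 h2
    rwa [sub_add_cancel] at this
  have hJb : Jb ≤ I • Jb := by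
    refine Ideal.span_le.2 ?_
    rintro _ ⟨j, rfl⟩
    have hfj : f j ∈ K := hf ▸ Submodule.subset_span ⟨j, rfl⟩
    have h1 := hK2 _ (hexp _ hfj)
    rw [map_sub, map_sum] at h1
    have h2 : ∑ k, eval b (pderiv k (f j) * g k) ∈ I * Jb := Submodule.sum_mem _ fun k _ => by
      rw [map_mul]; exact Ideal.mul_mem_left _ _ (hg k)
    have := Submodule.add_mem _ h1 h2
    rwa [sub_add_cancel] at this
  have hJ0 : Jb = ⊥ :=
    Submodule.eq_bot_of_le_smul_of_le_jacobson_bot I Jb ⟨(Finset.univ.image fun j => eval b (f j)), by simp [Jb]⟩ hJb HenselianRing.jac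
  let τ₀ : (P ⧸ K) →ₐ[A] A := Ideal.Quotient.liftₐ K (aeval b) fun x hx => by
    have := hKb x hx
    rwa [hJ0, Ideal.mem_bot] at this
  let τ : C →ₐ[A] A := τ₀.comp eC.symm.toAlgHom
  refine ⟨τ, fun c => ?_⟩
  obtain ⟨x, rfl⟩ := hπ c
  have hsymm : eC.symm (π x) = Ideal.Quotient.mk K x := by
    rw [AlgEquiv.symm_apply_eq]; rfl
  change Ideal.Quotient.mk I (τ₀ (eC.symm (π x))) = _
  rw [hsymm]
  have : (Ideal.Quotient.mkₐ A I).comp (aeval b) = σ.comp π := MvPolynomial.algHom_ext fun i => by
    simp only [AlgHom.comp_apply, aeval_X, Ideal.Quotient.mkₐ_eq_mk]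
    rw [← ha, Ideal.Quotient.eq]
    exact hba i
  exact AlgHom.congr_fun this x

end Groth.Agent.Hensel
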