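import Groth.Agent.Hensel.PairEnvelope
import Groth.Agent.Hensel.PairHenselization

/-!
Properties of henselizations of pairs.
-/

set_option autoImplicit false

namespace Groth.Agent.Hensel

universe u

section

variable {A : Type u} [CommRing A] {I : Ideal A} {B : Type u} [CommRing B] [Algebra A B]
  (h : Hens2.IsPairHenselization A I B)

include h

theorem pairHenselization_equiv : Nonempty (B ≃ₐ[A] PairEnv A I) :=
  algEquiv_of_isPairHenselization h (isPairHenselization_pairEnv A I)

theorem pairHenselization_flat : Module.Flat A B := by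
  obtain ⟨e⟩ := pairHenselization_equiv h
  haveI := flat_pairEnv A I
  exact Module.Flat.of_linearEquiv e.toLinearEquiv

theorem pairHenselization_exists_sub_mem_one (b : B) : ∃ a, b - algebraMap A B a ∈ I.map (algebraMap A B) := by
  obtain ⟨e⟩ := pairHenselization_equiv h
  obtain ⟨a, ha⟩ := Ideal.Quotient.mk_surjective (pairRes A I (e b))
  refine ⟨a, ?_⟩
  have h1 : e b - algebraMap A _ a ∈ I.map (algebraMap A (PairEnv A I)) := by
    rw [← ker_pairRes]
    change pairRes A I (_ - _) = 0
    rw [map_sub, AlgHom.commutes, sub_eq_zero]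
    exact ha.symm
  have h2 := Ideal.mem_map_of_mem e.symm.toAlgHom.toRingHom h1
  rw [Ideal.map_map, show e.symm.toAlgHom.toRingHom.comp (algebraMap A _) = algebraMap A B from
    RingHom.ext e.symm.toAlgHom.commutes] at h2
  simpa using h2

theorem pairHenselization_exists_sub_mem (n : ℕ) (b : B) :
    ∃ a, b - algebraMap A B a ∈ (I ^ n).map (algebraMap A B) := by
  induction n generalizing b with
  | zero => exact ⟨0, by simp [Ideal.map_top]⟩
  | succ n ih =>
    have key : ∀ y ∈ (I ^ n).map (algebraMap A B), ∃ a, y - algebraMap A B a ∈ (I ^ (n + 1)).map (algebraMap A B) := by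
      intro y hy
      induction hy using Submodule.span_induction with
      | mem y hy =>
        obtain ⟨a, -, rfl⟩ := hy
        exact ⟨a, by simp⟩
      | zero => exact ⟨0, by simp⟩
      | add y z _ _ hy hz =>
        obtain ⟨a, ha⟩ := hy
        obtain ⟨c, hc⟩ := hz
        exact ⟨a + c, by rw [map_add, add_sub_add_comm]; exact Ideal.add_mem _ ha hc⟩
      | smul c y hy' hy =>
        obtain ⟨a, ha⟩ := hy
        obtain ⟨d, hd⟩ := pairHenselization_exists_sub_mem_one h c
        refine ⟨d * a, ?_⟩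
        have h1 : (c - algebraMap A B d) * y ∈ (I ^ (n + 1)).map (algebraMap A B) := by
          rw [pow_succ', Ideal.map_mul]
          exact Ideal.mul_mem_mul hd hy'
        have h2 := Ideal.add_mem _ h1 (Ideal.mul_mem_left _ (algebraMap A B d) ha)
        rw [smul_eq_mul, map_mul]
        convert h2 using 1
        ring
    obtain ⟨a, ha⟩ := ih b
    obtain ⟨c, hc⟩ := key _ ha
    exact ⟨a + c, by rw [map_add, ← sub_sub]; exact hc⟩

theorem pairHenselization_mem_pow {n : ℕ} {a : A} (ha : algebraMap A B a ∈ (I ^ n).map (algebraMap A B)) :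
    a ∈ I ^ n := by
  let q : A →+* A ⧸ I ^ n := Ideal.Quotient.mk (I ^ n)
  have hnil : ∀ x ∈ I.map q, IsNilpotent x := fun x hx => ⟨n, by
    have := Ideal.pow_mem_pow hx n
    rwa [← Ideal.map_pow, Ideal.map_quotient_self, Ideal.mem_bot] at this⟩
  obtain ⟨g, hg, -⟩ := h.2 (A ⧸ I ^ n) (I.map q) q (henselianRing_of_nilpotent hnil) le_rfl
  have h1 := Ideal.mem_map_of_mem g ha
  rw [← RingHom.comp_apply g, Ideal.map_map, hg, Ideal.map_quotient_self, Ideal.mem_bot] at h1
  exact Ideal.Quotient.eq_zero_iff_mem.1 h1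

theorem pairHenselization_quotient_bijective (n : ℕ) :
    Function.Bijective (Ideal.quotientMap ((I ^ n).map (algebraMap A B)) (algebraMap A B) Ideal.le_comap_map) := by
  refine ⟨Ideal.quotientMap_injective' fun a ha => pairHenselization_mem_pow h ha, fun y => ?_⟩
  obtain ⟨b, rfl⟩ := Ideal.Quotient.mk_surjective y
  obtain ⟨a, ha⟩ := pairHenselization_exists_sub_mem h n b
  exact ⟨Ideal.Quotient.mk _ a, Ideal.quotientMap_mk.trans (Ideal.Quotient.eq.2 ha).symm⟩

theorem pairHenselization_faithfullyFlat (hI : I ≤ Ideal.jacobson ⊥) : Module.FaithfullyFlat A B := by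
  haveI := pairHenselization_flat h
  refine ⟨fun m hm htop => hm.ne_top ((Ideal.eq_top_iff_one _).2 ?_)⟩
  have hIm : I ≤ m := hI.trans (sInf_le ⟨bot_le, hm⟩)
  have h0 : m.map (algebraMap A B) = ⊤ := by
    rw [Ideal.smul_top_eq_map] at htop
    exact Submodule.restrictScalars_injective A B B (by simpa using htop)
  let q : A →+* A ⧸ m := Ideal.Quotient.mk m
  obtain ⟨g, hg, -⟩ := h.2 (A ⧸ m) ⊥ q henselianRing_bot (by rw [le_bot_iff, Ideal.map_eq_bot_iff_le_ker, Ideal.mk_ker]; exact hIm)
  have h1 := Ideal.mem_map_of_mem g (h0 ▸ Submodule.mem_top : (1 : B) ∈ m.map (algebraMap A B))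
  rw [Ideal.map_map, hg, Ideal.map_quotient_self, map_one, Ideal.mem_bot] at h1
  exact Ideal.Quotient.eq_zero_iff_mem.1 h1

end

/-- Reductions of a henselization along an algebra. -/
theorem exists_algEquiv_quotient {A : Type u} [CommRing A] (I : Ideal A) {R : Type u} [CommRing R] [Algebra A R]
    {B : Type u} [CommRing B] [Algebra R B] [Algebra A B] [IsScalarTower A R B]
    (h : Hens2.IsPairHenselization R (I.map (algebraMap A R)) B) (n : ℕ) :
    Nonempty ((R ⧸ (I ^ n).map (algebraMap A R)) ≃ₐ[A ⧸ I ^ n] (B ⧸ (I ^ n).map (algebraMap A B))) := by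
  have hle : (I ^ n).map (algebraMap A R) ≤ ((I ^ n).map (algebraMap A B)).comap (IsScalarTower.toAlgHom A R B) :=
    Ideal.map_le_iff_le_comap.2 fun a ha => by
      rw [Ideal.mem_comap, Ideal.mem_comap, IsScalarTower.coe_toAlgHom', ← IsScalarTower.algebraMap_apply]
      exact Ideal.mem_map_of_mem _ ha
  let ψ : (R ⧸ (I ^ n).map (algebraMap A R)) →ₐ[A] (B ⧸ (I ^ n).map (algebraMap A B)) :=
    Ideal.quotientMapₐ _ (IsScalarTower.toAlgHom A R B) hle
  have hK : (I ^ n).map (algebraMap A B) = ((I.map (algebraMap A R)) ^ n).map (algebraMap R B) := by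
    rw [← Ideal.map_pow, Ideal.map_map, ← IsScalarTower.algebraMap_eq]
  have hψ : Function.Bijective ψ := by
    refine ⟨(injective_iff_map_eq_zero ψ).2 fun x hx => ?_, fun y => ?_⟩
    · obtain ⟨r, rfl⟩ := Ideal.Quotient.mk_surjective x
      have h1 : algebraMap R B r ∈ (I ^ n).map (algebraMap A B) := Ideal.Quotient.eq_zero_iff_mem.1 hx
      rw [hK] at h1
      rw [Ideal.Quotient.eq_zero_iff_mem, Ideal.map_pow]
      exact pairHenselization_mem_pow h h1
    · obtain ⟨b, rfl⟩ := Ideal.Quotient.mk_surjective y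
      obtain ⟨r, hr⟩ := pairHenselization_exists_sub_mem h n b
      rw [← hK] at hr
      exact ⟨Ideal.Quotient.mk _ r, (Ideal.Quotient.eq.2 hr).symm⟩
  exact ⟨(AlgEquiv.ofBijective ψ hψ).extendScalarsOfSurjective Ideal.Quotient.mk_surjective⟩

end Groth.Agent.Hensel
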