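import Groth.Agent.Hensel.BranchCountStrict
import Groth.Agent.Hensel.EnvelopeStage
import Groth.Agent.Hensel.PairHenselization
import Groth.Agent.Hensel.PairNoeth
import Groth.Agent.UnramLib.FlatUnram
import Mathlib

/-!
Monotonicity of the number of (geometric) branches along flat local homomorphisms, and the map from
the henselization to the completion.
-/

set_option autoImplicit false

namespace Groth.Agent.Hensel

universe u

open IsLocalRing

section env

variable (R : Type u) [CommRing R] (K : Type u) [Field K] [Algebra R K]

/-- A map out of the envelope is flat as soon as it is flat on the base. -/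
theorem env_flat_of_flat {S M : Type u} [CommRing S] [CommRing M] [Algebra R S] (ι : EnvTop R K →ₐ[R] S)
    (hloc : ∀ z, ∃ x t, IsUnit (ι t) ∧ z * ι t = ι x) (g : S →+* M)
    (hflat : (g.comp (algebraMap R S)).Flat) : g.Flat := by
  classical
  refine flat_of_stages g fun l f => ?_
  choose x t ht hxt using fun k => hloc (f k)
  obtain ⟨F, y, hy⟩ := exists_stage R K (Fin.append x t)
  let A := EnvStage R K F
  let inc : A →ₐ[R] S := ι.comp (etMap (P := envPairs R K) ((↑) : F → EnvIdx R K))
  haveI : Algebra.Etale R A := etale_etProd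
  have hyx : ∀ k, inc (y (Fin.castAdd l k)) = ι (x k) := fun k =>
    congrArg ι ((hy _).trans (Fin.append_left _ _ _))
  have hyt : ∀ k, inc (y (Fin.natAdd l k)) = ι (t k) := fun k =>
    congrArg ι ((hy _).trans (Fin.append_right _ _ _))
  let T₀ : A := ∏ k, y (Fin.natAdd l k)
  have hT₀ : IsUnit (inc T₀) := by
    rw [map_prod]
    exact IsUnit.prod_univ_iff.2 fun k => by rw [hyt]; exact ht k
  let E := Localization.Away T₀
  haveI : Algebra.Etale R E := inferInstance
  let χ : E →ₐ[R] S := IsLocalization.Away.liftAlgHom T₀ (f := inc) hT₀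
  have hχ : ∀ a, χ (algebraMap A E a) = inc a := fun a => IsLocalization.Away.lift_eq T₀ hT₀ a
  have hz : ∀ k, ∃ e, χ e = f k := fun k => by
    obtain ⟨v, hv⟩ : IsUnit (algebraMap A E (y (Fin.natAdd l k))) :=
      isUnit_of_dvd_unit (map_dvd (algebraMap A E) (Finset.dvd_prod_of_mem (fun k => y (Fin.natAdd l k)) (Finset.mem_univ k)))
        (IsLocalization.Away.algebraMap_isUnit (S := E) T₀)
    refine ⟨algebraMap A E (y (Fin.castAdd l k)) * ↑v⁻¹, ?_⟩
    have h1 : f k * χ ↑v = inc (y (Fin.castAdd l k)) := by rw [hv, hχ, hyt, hyx, hxt]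
    rw [map_mul, hχ, ← h1, mul_assoc, ← map_mul, Units.mul_inv, map_one, mul_one]
  choose e he using hz
  refine ⟨E, inferInstance, χ.toRingHom, e, he, ?_⟩
  letI := (g.comp χ.toRingHom).toAlgebra
  letI := (g.comp (algebraMap R S)).toAlgebra
  haveI : IsScalarTower R E M := IsScalarTower.of_algebraMap_eq fun r => (congrArg g (χ.commutes r)).symm
  haveI : Module.Flat R M := hflat
  exact UnramLib.flat_of_formallyUnramified R E M

end env

theorem flat_of_algEquiv_env {A S M : Type u} [CommRing A] [CommRing S] [Algebra A S] {K : Type u} [Field K]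
    [Algebra A K] [CommRing M] (e : S ≃ₐ[A] Env A K) (g : S →+* M)
    (hflat : (g.comp (algebraMap A S)).Flat) : g.Flat := by
  refine env_flat_of_flat A K (e.symm.toAlgHom.comp (IsScalarTower.toAlgHom A (EnvTop A K) (Env A K)))
    (fun z => ?_) g hflat
  obtain ⟨x, t, ht, hxt⟩ := env_hloc A K (e z)
  refine ⟨x, t, ht.map e.symm, e.injective ?_⟩
  rw [map_mul]
  simpa using hxt

/-- Contraction along a faithfully flat map is surjective on minimal primes. -/
theorem card_minimalPrimes_le {R T : Type u} [CommRing R] [CommRing T] [Algebra R T] [Module.FaithfullyFlat R T] :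
    ENat.card (minimalPrimes R) ≤ ENat.card (minimalPrimes T) := by
  refine ENat.card_le_card_of_injective
    (Function.injective_surjInv (f := fun P : minimalPrimes T =>
      (⟨P.1.comap (algebraMap R T), comap_mem_minimalPrimes_of_flat P.2⟩ : minimalPrimes R)) fun p => ?_)
  obtain ⟨P, hP, hPp⟩ := exists_minimal_comap_eq (A := R) (S := T) p.2
  exact ⟨⟨P, hP⟩, Subtype.ext hPp⟩

variable {A B : Type u} [CommRing A] [CommRing B] [IsLocalRing A] [IsLocalRing B]

theorem flat_of_henselization {A S M : Type u} [CommRing A] [IsLocalRing A] [CommRing S] [IsLocalRing S]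
    [Algebra A S] [IsLocalHom (algebraMap A S)] [_root_.Hensel.IsHenselization A S] [CommRing M] (g : S →+* M)
    (hflat : (g.comp (algebraMap A S)).Flat) : g.Flat := by
  obtain ⟨e⟩ := henselization_equiv A S
  exact flat_of_algEquiv_env e g hflat

theorem flat_of_strictHenselization {A S M : Type u} [CommRing A] [IsLocalRing A] [CommRing S] [IsLocalRing S]
    [Algebra A S] [IsLocalHom (algebraMap A S)] [_root_.Hensel.IsStrictHenselization A S] [CommRing M] (g : S →+* M)
    (hflat : (g.comp (algebraMap A S)).Flat) : g.Flat := by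
  obtain ⟨e⟩ := strictHenselization_equiv A S
  exact flat_of_algEquiv_env e g hflat

theorem numBranches_le_aux (f : A →+* B) [IsLocalHom f] (hf : f.Flat) (S T : Type u) [CommRing S] [IsLocalRing S]
    [CommRing T] [IsLocalRing T] [Algebra A S] [Algebra B T] [IsLocalHom (algebraMap A S)]
    [IsLocalHom (algebraMap B T)] [_root_.Hensel.IsHenselization A S] [_root_.Hensel.IsHenselization B T] :
    Brnch.numBranches A ≤ Brnch.numBranches B := by
  haveI : HenselianLocalRing T := _root_.Hensel.IsHenselization.henselian (R := B)
  let f' : A →+* T := (algebraMap B T).comp f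
  haveI hloc : IsLocalHom f' := RingHom.isLocalHom_comp _ _
  obtain ⟨g, hg, -⟩ := _root_.Hensel.IsHenselization.universal (R := A) (S := S) T f' hloc
  have hflat : g.Flat := by
    refine flat_of_henselization (A := A) g ?_
    rw [hg]
    exact hf.comp (RingHom.flat_algebraMap_iff.2 (henselization_flat B T))
  haveI : IsLocalHom g := by
    refine ((local_hom_TFAE g).out 0 2).2 ?_
    rw [← henselization_map_maximalIdeal A S, Ideal.map_map, hg]
    exact ((local_hom_TFAE f').out 0 2).1 hloc
  rw [← card_minimalPrimes_henselization (A := A) (S := S), ← card_minimalPrimes_henselization (A := B) (S := T)]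
  algebraize [g]
  haveI := Module.FaithfullyFlat.of_flat_of_isLocalHom (A := S) (B := T)
  exact card_minimalPrimes_le

theorem numBranches_le_of_flat (f : A →+* B) [IsLocalHom f] (hf : f.Flat) :
    Brnch.numBranches A ≤ Brnch.numBranches B := by
  obtain ⟨_, hA⟩ := exists_henselization A
  obtain ⟨_, hB⟩ := exists_henselization B
  haveI := henselian_env A (ResidueField A)
  haveI := henselian_env B (ResidueField B)
  exact numBranches_le_aux f hf (Env A (ResidueField A)) (Env B (ResidueField B))

theorem numGeomBranches_le_aux (f : A →+* B) [IsLocalHom f] (hf : f.Flat) (S T : Type u) [CommRing S] [IsLocalRing S]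
    [CommRing T] [IsLocalRing T] [Algebra A S] [Algebra B T] [IsLocalHom (algebraMap A S)]
    [IsLocalHom (algebraMap B T)] [_root_.Hensel.IsStrictHenselization A S]
    [_root_.Hensel.IsStrictHenselization B T] :
    Brnch.numGeomBranches A ≤ Brnch.numGeomBranches B := by
  haveI : HenselianLocalRing T := _root_.Hensel.IsStrictHenselization.henselian (R := B)
  haveI : IsSepClosure (ResidueField A) (ResidueField S) := _root_.Hensel.IsStrictHenselization.isSepClosure
  haveI : IsSepClosure (ResidueField B) (ResidueField T) := _root_.Hensel.IsStrictHenselization.isSepClosure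
  haveI : IsSepClosed (ResidueField T) := IsSepClosure.sep_closed (ResidueField B)
  haveI : Algebra.IsSeparable (ResidueField A) (ResidueField S) := IsSepClosure.separable
  let f' : A →+* T := (algebraMap B T).comp f
  haveI hloc : IsLocalHom f' := RingHom.isLocalHom_comp _ _
  letI := (ResidueField.map f').toAlgebra
  let τ₀ : ResidueField S →ₐ[ResidueField A] ResidueField T := IsSepClosed.lift
  have hτ : τ₀.toRingHom.comp (ResidueField.map (algebraMap A S)) = ResidueField.map f' :=
    RingHom.ext τ₀.commutes
  obtain ⟨g, ⟨hg, hgr⟩, -⟩ :=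
    _root_.Hensel.IsStrictHenselization.universal (R := A) (S := S) T f' τ₀.toRingHom hτ
  have hflat : g.Flat := by
    refine flat_of_strictHenselization (A := A) g ?_
    rw [hg]
    exact hf.comp (RingHom.flat_algebraMap_iff.2 (strictHenselization_flat B T))
  haveI : IsLocalHom g := ⟨fun x hx => by
    by_contra h
    refine ((residue_ne_zero_iff_isUnit (g x)).2 hx) ?_
    rw [hgr, (residue_eq_zero_iff x).2 h, map_zero]⟩
  rw [← card_minimalPrimes_strictHenselization (A := A) (S := S),
    ← card_minimalPrimes_strictHenselization (A := B) (S := T)]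
  algebraize [g]
  haveI := Module.FaithfullyFlat.of_flat_of_isLocalHom (A := S) (B := T)
  exact card_minimalPrimes_le

theorem numGeomBranches_le_of_flat (f : A →+* B) [IsLocalHom f] (hf : f.Flat) :
    Brnch.numGeomBranches A ≤ Brnch.numGeomBranches B := by
  obtain ⟨_, hA⟩ := exists_strictHenselization A
  obtain ⟨_, hB⟩ := exists_strictHenselization B
  haveI := henselian_env A (SeparableClosure (ResidueField A))
  haveI := henselian_env B (SeparableClosure (ResidueField B))
  exact numGeomBranches_le_aux f hf (Env A (SeparableClosure (ResidueField A)))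
    (Env B (SeparableClosure (ResidueField B)))

/-- A map to the completion compatible with the base is the canonical one. -/
theorem PowBij.eq_toCompletion {A S : Type u} [CommRing A] {I : Ideal A} [CommRing S] [Algebra A S]
    (h : PowBij I S) (ψ : S →+* AdicCompletion I A)
    (hψ : ψ.comp (algebraMap A S) = algebraMap A (AdicCompletion I A)) : ψ = h.toCompletion := by
  refine RingHom.ext fun s => AdicCompletion.ext_evalₐ fun n => ?_
  obtain ⟨a, ha⟩ := h.exists_sub n s
  rw [h.evalₐ_toCompletion ha]
  let q : S →+* A ⧸ I ^ n := (AdicCompletion.evalₐ I n).toRingHom.comp ψ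
  have hq : q.comp (algebraMap A S) = Ideal.Quotient.mk _ :=
    RingHom.ext fun r => (congrArg (AdicCompletion.evalₐ I n) (RingHom.congr_fun hψ r)).trans
      ((AdicCompletion.evalₐ I n).commutes r)
  have h1 : q (s - algebraMap A S a) ∈ (I.map (algebraMap A S) ^ n).map q := Ideal.mem_map_of_mem q ha
  rw [← Ideal.map_pow, Ideal.map_map, hq, Ideal.map_quotient_self, Submodule.mem_bot, map_sub, sub_eq_zero,
    ← RingHom.comp_apply q, hq] at h1
  exact h1

theorem faithfullyFlat_completion (A S : Type u) [CommRing A] [IsLocalRing A] [IsNoetherianRing A] [CommRing S]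
    [IsLocalRing S] [Algebra A S] [IsLocalHom (algebraMap A S)] [_root_.Hensel.IsHenselization A S]
    (ψ : S →+* AdicCompletion (maximalIdeal A) A)
    (hψ : ψ.comp (algebraMap A S) = algebraMap A (AdicCompletion (maximalIdeal A) A)) :
    letI := ψ.toAlgebra; Module.FaithfullyFlat S (AdicCompletion (maximalIdeal A) A) := by
  have hB := (isPairHenselization_iff A S).2 inferInstance
  rw [(powBij_henselization hB).eq_toCompletion ψ hψ]
  exact faithfullyFlat_toCompletion hB

end Groth.Agent.Hensel
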