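import Groth.Agent.Hensel.Fibres
import Mathlib.RingTheory.Unramified.Field
import Mathlib.RingTheory.LocalRing.ResidueField.Ideal

/-!
The fibres of a (strict) henselization of a Noetherian local ring are finite products of separable
algebraic extensions.
-/

set_option autoImplicit false

namespace Groth.Agent.Hensel

universe u

open scoped TensorProduct

/-- Every element is a fraction of elements of étale stages. -/
def HasEtaleStages (R S : Type u) [CommRing R] [CommRing S] [Algebra R S] : Prop :=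
  ∀ z : S, ∃ (E : Type u) (_ : CommRing E) (_ : Algebra R E) (_ : Algebra.Etale R E) (φ : E →ₐ[R] S) (x t : E),
    IsUnit (φ t) ∧ z * φ t = φ x

theorem HasEtaleStages.of_equiv {R S S' : Type u} [CommRing R] [CommRing S] [Algebra R S] [CommRing S']
    [Algebra R S'] (h : HasEtaleStages R S) (e : S ≃ₐ[R] S') : HasEtaleStages R S' := fun z => by
  obtain ⟨E, _, _, hE, φ, x, t, ht, hz⟩ := h (e.symm z)
  refine ⟨E, inferInstance, inferInstance, hE, e.toAlgHom.comp φ, x, t, ht.map e, ?_⟩
  have := congrArg e hz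
  simpa using this

theorem hasEtaleStages_env (R : Type u) [CommRing R] (K : Type u) [Field K] [Algebra R K] :
    HasEtaleStages R (Env R K) := fun z => by
  classical
  obtain ⟨x, t, ht, hxt⟩ := env_hloc R K z
  obtain ⟨Fx, x', hx'⟩ := exists_etMap_eq (P := envPairs R K) x
  obtain ⟨Ft, t', ht'⟩ := exists_etMap_eq (P := envPairs R K) t
  let F : Finset (EnvIdx R K) := Fx ∪ Ft
  haveI : Algebra.Etale R (EtProd (envPairs R K ∘ ((↑) : F → EnvIdx R K))) := etale_etProd
  let ι : EtProd (envPairs R K ∘ ((↑) : F → EnvIdx R K)) →ₐ[R] Env R K :=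
    (IsScalarTower.toAlgHom R (EnvTop R K) (Env R K)).comp (etMap (P := envPairs R K) ((↑) : F → EnvIdx R K))
  let x₁ := etMap (P := envPairs R K ∘ ((↑) : F → EnvIdx R K))
    (fun k : Fx => (⟨k.1, Finset.subset_union_left k.2⟩ : F)) x'
  let t₁ := etMap (P := envPairs R K ∘ ((↑) : F → EnvIdx R K))
    (fun k : Ft => (⟨k.1, Finset.subset_union_right k.2⟩ : F)) t'
  have hx₁ : ι x₁ = algebraMap (EnvTop R K) (Env R K) x := by
    rw [← hx']
    exact congrArg (algebraMap (EnvTop R K) (Env R K)) (AlgHom.congr_fun (etMap_comp (P := envPairs R K) ((↑) : F → EnvIdx R K)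
      fun k : Fx => (⟨k.1, Finset.subset_union_left k.2⟩ : F)) x')
  have ht₁ : ι t₁ = algebraMap (EnvTop R K) (Env R K) t := by
    rw [← ht']
    exact congrArg (algebraMap (EnvTop R K) (Env R K)) (AlgHom.congr_fun (etMap_comp (P := envPairs R K) ((↑) : F → EnvIdx R K)
      fun k : Ft => (⟨k.1, Finset.subset_union_right k.2⟩ : F)) t')
  exact ⟨_, inferInstance, inferInstance, inferInstance, ι, x₁, t₁, ht₁ ▸ ht, by rw [ht₁, hx₁]; exact hxt⟩

theorem henselization_hasEtaleStages (R S : Type u) [CommRing R] [IsLocalRing R] [CommRing S] [IsLocalRing S]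
    [Algebra R S] [IsLocalHom (algebraMap R S)] [_root_.Hensel.IsHenselization R S] : HasEtaleStages R S := by
  obtain ⟨e⟩ := henselization_equiv R S
  exact (hasEtaleStages_env R (IsLocalRing.ResidueField R)).of_equiv e.symm

theorem strictHenselization_hasEtaleStages (R S : Type u) [CommRing R] [IsLocalRing R] [CommRing S]
    [IsLocalRing S] [Algebra R S] [IsLocalHom (algebraMap R S)] [_root_.Hensel.IsStrictHenselization R S] :
    HasEtaleStages R S := by
  obtain ⟨e⟩ := strictHenselization_equiv R S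
  exact (hasEtaleStages_env R (SeparableClosure (IsLocalRing.ResidueField R))).of_equiv e.symm

/-- Values of an étale algebra over a field in a field are separable. -/
theorem isSeparable_of_etale_hom {k T L : Type u} [Field k] [CommRing T] [Algebra k T] [Algebra.Etale k T] [Field L]
    [Algebra k L] (ψ : T →ₐ[k] L) (x : T) : IsSeparable k (ψ x) := by
  haveI : Module.Finite k T := Algebra.FormallyUnramified.finite_of_free k T
  haveI hp : (RingHom.ker ψ.toRingHom).IsPrime := RingHom.ker_isPrime _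
  haveI : Module.Finite k (T ⧸ RingHom.ker ψ.toRingHom) :=
    Module.Finite.of_surjective (Ideal.Quotient.mkₐ k (RingHom.ker ψ.toRingHom)).toLinearMap Ideal.Quotient.mk_surjective
  haveI : Algebra.IsIntegral k (T ⧸ RingHom.ker ψ.toRingHom) := inferInstance
  have hf : IsField (T ⧸ RingHom.ker ψ.toRingHom) := isField_of_isIntegral_of_isField' (Field.toIsField k)
  letI := hf.toField
  haveI : Algebra.FormallyUnramified k (T ⧸ RingHom.ker ψ.toRingHom) :=
    Algebra.FormallyUnramified.of_surjective (Ideal.Quotient.mkₐ k (RingHom.ker ψ.toRingHom))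
      Ideal.Quotient.mk_surjective
  haveI := Algebra.FormallyUnramified.isSeparable k (T ⧸ RingHom.ker ψ.toRingHom)
  let ι : (T ⧸ RingHom.ker ψ.toRingHom) →ₐ[k] L :=
    Ideal.Quotient.liftₐ (RingHom.ker ψ.toRingHom) ψ fun a ha => ha
  have h : ψ x = ι (Ideal.Quotient.mk _ x) := rfl
  rw [h, IsSeparable, minpoly.algHom_eq ι ι.toRingHom.injective]
  exact Algebra.IsSeparable.isSeparable k _

section

variable {R S : Type u} [CommRing R] [CommRing S] [Algebra R S] (p : Ideal R) [p.IsPrime]

/-- Elements of the fibre are fractions of elements of `S`. -/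
theorem exists_mul_eq_includeRight (z : p.ResidueField ⊗[R] S) :
    ∃ t ∉ p, ∃ w : S, algebraMap R (p.ResidueField ⊗[R] S) t * z =
      (Algebra.TensorProduct.includeRight : S →ₐ[R] p.ResidueField ⊗[R] S) w := by
  induction z using TensorProduct.induction_on with
  | zero => exact ⟨1, fun h => ‹p.IsPrime›.ne_top ((Ideal.eq_top_iff_one _).2 h), 0, by simp⟩
  | tmul c s =>
    obtain ⟨a, ⟨b, hb⟩, rfl⟩ := IsLocalization.exists_mk'_eq (nonZeroDivisors (R ⧸ p)) c
    obtain ⟨a, rfl⟩ := Ideal.Quotient.mk_surjective a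
    obtain ⟨b, rfl⟩ := Ideal.Quotient.mk_surjective b
    refine ⟨b, fun h => nonZeroDivisors.ne_zero hb (Ideal.Quotient.eq_zero_iff_mem.2 h), a • s, ?_⟩
    rw [← Algebra.smul_def, TensorProduct.smul_tmul', Algebra.smul_def, Algebra.TensorProduct.includeRight_apply,
      ← TensorProduct.smul_tmul, Algebra.smul_def, mul_one]
    congr 1
    rw [IsScalarTower.algebraMap_apply R (R ⧸ p) p.ResidueField, IsScalarTower.algebraMap_apply R (R ⧸ p) p.ResidueField,
      mul_comm]
    exact IsLocalization.mk'_spec p.ResidueField _ (⟨Ideal.Quotient.mk p b, hb⟩ : nonZeroDivisors (R ⧸ p))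
  | add x y hx hy =>
    obtain ⟨t, ht, w, hw⟩ := hx
    obtain ⟨t', ht', w', hw'⟩ := hy
    refine ⟨t * t', fun h => (‹p.IsPrime›.mem_or_mem h).elim ht ht', algebraMap R S t' * w + algebraMap R S t * w', ?_⟩
    rw [map_add (Algebra.TensorProduct.includeRight : S →ₐ[R] p.ResidueField ⊗[R] S), map_mul, map_mul, map_mul,
      AlgHom.commutes, AlgHom.commutes, ← hw, ← hw']
    ring

theorem isUnit_algebraMap_fibre {t : R} (ht : t ∉ p) : IsUnit (algebraMap R (p.ResidueField ⊗[R] S) t) := by
  rw [IsScalarTower.algebraMap_apply R p.ResidueField (p.ResidueField ⊗[R] S)]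
  refine IsUnit.map _ (isUnit_iff_ne_zero.2 fun h => ht ?_)
  rwa [← Ideal.algebraMap_residueField_eq_zero (I := p)]

variable (hU : UnramifiedFibres R S)

include hU

theorem exists_mul_eq_zero_of_mem (Q : Ideal (p.ResidueField ⊗[R] S)) [Q.IsPrime] {z : p.ResidueField ⊗[R] S}
    (hz : z ∈ Q) : ∃ s ∉ Q, s * z = 0 := by
  obtain ⟨t, ht, w, hw⟩ := exists_mul_eq_includeRight p z
  let ι : S →ₐ[R] p.ResidueField ⊗[R] S := Algebra.TensorProduct.includeRight
  have hcomap : (Q.comap ι).comap (algebraMap R S) = p := by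
    ext r
    rw [Ideal.mem_comap, Ideal.mem_comap, AlgHom.commutes]
    refine ⟨fun h => by_contra fun hr => ‹Q.IsPrime›.ne_top (Q.eq_top_of_isUnit_mem h (isUnit_algebraMap_fibre p hr)),
      fun h => ?_⟩
    rw [IsScalarTower.algebraMap_apply R p.ResidueField (p.ResidueField ⊗[R] S),
      (Ideal.algebraMap_residueField_eq_zero (I := p)).2 h, map_zero]
    exact zero_mem _
  haveI : (Q.comap ι).IsPrime := Ideal.comap_isPrime _ _
  obtain ⟨s, hs, hsw⟩ := hU (Q.comap ι) inferInstance w (by
    rw [Ideal.mem_comap]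
    change (Algebra.TensorProduct.includeRight : S →ₐ[R] p.ResidueField ⊗[R] S) w ∈ Q
    rw [← hw]
    exact Q.mul_mem_left _ hz)
  rw [hcomap] at hsw
  have h0 : ι (s * w) = 0 := by
    have h1 := Ideal.mem_map_of_mem ι.toRingHom hsw
    rw [Ideal.map_map, show ι.toRingHom.comp (algebraMap R S) = algebraMap R _ from RingHom.ext ι.commutes,
      IsScalarTower.algebraMap_eq R p.ResidueField (p.ResidueField ⊗[R] S), ← Ideal.map_map,
      show p.map (algebraMap R p.ResidueField) = ⊥ from (Ideal.map_eq_bot_iff_le_ker _).2 fun r hr =>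
        RingHom.mem_ker.2 ((Ideal.algebraMap_residueField_eq_zero (I := p)).2 hr), Ideal.map_bot, Ideal.mem_bot] at h1
    exact h1
  refine ⟨ι s, hs, (isUnit_algebraMap_fibre (S := S) p ht).mul_right_eq_zero.1 ?_⟩
  rw [← mul_assoc, mul_comm _ (ι s), mul_assoc, hw, ← map_mul]
  exact h0

theorem isMaximal_fibre_of_isPrime (Q : Ideal (p.ResidueField ⊗[R] S)) [Q.IsPrime] : Q.IsMaximal := by
  obtain ⟨M, hM, hQM⟩ := Ideal.exists_le_maximal Q ‹Q.IsPrime›.ne_top
  suffices M ≤ Q by rwa [← le_antisymm this hQM]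
  intro z hz
  obtain ⟨s, hs, hsz⟩ := exists_mul_eq_zero_of_mem p hU M hz
  exact (‹Q.IsPrime›.mem_or_mem (hsz ▸ Q.zero_mem : s * z ∈ Q)).resolve_left fun h => hs (hQM h)

theorem eq_zero_of_forall_mem_fibre (z : p.ResidueField ⊗[R] S)
    (h : ∀ Q : Ideal (p.ResidueField ⊗[R] S), Q.IsPrime → z ∈ Q) : z = 0 := by
  by_contra hz
  obtain ⟨M, hM, hMle⟩ := Ideal.exists_le_maximal (LinearMap.ker (LinearMap.toSpanSingleton
    (p.ResidueField ⊗[R] S) _ z)) (fun h1 => hz (by
      have h2 : (1 : p.ResidueField ⊗[R] S) ∈ LinearMap.ker (LinearMap.toSpanSingleton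
        (p.ResidueField ⊗[R] S) _ z) := h1 ▸ Submodule.mem_top
      simpa using h2))
  haveI := hM
  obtain ⟨s, hs, hsz⟩ := exists_mul_eq_zero_of_mem p hU M (h M hM.isPrime)
  exact hs (hMle (by simpa using hsz))

/-- The residue fields of the fibre are separable. -/
theorem isSeparable_fibre_quotient (hS : HasEtaleStages R S) (Q : Ideal (p.ResidueField ⊗[R] S)) [Q.IsMaximal] :
    letI := Ideal.Quotient.field Q
    Algebra.IsSeparable p.ResidueField ((p.ResidueField ⊗[R] S) ⧸ Q) := by
  letI := Ideal.Quotient.field Q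
  let F := (p.ResidueField ⊗[R] S) ⧸ Q
  let ι : S →ₐ[R] p.ResidueField ⊗[R] S := Algebra.TensorProduct.includeRight
  let π : p.ResidueField ⊗[R] S →ₐ[p.ResidueField] F := Ideal.Quotient.mkₐ p.ResidueField Q
  let K := separableClosure p.ResidueField F
  have hsep : ∀ (E : Type u) [CommRing E] [Algebra R E] [Algebra.Etale R E] (φ : E →ₐ[R] S) (x : E),
      π (ι (φ x)) ∈ K := by
    intro E _ _ _ φ x
    let ψ : p.ResidueField ⊗[R] E →ₐ[p.ResidueField] F :=
      π.comp (Algebra.TensorProduct.map (AlgHom.id p.ResidueField p.ResidueField) φ)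
    refine mem_separableClosure_iff.2 ?_
    have hmem : π (ι (φ x)) = ψ ((1 : p.ResidueField) ⊗ₜ[R] x) := rfl
    rw [hmem]
    exact isSeparable_of_etale_hom ψ _
  suffices htop : ∀ y : F, y ∈ K from ⟨fun y => mem_separableClosure_iff.1 (htop y)⟩
  intro y
  obtain ⟨z, rfl⟩ := Ideal.Quotient.mk_surjective y
  change π z ∈ K
  obtain ⟨t, ht, w, hw⟩ := exists_mul_eq_includeRight p z
  obtain ⟨E, _, _, _, φ, x, u, hu, hwu⟩ := hS w
  have ht0 : π (algebraMap R _ t) ≠ 0 := ((isUnit_algebraMap_fibre (S := S) p ht).map π).ne_zero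
  have hu0 : π (ι (φ u)) ≠ 0 := ((hu.map ι).map π).ne_zero
  have htK : π (algebraMap R _ t) ∈ K := by
    rw [IsScalarTower.algebraMap_apply R p.ResidueField (p.ResidueField ⊗[R] S), AlgHom.commutes]
    exact IntermediateField.algebraMap_mem _ _
  have hz : π z = π (ι (φ x)) / π (ι (φ u)) / π (algebraMap R _ t) := by
    rw [eq_div_iff ht0, eq_div_iff hu0, ← map_mul, ← map_mul, ← hwu, map_mul ι, mul_comm z, hw]
  rw [hz]
  exact div_mem (div_mem (hsep E φ x) (hsep E φ u)) htK

/-- The fibre is a finite product of separable extensions. -/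
theorem fibre_equiv_pi [IsNoetherianRing S] (hS : HasEtaleStages R S) :
    ∃ (n : ℕ) (K : Fin n → Type u) (_ : ∀ i, Field (K i)) (_ : ∀ i, Algebra p.ResidueField (K i)),
      (∀ i, Algebra.IsSeparable p.ResidueField (K i)) ∧
        Nonempty ((p.ResidueField ⊗[R] S) ≃ₐ[p.ResidueField] (Π i, K i)) := by
  classical
  let F := p.ResidueField ⊗[R] S
  haveI : IsNoetherianRing F := by
    haveI : Algebra.EssFiniteType S (S ⊗[R] p.ResidueField) := inferInstance
    haveI : IsNoetherianRing (S ⊗[R] p.ResidueField) := Algebra.EssFiniteType.isNoetherianRing S _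
    exact isNoetherianRing_of_ringEquiv _ (Algebra.TensorProduct.comm R S p.ResidueField).toRingEquiv
  haveI : Ring.KrullDimLE 0 F := Ring.krullDimLE_zero_iff.2 fun Q hQ => isMaximal_fibre_of_isPrime p hU Q
  haveI : IsArtinianRing F := isArtinianRing_iff_isNoetherianRing_krullDimLE_zero.2 ⟨inferInstance, inferInstance⟩
  haveI : Finite (MaximalSpectrum F) := inferInstance
  let e := (Finite.equivFin (MaximalSpectrum F)).symm
  let m : Fin (Nat.card (MaximalSpectrum F)) → Ideal F := fun i => (e i).asIdeal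
  haveI hm : ∀ i, (m i).IsMaximal := fun i => (e i).isMaximal
  letI hfield : ∀ i, Field (F ⧸ m i) := fun i => Ideal.Quotient.field (m i)
  refine ⟨_, fun i => F ⧸ m i, hfield, fun i => inferInstance, fun i => isSeparable_fibre_quotient p hU hS (m i), ?_⟩
  have hcop : Pairwise (Function.onFun IsCoprime m) := fun i j hij => Ideal.isCoprime_iff_sup_eq.2
    ((hm i).coprime_of_ne (hm j) fun h => hij (e.injective (MaximalSpectrum.ext h)))
  let Ψ : F →ₐ[p.ResidueField] Π i, F ⧸ m i :=
    Pi.algHom p.ResidueField _ fun i => Ideal.Quotient.mkₐ p.ResidueField (m i)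
  refine ⟨AlgEquiv.ofBijective Ψ ⟨(injective_iff_map_eq_zero Ψ).2 fun z hz => ?_, fun y => ?_⟩⟩
  · refine eq_zero_of_forall_mem_fibre p hU z fun Q hQ => ?_
    haveI := isMaximal_fibre_of_isPrime p hU Q
    have h1 := congrFun hz (e.symm ⟨Q, this⟩)
    have h2 : z ∈ m (e.symm ⟨Q, this⟩) := Ideal.Quotient.eq_zero_iff_mem.1 h1
    simpa [m] using h2
  · choose y' hy' using fun i => Ideal.Quotient.mk_surjective (y i)
    obtain ⟨x, hx⟩ := Ideal.exists_forall_sub_mem_ideal hcop y'
    exact ⟨x, funext fun i => (Ideal.Quotient.eq.2 (hx i)).trans (hy' i)⟩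

end

end Groth.Agent.Hensel
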