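import Groth.Agent.Hensel.Local
import Mathlib.RingTheory.Etale.QuasiFinite
import Mathlib.RingTheory.Unramified.LocalStructure

/-!
Decomposition of finite type algebras over henselian local rings (finite part / no quasi-finite point part).
-/

set_option autoImplicit false

namespace Groth.Agent.Hensel

universe u v

open scoped TensorProduct
open IsLocalRing

/-- An étale algebra with a point over the closed point with trivial residue extension has a section through it. -/
theorem exists_section_of_bijective (R : Type u) [CommRing R] [HenselianLocalRing R] (R' : Type u) [CommRing R']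
    [Algebra R R'] [Algebra.Etale R R'] (P : Ideal R') [P.IsPrime] [P.LiesOver (maximalIdeal R)]
    (hP : Function.Bijective
      (Ideal.ResidueField.mapₐ (maximalIdeal R) P (Algebra.ofId _ _) (P.over_def (maximalIdeal R)))) :
    ∃ τ : R' →ₐ[R] R, P = (maximalIdeal R).comap τ.toRingHom := by
  set m := maximalIdeal R
  let e₁ := AlgEquiv.ofBijective _ hP
  let e₂ : (R ⧸ m) ≃ₐ[R] m.ResidueField :=
    AlgEquiv.ofBijective (IsScalarTower.toAlgHom R (R ⧸ m) m.ResidueField)
      m.bijective_algebraMap_quotient_residueField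
  let σ : R' →ₐ[R] R ⧸ m :=
    (e₂.symm.toAlgHom.comp e₁.symm.toAlgHom).comp (IsScalarTower.toAlgHom R R' P.ResidueField)
  have hK : HenselianRing R (RingHom.ker (Ideal.Quotient.mkₐ R m).toRingHom) := by
    have : RingHom.ker (Ideal.Quotient.mkₐ R m).toRingHom = m := Ideal.mk_ker
    rw [this]; infer_instance
  obtain ⟨τ, hτ, -⟩ := existsUnique_algHom_of_quotient (Ideal.Quotient.mkₐ R m) Ideal.Quotient.mk_surjective hK σ
  refine ⟨τ, Ideal.ext fun r => ?_⟩
  rw [Ideal.mem_comap]
  change r ∈ P ↔ τ r ∈ m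
  rw [← Ideal.Quotient.eq_zero_iff_mem (I := m)]
  change r ∈ P ↔ Ideal.Quotient.mkₐ R m (τ r) = 0
  rw [← AlgHom.comp_apply, hτ]
  change r ∈ P ↔ e₂.symm (e₁.symm (algebraMap R' P.ResidueField r)) = 0
  rw [EmbeddingLike.map_eq_zero_iff, EmbeddingLike.map_eq_zero_iff, Ideal.algebraMap_residueField_eq_zero]

/-- A quasi-finite point over the closed point lies in a finite clopen piece. -/
theorem exists_idempotent_notMem (R : Type u) [CommRing R] [HenselianLocalRing R] (S : Type u) [CommRing S]
    [Algebra R S] [Algebra.FiniteType R S] (q : Ideal S) [q.IsPrime] [q.LiesOver (maximalIdeal R)]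
    [Algebra.QuasiFiniteAt R q] :
    ∃ e : S, IsIdempotentElem e ∧ Module.Finite R (S ⧸ Ideal.span ({1 - e} : Set S)) ∧ e ∉ q := by
  set m := maximalIdeal R
  obtain ⟨R', _, _, _, P, _, _, e, he, P', _, _, hP'q, heP', hP, hfin, -⟩ :=
    Algebra.exists_etale_isIdempotentElem_forall_liesOver_eq m q
  obtain ⟨τ, hτ⟩ := exists_section_of_bijective R R' P hP
  let π : R' ⊗[R] S →ₐ[R] S :=
    Algebra.TensorProduct.lift ((Algebra.ofId R S).comp τ) (AlgHom.id R S) fun _ _ => .all _ _
  have hπl : ∀ r : R', π (r ⊗ₜ 1) = algebraMap R S (τ r) := fun r => by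
    simp [π, Algebra.ofId_apply]
  have hπr : ∀ s : S, π (1 ⊗ₜ s) = s := fun s => by simp [π]
  let Q := q.comap π.toRingHom
  haveI : Q.IsPrime := Ideal.IsPrime.comap _
  haveI : Q.LiesOver P := ⟨Ideal.ext fun r => by
    rw [Ideal.mem_comap, hτ, Ideal.mem_comap, Ideal.mem_comap, Algebra.TensorProduct.algebraMap_apply,
      Algebra.algebraMap_self, RingHom.id_apply]
    change τ r ∈ m ↔ π (r ⊗ₜ 1) ∈ q
    rw [hπl, q.over_def m]; rfl⟩
  have hQq : Q.comap Algebra.TensorProduct.includeRight.toRingHom = q := Ideal.ext fun s => by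
    rw [Ideal.mem_comap, Ideal.mem_comap]
    change π (1 ⊗ₜ s) ∈ q ↔ _
    rw [hπr]
  let F := Ideal.fiberIsoOfBijectiveResidueField hP (S := S)
  have hF : ∀ P1 : P.primesOver (R' ⊗[R] S),
      P1.1.comap Algebra.TensorProduct.includeRight.toRingHom = (F P1).1 := fun P1 => by
    conv_lhs => rw [← F.symm_apply_apply P1]
    exact Ideal.comap_fiberIsoOfBijectiveResidueField_symm hP (F P1)
  have hQP' : Q = P' := by
    have h1 := hF ⟨Q, inferInstance, inferInstance⟩
    have h2 := hF ⟨P', inferInstance, inferInstance⟩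
    exact congrArg Subtype.val (F.injective (Subtype.ext ((h1.symm.trans hQq).trans (hP'q.symm.trans h2))))
  refine ⟨π e, he.map π, ?_, fun h => heP' (hQP' ▸ (Ideal.mem_comap.2 h : e ∈ Q))⟩
  let ψ : R' ⊗[R] S →+* S ⧸ Ideal.span ({1 - π e} : Set S) := (Ideal.Quotient.mk _).comp π.toRingHom
  have hψsurj : Function.Surjective ψ :=
    Ideal.Quotient.mk_surjective.comp fun s => ⟨1 ⊗ₜ s, hπr s⟩
  have hψe : IsUnit (ψ e) := by
    have : ψ e = 1 := by
      change Ideal.Quotient.mk _ (π e) = 1
      rw [← map_one (Ideal.Quotient.mk (Ideal.span ({1 - π e} : Set S))), eq_comm, Ideal.Quotient.eq]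
      exact Ideal.subset_span rfl
    rw [this]; exact isUnit_one
  let φ : Localization.Away e →+* S ⧸ Ideal.span ({1 - π e} : Set S) := IsLocalization.Away.lift e hψe
  have hφsurj : Function.Surjective φ := fun y => by
    obtain ⟨x, rfl⟩ := hψsurj y
    exact ⟨algebraMap _ _ x, IsLocalization.Away.lift_eq e hψe x⟩
  have hφsmul : ∀ (r : R') (x : Localization.Away e), φ (r • x) = τ r • φ x := fun r x => by
    rw [Algebra.smul_def, map_mul, IsScalarTower.algebraMap_apply R' (R' ⊗[R] S) (Localization.Away e),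
      IsLocalization.Away.lift_eq, Algebra.smul_def]
    congr 1
    change Ideal.Quotient.mk _ (π _) = _
    rw [Algebra.TensorProduct.algebraMap_apply, Algebra.algebraMap_self, RingHom.id_apply, hπl]
    rfl
  haveI : RingHomSurjective τ.toRingHom := ⟨fun r => ⟨algebraMap R R' r, τ.commutes r⟩⟩
  let Φ : Localization.Away e →ₛₗ[τ.toRingHom] S ⧸ Ideal.span ({1 - π e} : Set S) :=
    { toFun := φ, map_add' := map_add φ, map_smul' := hφsmul }
  exact Module.Finite.of_surjective Φ hφsurj

/-- The join of two finite clopen pieces is finite. -/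
theorem finite_quotient_join {R : Type u} [CommRing R] {S : Type v} [CommRing S] [Algebra R S] {e f : S}
    (he : IsIdempotentElem e) (hf : IsIdempotentElem f)
    [Module.Finite R (S ⧸ Ideal.span ({1 - e} : Set S))] [Module.Finite R (S ⧸ Ideal.span ({1 - f} : Set S))] :
    Module.Finite R (S ⧸ Ideal.span ({1 - (e + f - e * f)} : Set S)) := by
  set K := Ideal.span ({1 - (e + f - e * f)} : Set S) with hK
  have he' : e * e = e := he
  have hf' : f * f = f := hf
  let α : (S ⧸ Ideal.span ({1 - e} : Set S)) →ₗ[S] S ⧸ K :=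
    Submodule.liftQ _ (LinearMap.toSpanSingleton S _ (Ideal.Quotient.mk K e)) (by
      rw [Submodule.span_le, Set.singleton_subset_iff, SetLike.mem_coe, LinearMap.mem_ker,
        LinearMap.toSpanSingleton_apply, Algebra.smul_def, Ideal.Quotient.algebraMap_eq, ← map_mul,
        show (1 - e) * e = 0 by rw [sub_mul, one_mul, he', sub_self], map_zero])
  let β : (S ⧸ Ideal.span ({1 - f} : Set S)) →ₗ[S] S ⧸ K :=
    Submodule.liftQ _ (LinearMap.toSpanSingleton S _ (Ideal.Quotient.mk K ((1 - e) * f))) (by
      rw [Submodule.span_le, Set.singleton_subset_iff, SetLike.mem_coe, LinearMap.mem_ker,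
        LinearMap.toSpanSingleton_apply, Algebra.smul_def, Ideal.Quotient.algebraMap_eq, ← map_mul,
        show (1 - f) * ((1 - e) * f) = 0 by linear_combination (e - 1) * hf', map_zero])
  refine Module.Finite.of_surjective ((α.restrictScalars R).coprod (β.restrictScalars R)) fun y => ?_
  obtain ⟨x, rfl⟩ := Ideal.Quotient.mk_surjective y
  refine ⟨(Submodule.Quotient.mk x, Submodule.Quotient.mk x), ?_⟩
  simp only [LinearMap.coprod_apply, LinearMap.coe_restrictScalars]
  change x • Ideal.Quotient.mk K e + x • Ideal.Quotient.mk K ((1 - e) * f) = _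
  rw [Algebra.smul_def, Algebra.smul_def, Ideal.Quotient.algebraMap_eq, ← map_mul, ← map_mul, ← map_add,
    Ideal.Quotient.eq, hK, Ideal.mem_span_singleton]
  exact ⟨-x, by ring⟩

/-- Quasi-finiteness at a point of a clopen piece is quasi-finiteness in the whole. -/
theorem quasiFiniteAt_of_quotient_idempotent {R : Type u} [CommRing R] {S : Type v} [CommRing S] [Algebra R S]
    {e : S} (he : IsIdempotentElem e) (q : Ideal (S ⧸ Ideal.span ({e} : Set S))) [q.IsPrime]
    [Algebra.QuasiFiniteAt R q] : Algebra.QuasiFiniteAt R (q.comap (Ideal.Quotient.mk _)) := by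
  set q₀ := q.comap (Ideal.Quotient.mk (Ideal.span ({e} : Set S)))
  have he0 : algebraMap S (Localization.AtPrime q₀) e = 0 := by
    have h1 : IsUnit (algebraMap S (Localization.AtPrime q₀) (1 - e)) := by
      refine IsLocalization.map_units (M := q₀.primeCompl) _ ⟨1 - e, fun h => ?_⟩
      have h2 : e ∈ q₀ := by
        rw [Ideal.mem_comap, Ideal.Quotient.eq_zero_iff_mem.2 (Ideal.mem_span_singleton_self e)]; exact q.zero_mem
      exact (Ideal.IsPrime.comap _ : q₀.IsPrime).one_notMem (by have := q₀.add_mem h h2; rwa [sub_add_cancel] at this)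
    refine h1.mul_right_eq_zero.1 ?_
    rw [← map_mul, sub_mul, one_mul, he.eq, sub_self, map_zero]
  let ψ : (S ⧸ Ideal.span ({e} : Set S)) →ₐ[R] Localization.AtPrime q₀ :=
    Ideal.Quotient.liftₐ _ (IsScalarTower.toAlgHom R S _) fun a ha => by
      obtain ⟨b, rfl⟩ := Ideal.mem_span_singleton.1 ha
      rw [IsScalarTower.coe_toAlgHom', map_mul, he0, zero_mul]
  have hψ : ∀ s, ψ (Ideal.Quotient.mk _ s) = algebraMap S (Localization.AtPrime q₀) s := fun s => rfl
  let φ : Localization.AtPrime q →ₐ[R] Localization.AtPrime q₀ :=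
    IsLocalization.liftAlgHom (M := q.primeCompl) (f := ψ) fun y => by
      obtain ⟨s, hs⟩ := Ideal.Quotient.mk_surjective y.1
      rw [← hs, hψ]
      exact IsLocalization.map_units (M := q₀.primeCompl) _ ⟨s, fun h => y.2 (hs ▸ h)⟩
  have hφ : ∀ z, φ (algebraMap _ _ z) = ψ z := fun z => IsLocalization.lift_eq _ z
  refine Algebra.QuasiFinite.of_forall_exists_mul_mem_range φ fun x => ?_
  obtain ⟨a, s, rfl⟩ := IsLocalization.exists_mk'_eq q₀.primeCompl x
  refine ⟨algebraMap _ _ (Ideal.Quotient.mk (Ideal.span ({e} : Set S)) s.1), ?_,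
    algebraMap _ _ (Ideal.Quotient.mk (Ideal.span ({e} : Set S)) a), ?_⟩
  · rw [hφ, hψ]; exact IsLocalization.map_units _ s
  · change φ _ = _
    rw [hφ, hψ, hφ, hψ, IsLocalization.mk'_spec]

/-- Splitting off the finite part containing all quasi-finite points over the closed point. -/
theorem exists_idempotent_finite (R : Type u) [CommRing R] [HenselianLocalRing R] (S : Type u) [CommRing S]
    [Algebra R S] [Algebra.FiniteType R S] :
    ∃ e : S, IsIdempotentElem e ∧ Module.Finite R (S ⧸ Ideal.span ({1 - e} : Set S)) ∧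
      ∀ (q : Ideal (S ⧸ Ideal.span ({e} : Set S))) [q.IsPrime],
        q.LiesOver (maximalIdeal R) → ¬ Algebra.QuasiFiniteAt R q := by
  set m := maximalIdeal R
  let J := m.map (algebraMap R S)
  haveI : IsNoetherianRing (S ⧸ J) :=
    haveI : Algebra.FiniteType (R ⧸ m) (S ⧸ J) := .of_restrictScalars_finiteType R _ _
    letI := Ideal.Quotient.field m
    Algebra.FiniteType.isNoetherianRing (R ⧸ m) _
  let 𝒮 : Set (Ideal (S ⧸ J)) := {M | ∃ e : S, IsIdempotentElem e ∧
    Module.Finite R (S ⧸ Ideal.span ({1 - e} : Set S)) ∧ M = Ideal.span {Ideal.Quotient.mk J e}}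
  have hne : 𝒮.Nonempty := by
    refine ⟨_, 0, IsIdempotentElem.zero, ?_, rfl⟩
    haveI : Subsingleton (S ⧸ Ideal.span ({1 - 0} : Set S)) := by
      rw [Ideal.Quotient.subsingleton_iff, sub_zero, Ideal.span_singleton_one]
    infer_instance
  obtain ⟨M, ⟨e, he, hfin, rfl⟩, hmax⟩ := set_has_maximal_iff_noetherian.2 inferInstance 𝒮 hne
  refine ⟨e, he, hfin, fun q _ hq hqf => ?_⟩
  set q₀ := q.comap (Ideal.Quotient.mk (Ideal.span ({e} : Set S)))
  haveI : q₀.LiesOver m := ⟨by rw [q.over_def m]; rfl⟩
  haveI : Algebra.QuasiFiniteAt R q₀ := quasiFiniteAt_of_quotient_idempotent (R := R) he q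
  obtain ⟨f, hf, hffin, hfq⟩ := exists_idempotent_notMem R S q₀
  haveI := hfin
  have he' : e * e = e := he
  have hf' : f * f = f := hf
  have hg : IsIdempotentElem (e + f - e * f) := by
    change (e + f - e * f) * (e + f - e * f) = _
    linear_combination (1 - 2 * f + f * f) * he' + (1 - e) * hf'
  refine hmax _ ⟨e + f - e * f, hg, finite_quotient_join he hf, rfl⟩ (lt_of_le_of_ne ?_ ?_)
  · rw [Ideal.span_singleton_le_span_singleton]
    refine ⟨Ideal.Quotient.mk J e, ?_⟩
    rw [← map_mul, show (e + f - e * f) * e = e by linear_combination (1 - f) * he']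
  · intro h
    have h1 : Ideal.Quotient.mk J (e + f - e * f) ∈ (Ideal.span {Ideal.Quotient.mk J e} : Ideal (S ⧸ J)) :=
      h ▸ Ideal.subset_span rfl
    obtain ⟨c, hc⟩ := Ideal.mem_span_singleton.1 h1
    obtain ⟨c, rfl⟩ := Ideal.Quotient.mk_surjective c
    rw [← map_mul, Ideal.Quotient.eq] at hc
    have hJq : J ≤ q₀ := Ideal.map_le_iff_le_comap.2 (le_of_eq (q₀.over_def m))
    have heq : e ∈ q₀ := by
      rw [Ideal.mem_comap, Ideal.Quotient.eq_zero_iff_mem.2 (Ideal.mem_span_singleton_self e)]; exact q.zero_mem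
    have h3 : f * (1 - e) ∈ q₀ := by
      have := q₀.add_mem (hJq hc) (q₀.mul_mem_left (c - 1) heq)
      convert this using 1; ring
    refine hfq (((Ideal.IsPrime.comap _ : q₀.IsPrime).mem_or_mem h3).resolve_right fun h4 => ?_)
    exact (Ideal.IsPrime.comap _ : q₀.IsPrime).one_notMem (by have := q₀.add_mem h4 heq; rwa [sub_add_cancel] at this)

/-- Quasi-finite algebras over henselian local rings. -/
theorem exists_idempotent_quasiFinite (R : Type u) [CommRing R] [HenselianLocalRing R] (S : Type u) [CommRing S]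
    [Algebra R S] [Algebra.FiniteType R S] [Algebra.QuasiFinite R S] :
    ∃ e : S, IsIdempotentElem e ∧ Module.Finite R (S ⧸ Ideal.span ({1 - e} : Set S)) ∧
      Ideal.map (algebraMap R (S ⧸ Ideal.span ({e} : Set S))) (maximalIdeal R) = ⊤ := by
  obtain ⟨e, he, hfin, h⟩ := exists_idempotent_finite R S
  refine ⟨e, he, hfin, by_contra fun hne => ?_⟩
  obtain ⟨q, hq, hle⟩ := Ideal.exists_le_maximal _ hne
  haveI : q.LiesOver (maximalIdeal R) :=
    ⟨(maximalIdeal.isMaximal R).eq_of_le (Ideal.IsPrime.comap _).ne_top (Ideal.map_le_iff_le_comap.1 hle)⟩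
  exact h q inferInstance inferInstance

/-- Nakayama and residue fields: finite local unramified algebras over strictly henselian rings are quotients. -/
theorem surjective_of_isLocalRing_unramified (R : Type u) [CommRing R] [IsLocalRing R]
    [IsSepClosed (ResidueField R)] (A : Type v) [CommRing A] [IsLocalRing A] [Algebra R A] [Module.Finite R A]
    [Algebra.FormallyUnramified R A] : Function.Surjective (algebraMap R A) := by
  haveI : IsLocalHom (algebraMap R A) := by
    refine ((local_hom_TFAE (algebraMap R A)).out 2 0).1 (Ideal.map_le_iff_le_comap.2 ?_)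
    haveI : (Ideal.comap (algebraMap R A) (maximalIdeal A)).IsMaximal :=
      Ideal.isMaximal_comap_of_isIntegral_of_isMaximal _
    exact (eq_maximalIdeal this).ge
  haveI : Algebra.IsSeparable (ResidueField R) (ResidueField A) := inferInstance
  have hmap := Algebra.FormallyUnramified.map_maximalIdeal (R := R) (S := A)
  have key : (⊤ : Submodule R A) ≤ LinearMap.range (Algebra.linearMap R A) := by
    refine Submodule.le_of_le_smul_of_le_jacobson_bot Module.Finite.fg_top
      (maximalIdeal_le_jacobson (⊥ : Ideal R)) fun x _ => ?_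
    obtain ⟨r, hr⟩ := IsSepClosed.algebraMap_surjective (ResidueField R) (ResidueField A) (residue A x)
    obtain ⟨r, rfl⟩ := residue_surjective r
    rw [ResidueField.algebraMap_residue] at hr
    refine Submodule.mem_sup.2 ⟨algebraMap R A r, ⟨r, rfl⟩, x - algebraMap R A r, ?_, by abel⟩
    have : x - algebraMap R A r ∈ maximalIdeal A := by
      rw [← residue_eq_zero_iff, map_sub, hr, sub_self]
    rw [← hmap] at this
    rwa [Ideal.smul_top_eq_map]
  exact fun a => key Submodule.mem_top

end Groth.Agent.Hensel
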