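import Groth.Agent.Hensel.TensorFinite

/-!
Passing between a local ring and its localisation at the maximal ideal.
-/

set_option autoImplicit false

namespace Groth.Agent.Hensel

universe u

open IsLocalRing

theorem bijective_algebraMap_atMaximal (A : Type u) [CommRing A] [IsLocalRing A] :
    Function.Bijective (algebraMap A (Localization.AtPrime (maximalIdeal A))) :=
  (IsLocalization.atUnits A (maximalIdeal A).primeCompl
    (S := Localization.AtPrime (maximalIdeal A)) fun _ hx => notMem_maximalIdeal.1 hx).bijective

/-- The structure map of a local algebra extended to the localisation at the maximal ideal. -/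
noncomputable abbrev atMaximalAlgebra (A S : Type u) [CommRing A] [IsLocalRing A] [CommRing S] [Algebra A S] :
    Algebra (Localization.AtPrime (maximalIdeal A)) S :=
  (IsLocalization.lift (M := (maximalIdeal A).primeCompl) (S := Localization.AtPrime (maximalIdeal A))
    (g := algebraMap A S) fun x => (notMem_maximalIdeal.1 x.2).map _).toAlgebra

section

variable (A : Type u) [CommRing A] [IsLocalRing A] (S : Type u) [CommRing S] [IsLocalRing S] [Algebra A S]
  [Algebra (Localization.AtPrime (maximalIdeal A)) S] [IsScalarTower A (Localization.AtPrime (maximalIdeal A)) S]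

theorem isLocalHom_atMaximal [IsLocalHom (algebraMap A S)] :
    IsLocalHom (algebraMap (Localization.AtPrime (maximalIdeal A)) S) := ⟨fun x hx => by
  obtain ⟨a, rfl⟩ := (bijective_algebraMap_atMaximal A).2 x
  rw [← IsScalarTower.algebraMap_apply] at hx
  exact (hx.of_map (algebraMap A S) a).map _⟩

theorem isStrictHenselization_atMaximal [IsLocalHom (algebraMap A S)]
    [IsLocalHom (algebraMap (Localization.AtPrime (maximalIdeal A)) S)] [h : _root_.Hensel.IsStrictHenselization A S] :
    _root_.Hensel.IsStrictHenselization (Localization.AtPrime (maximalIdeal A)) S := by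
  haveI : IsLocalHom (algebraMap A (Localization.AtPrime (maximalIdeal A))) := ⟨fun a ha => by
    by_contra hn
    exact (IsLocalization.AtPrime.isUnit_to_map_iff _ (maximalIdeal A) a).1 ha ((mem_maximalIdeal _).2 hn)⟩
  refine ⟨h.henselian, ⟨h.isSepClosure.sep_closed, ?_⟩, fun T _ _ f _ τ hτ => ?_⟩
  · haveI : IsScalarTower (ResidueField A) (ResidueField (Localization.AtPrime (maximalIdeal A))) (ResidueField S) :=
      IsScalarTower.of_algebraMap_eq fun x => by
        obtain ⟨a, rfl⟩ := residue_surjective x
        rw [ResidueField.algebraMap_residue, ResidueField.algebraMap_residue, ResidueField.algebraMap_residue,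
          ← IsScalarTower.algebraMap_apply]
    haveI : Algebra.IsSeparable (ResidueField A) (ResidueField S) := h.isSepClosure.separable
    exact Algebra.isSeparable_tower_top_of_isSeparable (ResidueField A) _ _
  · haveI : IsLocalHom (f.comp (algebraMap A (Localization.AtPrime (maximalIdeal A)))) :=
      RingHom.isLocalHom_comp _ _
    obtain ⟨g, ⟨hg, hgr⟩, hgu⟩ := h.universal T (f.comp (algebraMap A _)) τ (RingHom.ext fun x => by
      obtain ⟨a, rfl⟩ := residue_surjective x
      have h1 := RingHom.congr_fun hτ (residue _ (algebraMap A _ a))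
      rw [RingHom.comp_apply, ResidueField.map_residue, ResidueField.map_residue,
        ← IsScalarTower.algebraMap_apply] at h1
      rw [RingHom.comp_apply, ResidueField.map_residue, ResidueField.map_residue, h1]
      rfl)
    refine ⟨g, ⟨RingHom.ext fun x => ?_, hgr⟩, fun g' hg' => hgu g' ⟨?_, hg'.2⟩⟩
    · obtain ⟨a, rfl⟩ := (bijective_algebraMap_atMaximal A).2 x
      rw [RingHom.comp_apply, ← IsScalarTower.algebraMap_apply]
      exact RingHom.congr_fun hg a
    · rw [IsScalarTower.algebraMap_eq A (Localization.AtPrime (maximalIdeal A)) S, ← RingHom.comp_assoc, hg'.1]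

theorem isHenselization_atMaximal [IsLocalHom (algebraMap A S)]
    [IsLocalHom (algebraMap (Localization.AtPrime (maximalIdeal A)) S)] [h : _root_.Hensel.IsHenselization A S] :
    _root_.Hensel.IsHenselization (Localization.AtPrime (maximalIdeal A)) S := by
  haveI : IsLocalHom (algebraMap A (Localization.AtPrime (maximalIdeal A))) := ⟨fun a ha => by
    by_contra hn
    exact (IsLocalization.AtPrime.isUnit_to_map_iff _ (maximalIdeal A) a).1 ha ((mem_maximalIdeal _).2 hn)⟩
  refine ⟨h.henselian, fun T _ _ f _ => ?_⟩
  obtain ⟨g, hg, hgu⟩ := h.universal T (f.comp (algebraMap A _)) (RingHom.isLocalHom_comp _ _)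
  refine ⟨g, RingHom.ext fun x => ?_, fun g' hg' => hgu g' ?_⟩
  · obtain ⟨a, rfl⟩ := (bijective_algebraMap_atMaximal A).2 x
    rw [RingHom.comp_apply, ← IsScalarTower.algebraMap_apply]
    exact RingHom.congr_fun hg a
  · change g'.comp (algebraMap A S) = f.comp _
    rw [IsScalarTower.algebraMap_eq A (Localization.AtPrime (maximalIdeal A)) S, ← RingHom.comp_assoc, hg']

end

end Groth.Agent.Hensel
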