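import Groth.Agent.Hensel.NormRed
import Groth.Agent.Hensel.LocalBase
import Groth.Agent.Hensel.HenselizationMore
import Mathlib.RingTheory.Ideal.GoingDown
import Mathlib.RingTheory.Spectrum.Maximal.Defs
import Mathlib.FieldTheory.IsAlgClosed.AlgebraicClosure
import Mathlib.FieldTheory.PurelyInseparable.Basic

/-!
Minimal primes of (strict) henselizations and maximal ideals of the base-changed normalisation.
-/

set_option autoImplicit false

namespace Groth.Agent.Hensel

universe u

open IsLocalRing TensorProduct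

/-- An integral domain which is integral over a henselian local ring is local. -/
theorem isLocalRing_of_integral_domain (S : Type u) [CommRing S] [HenselianLocalRing S] (T : Type u) [CommRing T]
    [IsDomain T] [Algebra S T] [Algebra.IsIntegral S T] : IsLocalRing T := by
  classical
  obtain ⟨M₀, hM₀⟩ := Ideal.exists_maximal T
  refine IsLocalRing.of_unique_max_ideal ⟨M₀, hM₀, fun M hM => hM.eq_of_le hM₀.ne_top fun x hx => ?_⟩
  set T₀ := Algebra.adjoin S ({x} : Set T) with hT₀
  haveI : Module.Finite S T₀ := Module.Finite.iff_fg.2 (Algebra.IsIntegral.isIntegral (R := S) x).fg_adjoin_singleton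
  haveI : Algebra.IsIntegral S T₀ := Algebra.IsIntegral.of_finite S T₀
  obtain ⟨ι, _, e, he, hloc⟩ := exists_pi_local S T₀
  obtain ⟨i, hi⟩ : ∃ i, e i ≠ 0 := by
    by_contra hall
    push Not at hall
    have := he.complete
    simp [hall] at this
  have h1 : e i = 1 := (IsIdempotentElem.iff_eq_zero_or_one.1 (he.idem i)).resolve_left hi
  have hspan : Ideal.span ({1 - e i} : Set T₀) = ⊥ := by rw [h1, sub_self, Ideal.span_singleton_eq_bot]
  haveI := hloc i
  haveI : IsLocalRing T₀ :=
    ((Ideal.quotEquivOfEq hspan).trans (RingEquiv.quotientBot T₀)).isLocalRing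
  have hmax : ∀ N : Ideal T, N.IsMaximal → N.comap T₀.val.toRingHom = maximalIdeal T₀ := fun N hN => by
    refine eq_maximalIdeal ?_
    haveI : (N.comap T₀.val.toRingHom).IsPrime := Ideal.IsPrime.comap _
    refine Ideal.isMaximal_of_isIntegral_of_isMaximal_comap (R := S) _ ?_
    rw [Ideal.comap_comap, AlgHom.toRingHom_eq_coe, AlgHom.comp_algebraMap]
    exact Ideal.isMaximal_comap_of_isIntegral_of_isMaximal (R := S) N
  have h2 : (⟨x, Algebra.self_mem_adjoin_singleton S x⟩ : T₀) ∈ M.comap T₀.val.toRingHom := hx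
  rw [hmax M hM, ← hmax M₀ hM₀] at h2
  exact h2

variable (A : Type u) [CommRing A] (S : Type u) [CommRing S] [Algebra A S]

/-- The base change of the normalisation. -/
abbrev brTensor : Type u := S ⊗[A] CAlg2.normRed A

variable {A S}

theorem isIntegral_brTensor : Algebra.IsIntegral S (brTensor A S) := by
  haveI := isIntegral_normRed A
  refine ⟨fun y => ?_⟩
  induction y using TensorProduct.induction_on with
  | zero => exact isIntegral_zero
  | add a b ha hb => exact ha.add hb
  | tmul s r =>
    rw [show s ⊗ₜ[A] r = s • ((1 : S) ⊗ₜ[A] r) by rw [TensorProduct.smul_tmul', smul_eq_mul, mul_one]]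
    exact ((Algebra.IsIntegral.isIntegral (R := A) r).map
      (Algebra.TensorProduct.includeRight : CAlg2.normRed A →ₐ[A] brTensor A S)).tower_top.smul s

theorem exists_smul_brTensor (z : brTensor A S) : ∃ (t : A) (s : S), (∀ p ∈ minimalPrimes A, t ∉ p) ∧
    algebraMap A (brTensor A S) t * z = algebraMap S (brTensor A S) s := by
  induction z using TensorProduct.induction_on with
  | zero => exact ⟨1, 0, fun p hp => (Ideal.ne_top_iff_one p).1 hp.1.1.ne_top, by simp⟩
  | tmul s r =>
    obtain ⟨t, a, ht, hta⟩ := exists_smul_normRed A r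
    refine ⟨t, a • s, ht, ?_⟩
    rw [Algebra.smul_def t r |>.symm] at hta
    rw [← Algebra.smul_def, ← TensorProduct.tmul_smul, hta, Algebra.algebraMap_eq_smul_one, ← TensorProduct.smul_tmul]
    rfl
  | add x y hx hy =>
    obtain ⟨t, s, ht, hts⟩ := hx
    obtain ⟨t', s', ht', hts'⟩ := hy
    refine ⟨t * t', algebraMap A S t' * s + algebraMap A S t * s',
      fun p hp h => ((hp.1.1).mem_or_mem h).elim (ht p hp) (ht' p hp), ?_⟩
    rw [map_add, map_mul, map_mul, map_mul, ← IsScalarTower.algebraMap_apply, ← IsScalarTower.algebraMap_apply,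
      ← hts, ← hts']
    ring

theorem exists_minimal_comap_eq [Module.FaithfullyFlat A S] {p : Ideal A} (hp : p ∈ minimalPrimes A) :
    ∃ T ∈ minimalPrimes S, T.comap (algebraMap A S) = p := by
  haveI : p.IsPrime := hp.1.1
  obtain ⟨T, hT⟩ := PrimeSpectrum.comap_surjective_of_faithfullyFlat (A := A) (B := S) ⟨p, inferInstance⟩
  obtain ⟨T₀, hT₀, hle⟩ := Ideal.exists_minimalPrimes_le (bot_le : (⊥ : Ideal S) ≤ T.asIdeal)
  haveI := hT₀.1.1
  have h1 : T₀.comap (algebraMap A S) ≤ p := (Ideal.comap_mono hle).trans (congrArg PrimeSpectrum.asIdeal hT).le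
  exact ⟨T₀, hT₀, le_antisymm h1 (hp.2 ⟨Ideal.IsPrime.comap _, bot_le⟩ h1)⟩

theorem comap_mem_minimalPrimes_of_flat {R T : Type u} [CommRing R] [CommRing T] [Algebra R T] [Module.Flat R T]
    {P : Ideal T} (hP : P ∈ minimalPrimes T) : P.comap (algebraMap R T) ∈ minimalPrimes R := by
  haveI := hP.1.1
  refine ⟨⟨Ideal.IsPrime.comap _, bot_le⟩, fun p hp hle => ?_⟩
  haveI := hp.1
  haveI : P.LiesOver (P.comap (algebraMap R T)) := ⟨rfl⟩
  obtain ⟨P₀, hP₀, hP₀', hover⟩ := Ideal.exists_ideal_le_liesOver_of_le (p := p) P hle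
  have h1 := hP.2 ⟨hP₀', bot_le⟩ hP₀
  rw [hover.over, Ideal.under_def]
  exact Ideal.comap_mono h1

variable [Module.FaithfullyFlat A S] (hfin : (minimalPrimes A).Finite)

omit [Module.FaithfullyFlat A S] in
theorem le_of_comap_le {P P' : Ideal (brTensor A S)} [P.IsPrime] [P'.IsPrime]
    (hP : P'.comap (algebraMap A (brTensor A S)) ∈ minimalPrimes A)
    (h : P.comap (algebraMap S (brTensor A S)) ≤ P'.comap (algebraMap S (brTensor A S))) : P ≤ P' := by
  intro z hz
  obtain ⟨t, s, ht, hts⟩ := exists_smul_brTensor z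
  have hs : s ∈ P.comap (algebraMap S (brTensor A S)) := by
    rw [Ideal.mem_comap, ← hts]
    exact P.mul_mem_left _ hz
  have := Ideal.mem_comap.1 (h hs)
  rw [← hts] at this
  exact ((Ideal.IsPrime.mem_or_mem ‹_› this)).resolve_left fun hm => ht _ hP hm

omit [Module.FaithfullyFlat A S] in
theorem exists_prime_over {T : Ideal S} [T.IsPrime] (hT : T.comap (algebraMap A S) ∈ minimalPrimes A) :
    ∃ P : Ideal (brTensor A S), P.IsPrime ∧ P.comap (algebraMap S (brTensor A S)) = T := by
  haveI : (T.comap (algebraMap A S)).IsPrime := hT.1.1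
  obtain ⟨Q, ⟨hQ, hQp⟩, -⟩ := existsUnique_prime_over_minimal A hT
  haveI := hQ
  let ι := Ideal.ResidueField.map (T.comap (algebraMap A S)) Q (algebraMap A (CAlg2.normRed A)) hQp.symm
  have hι : Function.Surjective ι := fun y => by
    have hpre : ∀ r, ∃ c, ι c = algebraMap (CAlg2.normRed A) Q.ResidueField r := by
      intro r
      obtain ⟨t, a, ht, hta⟩ := exists_smul_normRed A r
      have h0 : algebraMap A (T.comap (algebraMap A S)).ResidueField t ≠ 0 := fun h =>
        ht _ hT (Ideal.algebraMap_residueField_eq_zero.1 h)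
      refine ⟨algebraMap A _ a / algebraMap A _ t, ?_⟩
      rw [map_div₀, div_eq_iff ((map_ne_zero ι).2 h0)]
      simp only [ι, Ideal.ResidueField.map_algebraMap]
      rw [← map_mul, ← hta, mul_comm]
    choose r hr using hpre
    obtain ⟨a, s, rfl⟩ := IsLocalization.exists_mk'_eq (R := CAlg2.normRed A ⧸ Q) (nonZeroDivisors _) y
    obtain ⟨a, rfl⟩ := Ideal.Quotient.mk_surjective a
    obtain ⟨b, hb⟩ := Ideal.Quotient.mk_surjective s.1
    refine ⟨r a / r b, ?_⟩
    rw [map_div₀, hr, hr, IsLocalization.eq_mk'_iff_mul_eq, ← hb, Ideal.algebraMap_quotient_residueField_mk,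
      Ideal.algebraMap_quotient_residueField_mk, div_mul_cancel₀]
    intro h0
    haveI : Nontrivial (CAlg2.normRed A ⧸ Q) := Ideal.Quotient.nontrivial_iff.2 hQ.ne_top
    refine nonZeroDivisors.coe_ne_zero s ?_
    rw [← hb, Ideal.Quotient.eq_zero_iff_mem]
    exact Ideal.algebraMap_residueField_eq_zero.1 h0
  let e := RingEquiv.ofBijective ι ⟨ι.injective, hι⟩
  let fN : CAlg2.normRed A →ₐ[A] T.ResidueField :=
    { (Ideal.ResidueField.map (T.comap (algebraMap A S)) T (algebraMap A S) rfl).comp
        (e.symm.toRingHom.comp (algebraMap (CAlg2.normRed A) Q.ResidueField)) with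
      commutes' := fun a => by
        change Ideal.ResidueField.map _ T (algebraMap A S) rfl (e.symm (algebraMap _ Q.ResidueField (algebraMap A _ a))) = _
        rw [show e.symm (algebraMap _ Q.ResidueField (algebraMap A (CAlg2.normRed A) a)) = algebraMap A _ a from
          e.symm_apply_eq.2 (Ideal.ResidueField.map_algebraMap _ _ _ _ a).symm, Ideal.ResidueField.map_algebraMap,
          ← IsScalarTower.algebraMap_apply] }
  let Θ : brTensor A S →ₐ[A] T.ResidueField :=
    Algebra.TensorProduct.lift (IsScalarTower.toAlgHom A S T.ResidueField) fN fun _ _ => Commute.all _ _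
  refine ⟨RingHom.ker Θ.toRingHom, RingHom.ker_isPrime _, ?_⟩
  rw [RingHom.comap_ker, show Θ.toRingHom.comp (algebraMap S (brTensor A S)) = algebraMap S T.ResidueField from
    RingHom.ext fun s => by simp [Θ], Ideal.ker_algebraMap_residueField]

include hfin in
/-- Minimal primes of `S` and of the base-changed normalisation correspond. -/
theorem bijOn_minimalPrimes :
    Set.BijOn (Ideal.comap (algebraMap S (brTensor A S))) (minimalPrimes (brTensor A S)) (minimalPrimes S) := by
  have hA : ∀ P ∈ minimalPrimes (brTensor A S), P.comap (algebraMap A (brTensor A S)) ∈ minimalPrimes A := by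
    intro P hP
    letI : Algebra (CAlg2.normRed A) (brTensor A S) := Algebra.TensorProduct.rightAlgebra
    haveI : Module.Flat (CAlg2.normRed A) (brTensor A S) := by
      refine Module.Flat.of_linearEquiv (M := CAlg2.normRed A ⊗[A] S) (LinearEquiv.symm ?_)
      exact
        { (Algebra.TensorProduct.comm A (CAlg2.normRed A) S).toLinearEquiv.toAddEquiv with
          map_smul' := fun r x => by
            change (Algebra.TensorProduct.comm A (CAlg2.normRed A) S) (r • x) =
              (1 : S) ⊗ₜ[A] r * (Algebra.TensorProduct.comm A (CAlg2.normRed A) S) x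
            rw [Algebra.smul_def, map_mul]
            rfl }
    have h1 := comap_minimalPrimes_normRed A hfin (comap_mem_minimalPrimes_of_flat (R := CAlg2.normRed A) hP)
    rwa [Ideal.comap_comap, show (algebraMap (CAlg2.normRed A) (brTensor A S)).comp
      (algebraMap A (CAlg2.normRed A)) = algebraMap A (brTensor A S) from
        RingHom.ext fun a => (Algebra.TensorProduct.includeRight (R := A) (A := S)).commutes a] at h1
  refine ⟨fun P hP => ?_, fun P hP P' hP' h => ?_, fun T hT => ?_⟩
  · haveI := hP.1.1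
    refine ⟨⟨Ideal.IsPrime.comap _, bot_le⟩, fun T hT hle => ?_⟩
    haveI := hT.1
    have hT' : T.comap (algebraMap A S) ≤ P.comap (algebraMap A (brTensor A S)) := by
      rw [IsScalarTower.algebraMap_eq A S (brTensor A S), ← Ideal.comap_comap]
      exact Ideal.comap_mono hle
    have hTe : T.comap (algebraMap A S) = P.comap (algebraMap A (brTensor A S)) :=
      le_antisymm hT' ((hA P hP).2 ⟨Ideal.IsPrime.comap _, bot_le⟩ hT')
    obtain ⟨P', hP', hP'T⟩ := exists_prime_over (A := A) (S := S) (T := T) (hTe ▸ hA P hP)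
    haveI := hP'
    have h1 : P' ≤ P := le_of_comap_le (hA P hP) (hP'T ▸ hle)
    exact (Ideal.comap_mono (hP.2 ⟨hP', bot_le⟩ h1)).trans hP'T.le
  · haveI := hP.1.1
    haveI := hP'.1.1
    exact le_antisymm (le_of_comap_le (hA P' hP') (le_of_eq h)) (le_of_comap_le (hA P hP) (ge_of_eq h))
  · haveI := hT.1.1
    obtain ⟨P, hP, hPT⟩ := exists_prime_over (A := A) (S := S) (T := T) (comap_mem_minimalPrimes_of_flat hT)
    haveI := hP
    obtain ⟨P₀, hP₀, hle⟩ := Ideal.exists_minimalPrimes_le (bot_le : (⊥ : Ideal (brTensor A S)) ≤ P)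
    haveI := hP₀.1.1
    have h1 : P₀.comap (algebraMap S (brTensor A S)) ≤ T := (Ideal.comap_mono hle).trans hPT.le
    exact ⟨P₀, hP₀, le_antisymm h1 (hT.2 ⟨Ideal.IsPrime.comap _, bot_le⟩ h1)⟩

set_option synthInstance.maxHeartbeats 1000000 in
omit [Module.FaithfullyFlat A S] in
/-- With domains as local rings, minimal primes and maximal ideals correspond. -/
theorem card_minimalPrimes_eq_maximal [HenselianLocalRing S]
    (hdom : ∀ (M : Ideal (brTensor A S)) [M.IsMaximal], IsDomain (Localization.AtPrime M)) :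
    ENat.card (minimalPrimes (brTensor A S)) = ENat.card (MaximalSpectrum (brTensor A S)) := by
  haveI := isIntegral_brTensor (A := A) (S := S)
  have hex : ∀ P : minimalPrimes (brTensor A S), ∃! M : MaximalSpectrum (brTensor A S), P.1 ≤ M.asIdeal := by
    rintro ⟨P, hP⟩
    haveI : P.IsPrime := hP.1.1
    haveI : IsLocalRing (brTensor A S ⧸ P) := isLocalRing_of_integral_domain S (brTensor A S ⧸ P)
    refine ⟨⟨(maximalIdeal (brTensor A S ⧸ P)).comap (Ideal.Quotient.mk P),
      Ideal.comap_isMaximal_of_surjective _ Ideal.Quotient.mk_surjective⟩, ?_, fun M hM => ?_⟩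
    · intro x hx
      rw [Ideal.mem_comap, Ideal.Quotient.eq_zero_iff_mem.2 hx]
      exact Ideal.zero_mem _
    · haveI := M.isMaximal
      apply MaximalSpectrum.ext
      have hk : RingHom.ker (Ideal.Quotient.mk P) ≤ M.asIdeal := Ideal.mk_ker.trans_le hM
      haveI : (M.asIdeal.map (Ideal.Quotient.mk P)).IsMaximal := by
        refine (Ideal.map_eq_top_or_isMaximal_of_surjective _ Ideal.Quotient.mk_surjective M.isMaximal).resolve_left
          fun h => M.isMaximal.ne_top ?_
        have := congrArg (Ideal.comap (Ideal.Quotient.mk P)) h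
        rwa [Ideal.comap_map_of_surjective' _ Ideal.Quotient.mk_surjective, sup_eq_left.2 hk, Ideal.comap_top] at this
      change M.asIdeal = (maximalIdeal (brTensor A S ⧸ P)).comap (Ideal.Quotient.mk P)
      rw [← eq_maximalIdeal (inferInstance : (M.asIdeal.map (Ideal.Quotient.mk P)).IsMaximal),
        Ideal.comap_map_of_surjective' _ Ideal.Quotient.mk_surjective, sup_eq_left.2 hk]
  choose F hF hFu using hex
  refine ENat.card_congr (Equiv.ofBijective F ⟨fun P P' h => ?_, fun M => ?_⟩)
  · haveI := (F P).isMaximal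
    haveI := hdom (F P).asIdeal
    haveI : (⊥ : Ideal (Localization.AtPrime (F P).asIdeal)).IsPrime := Ideal.isPrime_bot
    let K := (⊥ : Ideal (Localization.AtPrime (F P).asIdeal)).comap (algebraMap (brTensor A S) _)
    have key : ∀ Q : minimalPrimes (brTensor A S), Q.1 ≤ (F P).asIdeal → Q.1 = K := fun Q hQ => by
      have hle : K ≤ Q.1 := fun x hx => by
        obtain ⟨c, hc⟩ := (IsLocalization.map_eq_zero_iff (F P).asIdeal.primeCompl _ x).1 hx
        exact ((Q.2.1.1).mem_or_mem (hc ▸ Q.1.zero_mem)).resolve_left fun h => c.2 (hQ h)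
      exact le_antisymm (Q.2.2 ⟨Ideal.IsPrime.comap _, bot_le⟩ hle) hle
    exact Subtype.ext ((key P (hF P)).trans (key P' (h ▸ hF P')).symm)
  · obtain ⟨P, hP, hle⟩ := Ideal.exists_minimalPrimes_le (bot_le : (⊥ : Ideal (brTensor A S)) ≤ M.asIdeal)
    exact ⟨⟨P, hP⟩, (hFu ⟨P, hP⟩ M hle).symm⟩

end Groth.Agent.Hensel
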