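import Mathlib.RingTheory.Etale.StandardEtale
import Mathlib.RingTheory.Smooth.Flat
import Mathlib.RingTheory.MvPolynomial.Basic
import Mathlib.RingTheory.Finiteness.Finsupp

/-!
The (possibly infinite) tensor product of standard étale algebras.
-/

set_option autoImplicit false

namespace Groth.Agent.Hensel

universe u v w

open MvPolynomial

section

variable {R : Type u} [CommRing R] {ι : Type v}

/-- The relations cutting out the product of standard étale algebras. -/
noncomputable def etProdRel (P : ι → StandardEtalePair R) : ι ⊕ ι → MvPolynomial (ι ⊕ ι) R :=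
  Sum.elim (fun i => Polynomial.aeval (X (Sum.inl i) : MvPolynomial (ι ⊕ ι) R) (P i).f)
    (fun i => X (Sum.inr i) * Polynomial.aeval (X (Sum.inl i) : MvPolynomial (ι ⊕ ι) R) (P i).g - 1)

/-- The tensor product of a family of standard étale algebras. -/
abbrev EtProd (P : ι → StandardEtalePair R) :=
  MvPolynomial (ι ⊕ ι) R ⧸ Ideal.span (Set.range (etProdRel P))

variable {P : ι → StandardEtalePair R}

/-- The `i`-th generator. -/
noncomputable def etPt (P : ι → StandardEtalePair R) (i : ι) : EtProd P :=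
  Ideal.Quotient.mk _ (X (Sum.inl i))

theorem aeval_etPt (i : ι) (p : Polynomial R) :
    Polynomial.aeval (etPt P i) p =
      Ideal.Quotient.mk _ (Polynomial.aeval (X (Sum.inl i) : MvPolynomial (ι ⊕ ι) R) p) :=
  Polynomial.aeval_algHom_apply (Ideal.Quotient.mkₐ R _) _ p

theorem aeval_g_etPt_mul (i : ι) :
    Ideal.Quotient.mk _ (X (Sum.inr i)) * Polynomial.aeval (etPt P i) (P i).g = 1 := by
  rw [aeval_etPt, ← map_mul, ← map_one (Ideal.Quotient.mk (Ideal.span (Set.range (etProdRel P)))), Ideal.Quotient.eq]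
  exact Ideal.subset_span ⟨Sum.inr i, rfl⟩

theorem hasMap_etPt (i : ι) : (P i).HasMap (etPt P i) :=
  ⟨by rw [aeval_etPt, Ideal.Quotient.eq_zero_iff_mem]; exact Ideal.subset_span ⟨Sum.inl i, rfl⟩,
    IsUnit.of_mul_eq_one _ ((mul_comm _ _).trans (aeval_g_etPt_mul i))⟩

/-- Maps out of the product are families of points. -/
noncomputable def etLift {A : Type w} [CommRing A] [Algebra R A] (x : ι → A) (h : ∀ i, (P i).HasMap (x i)) :
    EtProd P →ₐ[R] A :=
  Ideal.Quotient.liftₐ _ (aeval (Sum.elim x fun i => ↑(h i).2.unit⁻¹)) fun a ha => by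
    refine (Ideal.span_le (I := RingHom.ker (aeval (R := R) (Sum.elim x fun i => ↑(h i).2.unit⁻¹)))).2 ?_ ha
    rintro _ ⟨i | i, rfl⟩
    · simp [etProdRel, ← Polynomial.aeval_algHom_apply, (h i).1]
    · simp [etProdRel, ← Polynomial.aeval_algHom_apply]

@[simp]
theorem etLift_etPt {A : Type w} [CommRing A] [Algebra R A] (x : ι → A) (h : ∀ i, (P i).HasMap (x i)) (i : ι) :
    etLift x h (etPt P i) = x i := by
  change aeval (Sum.elim x fun i => ↑(h i).2.unit⁻¹) (X (Sum.inl i) : MvPolynomial (ι ⊕ ι) R) = x i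
  simp

theorem etProd_hom_ext {A : Type w} [CommRing A] [Algebra R A] {f g : EtProd P →ₐ[R] A}
    (H : ∀ i, f (etPt P i) = g (etPt P i)) : f = g := by
  refine Ideal.Quotient.algHom_ext R (MvPolynomial.algHom_ext fun j => ?_)
  rcases j with i | i
  · exact H i
  · have hu : IsUnit (f (Polynomial.aeval (etPt P i) (P i).g)) := (hasMap_etPt i).2.map f
    have h1 := congrArg f (aeval_g_etPt_mul (P := P) i)
    have h2 := congrArg g (aeval_g_etPt_mul (P := P) i)
    rw [map_mul, map_one] at h1 h2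
    rw [← Polynomial.aeval_algHom_apply, ← H, Polynomial.aeval_algHom_apply] at h2
    exact hu.mul_left_injective (h1.trans h2.symm)

instance formallyEtale_etProd : Algebra.FormallyEtale R (EtProd P) := by
  refine Algebra.FormallyEtale.iff_comp_bijective.mpr fun B _ _ I hI => ⟨fun f g h => ?_, fun φ => ?_⟩
  · refine etProd_hom_ext fun i => ?_
    have hx : (P i).HasMap (Ideal.Quotient.mk I (f (etPt P i))) :=
      ((hasMap_etPt i).map f).map (Ideal.Quotient.mkₐ R I)
    obtain ⟨ε, -, H⟩ := (P i).existsUnique_hasMap_of_hasMap_quotient_of_sq_eq_bot I hI (f (etPt P i)) hx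
    have hd : g (etPt P i) - f (etPt P i) ∈ I := Ideal.Quotient.eq.1 (AlgHom.congr_fun h (etPt P i)).symm
    have h1 := H 0 ⟨I.zero_mem, by rw [add_zero]; exact (hasMap_etPt i).map f⟩
    have h2 := H (g (etPt P i) - f (etPt P i)) ⟨hd, by rw [add_sub_cancel]; exact (hasMap_etPt i).map g⟩
    exact (sub_eq_zero.1 (h2.trans h1.symm)).symm
  · have hl : ∀ i, ∃ b : B, Ideal.Quotient.mk I b = φ (etPt P i) ∧ (P i).HasMap b := fun i => by
      obtain ⟨b, hb⟩ := Ideal.Quotient.mk_surjective (φ (etPt P i))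
      have hx : (P i).HasMap (Ideal.Quotient.mk I b) := hb ▸ (hasMap_etPt i).map φ
      obtain ⟨ε, ⟨hε, hε'⟩, -⟩ := (P i).existsUnique_hasMap_of_hasMap_quotient_of_sq_eq_bot I hI b hx
      exact ⟨b + ε, by rw [map_add, Ideal.Quotient.eq_zero_iff_mem.2 hε, add_zero, hb], hε'⟩
    choose b hb hb' using hl
    refine ⟨etLift b hb', etProd_hom_ext fun i => ?_⟩
    change Ideal.Quotient.mk I (etLift b hb' (etPt P i)) = _
    rw [etLift_etPt, hb]

theorem etale_etProd [Finite ι] : Algebra.Etale R (EtProd P) :=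
  { formallyEtale := inferInstance
    finitePresentation := Algebra.FinitePresentation.quotient (Submodule.fg_span (Set.finite_range _)) }

/-- The map induced by a map of index sets. -/
noncomputable def etMap {κ : Type w} (s : κ → ι) : EtProd (P ∘ s) →ₐ[R] EtProd P :=
  etLift (fun k => etPt P (s k)) fun k => hasMap_etPt (s k)

theorem etMap_mk {κ : Type w} (s : κ → ι) (p : MvPolynomial (κ ⊕ κ) R) :
    etMap (P := P) s (Ideal.Quotient.mk _ p) = Ideal.Quotient.mk _ (rename (Sum.map s s) p) := by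
  have key : (etMap (P := P) s).comp (Ideal.Quotient.mkₐ R _) =
      (Ideal.Quotient.mkₐ R _).comp (rename (Sum.map s s)) := by
    refine MvPolynomial.algHom_ext fun j => ?_
    rcases j with k | k
    · simp only [AlgHom.comp_apply, Ideal.Quotient.mkₐ_eq_mk, rename_X, Sum.map_inl]
      exact etLift_etPt _ _ k
    · simp only [AlgHom.comp_apply, Ideal.Quotient.mkₐ_eq_mk, rename_X, Sum.map_inr]
      refine (hasMap_etPt (P := P) (s k)).2.mul_left_injective ?_
      refine Eq.trans ?_ (aeval_g_etPt_mul (P := P) (s k)).symm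
      have h1 := congrArg (etMap (P := P) s) (aeval_g_etPt_mul (P := P ∘ s) k)
      rw [map_mul, map_one, ← Polynomial.aeval_algHom_apply] at h1
      simp only [etMap, etLift_etPt] at h1
      exact h1
  exact AlgHom.congr_fun key p

/-- Every element comes from a finite subfamily. -/
theorem exists_etMap_eq (z : EtProd P) :
    ∃ (F : Finset ι) (z' : EtProd (P ∘ ((↑) : F → ι))), etMap (P := P) ((↑) : F → ι) z' = z := by
  classical
  obtain ⟨p, rfl⟩ := Ideal.Quotient.mk_surjective z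
  let F : Finset ι := p.vars.image (Sum.elim id id)
  obtain ⟨p', hp'⟩ := exists_rename_eq_of_vars_subset_range p
    (Sum.map ((↑) : F → ι) ((↑) : F → ι)) (Subtype.val_injective.sumMap Subtype.val_injective) (fun j hj => by
      have hF : Sum.elim id id j ∈ F := Finset.mem_image_of_mem _ (Finset.mem_coe.1 hj)
      rcases j with i | i
      · exact ⟨Sum.inl ⟨i, hF⟩, rfl⟩
      · exact ⟨Sum.inr ⟨i, hF⟩, rfl⟩)
  exact ⟨F, Ideal.Quotient.mk _ p', by rw [etMap_mk]; exact congrArg _ hp'⟩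

theorem etMap_comp {κ : Type w} {τ : Type w} (s : κ → ι) (t : τ → κ) :
    (etMap (P := P) s).comp (etMap (P := P ∘ s) t) = etMap (P := P) (s ∘ t) :=
  etProd_hom_ext fun k => by
    change etMap (P := P) s (etMap (P := P ∘ s) t (etPt _ k)) = etMap (P := P) (s ∘ t) (etPt _ k)
    simp only [etMap, etLift_etPt]
    rfl

/-- Vanishing is detected in a finite subfamily. -/
theorem exists_finset_map_eq_zero {F : Finset ι} (z : EtProd (P ∘ ((↑) : F → ι)))
    (hz : etMap (P := P) ((↑) : F → ι) z = 0) :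
    ∃ (F' : Finset ι) (h : F ⊆ F'),
      etMap (P := P ∘ ((↑) : F' → ι)) (fun k : F => (⟨k.1, h k.2⟩ : F')) z = 0 := by
  classical
  obtain ⟨p, rfl⟩ := Ideal.Quotient.mk_surjective z
  rw [etMap_mk, Ideal.Quotient.eq_zero_iff_mem] at hz
  obtain ⟨c, hc⟩ := Finsupp.mem_span_range_iff_exists_finsupp.1 hz
  let F' : Finset ι := F ∪ c.support.image (Sum.elim id id)
  refine ⟨F', Finset.subset_union_left, ?_⟩
  let kill : MvPolynomial (ι ⊕ ι) R →ₐ[R] MvPolynomial (F' ⊕ F') R :=
    aeval (Sum.elim (fun i => if h : i ∈ F' then X (Sum.inl ⟨i, h⟩) else 0)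
      (fun i => if h : i ∈ F' then X (Sum.inr ⟨i, h⟩) else 0))
  have hk : ∀ (i : ι) (hi : i ∈ F'), kill (X (Sum.inl i)) = X (Sum.inl ⟨i, hi⟩) ∧
      kill (X (Sum.inr i)) = X (Sum.inr ⟨i, hi⟩) := fun i hi => by
    simp [kill, hi]
  have hcomp : kill.comp (rename (Sum.map ((↑) : F → ι) ((↑) : F → ι))) =
      rename (Sum.map (fun k : F => (⟨k.1, Finset.subset_union_left k.2⟩ : F'))
        (fun k : F => (⟨k.1, Finset.subset_union_left k.2⟩ : F'))) := by
    refine MvPolynomial.algHom_ext fun j => ?_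
    rcases j with k | k
    · rw [AlgHom.comp_apply, rename_X, rename_X, Sum.map_inl]
      exact (hk k.1 (Finset.subset_union_left k.2)).1
    · rw [AlgHom.comp_apply, rename_X, rename_X, Sum.map_inr]
      exact (hk k.1 (Finset.subset_union_left k.2)).2
  refine (etMap_mk (P := P ∘ ((↑) : F' → ι)) (fun k : F => (⟨k.1, Finset.subset_union_left k.2⟩ : F')) p).trans ?_
  rw [Ideal.Quotient.eq_zero_iff_mem, ← AlgHom.congr_fun hcomp p, AlgHom.comp_apply, ← hc, Finsupp.sum,
    map_sum]
  refine Ideal.sum_mem _ fun j hj => ?_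
  rw [smul_eq_mul, map_mul]
  refine Ideal.mul_mem_left _ _ (Ideal.subset_span ?_)
  have hjF : Sum.elim id id j ∈ F' := Finset.mem_union_right _ (Finset.mem_image_of_mem _ hj)
  rcases j with i | i
  · refine ⟨Sum.inl ⟨i, hjF⟩, ?_⟩
    simp only [etProdRel, Sum.elim_inl, Function.comp_apply, ← Polynomial.aeval_algHom_apply, (hk i hjF).1]
  · refine ⟨Sum.inr ⟨i, hjF⟩, ?_⟩
    simp only [etProdRel, Sum.elim_inr, Function.comp_apply, map_sub, map_mul, map_one,
      ← Polynomial.aeval_algHom_apply, (hk i hjF).1, (hk i hjF).2]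

instance flat_etProd : Module.Flat R (EtProd P) := by
  classical
  refine Module.Flat.of_forall_isTrivialRelation fun {l} {f} {x} hrel => ?_
  choose F z hz using fun i => exists_etMap_eq (P := P) (x i)
  let F₀ : Finset ι := Finset.univ.biUnion F
  have hsub : ∀ i, F i ⊆ F₀ := fun i => Finset.subset_biUnion_of_mem F (Finset.mem_univ i)
  let y : Fin l → EtProd (P ∘ ((↑) : F₀ → ι)) := fun i =>
    etMap (P := P ∘ ((↑) : F₀ → ι)) (fun k : F i => (⟨k.1, hsub i k.2⟩ : F₀)) (z i)
  have hy : ∀ i, etMap (P := P) ((↑) : F₀ → ι) (y i) = x i := fun i => by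
    rw [← hz i]
    exact AlgHom.congr_fun (etMap_comp (P := P) ((↑) : F₀ → ι) fun k : F i => (⟨k.1, hsub i k.2⟩ : F₀)) (z i)
  have h0 : etMap (P := P) ((↑) : F₀ → ι) (∑ i, f i • y i) = 0 := by
    simp only [map_sum, map_smul, hy, hrel]
  obtain ⟨F₁, h₁, hF₁⟩ := exists_finset_map_eq_zero _ h0
  let j : EtProd (P ∘ ((↑) : F₀ → ι)) →ₐ[R] EtProd (P ∘ ((↑) : F₁ → ι)) :=
    etMap (P := P ∘ ((↑) : F₁ → ι)) fun k : F₀ => (⟨k.1, h₁ k.2⟩ : F₁)
  haveI := etale_etProd (P := P ∘ ((↑) : F₁ → ι))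
  have hflat : Module.Flat R (EtProd (P ∘ ((↑) : F₁ → ι))) := inferInstance
  have h2 : ∑ i, f i • j (y i) = 0 := by
    rw [← hF₁]; simp only [j, map_sum, map_smul]
  obtain ⟨k, a, w, hw, ha⟩ := Module.Flat.isTrivialRelation_of_sum_smul_eq_zero (M := EtProd (P ∘ ((↑) : F₁ → ι))) h2
  refine ⟨k, a, fun t => etMap (P := P) ((↑) : F₁ → ι) (w t), fun i => ?_, ha⟩
  have h3 : etMap (P := P) ((↑) : F₁ → ι) (j (y i)) = x i := by
    rw [← hy i]
    exact AlgHom.congr_fun (etMap_comp (P := P) ((↑) : F₁ → ι) fun k : F₀ => (⟨k.1, h₁ k.2⟩ : F₁)) (y i)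
  have hwi : j (y i) = ∑ t, a i t • w t := hw i
  rw [← h3, hwi]
  simp only [map_sum, map_smul]

end

end Groth.Agent.Hensel
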