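import Groth.Agent.Hensel.PairEnvelopeProps
import Groth.Agent.EtLiftLib.Basic

/-!
Étale stages of the henselization of a pair.
-/

set_option autoImplicit false

namespace Groth.Agent.Hensel

universe u

variable {A : Type u} [CommRing A] {I : Ideal A}

/-- Points lifting the residue are unique. -/
theorem pairEnv_hom_ext {E : Type u} [CommRing E] [Algebra A E] [Algebra.Etale A E]
    (f g : E →ₐ[A] PairEnv A I) (h : ∀ x, pairRes A I (f x) = pairRes A I (g x)) : f = g :=
  algHom_eq_of_unramified (ker_pairRes_le_jacobson A I) f g fun x => by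
    change pairRes A I (_ - _) = 0
    rw [map_sub, sub_eq_zero, h]

/-- Every element comes from an étale algebra with a point. -/
theorem exists_pairStage (z : PairEnv A I) :
    ∃ (E : Type u) (_ : CommRing E) (_ : Algebra A E) (_ : Algebra.Etale A E) (φ : E →ₐ[A] PairEnv A I) (s : E),
      φ s = z := by
  classical
  obtain ⟨x, t, -, htu, hxt⟩ := exists_mul_algebraMap A I z
  obtain ⟨Fx, zx, hzx⟩ := exists_algMap_eq (P := pairFam A I) x
  obtain ⟨Ft, zt, hzt⟩ := exists_algMap_eq (P := pairFam A I) t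
  let F : Finset (PairIdx A I) := Fx ∪ Ft
  let E₀ := AlgProd (pairFam A I ∘ ((↑) : F → PairIdx A I))
  let inc : E₀ →ₐ[A] PairTop A I := algMap (P := pairFam A I) ((↑) : F → PairIdx A I)
  let x' : E₀ := algMap (P := pairFam A I ∘ ((↑) : F → PairIdx A I))
    (fun j : Fx => (⟨j.1, Finset.subset_union_left j.2⟩ : F)) zx
  let t' : E₀ := algMap (P := pairFam A I ∘ ((↑) : F → PairIdx A I))
    (fun j : Ft => (⟨j.1, Finset.subset_union_right j.2⟩ : F)) zt
  have hx' : inc x' = x := by
    rw [← hzx]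
    exact AlgHom.congr_fun (algMap_comp (P := pairFam A I) ((↑) : F → PairIdx A I)
      fun j : Fx => (⟨j.1, Finset.subset_union_left j.2⟩ : F)) zx
  have ht' : inc t' = t := by
    rw [← hzt]
    exact AlgHom.congr_fun (algMap_comp (P := pairFam A I) ((↑) : F → PairIdx A I)
      fun j : Ft => (⟨j.1, Finset.subset_union_right j.2⟩ : F)) zt
  have : Algebra.Etale A E₀ := etale_algProd
  let g : E₀ →ₐ[A] PairEnv A I := (IsScalarTower.toAlgHom A (PairTop A I) (PairEnv A I)).comp inc
  have hg : IsUnit (g t') := by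
    change IsUnit (algebraMap (PairTop A I) (PairEnv A I) (inc t'))
    rw [ht']; exact htu
  let φ : Localization.Away t' →ₐ[A] PairEnv A I := IsLocalization.Away.liftAlgHom t' (f := g) hg
  have hφ : ∀ a, φ (algebraMap E₀ (Localization.Away t') a) = algebraMap (PairTop A I) (PairEnv A I) (inc a) :=
    fun a => IsLocalization.Away.lift_eq t' hg a
  have hu := IsLocalization.Away.algebraMap_isUnit (S := Localization.Away t') t'
  refine ⟨Localization.Away t', inferInstance, inferInstance, inferInstance, φ,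
    algebraMap E₀ _ x' * ↑hu.unit⁻¹, htu.mul_left_injective ?_⟩
  change φ _ * algebraMap _ _ t = z * algebraMap _ _ t
  rw [hxt, ← ht', ← hφ, ← map_mul, mul_assoc, IsUnit.val_inv_mul, mul_one, hφ, hx']

/-- Vanishing happens in an étale algebra with a point. -/
theorem exists_pairStage_eq_zero {E : Type u} [CommRing E] [Algebra A E] [Algebra.Etale A E]
    (φ : E →ₐ[A] PairEnv A I) {s : E} (hs : φ s = 0) :
    ∃ (E' : Type u) (_ : CommRing E') (_ : Algebra A E') (_ : Algebra.Etale A E') (φ' : E' →ₐ[A] PairEnv A I)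
      (ψ : E →ₐ[A] E'), φ'.comp ψ = φ ∧ ψ s = 0 := by
  classical
  let σ : E →ₐ[A] A ⧸ I := (pairRes A I).comp φ
  obtain ⟨i, ⟨e⟩⟩ := EtFP.exists_algEquiv (A := A) E
  let k₀ : PairIdx A I := ⟨i, fun m => σ (e (i.pt m)), i.hasPt_pt.map (σ.comp e.toAlgHom)⟩
  let ι : PairTop A I →ₐ[A] PairEnv A I := IsScalarTower.toAlgHom A (PairTop A I) (PairEnv A I)
  let j : E →ₐ[A] PairTop A I := (algIncl (pairFam A I) k₀).comp e.symm.toAlgHom
  have hj : ι.comp j = φ := by
    refine pairEnv_hom_ext _ _ fun x => ?_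
    obtain ⟨y, rfl⟩ := e.surjective x
    change pairRes A I (algebraMap _ _ (algIncl (pairFam A I) k₀ (e.symm (e y)))) = σ (e y)
    rw [pairRes_algebraMap, e.symm_apply_apply]
    refine AlgHom.congr_fun (show (pairEv A I).comp (algIncl (pairFam A I) k₀) = σ.comp e.toAlgHom from
      EtFP.hom_ext fun m => ?_) y
    exact (congrArg (pairEv A I) (EtFP.lift_pt _ _ (hasPt_algPt (P := pairFam A I) k₀) m)).trans (algLift_algPt _ _ k₀ m)
  have h0 : algebraMap (PairTop A I) (PairEnv A I) (j s) = 0 := (AlgHom.congr_fun hj s).trans hs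
  obtain ⟨⟨t, ht⟩, hts⟩ := (IsLocalization.map_eq_zero_iff (pairSub A I) (PairEnv A I) _).1 h0
  obtain ⟨Ft, zt, hzt⟩ := exists_algMap_eq (P := pairFam A I) t
  let F : Finset (PairIdx A I) := insert k₀ Ft
  let s₁ : E →ₐ[A] AlgProd (pairFam A I ∘ ((↑) : F → PairIdx A I)) :=
    (algIncl (pairFam A I ∘ ((↑) : F → PairIdx A I)) (⟨k₀, Finset.mem_insert_self _ _⟩ : F)).comp e.symm.toAlgHom
  have hs₁ : ∀ x, algMap (P := pairFam A I) ((↑) : F → PairIdx A I) (s₁ x) = j x := fun x =>
    AlgHom.congr_fun (algMap_comp_algIncl (P := pairFam A I) ((↑) : F → PairIdx A I)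
      (⟨k₀, Finset.mem_insert_self _ _⟩ : F)) (e.symm x)
  let t₁ := algMap (P := pairFam A I ∘ ((↑) : F → PairIdx A I))
    (fun j : Ft => (⟨j.1, Finset.mem_insert_of_mem j.2⟩ : F)) zt
  have ht₁ : algMap (P := pairFam A I) ((↑) : F → PairIdx A I) t₁ = t := by
    rw [← hzt]
    exact AlgHom.congr_fun (algMap_comp (P := pairFam A I) ((↑) : F → PairIdx A I)
      fun j : Ft => (⟨j.1, Finset.mem_insert_of_mem j.2⟩ : F)) zt
  obtain ⟨F', hF, hzero⟩ := exists_finset_algMap_eq_zero (P := pairFam A I) (t₁ * s₁ s) (by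
    rw [map_mul, ht₁, hs₁]; exact hts)
  let tr := algMap (P := pairFam A I ∘ ((↑) : F' → PairIdx A I)) fun k : F => (⟨k.1, hF k.2⟩ : F')
  let inc' := algMap (P := pairFam A I) ((↑) : F' → PairIdx A I)
  have hinc : ∀ x, inc' (tr x) = algMap (P := pairFam A I) ((↑) : F → PairIdx A I) x := fun x =>
    AlgHom.congr_fun (algMap_comp (P := pairFam A I) ((↑) : F' → PairIdx A I) fun k : F => (⟨k.1, hF k.2⟩ : F')) x
  let g : AlgProd (pairFam A I ∘ ((↑) : F' → PairIdx A I)) →ₐ[A] PairEnv A I := ι.comp inc'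
  have hg : IsUnit (g (tr t₁)) := by
    change IsUnit (algebraMap (PairTop A I) (PairEnv A I) (inc' (tr t₁)))
    rw [hinc, ht₁]
    exact IsLocalization.map_units _ (⟨t, ht⟩ : pairSub A I)
  have : Algebra.Etale A (AlgProd (pairFam A I ∘ ((↑) : F' → PairIdx A I))) := etale_algProd
  let φ' : Localization.Away (tr t₁) →ₐ[A] PairEnv A I := IsLocalization.Away.liftAlgHom (tr t₁) (f := g) hg
  let ψ : E →ₐ[A] Localization.Away (tr t₁) := ((IsScalarTower.toAlgHom A _ _).comp tr).comp s₁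
  refine ⟨Localization.Away (tr t₁), inferInstance, inferInstance, inferInstance, φ', ψ, AlgHom.ext fun x => ?_, ?_⟩
  · have h1 : φ' (algebraMap _ (Localization.Away (tr t₁)) (tr (s₁ x))) = g (tr (s₁ x)) :=
      IsLocalization.Away.lift_eq (tr t₁) hg (tr (s₁ x))
    refine h1.trans ?_
    change algebraMap (PairTop A I) (PairEnv A I) (inc' (tr (s₁ x))) = φ x
    rw [hinc, hs₁]
    exact AlgHom.congr_fun hj x
  · refine (IsLocalization.Away.algebraMap_isUnit (tr t₁)).mul_right_eq_zero.1 ?_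
    change algebraMap _ (Localization.Away (tr t₁)) (tr t₁) * algebraMap _ _ (tr (s₁ s)) = 0
    rw [← map_mul, ← map_mul, hzero, map_zero]

/-- An étale algebra with a point maps to an étale neighbourhood of `V(I)`. -/
theorem exists_nhd_of_point {E : Type u} [CommRing E] [Algebra A E] [Algebra.Etale A E]
    (φ : E →ₐ[A] PairEnv A I) :
    ∃ (A' : Type u) (_ : CommRing A') (_ : Algebra A A') (_ : Algebra.Etale A A'),
      Function.Bijective (Ideal.quotientMap (I.map (algebraMap A A')) (algebraMap A A') Ideal.le_comap_map) ∧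
      ∃ (η : E →ₐ[A] A') (φ' : A' →ₐ[A] PairEnv A I), φ'.comp η = φ := by
  obtain ⟨A', _, _, hA', hbij, η, hη⟩ := EtLiftLib.exists_etale_nhd I ((pairRes A I).comp φ)
  haveI := hA'
  let q : A ⧸ I →ₐ[A] A' ⧸ I.map (algebraMap A A') :=
    Ideal.quotientMapₐ _ (Algebra.ofId A A') Ideal.le_comap_map
  have hq : Function.Bijective q := hbij
  let qe := AlgEquiv.ofBijective q hq
  let π := pairRes A I
  have hK : HenselianRing (PairEnv A I) (RingHom.ker π.toRingHom) := by
    rw [ker_pairRes]; exact henselianRing_pairEnv A I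
  obtain ⟨φ', hφ', -⟩ := existsUnique_algHom_of_quotient π (pairRes_surjective A I) hK
    (qe.symm.toAlgHom.comp (Ideal.Quotient.mkₐ A _) : A' →ₐ[A] A ⧸ I)
  refine ⟨A', inferInstance, inferInstance, hA', hbij, η, φ', pairEnv_hom_ext _ _ fun x => ?_⟩
  refine (AlgHom.congr_fun hφ' (η x)).trans ?_
  change qe.symm (Ideal.Quotient.mk _ (η x)) = π (φ x)
  rw [hη x]
  exact qe.symm_apply_apply _

section

variable {B : Type u} [CommRing B] [Algebra A B] (hB : Hens2.IsPairHenselization A I B)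

include hB

/-- Étale neighbourhoods map uniquely to the henselization. -/
theorem nonempty_unique_nhd_hom (A' : Type u) [CommRing A'] [Algebra A A'] [Algebra.Etale A A']
    (h : Function.Bijective (Ideal.quotientMap (I.map (algebraMap A A')) (algebraMap A A') Ideal.le_comap_map)) :
    Nonempty (Unique (A' →ₐ[A] B)) := by
  let q : A ⧸ I →ₐ[A] A' ⧸ I.map (algebraMap A A') :=
    Ideal.quotientMapₐ _ (Algebra.ofId A A') Ideal.le_comap_map
  have hq : Function.Bijective q := h
  let qe := AlgEquiv.ofBijective q hq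
  let π : B →ₐ[A] B ⧸ I.map (algebraMap A B) := Ideal.Quotient.mkₐ A _
  have hK : HenselianRing B (RingHom.ker π.toRingHom) := by
    rw [show RingHom.ker π.toRingHom = I.map (algebraMap A B) from Ideal.mk_ker]; exact hB.1
  let τ : A ⧸ I →ₐ[A] B ⧸ I.map (algebraMap A B) :=
    Ideal.quotientMapₐ _ (Algebra.ofId A B) Ideal.le_comap_map
  obtain ⟨f, hf, hfu⟩ := existsUnique_algHom_of_quotient π Ideal.Quotient.mk_surjective hK
    (τ.comp (qe.symm.toAlgHom.comp (Ideal.Quotient.mkₐ A _)) : A' →ₐ[A] B ⧸ I.map (algebraMap A B))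
  refine ⟨⟨⟨f⟩, fun g => hfu g (AlgHom.ext fun x => ?_)⟩⟩
  obtain ⟨r, hr⟩ := hq.2 (Ideal.Quotient.mk _ x)
  obtain ⟨a, rfl⟩ := Ideal.Quotient.mk_surjective r
  change π (g x) = τ (qe.symm (Ideal.Quotient.mk _ x))
  rw [← hr, show qe.symm (q (Ideal.Quotient.mk I a)) = Ideal.Quotient.mk I a from qe.symm_apply_eq.2 rfl]
  have h1 : x - algebraMap A A' a ∈ I.map (algebraMap A A') := Ideal.Quotient.eq.1 hr.symm
  have h2 := Ideal.mem_map_of_mem g.toRingHom h1
  rw [Ideal.map_map, show g.toRingHom.comp (algebraMap A A') = algebraMap A B from RingHom.ext g.commutes,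
    map_sub] at h2
  have h3 : g.toRingHom (algebraMap A A' a) = algebraMap A B a := g.commutes a
  rw [h3] at h2
  exact Ideal.Quotient.eq.2 h2

theorem exists_nhd_mem (x : B) :
    ∃ (A' : Type u) (_ : CommRing A') (_ : Algebra A A') (_ : Algebra.Etale A A'),
      Function.Bijective (Ideal.quotientMap (I.map (algebraMap A A')) (algebraMap A A') Ideal.le_comap_map) ∧
        ∃ (φ : A' →ₐ[A] B) (s : A'), φ s = x := by
  obtain ⟨e⟩ := pairHenselization_equiv hB
  obtain ⟨E, _, _, _, φ, s, hs⟩ := exists_pairStage (e x)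
  obtain ⟨A', _, _, hA', hb, η, φ', hφ'⟩ := exists_nhd_of_point φ
  refine ⟨A', inferInstance, inferInstance, hA', hb, e.symm.toAlgHom.comp φ', η s, ?_⟩
  change e.symm (φ' (η s)) = x
  rw [← AlgHom.comp_apply, hφ', hs, e.symm_apply_apply]

theorem exists_nhd_eq_zero (A' : Type u) [CommRing A'] [Algebra A A'] [Algebra.Etale A A']
    (φ : A' →ₐ[A] B) (s : A') (hs : φ s = 0) :
    ∃ (A'' : Type u) (_ : CommRing A'') (_ : Algebra A A'') (_ : Algebra.Etale A A''),
      Function.Bijective (Ideal.quotientMap (I.map (algebraMap A A'')) (algebraMap A A'') Ideal.le_comap_map) ∧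
        ∃ ψ : A' →ₐ[A] A'', ψ s = 0 := by
  obtain ⟨e⟩ := pairHenselization_equiv hB
  obtain ⟨E, _, _, _, φ', ψ, -, hψ⟩ := exists_pairStage_eq_zero (e.toAlgHom.comp φ) (s := s) (by
    change e (φ s) = 0
    rw [hs, map_zero])
  obtain ⟨A'', _, _, hA'', hb, η, -⟩ := exists_nhd_of_point φ'
  exact ⟨A'', inferInstance, inferInstance, hA'', hb, η.comp ψ, by rw [AlgHom.comp_apply, hψ, map_zero]⟩

end

/-- Étale neighbourhoods of `V(I)` map uniquely to every henselian pair under `(A, I)`. -/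
theorem existsUnique_nhd_hom {A' : Type u} [CommRing A'] [Algebra A A'] [Algebra.Etale A A']
    (h : Function.Bijective (Ideal.quotientMap (I.map (algebraMap A A')) (algebraMap A A') Ideal.le_comap_map))
    {C : Type u} [CommRing C] [Algebra A C] {J : Ideal C} (hJ : HenselianRing C J) (hf : I.map (algebraMap A C) ≤ J) :
    ∃! g : A' →ₐ[A] C, (I.map (algebraMap A A')).map g.toRingHom ≤ J := by
  let q : A ⧸ I →ₐ[A] A' ⧸ I.map (algebraMap A A') :=
    Ideal.quotientMapₐ _ (Algebra.ofId A A') Ideal.le_comap_map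
  have hq : Function.Bijective q := h
  let qe := AlgEquiv.ofBijective q hq
  let π : C →ₐ[A] C ⧸ J := Ideal.Quotient.mkₐ A _
  have hK : HenselianRing C (RingHom.ker π.toRingHom) := by
    rw [show RingHom.ker π.toRingHom = J from Ideal.mk_ker]; exact hJ
  let τ : A ⧸ I →ₐ[A] C ⧸ J :=
    Ideal.quotientMapₐ _ (Algebra.ofId A C) fun a ha => hf (Ideal.mem_map_of_mem _ ha)
  obtain ⟨f, hf', hfu⟩ := existsUnique_algHom_of_quotient π Ideal.Quotient.mk_surjective hK
    (τ.comp (qe.symm.toAlgHom.comp (Ideal.Quotient.mkₐ A _)) : A' →ₐ[A] C ⧸ J)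
  have hle : ∀ g : A' →ₐ[A] C, (I.map (algebraMap A A')).map g.toRingHom ≤ J := fun g => by
    rw [Ideal.map_map, show g.toRingHom.comp (algebraMap A A') = algebraMap A C from RingHom.ext g.commutes]
    exact hf
  refine ⟨f, hle f, fun g _ => hfu g (AlgHom.ext fun x => ?_)⟩
  obtain ⟨r, hr⟩ := hq.2 (Ideal.Quotient.mk _ x)
  obtain ⟨a, rfl⟩ := Ideal.Quotient.mk_surjective r
  change π (g x) = τ (qe.symm (Ideal.Quotient.mk _ x))
  rw [← hr, show qe.symm (q (Ideal.Quotient.mk I a)) = Ideal.Quotient.mk I a from qe.symm_apply_eq.2 rfl]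
  have h2 := hle g (Ideal.mem_map_of_mem g.toRingHom (Ideal.Quotient.eq.1 hr.symm : x - algebraMap A A' a ∈ _))
  rw [map_sub, show g.toRingHom (algebraMap A A' a) = algebraMap A C a from g.commutes a] at h2
  exact Ideal.Quotient.eq.2 h2

end Groth.Agent.Hensel
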