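import Groth.Prelude.Def_PBC
import Groth.Agent.Hensel.PairEnvelopeStage
import Groth.Agent.Hensel.EtaleProd

/-!
Localizations of products of étale algebras are ind-étale.
-/

set_option autoImplicit false

namespace Groth.Agent.Hensel

universe u

open CategoryTheory CategoryTheory.Limits

/-- A directed union of étale algebras is ind-étale. -/
theorem isIndEtale_of_directed {A B : Type u} [CommRing A] [CommRing B] [Algebra A B]
    {J : Type u} [Preorder J] [IsDirectedOrder J] [Nonempty J] (E : J → Type u) [∀ j, CommRing (E j)]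
    [∀ j, Algebra A (E j)] (hE : ∀ j, Algebra.Etale A (E j)) (tr : ∀ i j : J, i ≤ j → E i →ₐ[A] E j)
    (tr_id : ∀ i x, tr i i le_rfl x = x)
    (tr_comp : ∀ i j k (h : i ≤ j) (h' : j ≤ k) x, tr i k (h.trans h') x = tr j k h' (tr i j h x))
    (φ : ∀ j, E j →ₐ[A] B) (hφ : ∀ i j (h : i ≤ j) x, φ j (tr i j h x) = φ i x)
    (hs : ∀ b, ∃ j x, φ j x = b) (hz : ∀ j x, φ j x = 0 → ∃ k h, tr j k h x = 0) :
    EtPBC.IsIndEtale A B := by
  let D : J ⥤ Under (CommRingCat.of A) :=
    { obj := fun j => Under.mk (CommRingCat.ofHom (algebraMap A (E j)))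
      map := fun {i j} f => Under.homMk (CommRingCat.ofHom (tr i j (leOfHom f)).toRingHom)
        (CommRingCat.hom_ext (RingHom.ext fun a => (tr i j (leOfHom f)).commutes a))
      map_id := fun i => Under.UnderMorphism.ext (CommRingCat.hom_ext (RingHom.ext fun x => tr_id i x))
      map_comp := fun {i j k} f g => Under.UnderMorphism.ext (CommRingCat.hom_ext (RingHom.ext fun x =>
        tr_comp i j k (leOfHom f) (leOfHom g) x)) }
  let c : Cocone D :=
    { pt := Under.mk (CommRingCat.ofHom (algebraMap A B))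
      ι :=
        { app := fun j => Under.homMk (CommRingCat.ofHom (φ j).toRingHom)
            (CommRingCat.hom_ext (RingHom.ext fun a => (φ j).commutes a))
          naturality := fun i j f => Under.UnderMorphism.ext (CommRingCat.hom_ext
            (RingHom.ext fun x => hφ i j (leOfHom f) x)) } }
  haveI : IsFiltered J := inferInstance
  haveI : ReflectsColimitsOfShape J (Under.forget (CommRingCat.of A) ⋙ forget CommRingCat.{u}) :=
    reflectsColimitsOfShape_of_reflectsIsomorphisms
  refine ⟨J, inferInstance, inferInstance, D, c, ?_, fun j => ?_, ⟨Iso.refl _⟩⟩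
  · refine isColimitOfReflects (Under.forget (CommRingCat.of A) ⋙ forget CommRingCat.{u}) ?_
    refine Types.FilteredColimit.isColimitOf _ _ ?_ ?_
    · intro b
      obtain ⟨j, x, hx⟩ := hs b
      exact ⟨j, x, hx.symm⟩
    · intro i j (x : E i) (y : E j) (hxy : φ i x = φ j y)
      obtain ⟨k, hik, hjk⟩ := directed_of (· ≤ ·) i j
      obtain ⟨l, hkl, hl⟩ := hz k (tr i k hik x - tr j k hjk y) (by rw [map_sub, hφ, hφ, hxy, sub_self])
      refine ⟨l, homOfLE (hik.trans hkl), homOfLE (hjk.trans hkl), ?_⟩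
      change tr i l (hik.trans hkl) x = tr j l (hjk.trans hkl) y
      rw [tr_comp i k l hik hkl, tr_comp j k l hjk hkl, ← sub_eq_zero, ← map_sub]
      exact hl
  · dsimp only [D]
    change @Algebra.Etale A (E j) _ _ (algebraMap A (E j)).toAlgebra
    rw [show (algebraMap A (E j)).toAlgebra = (inferInstance : Algebra A (E j)) from
      Algebra.algebra_ext _ _ fun r => rfl]
    exact hE j

theorem isUnit_away_trans {X Y : Type u} [CommRing X] [CommRing Y] (f : X →+* Y) {s u : X} {t : Y}
    (h : IsUnit (algebraMap X (Localization.Away s) u)) (h' : IsUnit (algebraMap Y (Localization.Away t) (f s))) :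
    IsUnit (algebraMap Y (Localization.Away t) (f u)) := by
  have h2 := h.map (IsLocalization.Away.lift s (g := (algebraMap Y (Localization.Away t)).comp f) h' :
    Localization.Away s →+* Localization.Away t)
  rwa [IsLocalization.Away.lift_eq] at h2

variable {A : Type u} [CommRing A] {ι : Type u} (P : ι → EtFP A) (M : Submonoid (AlgProd P))

/-- Finite stages of a localization of the product. -/
structure StageIdx where
  F : Finset ι
  t : AlgProd (P ∘ ((↑) : F → ι))
  ht : algMap (P := P) ((↑) : F → ι) t ∈ M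

/-- Transition maps of the finite subproducts. -/
noncomputable def stageMap {F G : Finset ι} (h : F ⊆ G) :
    AlgProd (P ∘ ((↑) : F → ι)) →ₐ[A] AlgProd (P ∘ ((↑) : G → ι)) :=
  algMap (P := P ∘ ((↑) : G → ι)) fun k : F => (⟨k.1, h k.2⟩ : G)

theorem algMap_stageMap {F G : Finset ι} (h : F ⊆ G) (x : AlgProd (P ∘ ((↑) : F → ι))) :
    algMap (P := P) ((↑) : G → ι) (stageMap P h x) = algMap (P := P) ((↑) : F → ι) x :=
  AlgHom.congr_fun (algMap_comp (P := P) ((↑) : G → ι) fun k : F => (⟨k.1, h k.2⟩ : G)) x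

theorem stageMap_stageMap {F G H : Finset ι} (h : F ⊆ G) (h' : G ⊆ H) (x : AlgProd (P ∘ ((↑) : F → ι))) :
    stageMap P h' (stageMap P h x) = stageMap P (h.trans h') x :=
  AlgHom.congr_fun (algMap_comp (P := P ∘ ((↑) : H → ι)) (fun k : G => (⟨k.1, h' k.2⟩ : H))
    fun k : F => (⟨k.1, h k.2⟩ : G)) x

theorem stageMap_self {F : Finset ι} (x : AlgProd (P ∘ ((↑) : F → ι))) : stageMap P (Finset.Subset.refl F) x = x := by
  refine AlgHom.congr_fun (algProd_hom_ext (g := AlgHom.id A _) fun k m => ?_) x
  exact algLift_algPt (P := P ∘ ((↑) : F → ι)) (fun k => algPt (P ∘ ((↑) : F → ι)) k) (fun k => hasPt_algPt k) k m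

instance : Preorder (StageIdx P M) where
  le i j := ∃ h : i.F ⊆ j.F, IsUnit (algebraMap _ (Localization.Away j.t) (stageMap P h i.t))
  le_refl i := ⟨Finset.Subset.refl _, by rw [stageMap_self]; exact IsLocalization.Away.algebraMap_isUnit i.t⟩
  le_trans i j k := fun ⟨h, hu⟩ ⟨h', hu'⟩ => ⟨h.trans h', by
    rw [← stageMap_stageMap P h h']
    exact isUnit_away_trans (stageMap P h').toRingHom hu hu'⟩

/-- The localized stages. -/
abbrev Stage (i : StageIdx P M) := Localization.Away i.t

/-- Transition maps of the localized stages. -/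
noncomputable def stageTr {i j : StageIdx P M} (h : i ≤ j) : Stage P M i →ₐ[A] Stage P M j :=
  IsLocalization.Away.liftAlgHom i.t (f := (IsScalarTower.toAlgHom A _ (Stage P M j)).comp (stageMap P h.1)) h.2

theorem stageTr_algebraMap {i j : StageIdx P M} (h : i ≤ j) (x : AlgProd (P ∘ ((↑) : i.F → ι))) :
    stageTr P M h (algebraMap _ (Stage P M i) x) = algebraMap _ (Stage P M j) (stageMap P h.1 x) :=
  IsLocalization.Away.lift_eq i.t (g := ((IsScalarTower.toAlgHom A _ (Stage P M j)).comp (stageMap P h.1)).toRingHom)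
    h.2 x

variable (B : Type u) [CommRing B] [Algebra A B] [Algebra (AlgProd P) B] [IsScalarTower A (AlgProd P) B]

theorem stage_ringHom_ext {i : StageIdx P M} {C : Type u} [CommRing C] {f g : Stage P M i →+* C}
    (h : ∀ x : AlgProd (P ∘ ((↑) : i.F → ι)), f (algebraMap _ (Stage P M i) x) = g (algebraMap _ (Stage P M i) x)) :
    f = g :=
  IsLocalization.ringHom_ext (Submonoid.powers i.t) (RingHom.ext h)

/-- A localization of a product of étale algebras is ind-étale. -/
theorem isIndEtale_localization [IsLocalization M B] : EtPBC.IsIndEtale A B := by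
  classical
  let inc : ∀ F : Finset ι, AlgProd (P ∘ ((↑) : F → ι)) →ₐ[A] AlgProd P := fun F => algMap (P := P) ((↑) : F → ι)
  haveI : Nonempty (StageIdx P M) := ⟨⟨∅, 1, by rw [map_one]; exact M.one_mem⟩⟩
  have hdir : IsDirectedOrder (StageIdx P M) := ⟨fun i j => by
    let hi : i.F ⊆ i.F ∪ j.F := Finset.subset_union_left
    let hj : j.F ⊆ i.F ∪ j.F := Finset.subset_union_right
    refine ⟨⟨i.F ∪ j.F, stageMap P hi i.t * stageMap P hj j.t, ?_⟩, ⟨hi, ?_⟩, ⟨hj, ?_⟩⟩
    · rw [map_mul, algMap_stageMap, algMap_stageMap]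
      exact M.mul_mem i.ht j.ht
    · have h := IsLocalization.Away.algebraMap_isUnit (S := Localization.Away (stageMap P hi i.t * stageMap P hj j.t))
        (stageMap P hi i.t * stageMap P hj j.t)
      rw [map_mul] at h
      exact isUnit_of_mul_isUnit_left h
    · have h := IsLocalization.Away.algebraMap_isUnit (S := Localization.Away (stageMap P hi i.t * stageMap P hj j.t))
        (stageMap P hi i.t * stageMap P hj j.t)
      rw [map_mul] at h
      exact isUnit_of_mul_isUnit_right h⟩
  let φ : ∀ i, Stage P M i →ₐ[A] B := fun i => IsLocalization.Away.liftAlgHom i.t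
    (f := (IsScalarTower.toAlgHom A (AlgProd P) B).comp (inc i.F)) (IsLocalization.map_units B ⟨_, i.ht⟩)
  have hφe : ∀ i x, φ i (algebraMap _ _ x) = algebraMap (AlgProd P) B (inc i.F x) := fun i x =>
    IsLocalization.Away.lift_eq i.t (g := ((IsScalarTower.toAlgHom A (AlgProd P) B).comp (inc i.F)).toRingHom)
      (IsLocalization.map_units B (⟨_, i.ht⟩ : M)) x
  refine isIndEtale_of_directed (Stage P M) (fun i => ?_) (fun i j h => stageTr P M h) (fun i x => ?_)
    (fun i j k h h' x => ?_) φ (fun i j h x => ?_) (fun b => ?_) fun i x hx => ?_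
  · haveI : Algebra.Etale A (AlgProd (P ∘ ((↑) : i.F → ι))) := etale_algProd
    infer_instance
  · refine RingHom.congr_fun (stage_ringHom_ext P M (f := (stageTr P M _).toRingHom) (g := RingHom.id _) fun y => ?_) x
    exact (stageTr_algebraMap P M _ y).trans (by rw [stageMap_self]; rfl)
  · refine RingHom.congr_fun (stage_ringHom_ext P M (f := (stageTr P M (h.trans h')).toRingHom)
      (g := (stageTr P M h').toRingHom.comp (stageTr P M h).toRingHom) fun y => ?_) x
    change stageTr P M (h.trans h') _ = stageTr P M h' (stageTr P M h _)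
    rw [stageTr_algebraMap, stageTr_algebraMap, stageTr_algebraMap, stageMap_stageMap]
  · refine RingHom.congr_fun (stage_ringHom_ext P M (f := (φ j).toRingHom.comp (stageTr P M h).toRingHom)
      (g := (φ i).toRingHom) fun y => ?_) x
    change φ j (stageTr P M h _) = φ i _
    rw [stageTr_algebraMap, hφe, hφe]
    exact congrArg _ (algMap_stageMap P h.1 y)
  · obtain ⟨x, ⟨t, ht⟩, rfl⟩ := IsLocalization.exists_mk'_eq M b
    obtain ⟨Fx, zx, hzx⟩ := exists_algMap_eq x
    obtain ⟨Ft, zt, hzt⟩ := exists_algMap_eq t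
    let i : StageIdx P M := ⟨Fx ∪ Ft, stageMap P (Finset.subset_union_right : Ft ⊆ Fx ∪ Ft) zt, by
      rw [algMap_stageMap, hzt]; exact ht⟩
    have hu : IsUnit (algebraMap (AlgProd (P ∘ ((↑) : i.F → ι))) (Stage P M i) i.t) :=
      IsLocalization.Away.algebraMap_isUnit i.t
    refine ⟨i, algebraMap (AlgProd (P ∘ ((↑) : i.F → ι))) (Stage P M i)
      (stageMap P (Finset.subset_union_left : Fx ⊆ Fx ∪ Ft) zx) * ↑hu.unit⁻¹, ?_⟩
    refine (IsLocalization.map_units B ⟨t, ht⟩).mul_left_injective ?_
    change φ i _ * algebraMap (AlgProd P) B t = IsLocalization.mk' B x (⟨t, ht⟩ : M) * algebraMap (AlgProd P) B t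
    rw [show IsLocalization.mk' B x (⟨t, ht⟩ : M) * algebraMap (AlgProd P) B t = algebraMap (AlgProd P) B x from
      IsLocalization.mk'_spec B x (⟨t, ht⟩ : M)]
    have h1 : φ i (algebraMap _ _ i.t) = algebraMap (AlgProd P) B t := by
      rw [hφe]; exact congrArg _ ((algMap_stageMap P _ zt).trans hzt)
    rw [← h1, ← map_mul, mul_assoc, IsUnit.val_inv_mul, mul_one, hφe]
    exact congrArg _ ((algMap_stageMap P _ zx).trans hzx)
  · obtain ⟨a, s, rfl⟩ := IsLocalization.exists_mk'_eq (Submonoid.powers i.t) x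
    have h0 : algebraMap (AlgProd P) B (inc i.F a) = 0 := by
      rw [← hφe, ← IsLocalization.mk'_spec (Stage P M i) a s, map_mul, hx, zero_mul]
    obtain ⟨⟨t, ht⟩, hta⟩ := (IsLocalization.map_eq_zero_iff M B _).1 h0
    obtain ⟨Ft, zt, hzt⟩ := exists_algMap_eq t
    let hi : i.F ⊆ i.F ∪ Ft := Finset.subset_union_left
    obtain ⟨G, hG, hG0⟩ := exists_finset_algMap_eq_zero (P := P)
      (stageMap P (Finset.subset_union_right : Ft ⊆ i.F ∪ Ft) zt * stageMap P hi a) (by
        rw [map_mul, algMap_stageMap, algMap_stageMap, hzt]; exact hta)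
    change stageMap P hG (_ * _) = 0 at hG0
    rw [map_mul, stageMap_stageMap, stageMap_stageMap] at hG0
    let j : StageIdx P M := ⟨G, stageMap P (Finset.subset_union_right.trans hG) zt * stageMap P (hi.trans hG) i.t, by
      rw [map_mul, algMap_stageMap, algMap_stageMap, hzt]
      exact M.mul_mem ht i.ht⟩
    have hu : IsUnit (algebraMap (AlgProd (P ∘ ((↑) : j.F → ι))) (Stage P M j) j.t) :=
      IsLocalization.Away.algebraMap_isUnit j.t
    have hu' : IsUnit (algebraMap _ (Stage P M j) (stageMap P (Finset.subset_union_right.trans hG) zt) *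
        algebraMap _ (Stage P M j) (stageMap P (hi.trans hG) i.t)) := by
      rw [← map_mul]; exact hu
    have hij : i ≤ j := ⟨hi.trans hG, isUnit_of_mul_isUnit_right hu'⟩
    refine ⟨j, hij, ?_⟩
    have h3 : stageTr P M hij (algebraMap _ _ a) = 0 := by
      rw [stageTr_algebraMap]
      refine (isUnit_of_mul_isUnit_left hu').mul_right_eq_zero.1 ?_
      rw [← map_mul, hG0, map_zero]
    have h4 : IsUnit (stageTr P M hij (algebraMap _ (Stage P M i) s.1)) :=
      (IsLocalization.map_units (Stage P M i) s).map _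
    refine h4.mul_left_eq_zero.1 ?_
    rw [← map_mul, IsLocalization.mk'_spec]
    exact h3

/-- A localization along an algebra isomorphism. -/
theorem isIndEtale_of_equiv_localization {A : Type u} [CommRing A] {ι : Type u} (P : ι → EtFP A)
    {T : Type u} [CommRing T] [Algebra A T] (e : AlgProd P ≃ₐ[A] T) (M : Submonoid T) (L : Type u) [CommRing L]
    [Algebra A L] [Algebra T L] [IsScalarTower A T L] [IsLocalization M L] (B : Type u) [CommRing B] [Algebra A B]
    (g : L ≃ₐ[A] B) : EtPBC.IsIndEtale A B := by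
  letI : Algebra (AlgProd P) B := ((g.toAlgHom.comp (IsScalarTower.toAlgHom A T L)).comp e.toAlgHom).toRingHom.toAlgebra
  haveI : IsScalarTower A (AlgProd P) B := IsScalarTower.of_algebraMap_eq fun a =>
    (((g.toAlgHom.comp (IsScalarTower.toAlgHom A T L)).comp e.toAlgHom).commutes a).symm
  haveI : IsLocalization (M.comap e.toAlgHom) B := by
    constructor
    constructor
    · rintro ⟨y, hy⟩
      exact (IsLocalization.map_units L (⟨e y, hy⟩ : M)).map g
    · intro z
      obtain ⟨⟨x, s⟩, hx⟩ := IsLocalization.surj M (g.symm z)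
      refine ⟨(e.symm x, ⟨e.symm s.1, by simp⟩), ?_⟩
      change z * g (algebraMap T L (e (e.symm s.1))) = g (algebraMap T L (e (e.symm x)))
      rw [e.apply_symm_apply, e.apply_symm_apply, ← hx, map_mul, g.apply_symm_apply]
    · intro x y hxy
      obtain ⟨c, hc⟩ := (IsLocalization.eq_iff_exists M L).1 (g.injective hxy)
      refine ⟨⟨e.symm c.1, by simp⟩, e.injective ?_⟩
      rw [map_mul, map_mul, e.apply_symm_apply]
      exact hc
  exact isIndEtale_localization P (M.comap e.toAlgHom) B

/-- Products of standard étale algebras are products of presented étale algebras. -/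
theorem exists_algProd_equiv_etProd {A : Type u} [CommRing A] {ι : Type u} (P : ι → StandardEtalePair A) :
    ∃ P' : ι → EtFP A, Nonempty (AlgProd P' ≃ₐ[A] EtProd P) := by
  have h : ∀ k, ∃ i : EtFP A, Nonempty (i.Ring ≃ₐ[A] (P k).Ring) := fun k => EtFP.exists_algEquiv _
  choose P' he using h
  let e : ∀ k, (P' k).Ring ≃ₐ[A] (P k).Ring := fun k => (he k).some
  let inP : ∀ k, (P k).Ring →ₐ[A] EtProd P := fun k => (P k).lift (etPt P k) (hasMap_etPt k)
  let fw : AlgProd P' →ₐ[A] EtProd P := algLift (fun k m => inP k (e k ((P' k).pt m)))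
    fun k => (P' k).hasPt_pt.map ((inP k).comp (e k).toAlgHom)
  let bw : EtProd P →ₐ[A] AlgProd P' := etLift (fun k => algIncl P' k ((e k).symm (P k).X))
    fun k => (P k).hasMap_X.map ((algIncl P' k).comp (e k).symm.toAlgHom)
  have hfw : ∀ k, fw.comp (algIncl P' k) = (inP k).comp (e k).toAlgHom := fun k => EtFP.hom_ext fun m => by
    simp only [AlgHom.comp_apply, algIncl, EtFP.lift_pt, fw, algLift_algPt]
    rfl
  have hbw : ∀ k, bw.comp (inP k) = (algIncl P' k).comp (e k).symm.toAlgHom := fun k =>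
    StandardEtalePair.hom_ext (by simp [inP, bw])
  refine ⟨P', ⟨AlgEquiv.ofAlgHom fw bw (etProd_hom_ext fun k => ?_) (algProd_hom_ext fun k m => ?_)⟩⟩
  · have h := AlgHom.congr_fun (hfw k) ((e k).symm (P k).X)
    simp only [AlgHom.comp_apply, AlgEquiv.toAlgHom_apply, AlgEquiv.apply_symm_apply] at h
    simp only [AlgHom.comp_apply, AlgHom.id_apply, bw, etLift_etPt, h, inP, StandardEtalePair.lift_X]
  · have h := AlgHom.congr_fun (hbw k) (e k ((P' k).pt m))
    simp only [AlgHom.comp_apply, AlgEquiv.toAlgHom_apply, AlgEquiv.symm_apply_apply] at h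
    simp only [AlgHom.comp_apply, AlgHom.id_apply, fw, algLift_algPt, h, algIncl, EtFP.lift_pt]

end Groth.Agent.Hensel
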