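import Groth.Agent.Hensel.Decomp
import Groth.Agent.Hensel.Ops

/-!
Local rings at quasi-finite points over a henselian local ring.
-/

set_option autoImplicit false

namespace Groth.Agent.Hensel

universe u

open IsLocalRing

/-- The local ring at a quasi-finite point over the closed point of a henselian local ring is finite. -/
theorem finite_atPrime (R : Type u) [CommRing R] [HenselianLocalRing R] (S : Type u) [CommRing S] [Algebra R S]
    [Algebra.FiniteType R S] (q : Ideal S) [q.IsPrime] [q.LiesOver (maximalIdeal R)] [Algebra.QuasiFiniteAt R q] :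
    Module.Finite R (Localization.AtPrime q) := by
  classical
  obtain ⟨e, he, hfin, heq⟩ := exists_idempotent_notMem R S q
  have h1e : ∀ f : S, IsIdempotentElem f → f ∉ q → algebraMap S (Localization.AtPrime q) (1 - f) = 0 :=
    fun f hf hfq => (IsLocalization.map_units (Localization.AtPrime q) (⟨f, hfq⟩ : q.primeCompl)).mul_right_eq_zero.1
      (by rw [← map_mul, mul_sub, mul_one, hf.eq, sub_self, map_zero])
  have hker : ∀ a ∈ Ideal.span ({1 - e} : Set S), algebraMap S (Localization.AtPrime q) a = 0 := fun a ha => by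
    obtain ⟨b, rfl⟩ := Ideal.mem_span_singleton.1 ha
    rw [map_mul, h1e e he heq, zero_mul]
  let φ : (S ⧸ Ideal.span ({1 - e} : Set S)) →ₐ[R] Localization.AtPrime q :=
    Ideal.Quotient.liftₐ _ (IsScalarTower.toAlgHom R S _) hker
  have hφ : ∀ s, φ (Ideal.Quotient.mk _ s) = algebraMap S (Localization.AtPrime q) s := fun _ => rfl
  obtain ⟨ι, _, ε, hε, hloc⟩ := exists_pi_local R (S ⧸ Ideal.span ({1 - e} : Set S))
  obtain ⟨i, hi⟩ : ∃ i, IsUnit (φ (ε i)) := by
    by_contra hall
    push Not at hall
    refine (maximalIdeal.isMaximal (Localization.AtPrime q)).ne_top ((Ideal.eq_top_iff_one _).2 ?_)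
    rw [← map_one φ, ← hε.complete, map_sum]
    exact Ideal.sum_mem _ fun i _ => hall i
  have h1ε : φ (1 - ε i) = 0 := hi.mul_right_eq_zero.1 (by
    rw [← map_mul, mul_sub, mul_one, (hε.idem i).eq, sub_self, map_zero])
  let L := (S ⧸ Ideal.span ({1 - e} : Set S)) ⧸ Ideal.span ({1 - ε i} : Set _)
  haveI : IsLocalRing L := hloc i
  let ψ : L →ₐ[R] Localization.AtPrime q := Ideal.Quotient.liftₐ _ φ fun a ha => by
    obtain ⟨b, rfl⟩ := Ideal.mem_span_singleton.1 ha
    rw [map_mul, h1ε, zero_mul]
  haveI : Module.Finite R L := inferInstance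
  haveI hP : ((maximalIdeal (Localization.AtPrime q)).comap ψ.toRingHom).IsPrime := Ideal.IsPrime.comap _
  have hPmax : (maximalIdeal (Localization.AtPrime q)).comap ψ.toRingHom = maximalIdeal L := by
    refine eq_maximalIdeal (Ideal.isMaximal_of_isIntegral_of_isMaximal_comap (R := R) _ ?_)
    rw [Ideal.comap_comap, AlgHom.toRingHom_eq_coe, AlgHom.comp_algebraMap,
      IsScalarTower.algebraMap_eq R S (Localization.AtPrime q), ← Ideal.comap_comap,
      ← Ideal.under_def S (maximalIdeal (Localization.AtPrime q)), IsLocalization.AtPrime.under_maximalIdeal _ q]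
    rw [← Ideal.under_def R q, ← q.over_def (maximalIdeal R)]
    exact maximalIdeal.isMaximal R
  refine Module.Finite.of_surjective ψ.toLinearMap fun x => ?_
  obtain ⟨a, s, rfl⟩ := IsLocalization.exists_mk'_eq q.primeCompl x
  let mk : S →+* L := (Ideal.Quotient.mk _).comp (Ideal.Quotient.mk _)
  have hmk : ∀ s, ψ (mk s) = algebraMap S (Localization.AtPrime q) s := fun _ => rfl
  obtain ⟨v, hv⟩ : IsUnit (mk s.1) := by
    rw [← notMem_maximalIdeal, ← hPmax, Ideal.mem_comap]
    change ¬ (ψ (mk s.1) ∈ maximalIdeal _)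
    rw [hmk, notMem_maximalIdeal]
    exact IsLocalization.map_units _ s
  refine ⟨mk a * ↑v⁻¹, ?_⟩
  refine (IsLocalization.map_units (Localization.AtPrime q) s).mul_left_inj.1 ?_
  change ψ (mk a * ↑v⁻¹) * algebraMap S _ s.1 = _
  rw [IsLocalization.mk'_spec, ← hmk s.1, ← map_mul, mul_assoc, ← hv, Units.inv_mul, mul_one, hmk]

/-- The local ring at a point over the closed point of an algebra which is filtered by algebras
quasi-finite at that point is integral. -/
theorem isIntegral_atPrime (R : Type u) [CommRing R] [HenselianLocalRing R] (S : Type u) [CommRing S] [Algebra R S]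
    (q : Ideal S) [q.IsPrime] [q.LiesOver (maximalIdeal R)]
    (h : ∀ s : Finset S, ∃ (S₀ : Type u) (_ : CommRing S₀) (_ : Algebra R S₀) (g : S₀ →ₐ[R] S),
      (↑s : Set S) ⊆ Set.range g ∧ Algebra.FiniteType R S₀ ∧
        ∀ [(q.comap g.toRingHom).IsPrime], Algebra.QuasiFiniteAt R (q.comap g.toRingHom)) :
    Algebra.IsIntegral R (Localization.AtPrime q) := by
  classical
  refine ⟨fun x => ?_⟩
  obtain ⟨a, s, rfl⟩ := IsLocalization.exists_mk'_eq q.primeCompl x
  obtain ⟨S₀, _, _, g, hg, hft, hqf⟩ := h {a, s.1}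
  haveI hp : (q.comap g.toRingHom).IsPrime := Ideal.IsPrime.comap _
  haveI := hft
  haveI := @hqf hp
  haveI : (q.comap g.toRingHom).LiesOver (maximalIdeal R) := ⟨by
    rw [Ideal.under, Ideal.comap_comap, AlgHom.toRingHom_eq_coe, AlgHom.comp_algebraMap]
    exact q.over_def (maximalIdeal R)⟩
  haveI := finite_atPrime R S₀ (q.comap g.toRingHom)
  let φ : Localization.AtPrime (q.comap g.toRingHom) →ₐ[R] Localization.AtPrime q :=
    IsLocalization.liftAlgHom (M := (q.comap g.toRingHom).primeCompl)
      (f := (IsScalarTower.toAlgHom R S (Localization.AtPrime q)).comp g) fun y =>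
        IsLocalization.map_units (Localization.AtPrime q) (⟨g y.1, y.2⟩ : q.primeCompl)
  have hφ : ∀ z, φ (algebraMap S₀ _ z) = algebraMap S _ (g z) := fun z => IsLocalization.lift_eq _ z
  obtain ⟨a₀, ha₀⟩ := hg (show a ∈ (↑({a, s.1} : Finset S) : Set S) by simp)
  obtain ⟨s₀, hs₀⟩ := hg (show s.1 ∈ (↑({a, s.1} : Finset S) : Set S) by simp)
  have hs₀q : s₀ ∉ q.comap g.toRingHom := fun hm => s.2 (hs₀ ▸ (Ideal.mem_comap.1 hm))
  have hx : φ (IsLocalization.mk' _ a₀ (⟨s₀, hs₀q⟩ : (q.comap g.toRingHom).primeCompl)) =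
      IsLocalization.mk' (Localization.AtPrime q) a s := by
    refine (IsLocalization.map_units (Localization.AtPrime q) s).mul_left_inj.1 ?_
    rw [IsLocalization.mk'_spec, ← hs₀, ← hφ, ← map_mul,  
      IsLocalization.mk'_spec (Localization.AtPrime (q.comap g.toRingHom)) a₀ ⟨s₀, hs₀q⟩, hφ, ha₀]
  rw [← hx]
  exact (Algebra.IsIntegral.isIntegral _).map φ

/-- The local ring at such a point is henselian. -/
theorem henselianLocalRing_atPrime (R : Type u) [CommRing R] [HenselianLocalRing R] (S : Type u) [CommRing S]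
    [Algebra R S] (q : Ideal S) [q.IsPrime] [Algebra.IsIntegral R (Localization.AtPrime q)] :
    HenselianLocalRing (Localization.AtPrime q) := henselianLocalRing_finite R _

end Groth.Agent.Hensel
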