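import Groth.Agent.Hensel.TensorPoint
import Groth.Agent.Hensel.LocalPiece

/-!
(Strict) henselizations along quasi-finite maps are finite; along ind-quasi-finite maps integral.
-/

set_option autoImplicit false

namespace Groth.Agent.Hensel

universe u

open IsLocalRing TensorProduct

/-- A henselian local ring is its own henselization. -/
theorem isHenselization_of_bijective {T T' : Type u} [CommRing T] [IsLocalRing T] [CommRing T'] [IsLocalRing T']
    [Algebra T T'] [IsLocalHom (algebraMap T T')] [HenselianLocalRing T'] (hb : Function.Bijective (algebraMap T T')) :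
    _root_.Hensel.IsHenselization T T' where
  henselian := inferInstance
  universal C _ _ f _ := by
    let e := RingEquiv.ofBijective _ hb
    refine ⟨f.comp e.symm.toRingHom, RingHom.ext fun x => congrArg f (e.symm_apply_apply x), fun g hg =>
      RingHom.ext fun y => ?_⟩
    obtain ⟨x, rfl⟩ := hb.2 y
    exact (RingHom.congr_fun hg x).trans (congrArg f (e.symm_apply_apply x)).symm

/-- A strictly henselian local ring is its own strict henselization. -/
theorem isStrictHenselization_of_bijective {T T' : Type u} [CommRing T] [IsLocalRing T] [CommRing T'] [IsLocalRing T']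
    [Algebra T T'] [IsLocalHom (algebraMap T T')] [HenselianLocalRing T'] [IsSepClosed (ResidueField T')]
    (hb : Function.Bijective (algebraMap T T')) :
    _root_.Hensel.IsStrictHenselization T T' where
  henselian := inferInstance
  isSepClosure := by
    have hs : Function.Surjective (algebraMap (ResidueField T) (ResidueField T')) := fun y => by
      obtain ⟨y, rfl⟩ := residue_surjective y
      obtain ⟨x, rfl⟩ := hb.2 y
      exact ⟨residue T x, ResidueField.algebraMap_residue x⟩
    refine ⟨inferInstance, ⟨fun y => ?_⟩⟩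
    obtain ⟨x, rfl⟩ := hs y
    exact isSeparable_algebraMap x
  universal C _ _ f _ τ hτ := by
    let e := RingEquiv.ofBijective _ hb
    refine ⟨f.comp e.symm.toRingHom, ⟨RingHom.ext fun x => congrArg f (e.symm_apply_apply x), fun y => ?_⟩,
      fun g hg => RingHom.ext fun y => ?_⟩
    · obtain ⟨x, rfl⟩ := hb.2 y
      have h1 := RingHom.congr_fun hτ (residue T x)
      rw [RingHom.comp_apply, ResidueField.map_residue, ResidueField.map_residue] at h1
      rw [h1]
      exact congrArg (fun z => residue C (f z)) (e.symm_apply_apply x)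
    · obtain ⟨x, rfl⟩ := hb.2 y
      exact (RingHom.congr_fun hg.1 x).trans (congrArg f (e.symm_apply_apply x)).symm

variable (R : Type u) [CommRing R] (S : Type u) [CommRing S] [Algebra R S] (p : Ideal R) [p.IsPrime] (q : Ideal S)
  [q.IsPrime] [q.LiesOver p] (Rh : Type u) [CommRing Rh] [IsLocalRing Rh] [Algebra (Localization.AtPrime p) Rh]
  [IsLocalHom (algebraMap (Localization.AtPrime p) Rh)] [Algebra R Rh] [IsScalarTower R (Localization.AtPrime p) Rh]
  (Sh : Type u) [CommRing Sh] [IsLocalRing Sh] [Algebra (Localization.AtPrime q) Sh]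
  [IsLocalHom (algebraMap (Localization.AtPrime q) Sh)] [Algebra S Sh] [IsScalarTower S (Localization.AtPrime q) Sh]
  [Algebra R Sh] [IsScalarTower R S Sh] [Algebra Rh Sh] [IsScalarTower R Rh Sh]

/-- The point of `Rh ⊗ S` given by the closed point of `Sh`. -/
noncomputable abbrev tPoint : Ideal (Rh ⊗[R] S) := (maximalIdeal Sh).comap (tLift R S Rh Sh).toRingHom

theorem tPoint_comap_right :
    q = (tPoint R S Rh Sh).comap Algebra.TensorProduct.includeRight.toRingHom := by
  rw [Ideal.comap_comap]
  refine Eq.trans (comap_point (p := q) Sh).symm ?_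
  congr 1
  ext s
  simp [tLift]

include q in
theorem tPoint_liesOver (hm : (maximalIdeal (Localization.AtPrime p)).map (algebraMap _ Rh) = maximalIdeal Rh) :
    (tPoint R S Rh Sh).LiesOver (maximalIdeal Rh) := by
  refine ⟨?_⟩
  haveI := isLocalHom_of_comap Rh hm (algebraMap Rh Sh) (comap_point_left R S p q Rh Sh)
  rw [Ideal.under, Ideal.comap_comap, ← maximalIdeal_comap (algebraMap Rh Sh)]
  congr 1
  ext x
  simp [tLift]

/-- Integrality of the local ring at the point, for ind-quasi-finite maps. -/
theorem isIntegral_tPoint [HenselianLocalRing Rh]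
    (hm : (maximalIdeal (Localization.AtPrime p)).map (algebraMap _ Rh) = maximalIdeal Rh)
    (h : ∀ s : Finset S, ∃ (S₀ : Type u) (_ : CommRing S₀) (_ : Algebra R S₀) (g : S₀ →ₐ[R] S),
      (↑s : Set S) ⊆ Set.range g ∧ Algebra.FiniteType R S₀ ∧
        ∀ [(q.comap g.toRingHom).IsPrime], Algebra.QuasiFiniteAt R (q.comap g.toRingHom)) :
    Algebra.IsIntegral Rh (Localization.AtPrime (tPoint R S Rh Sh)) := by
  classical
  haveI := tPoint_liesOver R S p q Rh Sh hm
  refine isIntegral_atPrime Rh (Rh ⊗[R] S) _ fun t => ?_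
  choose r hr using fun z : Rh ⊗[R] S => TensorProduct.exists_finset z
  obtain ⟨S₀, _, _, g, hg, hft, hqf⟩ := h (t.biUnion fun z => (r z).image Prod.snd)
  haveI := hft
  let G : Rh ⊗[R] S₀ →ₐ[Rh] Rh ⊗[R] S := Algebra.TensorProduct.map (AlgHom.id Rh Rh) g
  refine ⟨Rh ⊗[R] S₀, inferInstance, inferInstance, G, fun z hz => ?_, inferInstance, @fun hP => ?_⟩
  · suffices z ∈ G.range from this
    rw [hr z]
    refine Subalgebra.sum_mem _ fun i hi => ?_
    obtain ⟨b, hb⟩ := hg (Finset.mem_biUnion.2 ⟨z, hz, Finset.mem_image_of_mem _ hi⟩)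
    exact ⟨i.1 ⊗ₜ b, by simp [G, hb]⟩
  · haveI : (q.comap g.toRingHom).IsPrime := Ideal.IsPrime.comap _
    haveI := @hqf inferInstance
    refine Algebra.QuasiFiniteAt.baseChange (q.comap g.toRingHom) _ ?_
    rw [tPoint_comap_right R S q Rh Sh, Ideal.comap_comap, Ideal.comap_comap, Ideal.comap_comap, Ideal.comap_comap]
    congr 1

/-- Quasi-finite maps give finite maps of henselizations. -/
theorem finite_of_quasiFiniteAt [HenselianLocalRing Rh]
    (hm : (maximalIdeal (Localization.AtPrime p)).map (algebraMap _ Rh) = maximalIdeal Rh) [Algebra.FiniteType R S]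
    [Algebra.QuasiFiniteAt R q] : Module.Finite Rh (Localization.AtPrime (tPoint R S Rh Sh)) := by
  haveI := tPoint_liesOver R S p q Rh Sh hm
  haveI : Algebra.QuasiFiniteAt Rh (tPoint R S Rh Sh) :=
    Algebra.QuasiFiniteAt.baseChange q _ (tPoint_comap_right R S q Rh Sh)
  exact finite_atPrime Rh (Rh ⊗[R] S) _

/-- The henselization of `S_q` is the local ring at the point when the latter is integral. -/
theorem nonempty_equiv_of_isIntegral [_root_.Hensel.IsHenselization (Localization.AtPrime p) Rh]
    [_root_.Hensel.IsHenselization (Localization.AtPrime q) Sh]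
    [Algebra.IsIntegral Rh (Localization.AtPrime (tPoint R S Rh Sh))] :
    Nonempty (Localization.AtPrime (tPoint R S Rh Sh) ≃ₐ[Rh] Sh) := by
  haveI : HenselianLocalRing Rh := _root_.Hensel.IsHenselization.henselian (R := Localization.AtPrime p)
  haveI := henselianLocalRing_atPrime Rh (Rh ⊗[R] S) (tPoint R S Rh Sh)
  haveI : IsLocalHom (algebraMap (Localization.AtPrime (tPoint R S Rh Sh))
      (Localization.AtPrime (tPoint R S Rh Sh))) := ⟨fun _ h => h⟩
  haveI : _root_.Hensel.IsHenselization (Localization.AtPrime (tPoint R S Rh Sh))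
      (Localization.AtPrime (tPoint R S Rh Sh)) := isHenselization_of_bijective Function.bijective_id
  obtain ⟨e, he⟩ := tensorPoint_equiv R S p q Rh Sh _ (Localization.AtPrime (tPoint R S Rh Sh)) rfl
  refine ⟨AlgEquiv.ofRingEquiv (f := e) fun x => ?_⟩
  rw [IsScalarTower.algebraMap_apply Rh (Rh ⊗[R] S) (Localization.AtPrime (tPoint R S Rh Sh)), he]
  simp [tLift]

/-- The strict henselization of `S_q` is the local ring at the point when the latter is integral. -/
theorem exists_strictEquiv_of_isIntegral [_root_.Hensel.IsStrictHenselization (Localization.AtPrime p) Rh]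
    [_root_.Hensel.IsStrictHenselization (Localization.AtPrime q) Sh]
    [Algebra.IsIntegral Rh (Localization.AtPrime (tPoint R S Rh Sh))] :
    ∃ e : Localization.AtPrime (tPoint R S Rh Sh) ≃+* Sh,
      ∀ d, e (algebraMap (Rh ⊗[R] S) (Localization.AtPrime (tPoint R S Rh Sh)) d) = tLift R S Rh Sh d := by
  haveI : HenselianLocalRing Rh := _root_.Hensel.IsStrictHenselization.henselian (R := Localization.AtPrime p)
  haveI := tPoint_liesOver R S p q Rh Sh (strictHenselization_map_maximalIdeal _ Rh)
  haveI := henselianLocalRing_atPrime Rh (Rh ⊗[R] S) (tPoint R S Rh Sh)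
  haveI : IsLocalHom (algebraMap (Localization.AtPrime (tPoint R S Rh Sh))
      (Localization.AtPrime (tPoint R S Rh Sh))) := ⟨fun _ h => h⟩
  haveI : IsLocalHom (algebraMap Rh (Localization.AtPrime (tPoint R S Rh Sh))) := by
    refine ((local_hom_TFAE (algebraMap Rh _)).out 0 4).2 ?_
    rw [IsScalarTower.algebraMap_eq Rh (Rh ⊗[R] S) (Localization.AtPrime (tPoint R S Rh Sh)), ← Ideal.comap_comap,
      ← Ideal.under_def (Rh ⊗[R] S) (maximalIdeal (Localization.AtPrime (tPoint R S Rh Sh))),
      IsLocalization.AtPrime.under_maximalIdeal _ (tPoint R S Rh Sh)]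
    exact ((tPoint R S Rh Sh).over_def (maximalIdeal Rh)).symm
  haveI : IsSepClosed (ResidueField Rh) :=
    (_root_.Hensel.IsStrictHenselization.isSepClosure (R := Localization.AtPrime p) (S := Rh)).sep_closed
  haveI : Algebra.IsAlgebraic (ResidueField Rh) (ResidueField (Localization.AtPrime (tPoint R S Rh Sh))) := by
    haveI : Algebra.IsIntegral Rh (ResidueField (Localization.AtPrime (tPoint R S Rh Sh))) :=
      Algebra.IsIntegral.of_surjective (IsScalarTower.toAlgHom Rh (Localization.AtPrime (tPoint R S Rh Sh)) _)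
        residue_surjective
    haveI : Algebra.IsIntegral (ResidueField Rh) (ResidueField (Localization.AtPrime (tPoint R S Rh Sh))) :=
      Algebra.IsIntegral.tower_top Rh
    infer_instance
  haveI : IsSepClosed (ResidueField (Localization.AtPrime (tPoint R S Rh Sh))) :=
    Algebra.IsAlgebraic.isSepClosed (F := ResidueField Rh)
  haveI : _root_.Hensel.IsStrictHenselization (Localization.AtPrime (tPoint R S Rh Sh))
      (Localization.AtPrime (tPoint R S Rh Sh)) := isStrictHenselization_of_bijective Function.bijective_id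
  exact strictTensorPoint_equiv R S p q Rh Sh _ (Localization.AtPrime (tPoint R S Rh Sh)) rfl

theorem nonempty_strictEquiv_of_isIntegral [_root_.Hensel.IsStrictHenselization (Localization.AtPrime p) Rh]
    [_root_.Hensel.IsStrictHenselization (Localization.AtPrime q) Sh]
    [Algebra.IsIntegral Rh (Localization.AtPrime (tPoint R S Rh Sh))] :
    Nonempty (Localization.AtPrime (tPoint R S Rh Sh) ≃ₐ[Rh] Sh) := by
  obtain ⟨e, he⟩ := exists_strictEquiv_of_isIntegral R S p q Rh Sh
  refine ⟨AlgEquiv.ofRingEquiv (f := e) fun x => ?_⟩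
  rw [IsScalarTower.algebraMap_apply Rh (Rh ⊗[R] S) (Localization.AtPrime (tPoint R S Rh Sh)), he]
  simp [tLift]

end Groth.Agent.Hensel
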