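import Groth.Agent.Hensel.PairEnvelopeProps
import Groth.Agent.Hensel.Ops
import Mathlib.RingTheory.TensorProduct.IncludeLeftSubRight

/-!
Henselization of pairs commutes with integral base change; radical invariance.
-/

set_option autoImplicit false

namespace Groth.Agent.Hensel

universe u

open scoped TensorProduct

/-- Transport of the henselian property along a ring isomorphism. -/
theorem henselianRing_of_ringEquiv {A B : Type u} [CommRing A] [CommRing B] (e : A ≃+* B) (I : Ideal A)
    [HenselianRing A I] : HenselianRing B (I.map e.toRingHom) := by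
  letI := e.toRingHom.toAlgebra
  haveI : Algebra.IsIntegral A B := ⟨fun b => by
    obtain ⟨a, rfl⟩ := e.surjective b
    exact isIntegral_algebraMap (R := A) (A := B) (x := a)⟩
  exact henselianRing_integral A I B

theorem isPairHenselization_of_radical_eq {A : Type u} [CommRing A] {K L : Ideal A} (hKL : K.radical = L.radical)
    {B : Type u} [CommRing B] [Algebra A B] (hK : Hens2.IsPairHenselization A K B) :
    Hens2.IsPairHenselization A L B := by
  refine ⟨?_, fun C _ M f hM hf => ?_⟩
  · refine (henselianRing_iff_of_radical ?_).1 hK.1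
    apply le_antisymm <;> rw [Ideal.radical_le_radical_iff]
    · exact (Ideal.map_mono (Ideal.le_radical.trans hKL.le)).trans (Ideal.map_radical_le _)
    · exact (Ideal.map_mono (Ideal.le_radical.trans hKL.ge)).trans (Ideal.map_radical_le _)
  · refine hK.2 C M.radical f ((henselianRing_iff_of_radical (Ideal.radical_idem M).symm).1 hM) ?_
    exact (Ideal.map_mono (Ideal.le_radical.trans hKL.le)).trans ((Ideal.map_radical_le f).trans
      (Ideal.radical_mono hf))

open scoped TensorProduct in
attribute [local instance] Algebra.TensorProduct.rightAlgebra in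
/-- The henselization of a pair commutes with integral base change. -/
theorem isPairHenselization_tensor {A B Ah : Type u} [CommRing A] [CommRing B] [CommRing Ah] [Algebra A B]
    [Algebra.IsIntegral A B] [Algebra A Ah] {I : Ideal A} (hA : Hens2.IsPairHenselization A I Ah) :
    Hens2.IsPairHenselization B (I.map (algebraMap A B)) (Ah ⊗[A] B) := by
  refine ⟨?_, fun C _ J f hJ hf => ?_⟩
  · haveI := hA.1
    have h := henselianRing_integral Ah (I.map (algebraMap A Ah)) (Ah ⊗[A] B)
    rwa [Ideal.map_map, ← IsScalarTower.algebraMap_eq,
      IsScalarTower.algebraMap_eq A B (Ah ⊗[A] B), ← Ideal.map_map] at h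
  letI : Algebra A C := (f.comp (algebraMap A B)).toAlgebra
  obtain ⟨g, hg, hgu⟩ := hA.2 C J (algebraMap A C) hJ ((le_of_eq (Ideal.map_map _ _).symm).trans hf)
  let gA : Ah →ₐ[A] C := { g with commutes' := RingHom.congr_fun hg }
  let fA : B →ₐ[A] C := { f with commutes' := fun _ => rfl }
  refine ⟨(Algebra.TensorProduct.productMap gA fA).toRingHom, RingHom.ext fun b => ?_, fun G hG => ?_⟩
  · exact Algebra.TensorProduct.productMap_right_apply gA fA b
  · have hGb : ∀ b, G ((1 : Ah) ⊗ₜ[A] b) = f b := fun b => RingHom.congr_fun hG b
    have hGA : ∀ a, G (algebraMap A (Ah ⊗[A] B) a) = algebraMap A C a := fun a => by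
      rw [IsScalarTower.algebraMap_apply A B (Ah ⊗[A] B)]
      exact RingHom.congr_fun hG _
    have hl : G.comp (algebraMap Ah (Ah ⊗[A] B)) = g :=
      hgu _ (RingHom.ext fun a => by
        rw [RingHom.comp_apply, RingHom.comp_apply, ← IsScalarTower.algebraMap_apply]
        exact hGA a)
    refine RingHom.ext fun x => ?_
    induction x using TensorProduct.induction_on with
    | zero => rw [map_zero, map_zero]
    | add x y hx hy => rw [map_add, map_add, hx, hy]
    | tmul a b =>
      have h1 : a ⊗ₜ[A] b = algebraMap Ah (Ah ⊗[A] B) a * ((1 : Ah) ⊗ₜ[A] b) := by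
        rw [Algebra.TensorProduct.algebraMap_apply, Algebra.algebraMap_self_apply,
          Algebra.TensorProduct.tmul_mul_tmul, mul_one, one_mul]
      rw [h1, map_mul, hGb, ← RingHom.comp_apply G, hl, ← h1]
      exact (Algebra.TensorProduct.productMap_apply_tmul gA fA a b).symm

end Groth.Agent.Hensel
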