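import Groth.Prelude.Def_CAlg2
import Mathlib.RingTheory.Ideal.GoingUp
import Mathlib.RingTheory.Ideal.MinimalPrime.Localization
import Mathlib.RingTheory.SurjectiveOnStalks
import Mathlib.RingTheory.Localization.AtPrime.Basic
import Mathlib.RingTheory.IntegralClosure.IntegrallyClosed
import Mathlib.RingTheory.LocalProperties.Reduced

/-!
The normalisation of the reduction of a ring with finitely many minimal primes.
-/

set_option autoImplicit false

namespace Groth.Agent.Hensel

universe u

variable (A : Type u) [CommRing A]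

theorem algebraMap_normRed (a : A) :
    algebraMap A (CAlg2.normRed A) a =
      algebraMap (CAlg2.red A) (CAlg2.normRed A) (Ideal.Quotient.mk (nilradical A) a) := rfl

theorem isReduced_red : IsReduced (CAlg2.red A) :=
  (Ideal.isRadical_iff_quotient_reduced _).1 (Ideal.radical_isRadical _)

theorem isIntegral_normRed : Algebra.IsIntegral A (CAlg2.normRed A) := by
  haveI : Algebra.IsIntegral A (CAlg2.red A) :=
    Algebra.IsIntegral.of_surjective (Ideal.Quotient.mkₐ A (nilradical A))
      Ideal.Quotient.mk_surjective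
  haveI : Algebra.IsIntegral (CAlg2.red A) (CAlg2.normRed A) :=
    ⟨fun x => IsIntegralClosure.isIntegral (CAlg2.red A) (FractionRing (CAlg2.red A)) x⟩
  exact Algebra.IsIntegral.trans (CAlg2.red A)

/-- The primes of `red A` correspond to the primes of `A`; minimal ones to minimal ones. -/
theorem comap_mk_mem_minimalPrimes {p : Ideal (CAlg2.red A)} (hp : p ∈ minimalPrimes (CAlg2.red A)) :
    p.comap (Ideal.Quotient.mk (nilradical A)) ∈ minimalPrimes A := by
  haveI : p.IsPrime := hp.1.1
  refine ⟨⟨Ideal.IsPrime.comap _, bot_le⟩, fun q hq hle => ?_⟩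
  haveI := hq.1
  have hker : RingHom.ker (Ideal.Quotient.mk (nilradical A)) ≤ q :=
    Ideal.mk_ker.trans_le (nilradical_le_prime q)
  haveI := Ideal.map_isPrime_of_surjective Ideal.Quotient.mk_surjective hker
  have h1 : q.map (Ideal.Quotient.mk (nilradical A)) ≤ p := Ideal.map_le_iff_le_comap.2 hle
  have h2 := hp.2 ⟨inferInstance, bot_le⟩ h1
  intro x hx
  have h3 := h2 (Ideal.mem_comap.1 hx)
  rwa [← Ideal.mem_comap, Ideal.comap_map_of_surjective' _ Ideal.Quotient.mk_surjective,
    sup_eq_left.2 hker] at h3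

/-- Elements of the normalisation become elements of `A` after multiplication by elements outside the minimal primes. -/
theorem exists_smul_normRed (r : CAlg2.normRed A) :
    ∃ t a : A, (∀ p ∈ minimalPrimes A, t ∉ p) ∧ algebraMap A _ t * r = algebraMap A _ a := by
  obtain ⟨a, ⟨t, ht⟩, hr⟩ := IsLocalization.exists_mk'_eq (nonZeroDivisors (CAlg2.red A)) r.1
  obtain ⟨a, rfl⟩ := Ideal.Quotient.mk_surjective a
  obtain ⟨t, rfl⟩ := Ideal.Quotient.mk_surjective t
  refine ⟨t, a, fun p hp htp => ?_, Subtype.ext ?_⟩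
  · haveI : p.IsPrime := hp.1.1
    have hker : RingHom.ker (Ideal.Quotient.mk (nilradical A)) ≤ p :=
      Ideal.mk_ker.trans_le (nilradical_le_prime p)
    have hm : p.map (Ideal.Quotient.mk (nilradical A)) ∈ minimalPrimes (CAlg2.red A) := by
      haveI := Ideal.map_isPrime_of_surjective Ideal.Quotient.mk_surjective hker
      refine ⟨⟨inferInstance, bot_le⟩, fun q hq hle => ?_⟩
      haveI := hq.1
      have h1 : q.comap (Ideal.Quotient.mk (nilradical A)) ≤ p := by
        refine (Ideal.comap_mono hle).trans ?_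
        rw [Ideal.comap_map_of_surjective' _ Ideal.Quotient.mk_surjective, sup_eq_left.2 hker]
      exact Ideal.map_le_iff_le_comap.2 (hp.2 ⟨Ideal.IsPrime.comap _, bot_le⟩ h1)
    exact Set.disjoint_left.1 (Ideal.disjoint_nonZeroDivisors_of_mem_minimalPrimes hm)
      (Ideal.mem_map_of_mem _ htp) ht
  · change algebraMap (CAlg2.red A) (FractionRing (CAlg2.red A)) (Ideal.Quotient.mk _ t) * r.1 =
      algebraMap (CAlg2.red A) (FractionRing (CAlg2.red A)) (Ideal.Quotient.mk _ a)
    rw [← hr, mul_comm]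
    exact IsLocalization.mk'_spec _ _ (⟨_, ht⟩ : nonZeroDivisors (CAlg2.red A))

/-- Over a minimal prime there is exactly one prime of the normalisation. -/
theorem existsUnique_prime_over_minimal {p : Ideal A} (hp : p ∈ minimalPrimes A) :
    ∃! Q : Ideal (CAlg2.normRed A), Q.IsPrime ∧ Q.comap (algebraMap A (CAlg2.normRed A)) = p := by
  haveI : p.IsPrime := hp.1.1
  haveI := isIntegral_normRed A
  have hker : RingHom.ker (algebraMap A (CAlg2.normRed A)) ≤ p := fun x hx => by
    have h1 : algebraMap (CAlg2.red A) (FractionRing (CAlg2.red A)) (Ideal.Quotient.mk _ x) = 0 :=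
      congrArg Subtype.val (RingHom.mem_ker.1 hx)
    exact nilradical_le_prime p (Ideal.Quotient.eq_zero_iff_mem.1
      ((IsFractionRing.to_map_eq_zero_iff (K := FractionRing (CAlg2.red A))).1 h1))
  obtain ⟨Q, -, hQ, hQp⟩ := Ideal.exists_ideal_over_prime_of_isIntegral p (⊥ : Ideal (CAlg2.normRed A))
    ((RingHom.ker_eq_comap_bot _).symm.trans_le hker)
  refine ⟨Q, ⟨hQ, hQp⟩, fun Q' hQ' => ?_⟩
  have key : ∀ (Q₁ Q₂ : Ideal (CAlg2.normRed A)), Q₁.IsPrime → Q₂.IsPrime →
      Q₁.comap (algebraMap A _) = p → Q₂.comap (algebraMap A _) = p → Q₁ ≤ Q₂ := by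
    intro Q₁ Q₂ h₁ h₂ e₁ e₂ r hr
    obtain ⟨t, a, ht, hta⟩ := exists_smul_normRed A r
    have ha : a ∈ p := by
      rw [← e₁, Ideal.mem_comap, ← hta]
      exact Q₁.mul_mem_left _ hr
    rw [← e₂, Ideal.mem_comap, ← hta] at ha
    exact (h₂.mem_or_mem ha).resolve_left fun h => ht p hp (by rw [← e₂]; exact h)
  exact le_antisymm (key _ _ hQ'.1 hQ hQ'.2 hQp) (key _ _ hQ hQ'.1 hQp hQ'.2)

variable (hfin : (minimalPrimes A).Finite)
include hfin

/-- Primes of the total ring of fractions lie over minimal primes. -/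
theorem comap_prime_fractionRing (q : Ideal (FractionRing (CAlg2.red A))) [q.IsPrime] :
    (q.comap (algebraMap (CAlg2.red A) _)).comap (Ideal.Quotient.mk (nilradical A)) ∈ minimalPrimes A := by
  haveI := isReduced_red A
  set p' := q.comap (algebraMap (CAlg2.red A) (FractionRing (CAlg2.red A))) with hp'
  haveI : p'.IsPrime := Ideal.IsPrime.comap _
  have hfin' : (minimalPrimes (CAlg2.red A)).Finite :=
    Set.Finite.of_injOn (f := Ideal.comap (Ideal.Quotient.mk (nilradical A)))
      (fun _ hx => comap_mk_mem_minimalPrimes A hx)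
      (fun _ _ _ _ h => Ideal.comap_injective_of_surjective _ Ideal.Quotient.mk_surjective h) hfin
  obtain ⟨m, hm, hle⟩ : ∃ m ∈ minimalPrimes (CAlg2.red A), p' ≤ m := by
    have hsub : (p' : Set (CAlg2.red A)) ⊆ ⋃ m ∈ (hfin'.toFinset : Set (Ideal (CAlg2.red A))), (m : Set _) := by
      intro x hx
      have hnz : x ∉ nonZeroDivisors (CAlg2.red A) := fun hnz => Ideal.IsPrime.ne_top ‹q.IsPrime›
        (Ideal.eq_top_of_isUnit_mem _ hx (IsLocalization.map_units (FractionRing (CAlg2.red A))
          (⟨x, hnz⟩ : nonZeroDivisors (CAlg2.red A))))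
      by_contra hall
      simp only [Set.mem_iUnion, Set.Finite.coe_toFinset, not_exists] at hall
      refine hnz (mem_nonZeroDivisors_iff_right.2 fun y hy => IsReduced.eq_zero _ ?_)
      refine nilpotent_iff_mem_prime.2 fun J hJ => ?_
      haveI := hJ
      obtain ⟨m, hm, hmJ⟩ := Ideal.exists_minimalPrimes_le (bot_le : (⊥ : Ideal (CAlg2.red A)) ≤ J)
      exact hmJ (((hm.1.1).mem_or_mem (hy ▸ m.zero_mem : y * x ∈ m)).resolve_right (hall m hm))
    obtain ⟨m, hm, hle⟩ :=
      (Ideal.subset_union_prime (s := hfin'.toFinset) (f := id) ⊥ ⊥ fun m hm _ _ => (hfin'.mem_toFinset.1 hm).1.1).1 hsub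
    exact ⟨m, hfin'.mem_toFinset.1 hm, hle⟩
  have he : p' = m := le_antisymm hle (hm.2 ⟨inferInstance, bot_le⟩ hle)
  exact comap_mk_mem_minimalPrimes A (he ▸ hm)

/-- Minimal primes of the normalisation lie over minimal primes. -/
theorem comap_minimalPrimes_normRed {Q : Ideal (CAlg2.normRed A)} (hQ : Q ∈ minimalPrimes (CAlg2.normRed A)) :
    Q.comap (algebraMap A (CAlg2.normRed A)) ∈ minimalPrimes A := by
  obtain ⟨q, hq, hqQ⟩ := Ideal.exists_comap_eq_of_mem_minimalPrimes_of_injective
    (f := (integralClosure (CAlg2.red A) (FractionRing (CAlg2.red A))).val.toRingHom) Subtype.val_injective Q hQ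
  haveI := hq
  have := comap_prime_fractionRing A hfin q
  rw [← hqQ]
  rw [Ideal.comap_comap] at this ⊢
  exact this

theorem finite_primes_fractionRing : Finite (PrimeSpectrum (FractionRing (CAlg2.red A))) := by
  haveI := hfin.to_subtype
  refine Finite.of_injective (fun q => (⟨_, comap_prime_fractionRing A hfin q.asIdeal⟩ : minimalPrimes A)) ?_
  intro q₁ q₂ h
  have h1 := Ideal.comap_injective_of_surjective _ Ideal.Quotient.mk_surjective (congrArg Subtype.val h)
  apply PrimeSpectrum.ext
  rw [← IsLocalization.map_under (nonZeroDivisors (CAlg2.red A)) _ q₁.asIdeal, Ideal.under_def, h1,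
    ← Ideal.under_def, IsLocalization.map_under (nonZeroDivisors (CAlg2.red A))]

theorem isMaximal_fractionRing (q : Ideal (FractionRing (CAlg2.red A))) [q.IsPrime] : q.IsMaximal := by
  obtain ⟨M, hM, hle⟩ := Ideal.exists_le_maximal q (Ideal.IsPrime.ne_top ‹_›)
  haveI := hM.isPrime
  have h1 := comap_prime_fractionRing A hfin M
  have h2 := h1.2 ⟨Ideal.IsPrime.comap _, bot_le⟩ (Ideal.comap_mono (Ideal.comap_mono hle) :
    (q.comap (algebraMap (CAlg2.red A) _)).comap (Ideal.Quotient.mk (nilradical A)) ≤ _)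
  have h3 : (q.comap (algebraMap (CAlg2.red A) _)) = M.comap (algebraMap (CAlg2.red A) _) :=
    le_antisymm (Ideal.comap_mono hle) fun x hx => by
      obtain ⟨x, rfl⟩ := Ideal.Quotient.mk_surjective x
      exact h2 hx
  rw [show q = M by rw [← IsLocalization.map_under (nonZeroDivisors (CAlg2.red A)) _ q, Ideal.under_def, h3,
    ← Ideal.under_def, IsLocalization.map_under (nonZeroDivisors (CAlg2.red A))]]
  exact hM

omit hfin in
/-- The integral closure of a ring in a field is integrally closed. -/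
theorem isIntegrallyClosed_integralClosure_field (R F : Type u) [CommRing R] [Field F] [Algebra R F] :
    IsIntegrallyClosed (integralClosure R F) := by
  refine (isIntegrallyClosed_iff (FractionRing (integralClosure R F))).2 fun {x} hx => ?_
  let g : FractionRing (integralClosure R F) →+* F :=
    IsFractionRing.lift (g := algebraMap (integralClosure R F) F) Subtype.val_injective
  obtain ⟨f, hf, hfx⟩ := hx
  haveI : Algebra.IsIntegral R (integralClosure R F) := ⟨fun y => IsIntegralClosure.isIntegral R F y⟩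
  have hgx : IsIntegral R (g x) := by
    refine isIntegral_trans (A := integralClosure R F) (g x) ⟨f, hf, ?_⟩
    have h1 := congrArg g hfx
    rw [Polynomial.hom_eval₂, map_zero] at h1
    rwa [show g.comp (algebraMap (integralClosure R F) _) = algebraMap (integralClosure R F) F from
      RingHom.ext fun y => IsFractionRing.lift_algebraMap Subtype.val_injective y] at h1
  refine ⟨⟨g x, hgx⟩, g.injective ?_⟩
  exact IsFractionRing.lift_algebraMap Subtype.val_injective _

/-- The local rings of the normalisation are normal domains. -/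
theorem normal_atPrime_normRed (M : Ideal (CAlg2.normRed A)) [M.IsMaximal] :
    IsDomain (Localization.AtPrime M) ∧ IsIntegrallyClosed (Localization.AtPrime M) := by
  classical
  haveI := isReduced_red A
  haveI := finite_primes_fractionRing A hfin
  letI := Fintype.ofFinite (PrimeSpectrum (FractionRing (CAlg2.red A)))
  set K := FractionRing (CAlg2.red A)
  haveI : IsReduced K := inferInstanceAs (IsReduced (Localization (nonZeroDivisors (CAlg2.red A))))
  have hzero : ∀ x : K, (∀ q : PrimeSpectrum K, x ∈ q.asIdeal) → x = 0 := fun x hx =>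
    IsReduced.eq_zero x (nilpotent_iff_mem_prime.2 fun J hJ => hx ⟨J, hJ⟩)
  -- idempotents cutting out the primes
  have hidem : ∀ q : PrimeSpectrum K, ∃ e : K, IsIdempotentElem e ∧ e - 1 ∈ q.asIdeal ∧
      ∀ q' : PrimeSpectrum K, q' ≠ q → e ∈ q'.asIdeal := fun q => by
    haveI := isMaximal_fractionRing A hfin q.asIdeal
    obtain ⟨y, hy, hyq⟩ : ∃ y, (∀ q' : PrimeSpectrum K, q' ≠ q → y ∈ q'.asIdeal) ∧ y ∉ q.asIdeal := by
      have hn : ∀ q' : PrimeSpectrum K, q' ≠ q → ∃ z ∈ q'.asIdeal, z ∉ q.asIdeal := fun q' hq' => by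
        haveI := isMaximal_fractionRing A hfin q'.asIdeal
        by_contra hall
        push Not at hall
        exact hq' (PrimeSpectrum.ext ((isMaximal_fractionRing A hfin q'.asIdeal).eq_of_le q.isPrime.ne_top hall))
      choose z hz hzq using hn
      refine ⟨∏ q' ∈ Finset.univ.erase q, (if h : q' = q then 1 else z q' h), fun q' hq' => ?_, fun hm => ?_⟩
      · exact Ideal.prod_mem _ (Finset.mem_erase.2 ⟨hq', Finset.mem_univ q'⟩) (by rw [dif_neg hq']; exact hz q' hq')
      · obtain ⟨q', hq', hm'⟩ := (q.isPrime.prod_mem_iff).1 hm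
        rw [dif_neg (Finset.mem_erase.1 hq').1] at hm'
        exact hzq _ _ hm'
    obtain ⟨c, i, hi, hci⟩ := (isMaximal_fractionRing A hfin q.asIdeal).exists_inv hyq
    have he1 : c * y - 1 ∈ q.asIdeal := by rw [← hci, sub_add_cancel_left]; exact q.asIdeal.neg_mem hi
    have he : ∀ q' : PrimeSpectrum K, q' ≠ q → c * y ∈ q'.asIdeal := fun q' hq' =>
      q'.asIdeal.mul_mem_left _ (hy q' hq')
    refine ⟨c * y, ?_, he1, he⟩
    change c * y * (c * y) = c * y
    refine sub_eq_zero.1 (hzero _ fun q' => ?_)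
    rw [show c * y * (c * y) - c * y = (c * y) * (c * y - 1) by ring]
    rcases eq_or_ne q' q with rfl | hq'
    · exact Ideal.mul_mem_left _ _ he1
    · exact Ideal.mul_mem_right _ _ (he q' hq')
  choose e he he1 he0 using hidem
  have heint : ∀ q, IsIntegral (CAlg2.red A) (e q) := fun q =>
    ⟨Polynomial.X ^ 2 - Polynomial.X, Polynomial.monic_X_pow_sub (Polynomial.degree_X_le.trans_lt (by norm_num)),
      by simp [pow_two, (he q).eq]⟩
  obtain ⟨q, hq⟩ : ∃ q, (⟨e q, heint q⟩ : CAlg2.normRed A) ∉ M := by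
    by_contra hall
    push Not at hall
    have hprod : ∏ q, (1 - (⟨e q, heint q⟩ : CAlg2.normRed A)) = 0 := by
      apply Subtype.ext
      refine hzero _ fun q' => ?_
      rw [show ((∏ q, (1 - (⟨e q, heint q⟩ : CAlg2.normRed A))).1 : K) = ∏ q, (1 - e q) from
        map_prod (integralClosure (CAlg2.red A) K).val _ _]
      refine Ideal.prod_mem _ (Finset.mem_univ q') ?_
      rw [← neg_sub]
      exact q'.asIdeal.neg_mem (he1 q')
    obtain ⟨q', -, hq'⟩ := ((‹M.IsMaximal›.isPrime).prod_mem_iff).1 (hprod ▸ M.zero_mem :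
      ∏ q, (1 - (⟨e q, heint q⟩ : CAlg2.normRed A)) ∈ M)
    exact ‹M.IsMaximal›.ne_top ((Ideal.eq_top_iff_one _).2 (by
      have := M.add_mem hq' (hall q'); rwa [sub_add_cancel] at this))
  haveI := isMaximal_fractionRing A hfin q.asIdeal
  letI := Ideal.Quotient.field q.asIdeal
  haveI := isIntegral_normRed A
  let φ₀ : CAlg2.normRed A →ₐ[A] K ⧸ q.asIdeal :=
    (Ideal.Quotient.mkₐ A q.asIdeal).comp ((integralClosure (CAlg2.red A) K).val.restrictScalars A)
  let φ : CAlg2.normRed A →ₐ[A] integralClosure A (K ⧸ q.asIdeal) :=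
    φ₀.codRestrict (integralClosure A (K ⧸ q.asIdeal)) fun r => (Algebra.IsIntegral.isIntegral r).map φ₀
  have hsurj : Function.Surjective φ := fun x => by
    obtain ⟨y, hy⟩ := Ideal.Quotient.mk_surjective x.1
    obtain ⟨f, hf, hfx⟩ := x.2
    have hint : IsIntegral A (e q * y) := by
      refine ⟨Polynomial.X * f, Polynomial.monic_X.mul hf, hzero _ fun q' => ?_⟩
      rw [Polynomial.eval₂_mul, Polynomial.eval₂_X]
      rcases eq_or_ne q' q with rfl | hq'
      · refine Ideal.mul_mem_left _ _ (Ideal.Quotient.eq_zero_iff_mem.1 ?_)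
        rw [Polynomial.hom_eval₂, map_mul, Ideal.Quotient.eq.2 (he1 q'), map_one, one_mul, hy]
        exact hfx
      · exact Ideal.mul_mem_right _ _ (Ideal.mul_mem_right _ _ (he0 q q' hq'))
    refine ⟨⟨e q * y, hint.tower_top⟩, Subtype.ext ?_⟩
    change Ideal.Quotient.mk q.asIdeal (e q * y) = x.1
    rw [map_mul, Ideal.Quotient.eq.2 (he1 q), map_one, one_mul, hy]
  have hker : ∀ r, φ r = 0 → (⟨e q, heint q⟩ : CAlg2.normRed A) * r = 0 := fun r hr => by
    apply Subtype.ext
    refine hzero _ fun q' => ?_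
    change e q * r.1 ∈ q'.asIdeal
    rcases eq_or_ne q' q with rfl | hq'
    · exact Ideal.mul_mem_left _ _ (Ideal.Quotient.eq_zero_iff_mem.1 (congrArg Subtype.val hr))
    · exact Ideal.mul_mem_right _ _ (he0 q q' hq')
  have hkerM : RingHom.ker φ.toRingHom ≤ M := fun r hr =>
    ((‹M.IsMaximal›.isPrime).mem_or_mem (hker r hr ▸ M.zero_mem)).resolve_left hq
  set n := M.map φ.toRingHom with hn
  haveI : n.IsPrime := Ideal.map_isPrime_of_surjective hsurj hkerM
  have hcomap : M = n.comap φ.toRingHom := by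
    rw [hn, Ideal.comap_map_of_surjective' φ.toRingHom hsurj, sup_eq_left.2 hkerM]
  haveI := isIntegrallyClosed_integralClosure_field A (K ⧸ q.asIdeal)
  haveI : IsIntegrallyClosed (Localization.AtPrime n) :=
    isIntegrallyClosed_of_isLocalization _ n.primeCompl (Ideal.primeCompl_le_nonZeroDivisors n)
  have hbij : Function.Bijective (Localization.localRingHom M n φ.toRingHom hcomap) := by
    refine ⟨(injective_iff_map_eq_zero _).2 fun z hz => ?_, ?_⟩
    · obtain ⟨a, s, rfl⟩ := IsLocalization.exists_mk'_eq M.primeCompl z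
      rw [Localization.localRingHom_mk'] at hz
      obtain ⟨⟨c, hc⟩, hca⟩ := (IsLocalization.mk'_eq_zero_iff _ _).1 hz
      obtain ⟨c, rfl⟩ := hsurj c
      refine (IsLocalization.mk'_eq_zero_iff _ _).2 ⟨⟨⟨e q, heint q⟩ * c, fun hm => ?_⟩, ?_⟩
      · rcases (‹M.IsMaximal›.isPrime).mem_or_mem hm with h | h
        · exact hq h
        · exact hc (Ideal.mem_map_of_mem _ h)
      · change (⟨e q, heint q⟩ : CAlg2.normRed A) * c * a = 0
        rw [mul_assoc]
        exact hker _ ((map_mul φ c a).trans hca)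
    · intro z
      obtain ⟨a, s, rfl⟩ := IsLocalization.exists_mk'_eq n.primeCompl z
      obtain ⟨a₀, rfl⟩ := hsurj a
      obtain ⟨s₀, hs₀⟩ := hsurj s.1
      refine ⟨IsLocalization.mk' _ a₀ (⟨s₀, fun hm => s.2 (hs₀ ▸ Ideal.mem_map_of_mem _ hm)⟩ : M.primeCompl), ?_⟩
      rw [Localization.localRingHom_mk']
      congr 1
      exact Subtype.ext hs₀
  let E := RingEquiv.ofBijective _ hbij
  exact ⟨E.toMulEquiv.isDomain _, IsIntegrallyClosed.of_equiv E.symm⟩

end Groth.Agent.Hensel
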