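import Groth.Agent.Hensel.Branches
import Groth.Prelude.Def_Brnch

/-!
The number of (geometric) branches is the number of minimal primes of the (strict) henselization.
-/

set_option autoImplicit false

namespace Groth.Agent.Hensel

universe u

open IsLocalRing TensorProduct

variable {A : Type u} [CommRing A] [IsLocalRing A] {S : Type u} [CommRing S] [IsLocalRing S] [Algebra A S]
  [IsLocalHom (algebraMap A S)]

theorem comap_maximal_brTensor (M : Ideal (brTensor A S)) [M.IsMaximal] :
    M.comap (algebraMap S (brTensor A S)) = maximalIdeal S ∧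
      (M.comap (Algebra.TensorProduct.includeRight : CAlg2.normRed A →ₐ[A] brTensor A S).toRingHom).IsMaximal ∧
      (M.comap (Algebra.TensorProduct.includeRight : CAlg2.normRed A →ₐ[A] brTensor A S).toRingHom).LiesOver
        (maximalIdeal A) := by
  haveI := isIntegral_brTensor (A := A) (S := S)
  haveI := isIntegral_normRed A
  have h1 : M.comap (algebraMap S (brTensor A S)) = maximalIdeal S :=
    eq_maximalIdeal (Ideal.isMaximal_comap_of_isIntegral_of_isMaximal (R := S) M)
  have h2 : (M.comap (Algebra.TensorProduct.includeRight : CAlg2.normRed A →ₐ[A] brTensor A S).toRingHom).comap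
      (algebraMap A (CAlg2.normRed A)) = maximalIdeal A := by
    rw [Ideal.comap_comap, AlgHom.toRingHom_eq_coe, AlgHom.comp_algebraMap,
      IsScalarTower.algebraMap_eq A S (brTensor A S), ← Ideal.comap_comap, h1, maximalIdeal_comap (algebraMap A S)]
  haveI : (M.comap (Algebra.TensorProduct.includeRight : CAlg2.normRed A →ₐ[A] brTensor A S).toRingHom).IsPrime :=
    Ideal.IsPrime.comap _
  exact ⟨h1, Ideal.isMaximal_of_isIntegral_of_isMaximal_comap (R := A) _ (h2 ▸ maximalIdeal.isMaximal A), ⟨h2.symm⟩⟩

theorem quasiFiniteAt_of_quasiFinite (R : Type u) [CommRing R] {T : Type u} [CommRing T] [Algebra R T]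
    [Algebra.QuasiFinite R T] (P : Ideal T) [P.IsPrime] : Algebra.QuasiFiniteAt R P :=
  inferInstanceAs (Algebra.QuasiFinite R (Localization P.primeCompl))

section Point

variable {N : Type u} [CommRing N] [Algebra A N] [Algebra.IsIntegral A N] (q : Ideal N) [q.IsPrime]

omit [IsLocalRing A] in
/-- A finite stage containing given elements. -/
theorem exists_finite_stage (s : Finset N) :
    ∃ (S₀ : Type u) (_ : CommRing S₀) (_ : Algebra A S₀) (g : S₀ →ₐ[A] N),
      (↑s : Set N) ⊆ Set.range g ∧ Algebra.FiniteType A S₀ ∧
        ∀ [(q.comap g.toRingHom).IsPrime], Algebra.QuasiFiniteAt A (q.comap g.toRingHom) := by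
  haveI hfin : Module.Finite A (Algebra.adjoin A (↑s : Set N)) := Module.Finite.iff_fg.2
    (fg_adjoin_of_finite s.finite_toSet fun x _ => Algebra.IsIntegral.isIntegral x)
  exact ⟨Algebra.adjoin A (↑s : Set N), inferInstance, inferInstance, Subalgebra.val _,
    fun x hx => ⟨⟨x, Algebra.subset_adjoin hx⟩, rfl⟩, inferInstance, @fun hP => quasiFiniteAt_of_quasiFinite A _⟩

theorem exists_maximal_domain_aux [q.IsMaximal] [q.LiesOver (maximalIdeal A)] [_root_.Hensel.IsHenselization A S]
    (Sh : Type u) [CommRing Sh] [IsLocalRing Sh] [Algebra (Localization.AtPrime q) Sh]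
    [IsLocalHom (algebraMap (Localization.AtPrime q) Sh)]
    [hSh : _root_.Hensel.IsHenselization (Localization.AtPrime q) Sh] [IsDomain Sh] :
    ∃ M : Ideal (S ⊗[A] N), M.IsMaximal ∧
      M.comap (Algebra.TensorProduct.includeRight : N →ₐ[A] S ⊗[A] N).toRingHom = q ∧
      ∀ [M.IsPrime], IsDomain (Localization.AtPrime M) := by
  letI : Algebra N Sh := ((algebraMap (Localization.AtPrime q) Sh).comp (algebraMap _ _)).toAlgebra
  haveI : IsScalarTower N (Localization.AtPrime q) Sh := IsScalarTower.of_algebraMap_eq fun _ => rfl
  letI : Algebra A Sh := ((algebraMap N Sh).comp (algebraMap A _)).toAlgebra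
  haveI : IsScalarTower A N Sh := IsScalarTower.of_algebraMap_eq fun _ => rfl
  haveI : HenselianLocalRing Sh := hSh.henselian
  letI : Algebra (Localization.AtPrime (maximalIdeal A)) S := atMaximalAlgebra A S
  haveI : IsScalarTower A (Localization.AtPrime (maximalIdeal A)) S :=
    IsScalarTower.of_algebraMap_eq fun a => (IsLocalization.lift_eq _ a).symm
  haveI := isLocalHom_atMaximal A S
  haveI := isHenselization_atMaximal A S
  haveI : HenselianLocalRing S := _root_.Hensel.IsHenselization.henselian (R := A)
  obtain ⟨g, hg, -⟩ := hens_lift (p := maximalIdeal A) S (algebraMap A Sh) (by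
    rw [IsScalarTower.algebraMap_eq A N Sh, ← Ideal.comap_comap, comap_point (p := q) Sh]
    exact (q.over_def (maximalIdeal A)).symm)
  letI : Algebra S Sh := g.toAlgebra
  haveI : IsScalarTower A S Sh := IsScalarTower.of_algebraMap_eq' hg.symm
  haveI := isIntegral_tPoint A N (maximalIdeal A) q S Sh (henselization_map_maximalIdeal _ S) (exists_finite_stage q)
  obtain ⟨e⟩ := nonempty_equiv_of_isIntegral A N (maximalIdeal A) q S Sh
  refine ⟨tPoint A N S Sh, ?_, (tPoint_comap_right A N q S Sh).symm, @fun _ => e.toMulEquiv.isDomain _⟩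
  haveI : Algebra.IsIntegral S (S ⊗[A] N) := by
    refine ⟨fun y => ?_⟩
    induction y using TensorProduct.induction_on with
    | zero => exact isIntegral_zero
    | add a b ha hb => exact ha.add hb
    | tmul s r =>
      rw [show s ⊗ₜ[A] r = s • ((1 : S) ⊗ₜ[A] r) by rw [TensorProduct.smul_tmul', smul_eq_mul, mul_one]]
      exact ((Algebra.IsIntegral.isIntegral (R := A) r).map
        (Algebra.TensorProduct.includeRight : N →ₐ[A] S ⊗[A] N)).tower_top.smul s
  haveI := tPoint_liesOver A N (maximalIdeal A) q S Sh (henselization_map_maximalIdeal _ S)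
  refine Ideal.isMaximal_of_isIntegral_of_isMaximal_comap (R := S) _ ?_
  rw [← Ideal.under_def, ← (tPoint A N S Sh).over_def (maximalIdeal S)]
  exact maximalIdeal.isMaximal S

/-- The henselization of a point of an integral algebra is a local ring of the tensor product. -/
theorem exists_maximal_domain [q.IsMaximal] [q.LiesOver (maximalIdeal A)] [_root_.Hensel.IsHenselization A S]
    [IsDomain (Localization.AtPrime q)] [IsIntegrallyClosed (Localization.AtPrime q)] :
    ∃ M : Ideal (S ⊗[A] N), M.IsMaximal ∧
      M.comap (Algebra.TensorProduct.includeRight : N →ₐ[A] S ⊗[A] N).toRingHom = q ∧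
      ∀ [M.IsPrime], IsDomain (Localization.AtPrime M) := by
  obtain ⟨hloc, hSh⟩ := exists_henselization (Localization.AtPrime q)
  haveI := hloc
  haveI := hSh
  haveI := ((henselization_normal_iff (Localization.AtPrime q)
    (Env (Localization.AtPrime q) (ResidueField (Localization.AtPrime q)))).1 ⟨inferInstance, inferInstance⟩).1
  exact exists_maximal_domain_aux q (Env (Localization.AtPrime q) (ResidueField (Localization.AtPrime q)))

end Point

/-- Maximal ideals over a henselization are determined by their contraction to the normalisation. -/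
theorem maximal_ext_henselization [_root_.Hensel.IsHenselization A S] {M M' : Ideal (brTensor A S)} [M.IsMaximal]
    [M'.IsMaximal]
    (h : M.comap (Algebra.TensorProduct.includeRight : CAlg2.normRed A →ₐ[A] brTensor A S).toRingHom =
      M'.comap (Algebra.TensorProduct.includeRight : CAlg2.normRed A →ₐ[A] brTensor A S).toRingHom) : M = M' := by
  have key : ∀ x : brTensor A S, ∃ r : CAlg2.normRed A, ∀ (N : Ideal (brTensor A S)) [N.IsMaximal],
      x - (1 : S) ⊗ₜ[A] r ∈ N := by
    intro x
    induction x using TensorProduct.induction_on with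
    | zero => exact ⟨0, fun N _ => by simp⟩
    | tmul s r =>
      obtain ⟨a, ha⟩ := henselization_exists_sub_mem A S s
      refine ⟨a • r, fun N _ => ?_⟩
      rw [← TensorProduct.smul_tmul, ← Algebra.algebraMap_eq_smul_one, ← TensorProduct.sub_tmul]
      rw [← (comap_maximal_brTensor N).1] at ha
      have h1 := N.mul_mem_right ((1 : S) ⊗ₜ[A] r) (Ideal.mem_comap.1 ha)
      rwa [Algebra.TensorProduct.algebraMap_apply, Algebra.algebraMap_self, RingHom.id_apply,
        Algebra.TensorProduct.tmul_mul_tmul, mul_one, one_mul] at h1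
    | add x y hx hy =>
      obtain ⟨r, hr⟩ := hx
      obtain ⟨r', hr'⟩ := hy
      refine ⟨r + r', fun N _ => ?_⟩
      rw [TensorProduct.tmul_add, add_sub_add_comm]
      exact N.add_mem (hr N) (hr' N)
  refine Ideal.IsMaximal.eq_of_le ‹_› (Ideal.IsMaximal.ne_top ‹_›) fun x hx => ?_
  obtain ⟨r, hr⟩ := key x
  have h1 : r ∈ M.comap (Algebra.TensorProduct.includeRight : CAlg2.normRed A →ₐ[A] brTensor A S).toRingHom := by
    have := M.sub_mem hx (hr M)
    rwa [sub_sub_cancel] at this
  rw [h] at h1
  have h2 := M'.add_mem (hr M') (Ideal.mem_comap.1 h1)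
  rw [show (Algebra.TensorProduct.includeRight : CAlg2.normRed A →ₐ[A] brTensor A S).toRingHom r =
    (1 : S) ⊗ₜ[A] r from rfl, sub_add_cancel] at h2
  exact h2

/-- The local rings of the base-changed normalisation are domains. -/
theorem isDomain_atPrime_henselization [_root_.Hensel.IsHenselization A S] (hfin : (minimalPrimes A).Finite)
    (M : Ideal (brTensor A S)) [M.IsMaximal] : IsDomain (Localization.AtPrime M) := by
  obtain ⟨hMS, hqm, hqo⟩ := comap_maximal_brTensor M
  set q := M.comap (Algebra.TensorProduct.includeRight : CAlg2.normRed A →ₐ[A] brTensor A S).toRingHom with hqdef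
  haveI := hqm
  haveI := hqo
  haveI := isIntegral_normRed A
  obtain ⟨_, _⟩ := normal_atPrime_normRed A hfin q
  obtain ⟨M', hM', hM'q, hdom⟩ := exists_maximal_domain (A := A) (S := S) q
  obtain rfl : M = M' := maximal_ext_henselization (A := A) (S := S) (hqdef.symm.trans hM'q.symm)
  exact hdom

theorem card_maximal_henselization [_root_.Hensel.IsHenselization A S] :
    ENat.card (MaximalSpectrum (brTensor A S)) = ENat.card (MaximalSpectrum (CAlg2.normRed A)) := by
  let F : MaximalSpectrum (brTensor A S) → MaximalSpectrum (CAlg2.normRed A) := fun M =>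
    ⟨_, (haveI := M.isMaximal; (comap_maximal_brTensor M.asIdeal).2.1)⟩
  refine ENat.card_congr (Equiv.ofBijective F ⟨fun M M' h => ?_, fun m => ?_⟩)
  · haveI := M.isMaximal
    haveI := M'.isMaximal
    exact MaximalSpectrum.ext (maximal_ext_henselization (congrArg MaximalSpectrum.asIdeal h))
  · haveI := m.isMaximal
    haveI := isIntegral_normRed A
    letI := Ideal.Quotient.field m.asIdeal
    have hm : m.asIdeal.comap (algebraMap A (CAlg2.normRed A)) = maximalIdeal A :=
      eq_maximalIdeal (Ideal.isMaximal_comap_of_isIntegral_of_isMaximal (R := A) m.asIdeal)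
    let κ : ResidueField A →+* CAlg2.normRed A ⧸ m.asIdeal := Ideal.Quotient.lift (maximalIdeal A)
      ((Ideal.Quotient.mk m.asIdeal).comp (algebraMap A (CAlg2.normRed A))) fun a ha => by
        rw [RingHom.comp_apply, Ideal.Quotient.eq_zero_iff_mem, ← Ideal.mem_comap, hm]
        exact ha
    let e := RingEquiv.ofBijective _ (henselization_residue_bijective A S)
    let fS : S →ₐ[A] CAlg2.normRed A ⧸ m.asIdeal :=
      { κ.comp (e.symm.toRingHom.comp (residue S)) with
        commutes' := fun a => by
          change κ (e.symm (residue S (algebraMap A S a))) = _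
          rw [show e.symm (residue S (algebraMap A S a)) = residue A a from
            e.symm_apply_eq.2 (ResidueField.map_residue _ a).symm]
          rfl }
    let Θ : brTensor A S →ₐ[A] CAlg2.normRed A ⧸ m.asIdeal :=
      Algebra.TensorProduct.lift fS (Ideal.Quotient.mkₐ A m.asIdeal) fun _ _ => Commute.all _ _
    have hsurj : Function.Surjective Θ := fun y => by
      obtain ⟨r, rfl⟩ := Ideal.Quotient.mk_surjective y
      exact ⟨1 ⊗ₜ r, by simp [Θ]⟩
    haveI := RingHom.ker_isMaximal_of_surjective Θ.toRingHom hsurj
    refine ⟨⟨RingHom.ker Θ.toRingHom, inferInstance⟩, MaximalSpectrum.ext ?_⟩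
    change (RingHom.ker Θ.toRingHom).comap _ = m.asIdeal
    rw [RingHom.comap_ker]
    refine (congrArg RingHom.ker (show _ = Ideal.Quotient.mk m.asIdeal from ?_)).trans Ideal.mk_ker
    ext r
    simp [Θ]

/-- Minimal primes of a henselization count branches. -/
theorem card_minimalPrimes_henselization [_root_.Hensel.IsHenselization A S] :
    ENat.card (minimalPrimes S) = Brnch.numBranches A := by
  classical
  haveI := henselization_faithfullyFlat A S
  haveI : HenselianLocalRing S := _root_.Hensel.IsHenselization.henselian (R := A)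
  unfold Brnch.numBranches
  split_ifs with hfin
  · rw [← card_maximal_henselization (A := A) (S := S),
      ← card_minimalPrimes_eq_maximal fun M _ => isDomain_atPrime_henselization hfin M]
    exact ENat.card_congr (bijOn_minimalPrimes hfin).equiv.symm
  · haveI : Infinite (minimalPrimes A) := Set.infinite_coe_iff.2 hfin
    choose T hT hTp using fun p : minimalPrimes A => exists_minimal_comap_eq (A := A) (S := S) p.2
    haveI : Infinite (minimalPrimes S) := Infinite.of_injective (fun p => (⟨T p, hT p⟩ : minimalPrimes S))
      fun p p' h => Subtype.ext (by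
        have h' : T p = T p' := congrArg Subtype.val h
        rw [← hTp p, ← hTp p', h'])
    exact ENat.card_eq_top_of_infinite

end Groth.Agent.Hensel
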