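import Groth.Agent.Hensel.BranchMore
import Groth.Prelude.Def_EGA4b
import Mathlib.Algebra.BigOperators.Finprod

/-!
Branches as a sum over the minimal primes.
-/

set_option autoImplicit false

namespace Groth.Agent.Hensel

universe u

open IsLocalRing

/-- Minimal primes of a faithfully flat algebra, fibred over those of the base. -/
theorem card_minimalPrimes_eq_sum {A S : Type u} [CommRing A] [CommRing S] [Algebra A S] [Module.FaithfullyFlat A S]
    (hfin : (minimalPrimes A).Finite)
    (hflat : ∀ p ∈ minimalPrimes A, Module.Flat (A ⧸ p) (S ⧸ p.map (algebraMap A S))) :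
    ENat.card (minimalPrimes S) =
      ∑ᶠ p : minimalPrimes A, ENat.card (minimalPrimes (S ⧸ p.1.map (algebraMap A S))) := by
  classical
  haveI := hfin.fintype
  rw [finsum_eq_sum_of_fintype, ← eNat_card_sigma fun p : minimalPrimes A =>
    (↥(minimalPrimes (S ⧸ p.1.map (algebraMap A S))) : Type u)]
  have hmem : ∀ (x : Σ p : minimalPrimes A, minimalPrimes (S ⧸ p.1.map (algebraMap A S))),
      x.2.1.comap (Ideal.Quotient.mk _) ∈ minimalPrimes S ∧
        (x.2.1.comap (Ideal.Quotient.mk _)).comap (algebraMap A S) = x.1.1 := by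
    rintro ⟨⟨p, hp⟩, ⟨Q, hQ⟩⟩
    haveI := hp.1.1
    haveI := hQ.1.1
    haveI := hflat p hp
    have h1 := comap_mem_minimalPrimes_of_flat (R := A ⧸ p) hQ
    rw [IsDomain.minimalPrimes_eq_singleton_bot, Set.mem_singleton_iff] at h1
    have h2 : (Q.comap (Ideal.Quotient.mk _)).comap (algebraMap A S) = p := by
      rw [Ideal.comap_comap]
      refine Eq.trans ?_ (Ideal.mk_ker (I := p))
      rw [RingHom.ker_eq_comap_bot, ← h1, Ideal.comap_comap]
      rfl
    refine ⟨⟨⟨Ideal.IsPrime.comap _, bot_le⟩, fun T hT hle => ?_⟩, h2⟩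
    haveI := hT.1
    have h3 : T.comap (algebraMap A S) ≤ p := (Ideal.comap_mono hle).trans h2.le
    have h4 : p.map (algebraMap A S) ≤ T :=
      Ideal.map_le_iff_le_comap.2 (hp.2 ⟨Ideal.IsPrime.comap _, bot_le⟩ h3)
    have hker : RingHom.ker (Ideal.Quotient.mk (p.map (algebraMap A S))) ≤ T := Ideal.mk_ker.trans_le h4
    haveI := Ideal.map_isPrime_of_surjective Ideal.Quotient.mk_surjective hker
    have h5 := hQ.2 ⟨inferInstance, bot_le⟩ (Ideal.map_le_iff_le_comap.2 hle)
    exact (Ideal.comap_mono h5).trans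
      (by rw [Ideal.comap_map_of_surjective' _ Ideal.Quotient.mk_surjective, sup_eq_left.2 hker])
  refine (ENat.card_congr (Equiv.ofBijective (fun x => (⟨_, (hmem x).1⟩ : minimalPrimes S)) ⟨?_, ?_⟩)).symm
  · rintro ⟨p, Q⟩ ⟨p', Q'⟩ h
    have h' : Q.1.comap (Ideal.Quotient.mk _) = Q'.1.comap (Ideal.Quotient.mk _) := congrArg Subtype.val h
    obtain rfl : p = p' := Subtype.ext (by rw [← (hmem ⟨p, Q⟩).2, ← (hmem ⟨p', Q'⟩).2]; exact congrArg _ h')
    exact congrArg (Sigma.mk p) (Subtype.ext (Ideal.comap_injective_of_surjective _ Ideal.Quotient.mk_surjective h'))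
  · rintro ⟨T, hT⟩
    haveI := hT.1.1
    have hp := comap_mem_minimalPrimes_of_flat (R := A) hT
    set p := T.comap (algebraMap A S) with hpdef
    have hker : RingHom.ker (Ideal.Quotient.mk (p.map (algebraMap A S))) ≤ T :=
      Ideal.mk_ker.trans_le Ideal.map_comap_le
    haveI := Ideal.map_isPrime_of_surjective Ideal.Quotient.mk_surjective hker
    have hQ : T.map (Ideal.Quotient.mk (p.map (algebraMap A S))) ∈ minimalPrimes (S ⧸ p.map (algebraMap A S)) := by
      refine ⟨⟨inferInstance, bot_le⟩, fun q hq hle => ?_⟩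
      haveI := hq.1
      refine Ideal.map_le_iff_le_comap.2 (hT.2 ⟨Ideal.IsPrime.comap _, bot_le⟩ ((Ideal.comap_mono hle).trans ?_))
      rw [Ideal.comap_map_of_surjective' _ Ideal.Quotient.mk_surjective, sup_eq_left.2 hker]
    refine ⟨⟨⟨p, hp⟩, ⟨_, hQ⟩⟩, Subtype.ext ?_⟩
    change (T.map (Ideal.Quotient.mk (p.map (algebraMap A S)))).comap _ = T
    rw [Ideal.comap_map_of_surjective' _ Ideal.Quotient.mk_surjective, sup_eq_left.2 hker]

/-- Quotients of strict henselizations. -/
theorem isStrictHenselization_quotient {A S : Type u} [CommRing A] [IsLocalRing A] [CommRing S]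
    [IsLocalRing S] [Algebra A S] [IsLocalHom (algebraMap A S)] [h : _root_.Hensel.IsStrictHenselization A S]
    (I : Ideal A) [IsLocalRing (A ⧸ I)] [IsLocalRing (S ⧸ I.map (algebraMap A S))]
    [IsLocalHom (algebraMap (A ⧸ I) (S ⧸ I.map (algebraMap A S)))] :
    _root_.Hensel.IsStrictHenselization (A ⧸ I) (S ⧸ I.map (algebraMap A S)) := by
  haveI : HenselianLocalRing S := h.henselian
  haveI : IsLocalHom (Ideal.Quotient.mk I) := IsLocalHom.of_surjective _ Ideal.Quotient.mk_surjective
  haveI : IsLocalHom (Ideal.Quotient.mk (I.map (algebraMap A S))) :=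
    IsLocalHom.of_surjective _ Ideal.Quotient.mk_surjective
  have hA : Function.Bijective (ResidueField.map (Ideal.Quotient.mk I)) := ⟨RingHom.injective _, fun y => by
    obtain ⟨y, rfl⟩ := residue_surjective y
    obtain ⟨a, rfl⟩ := Ideal.Quotient.mk_surjective y
    exact ⟨residue A a, ResidueField.map_residue _ a⟩⟩
  have hS : Function.Bijective (ResidueField.map (Ideal.Quotient.mk (I.map (algebraMap A S)))) :=
    ⟨RingHom.injective _, fun y => by
      obtain ⟨y, rfl⟩ := residue_surjective y
      obtain ⟨a, rfl⟩ := Ideal.Quotient.mk_surjective y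
      exact ⟨residue S a, ResidueField.map_residue _ a⟩⟩
  refine ⟨henselianLocalRing_finite S (S ⧸ I.map (algebraMap A S)), ?_, fun T _ _ f _ τ hτ => ?_⟩
  · haveI := h.isSepClosure.sep_closed
    haveI : Algebra.IsSeparable (ResidueField A) (ResidueField S) := h.isSepClosure.separable
    exact ⟨isSepClosed_of_ringEquiv (RingEquiv.ofBijective _ hS),
      Algebra.IsSeparable.of_equiv_equiv (RingEquiv.ofBijective _ hA) (RingEquiv.ofBijective _ hS)
        (RingHom.ext fun x => by
          obtain ⟨a, rfl⟩ := residue_surjective x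
          simp only [RingHom.comp_apply, RingEquiv.coe_toRingHom, RingEquiv.ofBijective_apply,
            ResidueField.map_residue, ResidueField.algebraMap_residue]
          rfl)⟩
  haveI : IsLocalHom (f.comp (Ideal.Quotient.mk I)) := RingHom.isLocalHom_comp _ _
  obtain ⟨g, ⟨hg, hgr⟩, hu⟩ := h.universal T (f.comp (Ideal.Quotient.mk I))
    (τ.comp (ResidueField.map (Ideal.Quotient.mk (I.map (algebraMap A S))))) (RingHom.ext fun x => by
      obtain ⟨a, rfl⟩ := residue_surjective x
      have h1 := RingHom.congr_fun hτ (residue _ (Ideal.Quotient.mk I a))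
      rw [RingHom.comp_apply, ResidueField.map_residue, ResidueField.map_residue] at h1
      rw [RingHom.comp_apply, RingHom.comp_apply, ResidueField.map_residue, ResidueField.map_residue,
        ResidueField.map_residue]
      exact h1)
  have hker : I.map (algebraMap A S) ≤ RingHom.ker g := Ideal.map_le_iff_le_comap.2 fun a ha => by
    rw [Ideal.mem_comap, RingHom.mem_ker, ← RingHom.comp_apply, hg, RingHom.comp_apply,
      Ideal.Quotient.eq_zero_iff_mem.2 ha, map_zero]
  refine ⟨Ideal.Quotient.lift _ g fun z hz => hker hz,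
    ⟨Ideal.Quotient.ringHom_ext (RingHom.ext fun a => RingHom.congr_fun hg a), fun y => ?_⟩, fun g' hg' => ?_⟩
  · obtain ⟨s, rfl⟩ := Ideal.Quotient.mk_surjective y
    rw [Ideal.Quotient.lift_mk, hgr, RingHom.comp_apply, ResidueField.map_residue]
  · refine Ideal.Quotient.ringHom_ext ?_
    rw [hu (g'.comp (Ideal.Quotient.mk _)) ⟨RingHom.ext fun a => RingHom.congr_fun hg'.1 (Ideal.Quotient.mk I a),
      fun s => by rw [RingHom.comp_apply, hg'.2, RingHom.comp_apply, ResidueField.map_residue]⟩]
    exact RingHom.ext fun z => rfl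

section

variable (A : Type u) [CommRing A] [IsLocalRing A] (S : Type u) [CommRing S] [IsLocalRing S] [Algebra A S]
  [IsLocalHom (algebraMap A S)]

theorem quotient_local_setup (p : Ideal A) (hp : p ≠ ⊤) :
    IsLocalRing (A ⧸ p) ∧ IsLocalRing (S ⧸ p.map (algebraMap A S)) ∧
      IsLocalHom (algebraMap (A ⧸ p) (S ⧸ p.map (algebraMap A S))) := by
  haveI : Nontrivial (A ⧸ p) := Ideal.Quotient.nontrivial_iff.2 hp
  haveI hA : IsLocalRing (A ⧸ p) := IsLocalRing.of_surjective' _ Ideal.Quotient.mk_surjective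
  have hle : p.map (algebraMap A S) ≤ maximalIdeal S := Ideal.map_le_iff_le_comap.2 fun a ha =>
    (mem_maximalIdeal _).2 (map_nonunit (algebraMap A S) a (le_maximalIdeal hp ha))
  haveI : Nontrivial (S ⧸ p.map (algebraMap A S)) :=
    Ideal.Quotient.nontrivial_iff.2 fun h => (maximalIdeal.isMaximal S).ne_top (top_le_iff.1 (h ▸ hle))
  haveI hS : IsLocalRing (S ⧸ p.map (algebraMap A S)) :=
    IsLocalRing.of_surjective' _ Ideal.Quotient.mk_surjective
  refine ⟨hA, hS, ⟨fun x hx => ?_⟩⟩
  obtain ⟨a, rfl⟩ := Ideal.Quotient.mk_surjective x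
  haveI : IsLocalHom (Ideal.Quotient.mk (p.map (algebraMap A S))) :=
    IsLocalHom.of_surjective _ Ideal.Quotient.mk_surjective
  have hx' : IsUnit (Ideal.Quotient.mk (p.map (algebraMap A S)) (algebraMap A S a)) := hx
  exact ((hx'.of_map _ _).of_map (algebraMap A S) a).map _

theorem card_branches_eq_sum [_root_.Hensel.IsHenselization A S] (hfin : (minimalPrimes A).Finite) :
    Brnch.numBranches A = ∑ᶠ p : minimalPrimes A, haveI : p.1.IsPrime := p.2.1.1
      Brnch.numBranches (A ⧸ p.1) := by
  haveI := henselization_faithfullyFlat A S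
  have hq : ∀ p : minimalPrimes A, Module.Flat (A ⧸ p.1) (S ⧸ p.1.map (algebraMap A S)) ∧
      (haveI : p.1.IsPrime := p.2.1.1
       ENat.card (minimalPrimes (S ⧸ p.1.map (algebraMap A S))) = Brnch.numBranches (A ⧸ p.1)) := fun p => by
    haveI : p.1.IsPrime := p.2.1.1
    obtain ⟨h1, h2, h3⟩ := quotient_local_setup A S p.1 p.2.1.1.ne_top
    haveI := h1
    haveI := h2
    haveI := h3
    haveI := isHenselization_quotient (A := A) (S := S) p.1
    exact ⟨henselization_flat _ _, card_minimalPrimes_henselization⟩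
  rw [← card_minimalPrimes_henselization (A := A) (S := S),
    card_minimalPrimes_eq_sum hfin fun p hp => (hq ⟨p, hp⟩).1]
  exact finsum_congr fun p => (hq p).2

theorem card_geomBranches_eq_sum [_root_.Hensel.IsStrictHenselization A S] (hfin : (minimalPrimes A).Finite) :
    Brnch.numGeomBranches A = ∑ᶠ p : minimalPrimes A, haveI : p.1.IsPrime := p.2.1.1
      Brnch.numGeomBranches (A ⧸ p.1) := by
  haveI := strictHenselization_faithfullyFlat A S
  have hq : ∀ p : minimalPrimes A, Module.Flat (A ⧸ p.1) (S ⧸ p.1.map (algebraMap A S)) ∧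
      (haveI : p.1.IsPrime := p.2.1.1
       ENat.card (minimalPrimes (S ⧸ p.1.map (algebraMap A S))) = Brnch.numGeomBranches (A ⧸ p.1)) := fun p => by
    haveI : p.1.IsPrime := p.2.1.1
    obtain ⟨h1, h2, h3⟩ := quotient_local_setup A S p.1 p.2.1.1.ne_top
    haveI := h1
    haveI := h2
    haveI := h3
    haveI := isStrictHenselization_quotient (A := A) (S := S) p.1
    exact ⟨strictHenselization_flat _ _, card_minimalPrimes_strictHenselization⟩
  rw [← card_minimalPrimes_strictHenselization (A := A) (S := S),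
    card_minimalPrimes_eq_sum hfin fun p hp => (hq ⟨p, hp⟩).1]
  exact finsum_congr fun p => (hq p).2

end

end Groth.Agent.Hensel
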