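import Groth.Agent.Hensel.Etale
import Mathlib.Algebra.Colimit.Ring
import Mathlib.FieldTheory.IsSepClosed
import Mathlib.RingTheory.LocalRing.ResidueField.Basic

/-!
Directed limits of henselian pairs and of strictly henselian local rings.
-/

set_option autoImplicit false

namespace Groth.Agent.Hensel

universe u v

open Polynomial

theorem henselianRing_directLimit {ι : Type v} [Preorder ι] [IsDirected ι (· ≤ ·)] [Nonempty ι]
    (G : ι → Type u) [∀ i, CommRing (G i)] (f : ∀ i j, i ≤ j → G i →+* G j)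
    [DirectedSystem G fun i j h => f i j h] (I : ∀ i, Ideal (G i))
    (hI : ∀ i j (h : i ≤ j), (I i).map (f i j h) ≤ I j) (hh : ∀ i, HenselianRing (G i) (I i)) :
    HenselianRing (Ring.DirectLimit G fun i j h => f i j h)
      (⨆ i, (I i).map (Ring.DirectLimit.of G (fun i j h => f i j h) i)) := by
  classical
  let f' := fun i j h => (f i j h : G i → G j)
  let L := Ring.DirectLimit G f'
  let of := Ring.DirectLimit.of G f'
  have hof : ∀ {i j} (h : i ≤ j) x, of j (f i j h x) = of i x := fun h x => Ring.DirectLimit.of_f h x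
  have hexact : ∀ {i} {x : G i}, of i x = 0 → ∃ j, ∃ h : i ≤ j, f i j h x = 0 := fun hx =>
    Ring.DirectLimit.of.zero_exact hx
  have hmem : ∀ z : L, z ∈ (⨆ i, (I i).map (of i)) → ∃ i, ∃ x ∈ I i, of i x = z := by
    intro z hz
    refine Submodule.iSup_induction (motive := fun z => ∃ i, ∃ x ∈ I i, of i x = z) _ hz ?_ ?_ ?_
    · intro i z hz
      refine Submodule.span_induction ?_ ?_ ?_ ?_ hz
      · rintro _ ⟨x, hx, rfl⟩
        exact ⟨i, x, hx, rfl⟩
      · exact ⟨i, 0, zero_mem _, map_zero _⟩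
      · rintro a b _ _ ⟨j, x, hx, rfl⟩ ⟨k, y, hy, rfl⟩
        obtain ⟨l, hjl, hkl⟩ := exists_ge_ge j k
        exact ⟨l, f j l hjl x + f k l hkl y, add_mem (hI j l hjl (Ideal.mem_map_of_mem _ hx))
          (hI k l hkl (Ideal.mem_map_of_mem _ hy)), by rw [map_add, hof, hof]⟩
      · rintro c a _ ⟨j, x, hx, rfl⟩
        obtain ⟨k, c', rfl⟩ := Ring.DirectLimit.exists_of c
        obtain ⟨l, hjl, hkl⟩ := exists_ge_ge j k
        exact ⟨l, f k l hkl c' * f j l hjl x, Ideal.mul_mem_left _ _ (hI j l hjl (Ideal.mem_map_of_mem _ hx)),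
          by rw [map_mul, hof, hof]; rfl⟩
    · exact ⟨Classical.arbitrary ι, 0, zero_mem _, map_zero _⟩
    · rintro a b ⟨j, x, hx, rfl⟩ ⟨k, y, hy, rfl⟩
      obtain ⟨l, hjl, hkl⟩ := exists_ge_ge j k
      exact ⟨l, f j l hjl x + f k l hkl y, add_mem (hI j l hjl (Ideal.mem_map_of_mem _ hx))
        (hI k l hkl (Ideal.mem_map_of_mem _ hy)), by rw [map_add, hof, hof]⟩
  have hI' : ∀ i (x : G i), x ∈ I i → of i x ∈ ⨆ i, (I i).map (of i) := fun i x hx =>
    Ideal.mem_iSup_of_mem i (Ideal.mem_map_of_mem _ hx)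
  refine ⟨fun z hz => ?_, fun p hp a₀ ha₀ hd => ?_⟩
  · rw [Ideal.mem_jacobson_bot]
    intro y
    obtain ⟨i, x, hx, rfl⟩ := hmem z hz
    obtain ⟨j, y', rfl⟩ := Ring.DirectLimit.exists_of y
    obtain ⟨l, hil, hjl⟩ := exists_ge_ge i j
    have h1 := Ideal.mem_jacobson_bot.1 ((hh l).jac (hI i l hil (Ideal.mem_map_of_mem _ hx))) (f j l hjl y')
    have h2 := h1.map (of l)
    rwa [map_add, map_mul, map_one, hof, hof] at h2
  obtain ⟨i, q₀, hq₀⟩ := Ring.DirectLimit.Polynomial.exists_of p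
  let n := p.natDegree
  let q : Polynomial (G i) := Polynomial.X ^ n + ∑ k : Fin n, Polynomial.C (q₀.coeff k) * Polynomial.X ^ (k : ℕ)
  have hq : q.Monic := Polynomial.monic_X_pow_add (Polynomial.degree_sum_fin_lt _)
  have hqp : q.map (of i) = p := by
    conv_rhs => rw [hp.as_sum]
    simp only [q, Polynomial.map_add, Polynomial.map_pow, Polynomial.map_X, Polynomial.map_sum,
      Polynomial.map_mul, Polynomial.map_C]
    rw [← Fin.sum_univ_eq_sum_range (fun k => Polynomial.C (p.coeff k) * Polynomial.X ^ k)]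
    congr 1
    refine Finset.sum_congr rfl fun k _ => ?_
    rw [show p.coeff k = of i (q₀.coeff k) from (congrArg (fun r => Polynomial.coeff r (k : ℕ)) hq₀).symm.trans (Polynomial.coeff_map _ _)]
  obtain ⟨i₁, a, rfl⟩ := Ring.DirectLimit.exists_of a₀
  obtain ⟨i₂, x, hx, hxe⟩ := hmem _ ha₀
  obtain ⟨u', hu'⟩ := hd.exists_right_inv
  obtain ⟨u'', rfl⟩ := Ideal.Quotient.mk_surjective u'
  obtain ⟨i₃, u, rfl⟩ := Ring.DirectLimit.exists_of u''
  rw [← map_mul, ← map_one (Ideal.Quotient.mk _), Ideal.Quotient.eq] at hu'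
  obtain ⟨i₄, w, hw, hwe⟩ := hmem _ hu'
  obtain ⟨j₁, hij, hi₁j⟩ := exists_ge_ge i i₁
  obtain ⟨j₂, hj₁₂, hi₂j⟩ := exists_ge_ge j₁ i₂
  obtain ⟨j₃, hj₂₃, hi₃j⟩ := exists_ge_ge j₂ i₃
  obtain ⟨j, hj₃, hi₄j⟩ := exists_ge_ge j₃ i₄
  have hij' : i ≤ j := hij.trans (hj₁₂.trans (hj₂₃.trans hj₃))
  have hi₁j' : i₁ ≤ j := hi₁j.trans (hj₁₂.trans (hj₂₃.trans hj₃))
  have hi₂j' : i₂ ≤ j := hi₂j.trans (hj₂₃.trans hj₃)
  have hi₃j' : i₃ ≤ j := hi₃j.trans hj₃
  set qj := q.map (f i j hij') with hqj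
  set aj := f i₁ j hi₁j' a
  have hqjp : qj.map (of j) = p := by
    rw [hqj, Polynomial.map_map]
    convert hqp using 2
    exact RingHom.ext fun z => hof hij' z
  have heval : ∀ (r : Polynomial (G j)), of j (r.eval aj) = (r.map (of j)).eval (of i₁ a) := fun r => by
    rw [Polynomial.eval_map, show of i₁ a = of j aj from (hof hi₁j' a).symm, Polynomial.eval₂_at_apply]
  have h1 : of j (qj.eval aj - f i₂ j hi₂j' x) = 0 := by
    rw [map_sub, heval, hqjp, hof, hxe, sub_self]
  have h2 : of j (qj.derivative.eval aj * f i₃ j hi₃j' u - 1 - f i₄ j hi₄j w) = 0 := by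
    rw [map_sub, map_sub, map_mul, map_one, heval, ← Polynomial.derivative_map, hqjp, hof, hof, hwe]
    exact sub_self _
  obtain ⟨k₁, hjk₁, hk₁⟩ := hexact h1
  obtain ⟨k₂, hjk₂, hk₂⟩ := hexact h2
  obtain ⟨k, hk₁k, hk₂k⟩ := exists_ge_ge k₁ k₂
  have hjk : j ≤ k := hjk₁.trans hk₁k
  have hff : ∀ {a b c} (hab : a ≤ b) (hbc : b ≤ c) x, f b c hbc (f a b hab x) = f a c (hab.trans hbc) x :=
    fun hab hbc x => DirectedSystem.map_map (f := fun i j h => f i j h) hab hbc x
  have hk1 : f j k hjk (qj.eval aj) = f i₂ k (hi₂j'.trans hjk) x := by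
    have := congrArg (f k₁ k hk₁k) hk₁
    rw [map_zero, hff, map_sub, hff, sub_eq_zero] at this
    exact this
  have hk2 : f j k hjk (qj.derivative.eval aj) * f j k hjk (f i₃ j hi₃j' u) - 1 = f i₄ k (hi₄j.trans hjk) w := by
    have := congrArg (f k₂ k hk₂k) hk₂
    rw [map_zero, hff, map_sub, map_sub, map_mul, map_one, hff hi₄j hjk, sub_eq_zero] at this
    exact this
  have hev : ∀ r : Polynomial (G j), (r.map (f j k hjk)).eval (f j k hjk aj) = f j k hjk (r.eval aj) := fun r => by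
    rw [Polynomial.eval_map, Polynomial.eval₂_at_apply]
  obtain ⟨b, hb, hba⟩ := (hh k).is_henselian (qj.map (f j k hjk)) ((hq.map _).map _) (f j k hjk aj)
    (by rw [hev, hk1]; exact hI _ _ _ (Ideal.mem_map_of_mem _ hx))
    (by
      refine IsUnit.of_mul_eq_one (Ideal.Quotient.mk _ (f j k hjk (f i₃ j hi₃j' u))) ?_
      rw [Polynomial.derivative_map, hev, ← map_mul, ← map_one (Ideal.Quotient.mk (I k)), Ideal.Quotient.eq, hk2]
      exact hI _ _ _ (Ideal.mem_map_of_mem _ hw))
  refine ⟨of k b, ?_, ?_⟩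
  · rw [Polynomial.IsRoot, ← hqjp,
      show of j = (of k).comp (f j k hjk) from RingHom.ext fun z => (hof hjk z).symm, ← Polynomial.map_map,
      Polynomial.eval_map, Polynomial.eval₂_at_apply, hb.eq_zero, map_zero]
  · have := hI' k _ hba
    rwa [map_sub, hof, hof] at this

/-- A directed limit of henselian local rings along local maps. -/
theorem strictlyHenselian_directLimit {ι : Type v} [Preorder ι] [Nonempty ι] [IsDirected ι (· ≤ ·)]
    (G : ι → Type u) [∀ i, CommRing (G i)] [∀ i, HenselianLocalRing (G i)]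
    [∀ i, IsSepClosed (IsLocalRing.ResidueField (G i))]
    (f : ∀ i j, i ≤ j → G i →+* G j) [DirectedSystem G (fun i j h => f i j h)]
    (hf : ∀ i j (h : i ≤ j), IsLocalHom (f i j h)) :
    ∃ _ : HenselianLocalRing (Ring.DirectLimit G (fun i j h => f i j h)),
      IsSepClosed (IsLocalRing.ResidueField (Ring.DirectLimit G (fun i j h => f i j h))) := by
  classical
  let L := Ring.DirectLimit G (fun i j h => f i j h)
  let of := Ring.DirectLimit.of G (fun i j h => f i j h)
  have hof : ∀ {i j} (h : i ≤ j) x, of j (f i j h x) = of i x := fun h x => Ring.DirectLimit.of_f h x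
  haveI hnt : Nontrivial L := by
    refine ⟨⟨0, 1, fun h => ?_⟩⟩
    let i := Classical.arbitrary ι
    have h1 : of i (1 : G i) = 0 := by rw [map_one]; exact h.symm
    obtain ⟨j, hij, hj⟩ := Ring.DirectLimit.of.zero_exact h1
    rw [map_one] at hj
    exact one_ne_zero hj
  have hlocal : ∀ i, IsLocalHom (of i) := fun i => ⟨fun a ha => by
    obtain ⟨b, hb⟩ := ha.exists_right_inv
    obtain ⟨j, b', rfl⟩ := Ring.DirectLimit.exists_of b
    obtain ⟨l, hil, hjl⟩ := exists_ge_ge i j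
    have h1 : of l (f i l hil a * f j l hjl b' - 1) = 0 := by
      rw [map_sub, map_mul, map_one, hof, hof]; exact sub_eq_zero.2 hb
    obtain ⟨m, hlm, hm⟩ := Ring.DirectLimit.of.zero_exact h1
    rw [map_sub, map_mul, map_one, sub_eq_zero] at hm
    have h2 : IsUnit (f l m hlm (f i l hil a)) := IsUnit.of_mul_eq_one _ hm
    haveI := hf i l hil
    haveI := hf l m hlm
    exact (h2.of_map _).of_map _⟩
  haveI : IsLocalRing L := IsLocalRing.of_isUnit_or_isUnit_one_sub_self fun x => by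
    obtain ⟨i, a, rfl⟩ := Ring.DirectLimit.exists_of x
    rcases IsLocalRing.isUnit_or_isUnit_one_sub_self a with h | h
    · exact Or.inl (h.map _)
    · right
      have := h.map (of i)
      rwa [map_sub, map_one] at this
  have hpair := henselianRing_directLimit G f (fun i => IsLocalRing.maximalIdeal (G i)) (fun i j h => by
      rw [Ideal.map_le_iff_le_comap]
      intro x hx
      haveI := hf i j h
      exact map_nonunit (f i j h) x hx) fun i => inferInstance
  have heq : (⨆ i, (IsLocalRing.maximalIdeal (G i)).map (of i)) = IsLocalRing.maximalIdeal L := by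
    refine le_antisymm (iSup_le fun i => Ideal.map_le_iff_le_comap.2 fun x hx => ?_) fun x hx => ?_
    · haveI := hlocal i
      exact map_nonunit (of i) x hx
    · obtain ⟨i, a, rfl⟩ := Ring.DirectLimit.exists_of x
      refine Ideal.mem_iSup_of_mem i (Ideal.mem_map_of_mem _ ?_)
      rw [IsLocalRing.mem_maximalIdeal, mem_nonunits_iff] at hx ⊢
      exact fun h => hx (h.map _)
  have hL : HenselianLocalRing L := ⟨fun p hp a₀ h₁ h₂ => by
    haveI := hpair
    obtain ⟨a, ha, haa⟩ := hpair.is_henselian p hp a₀ (heq.ge h₁) (h₂.map _)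
    exact ⟨a, ha, heq.le haa⟩⟩
  refine ⟨hL, IsSepClosed.of_exists_root _ fun p hp hirr hsep => ?_⟩
  obtain ⟨q, hq, -, hqm⟩ := lifts_and_degree_eq_and_monic
    ((lifts_iff_coeff_lifts p).2 fun n => IsLocalRing.residue_surjective (p.coeff n)) hp
  obtain ⟨i, q₀, hq₀⟩ := Ring.DirectLimit.Polynomial.exists_of q
  haveI := hlocal i
  let κi := IsLocalRing.ResidueField (G i)
  let p₀ : κi[X] := q₀.map (IsLocalRing.residue (G i))
  have hp₀ : p₀.map (IsLocalRing.ResidueField.map (of i)) = p := by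
    rw [Polynomial.map_map, IsLocalRing.ResidueField.map_comp_residue, ← Polynomial.map_map, ← hq, ← hq₀]
  have hsep₀ : p₀.Separable := (Polynomial.separable_map (IsLocalRing.ResidueField.map (of i))).1 (hp₀ ▸ hsep)
  have hdeg : p₀.degree ≠ 0 := by
    have h1 := hirr.degree_pos
    rw [← hp₀, Polynomial.degree_map] at h1
    exact h1.ne'
  obtain ⟨x, hx⟩ := IsSepClosed.exists_root p₀ hdeg hsep₀
  refine ⟨IsLocalRing.ResidueField.map (of i) x, ?_⟩
  rw [← hp₀, Polynomial.eval_map, Polynomial.eval₂_at_apply, hx.eq_zero, map_zero]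

end Groth.Agent.Hensel
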