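import Mathlib
import Groth.Agent.InjFibre.Loc

/-!
Open loci containing `V(J)` spread to an étale neighbourhood of `V(J)`.
-/

set_option autoImplicit false

namespace Groth.Agent.Hensel

universe u

variable {R : Type u} [CommRing R]

/-- An open set containing `V(J)` contains a basic open of an element congruent to one. -/
theorem exists_sub_one_mem_basicOpen_subset (J : Ideal R) {U : Set (PrimeSpectrum R)} (hU : IsOpen U)
    (h : ∀ p : PrimeSpectrum R, J ≤ p.asIdeal → p ∈ U) :
    ∃ g : R, g - 1 ∈ J ∧ ∀ p : PrimeSpectrum R, g ∉ p.asIdeal → p ∈ U := by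
  obtain ⟨K, hK⟩ := (PrimeSpectrum.isClosed_iff_zeroLocus_ideal Uᶜ).1 hU.isClosed_compl
  have htop : K ⊔ J = ⊤ := by
    by_contra hne
    obtain ⟨m, hm, hle⟩ := Ideal.exists_le_maximal _ hne
    let p : PrimeSpectrum R := ⟨m, hm.isPrime⟩
    have h1 : p ∈ Uᶜ := by
      rw [hK, PrimeSpectrum.mem_zeroLocus]
      exact SetLike.coe_subset_coe.2 ((le_sup_left : K ≤ K ⊔ J).trans hle)
    exact h1 (h p (le_sup_right.trans hle))
  obtain ⟨k, hk, j, hj, hkj⟩ := Submodule.mem_sup.1 ((Ideal.eq_top_iff_one _).1 htop)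
  refine ⟨k, ?_, fun p hp => ?_⟩
  · rw [← hkj, sub_add_cancel_left]
    exact J.neg_mem hj
  · by_contra hpU
    have h1 : p ∈ Uᶜ := hpU
    rw [hK, PrimeSpectrum.mem_zeroLocus] at h1
    exact hp (h1 hk)

theorem sub_one_mem_pow (J : Ideal R) {g : R} (hg : g - 1 ∈ J) (n : ℕ) : g ^ n - 1 ∈ J := by
  have h : (Ideal.Quotient.mk J) g = 1 := by
    rw [← map_one (Ideal.Quotient.mk J), Ideal.Quotient.eq]; exact hg
  rw [← Ideal.Quotient.eq, map_pow, h, one_pow, map_one]

/-- Inverting an element congruent to one does not change the quotient. -/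
theorem bijective_quotientMap_away (J : Ideal R) {g : R} (hg : g - 1 ∈ J) :
    Function.Bijective (Ideal.quotientMap (J.map (algebraMap R (Localization.Away g)))
      (algebraMap R (Localization.Away g)) Ideal.le_comap_map) := by
  refine ⟨Ideal.quotientMap_injective' fun r hr => ?_, fun y => ?_⟩
  · obtain ⟨⟨⟨a, ha⟩, ⟨_, n, rfl⟩⟩, hx⟩ := (IsLocalization.mem_map_algebraMap_iff (Submonoid.powers g) _).1 (Ideal.mem_comap.1 hr)
    dsimp only at hx
    rw [← map_mul] at hx
    obtain ⟨⟨_, m, rfl⟩, hm⟩ := (IsLocalization.eq_iff_exists (Submonoid.powers g) _).1 hx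
    dsimp only at hm
    have h1 : g ^ m * g ^ n * r ∈ J := by
      rw [mul_assoc, mul_comm (g ^ n), hm]
      exact J.mul_mem_left _ ha
    have h2 : r = g ^ (m + n) * r - (g ^ (m + n) - 1) * r := by ring
    rw [h2]
    exact J.sub_mem (by rw [pow_add]; exact h1) (J.mul_mem_right _ (sub_one_mem_pow J hg _))
  · obtain ⟨z, rfl⟩ := Ideal.Quotient.mk_surjective y
    obtain ⟨x, ⟨_, n, rfl⟩, rfl⟩ := IsLocalization.exists_mk'_eq (Submonoid.powers g) z
    refine ⟨Ideal.Quotient.mk _ x, ?_⟩
    rw [Ideal.quotientMap_mk, Ideal.Quotient.eq]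
    let z := IsLocalization.mk' (Localization.Away g) x (⟨g ^ n, n, rfl⟩ : Submonoid.powers g)
    have h1 : algebraMap R (Localization.Away g) (g ^ n - 1) * z ∈ J.map (algebraMap R _) :=
      Ideal.mul_mem_right _ _ (Ideal.mem_map_of_mem _ (sub_one_mem_pow J hg n))
    have h2 : z * algebraMap R (Localization.Away g) (g ^ n) = algebraMap R _ x := IsLocalization.mk'_spec _ _ _
    convert h1 using 1
    rw [map_sub, map_one, sub_mul, one_mul, mul_comm (algebraMap R _ (g ^ n)) z, h2]

variable {A : Type u} [CommRing A] [Algebra A R]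

/-- Flatness on a basic open from flatness at its points. -/
theorem flat_away (g : R) (h : ∀ p : PrimeSpectrum R, g ∉ p.asIdeal →
    Module.Flat A (LocalizedModule p.asIdeal.primeCompl R)) : Module.Flat A (Localization.Away g) := by
  haveI : Module.Flat A (LocalizedModule (Submonoid.powers g) R) :=
    (Groth.Agent.InjFibre.flat_localized_comap_iff (A := A) (B := R) (C := R) (M := R) (Submonoid.powers g)).2
      fun r hr => h r (hr g (Submonoid.mem_powers g))
  exact Module.Flat.of_linearEquiv ((IsLocalizedModule.iso (Submonoid.powers g)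
    (Algebra.linearMap R (Localization.Away g))).restrictScalars A).symm

/-- The quasi-finite locus is open, witnessed by quasi-finite basic opens. -/
theorem exists_quasiFinite_away [Algebra.FiniteType A R] (p : Ideal R) [p.IsPrime] [Algebra.QuasiFiniteAt A p] :
    ∃ g : R, g ∉ p ∧ Algebra.QuasiFinite A (Localization.Away g) := by
  haveI : Algebra.WeaklyQuasiFiniteAt A p := inferInstance
  obtain ⟨S', hS', r, hrp, H⟩ := Algebra.QuasiFiniteAt.exists_fg_and_exists_notMem_and_awayMap_bijective (R := A) p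
  haveI : Module.Finite A S' := ⟨(Submodule.fg_top _).mpr hS'⟩
  haveI : Algebra.QuasiFinite A (Localization.Away r) := .trans A S' _
  exact ⟨r.1, hrp, .of_surjective_algHom (Localization.awayMapₐ S'.val r) H.2⟩

/-- Quasi-finite at every prime implies quasi-finite. -/
theorem quasiFinite_of_forall_quasiFiniteAt [Algebra.FiniteType A R]
    (h : ∀ q : PrimeSpectrum R, Algebra.QuasiFiniteAt A q.asIdeal) : Algebra.QuasiFinite A R := by
  refine Algebra.QuasiFinite.iff_finite_comap_preimage_singleton.2 fun x => ?_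
  haveI : CompactSpace (PrimeSpectrum.comap (algebraMap A R) ⁻¹' {x}) :=
    (PrimeSpectrum.preimageHomeomorphFiber A R x).symm.compactSpace
  haveI : DiscreteTopology (PrimeSpectrum.comap (algebraMap A R) ⁻¹' {x}) :=
    discreteTopology_iff_isOpen_singleton.2 fun a => by
      obtain ⟨a, rfl⟩ := a
      haveI := h a
      exact (Algebra.quasiFiniteAt_iff_isOpen_singleton_fiber a).1 inferInstance
  exact Set.finite_coe_iff.1 finite_of_compact_of_discrete

end Groth.Agent.Hensel
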