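import Mathlib
import Groth.Agent.Hensel.SpreadNbhd
import Groth.Agent.Hensel.Idempotent
import Groth.Agent.FibCrit.Tools

/-!
An algebra which is finite modulo the ideal of a henselian pair is finite near the closed locus.
-/

set_option autoImplicit false

namespace Groth.Agent.Hensel

universe u

open scoped TensorProduct

variable {A : Type u} [CommRing A] (K : Ideal A) {R : Type u} [CommRing R] [Algebra A R]

/-- Finite modulo `K` implies quasi-finite along `V(KR)`. -/
theorem quasiFiniteAt_of_quotient [Algebra.FiniteType A R] [Module.Finite (A ⧸ K) (R ⧸ K.map (algebraMap A R))]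
    (p : Ideal R) [p.IsPrime] (hp : K.map (algebraMap A R) ≤ p) : Algebra.QuasiFiniteAt A p := by
  let q := p.under A
  let κ := q.ResidueField
  have hK : ∀ a ∈ K, algebraMap A κ a = 0 := fun a ha => by
    rw [← RingHom.mem_ker, Ideal.ker_algebraMap_residueField]
    exact hp (Ideal.mem_map_of_mem _ ha)
  letI : Algebra (A ⧸ K) κ := (Ideal.Quotient.lift K (algebraMap A κ) hK).toAlgebra
  haveI : IsScalarTower A (A ⧸ K) κ := IsScalarTower.of_algebraMap_eq fun _ => rfl
  haveI : Algebra.IsPushout A (A ⧸ K) R (R ⧸ K.map (algebraMap A R)) := Groth.Agent.FibCrit.isPushout_quot K rfl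
  let e : (R ⧸ K.map (algebraMap A R)) ≃ₐ[A ⧸ K] (A ⧸ K) ⊗[A] R :=
    (Algebra.IsPushout.equiv A (A ⧸ K) R (R ⧸ K.map (algebraMap A R))).symm
  haveI : Module.Finite (A ⧸ K) ((A ⧸ K) ⊗[A] R) := Module.Finite.equiv e.toLinearEquiv
  haveI : Module.Finite κ (κ ⊗[A ⧸ K] ((A ⧸ K) ⊗[A] R)) := inferInstance
  haveI : Module.Finite q.ResidueField (q.Fiber R) :=
    Module.Finite.equiv (Algebra.TensorProduct.cancelBaseChange A (A ⧸ K) κ κ R).toLinearEquiv
  haveI : Algebra.QuasiFinite q.ResidueField (q.Fiber R) := inferInstance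
  let x : PrimeSpectrum.comap (algebraMap A R) ⁻¹' {⟨q, inferInstance⟩} := ⟨⟨p, inferInstance⟩, rfl⟩
  let e' := PrimeSpectrum.preimageHomeomorphFiber A R ⟨q, inferInstance⟩
  haveI : Algebra.QuasiFiniteAt q.ResidueField (e' x).asIdeal :=
    Algebra.QuasiFinite.of_isLocalization (e' x).asIdeal.primeCompl
  exact Algebra.QuasiFiniteAt.of_quasiFiniteAt_residueField q p (e' x).asIdeal
    congr($(e'.symm_apply_apply x).1.asIdeal)

/-- An algebra finite modulo `K` over a henselian pair has a finite neighbourhood of `V(K)`. -/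
theorem exists_finite_nhd [HenselianRing A K] [Algebra.FiniteType A R]
    [Module.Finite (A ⧸ K) (R ⧸ K.map (algebraMap A R))] :
    ∃ e : R, e - 1 ∈ K.map (algebraMap A R) ∧ Module.Finite A (Localization.Away e) := by
  classical
  let C := integralClosure A R
  haveI : Algebra.IsIntegral A C := inferInstance
  let ι : C →+* R := algebraMap C R
  let JC : Ideal C := K.map (algebraMap A C)
  let Q := R ⧸ K.map (algebraMap A R)
  have hιJ : JC.map ι = K.map (algebraMap A R) := by
    rw [Ideal.map_map, ← IsScalarTower.algebraMap_eq]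
  let Good : C → Prop := fun f => ∀ x : R, ∃ (m : ℕ) (c : C), ι c = ι f ^ m * x
  have hqf : ∀ q : Ideal R, q.IsPrime → K.map (algebraMap A R) ≤ q → ∃ f : C, Good f ∧ ι f ∉ q := fun q hq hle => by
    haveI := quasiFiniteAt_of_quotient K q hle
    obtain ⟨r, hrq, hr, hx⟩ := Algebra.zariskisMainProperty_iff.1 (Algebra.ZariskisMainProperty.of_finiteType (R := A) q)
    exact ⟨⟨r, hr⟩, fun x => (hx x).elim fun m hm => ⟨m, ⟨_, hm⟩, rfl⟩, hrq⟩
  have hover : ∀ (P : Ideal C) (f : C), P.IsPrime → Good f → f ∉ P → ∃ q : Ideal R, q.IsPrime ∧ q.comap ι = P := by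
    intro P f hP hf hfP
    refine (Ideal.comap_map_eq_self_iff_of_isPrime P).1 (le_antisymm (fun c hc => ?_) Ideal.le_comap_map)
    have key : ∀ y ∈ P.map ι, ∃ (m : ℕ) (p : C), p ∈ P ∧ ι p = ι f ^ m * y := by
      intro y hy
      induction hy using Submodule.span_induction with
      | mem y hy =>
        obtain ⟨p, hp, rfl⟩ := hy
        exact ⟨0, p, hp, by simp⟩
      | zero => exact ⟨0, 0, P.zero_mem, by simp⟩
      | add y z _ _ hy hz =>
        obtain ⟨m, p, hp, hpy⟩ := hy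
        obtain ⟨n, p', hp', hpz⟩ := hz
        exact ⟨m + n, f ^ n * p + f ^ m * p', P.add_mem (P.mul_mem_left _ hp) (P.mul_mem_left _ hp'),
          by simp only [map_add, map_mul, map_pow, hpy, hpz, pow_add]; ring⟩
      | smul r y _ hy =>
        obtain ⟨m, p, hp, hpy⟩ := hy
        obtain ⟨n, d, hd⟩ := hf r
        exact ⟨n + m, d * p, P.mul_mem_left _ hp, by rw [map_mul, hd, hpy, smul_eq_mul, pow_add]; ring⟩
    obtain ⟨m, p, hp, hpc⟩ := key _ hc
    rw [← map_pow, ← map_mul] at hpc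
    have h1 : p = f ^ m * c := Subtype.val_injective hpc
    exact (hP.mem_or_mem (h1 ▸ hp)).resolve_left fun h => hfP (hP.mem_of_pow_mem m h)
  haveI : Module.Finite A Q := Module.Finite.trans (A ⧸ K) Q
  haveI : Algebra.IsIntegral C Q := Algebra.IsIntegral.tower_top A
  let 𝔨 : Ideal C := RingHom.ker (algebraMap C Q)
  have h𝔨 : ∀ c, c ∈ 𝔨 ↔ ι c ∈ K.map (algebraMap A R) := fun c => Ideal.Quotient.eq_zero_iff_mem
  let 𝔡 : Ideal C := Ideal.span {f | Good f}
  have htop : 𝔨 ⊔ 𝔡 = ⊤ := by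
    by_contra hne
    obtain ⟨M, hM, hle⟩ := Ideal.exists_le_maximal _ hne
    obtain ⟨q', -, hq'p, hq'⟩ := Ideal.exists_ideal_over_prime_of_isIntegral M (⊥ : Ideal Q)
      ((le_sup_left : 𝔨 ≤ 𝔨 ⊔ 𝔡).trans hle)
    have hle' : K.map (algebraMap A R) ≤ q'.comap (Ideal.Quotient.mk _) := fun x hx => by
      rw [Ideal.mem_comap, Ideal.Quotient.eq_zero_iff_mem.2 hx]
      exact q'.zero_mem
    obtain ⟨f, hf, hfq⟩ := hqf _ (Ideal.IsPrime.comap _) hle'
    exact hfq (Ideal.mem_comap.1 (hq'.symm ▸ hle (Ideal.mem_sup_right (Ideal.subset_span hf)) : f ∈ q'.comap (algebraMap C Q)))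
  obtain ⟨k, hk, d, hd, hkd⟩ := Submodule.mem_sup.1 ((Ideal.eq_top_iff_one _).1 htop)
  have hnil : k * d ∈ JC.radical := by
    rw [Ideal.radical_eq_sInf, Ideal.mem_sInf]
    rintro P ⟨hJP, hP⟩
    by_cases h : ∃ f, Good f ∧ f ∉ P
    · obtain ⟨f, hf, hfP⟩ := h
      obtain ⟨q, hq, hqP⟩ := hover P f hP hf hfP
      have hKq : K.map (algebraMap A R) ≤ q := by
        rw [← hιJ, Ideal.map_le_iff_le_comap, hqP]
        exact hJP
      refine P.mul_mem_right _ ?_
      rw [← hqP]
      exact hKq ((h𝔨 k).1 hk)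
    · push_neg at h
      exact P.mul_mem_left _ (Ideal.span_le.2 (fun f hf => h f hf) hd)
  obtain ⟨n, hn⟩ := hnil
  obtain ⟨u, v, huv⟩ : IsCoprime (k ^ (n + 1)) (d ^ (n + 1)) := IsCoprime.pow ⟨1, 1, by rw [one_mul, one_mul, hkd]⟩
  let b := v * d ^ (n + 1)
  have hbJ : b * b - b ∈ JC := by
    have h1 : b * b - b = -(u * v * (k * d)) * (k * d) ^ n := by
      have h2 : b - 1 = -(u * k ^ (n + 1)) := by rw [← huv]; simp only [b]; ring
      calc b * b - b = b * (b - 1) := by ring
        _ = _ := by rw [h2]; simp only [b, mul_pow, pow_succ]; ring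
    rw [h1]
    exact JC.mul_mem_left _ hn
  obtain ⟨e, he, heb⟩ := exists_idempotent_lift (A := A) (I := K) b hbJ
  refine ⟨ι e, ?_, ?_⟩
  · have hb1 : b - 1 ∈ 𝔨 := by
      rw [show b - 1 = -(u * k ^ (n + 1)) by rw [← huv]; simp only [b]; ring]
      exact 𝔨.neg_mem (𝔨.mul_mem_left _ (𝔨.pow_mem_of_mem hk _ n.succ_pos))
    have h1 : ι (e - b) ∈ K.map (algebraMap A R) := by rw [← hιJ]; exact Ideal.mem_map_of_mem ι heb
    have h2 : ι e - 1 = ι (e - b) + ι (b - 1) := by rw [map_sub, map_sub, map_one]; ring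
    rw [h2]
    exact Ideal.add_mem _ h1 ((h𝔨 _).1 hb1)
  have hjac : JC ≤ Ideal.jacobson ⊥ := map_le_jacobson (HenselianRing.jac (I := K))
  have key : ∀ x : R, ∃ c : C, ι c = ι e * x := by
    intro x
    let 𝔞 : Ideal C :=
      { carrier := {c | ∃ c', ι c' = ι c * x}
        zero_mem' := ⟨0, by simp⟩
        add_mem' := fun {a b} ⟨a', ha⟩ ⟨b', hb⟩ => ⟨a' + b', by rw [map_add, ha, hb, map_add, add_mul]⟩
        smul_mem' := fun c a ⟨a', ha⟩ => ⟨c * a', by rw [map_mul, ha, smul_eq_mul, map_mul, mul_assoc]⟩ }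
    have h1 : 𝔞 ⊔ Ideal.span {1 - e} = ⊤ := by
      by_contra hne
      obtain ⟨M, hM, hle⟩ := Ideal.exists_le_maximal _ hne
      have hJM : JC ≤ M := hjac.trans (sInf_le ⟨bot_le, hM⟩)
      have hdM : 𝔡 ≤ M := Ideal.span_le.2 fun f hf => by
        obtain ⟨m, c, hc⟩ := hf x
        exact hM.isPrime.mem_of_pow_mem m (hle (Ideal.mem_sup_left (⟨c, by rw [map_pow, hc]⟩ : f ^ m ∈ 𝔞)))
      have heM : e ∈ M := by
        have := M.add_mem (hJM heb) (M.mul_mem_left v (Ideal.pow_mem_of_mem _ (hdM hd) (n + 1) n.succ_pos))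
        simpa [b] using this
      exact hM.ne_top ((Ideal.eq_top_iff_one M).2
        (by simpa using M.add_mem heM (hle (Ideal.mem_sup_right (Ideal.mem_span_singleton_self _)))))
    obtain ⟨a, ⟨a', ha'⟩, c, hc, hac⟩ := Submodule.mem_sup.1 ((Ideal.eq_top_iff_one _).1 h1)
    obtain ⟨r, rfl⟩ := Ideal.mem_span_singleton'.1 hc
    refine ⟨e * a', ?_⟩
    have h2 : e * a = e := by
      have := congrArg (e * ·) hac
      simp only [mul_add, mul_one] at this
      rw [show e * (r * (1 - e)) = r * (e - e * e) by ring, he.eq, sub_self, mul_zero, add_zero] at this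
      exact this
    rw [map_mul, ha', ← mul_assoc, ← map_mul, h2]
  let R' := Localization.Away (ι e)
  have he1 : algebraMap R R' (ι e) = 1 := by
    have hu : IsUnit (algebraMap R R' (ι e)) := IsLocalization.Away.algebraMap_isUnit _
    refine hu.mul_left_injective ?_
    dsimp only
    rw [one_mul, ← map_mul, ← map_mul, he.eq]
  haveI : Algebra.IsIntegral A R' := ⟨fun z => by
    obtain ⟨x, ⟨_, m, rfl⟩, rfl⟩ := IsLocalization.exists_mk'_eq (Submonoid.powers (ι e)) z
    obtain ⟨c, hc⟩ := key x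
    have hz : IsLocalization.mk' R' x (⟨ι e ^ m, m, rfl⟩ : Submonoid.powers (ι e)) = algebraMap C R' c := by
      rw [IsLocalization.mk'_eq_iff_eq_mul, IsScalarTower.algebraMap_apply C R R',
        show algebraMap C R c = ι c from rfl, hc, map_mul, map_pow, he1, one_pow, mul_one, one_mul]
    rw [hz]
    exact IsIntegral.map (IsScalarTower.toAlgHom A C R') (Algebra.IsIntegral.isIntegral c)⟩
  haveI : Algebra.FiniteType A R' := Algebra.FiniteType.trans (S := R) inferInstance inferInstance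
  exact Algebra.IsIntegral.finite

end Groth.Agent.Hensel
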