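import Mathlib
import Groth.Agent.EtLiftLib.Projective

/-!
Lifting a smooth algebra over `A/I` to a smooth algebra over `A`.
-/

set_option autoImplicit false

namespace Groth.Agent.Hensel

universe u

open scoped TensorProduct
open MvPolynomial

/-- For a smooth algebra the kernel of a presentation is split by explicit elements. -/
theorem exists_kernel_splitting {R C : Type u} [CommRing R] [CommRing C] [Algebra R C] [Algebra.Smooth R C] {n : ℕ}
    (π : MvPolynomial (Fin n) R →ₐ[R] C) (hπ : Function.Surjective π) :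
    ∃ g : Fin n → MvPolynomial (Fin n) R, (∀ i, π (g i) = 0) ∧
      ∀ x, π x = 0 → x - ∑ i, pderiv i x * g i ∈ RingHom.ker π.toRingHom ^ 2 := by
  set K := RingHom.ker π.toRingHom with hKdef
  let P := MvPolynomial (Fin n) R
  let p : (P ⧸ K ^ 2) →ₐ[R] C := Ideal.Quotient.liftₐ (K ^ 2) π fun x hx => Ideal.pow_le_self two_ne_zero hx
  have hpsurj : Function.Surjective p := fun c => by
    obtain ⟨x, rfl⟩ := hπ c
    exact ⟨Ideal.Quotient.mk _ x, rfl⟩
  obtain ⟨sec, hsec⟩ : ∃ sec : C →ₐ[R] P ⧸ K ^ 2, p.comp sec = AlgHom.id R C := by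
    refine ⟨Algebra.FormallySmooth.liftOfSurjective (AlgHom.id R C) p hpsurj ?_, Algebra.FormallySmooth.comp_liftOfSurjective _ _ _ _⟩
    refine ⟨2, ?_⟩
    rw [Ideal.zero_eq_bot, eq_bot_iff]
    refine (Ideal.pow_right_mono (I := RingHom.ker p) (J := K.map (Ideal.Quotient.mk (K ^ 2))) (fun y hy => ?_) 2).trans ?_
    · obtain ⟨z, rfl⟩ := Ideal.Quotient.mk_surjective y
      exact Ideal.mem_map_of_mem _ hy
    · rw [← Ideal.map_pow, Ideal.map_quotient_self]
  choose s hs using fun i => Ideal.Quotient.mk_surjective (sec (π (X i)))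
  let θ : P →ₐ[R] P := aeval s
  have hθ : ∀ x, Ideal.Quotient.mk (K ^ 2) (θ x) = sec (π x) := fun x => by
    have : (Ideal.Quotient.mkₐ R (K ^ 2)).comp θ = sec.comp π := MvPolynomial.algHom_ext fun i => by
      simp only [AlgHom.comp_apply, θ, aeval_X, Ideal.Quotient.mkₐ_eq_mk, hs]
    exact AlgHom.congr_fun this x
  let g : Fin n → P := fun i => X i - s i
  have hgK : ∀ i, g i ∈ K := fun i => by
    change π (X i - s i) = 0
    rw [map_sub, sub_eq_zero]
    have := congrArg p (hs i)
    rw [← AlgHom.comp_apply p sec, hsec] at this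
    exact this.symm
  have hT : ∀ x : P, θ x - x + ∑ i, pderiv i x * g i ∈ K ^ 2 := fun x => by
    induction x using MvPolynomial.induction_on with
    | C a =>
      have : θ (MvPolynomial.C a) = MvPolynomial.C a := θ.commutes a
      simp [this]
    | add x y hx hy =>
      have := (K ^ 2).add_mem hx hy
      convert this using 1
      simp only [map_add, add_mul, Finset.sum_add_distrib]
      ring
    | mul_X x j hx =>
      have h1 : θ x - x ∈ K := by
        have := K.sub_mem (Ideal.pow_le_self two_ne_zero hx) (K.sum_mem (t := Finset.univ) fun i _ => K.mul_mem_left (pderiv i x) (hgK i))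
        rwa [add_sub_cancel_right] at this
      have h2 : (θ x - x) * (θ (X j) - X j) ∈ K ^ 2 := by
        rw [sq]
        refine Ideal.mul_mem_mul h1 ?_
        have := K.neg_mem (hgK j)
        rwa [neg_sub, ← aeval_X (R := R) s j] at this
      have h3 : ∑ i, pderiv i (x * X j) * g i = X j * (∑ i, pderiv i x * g i) + x * g j := by
        rw [Finset.sum_congr rfl fun i _ => by rw [Derivation.leibniz, smul_eq_mul, smul_eq_mul, pderiv_X, add_mul]]
        rw [Finset.sum_add_distrib, Finset.mul_sum, add_comm]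
        congr 1
        · exact Finset.sum_congr rfl fun i _ => by ring
        · simp [Pi.single_apply, mul_assoc]
      have := (K ^ 2).add_mem h2 (Ideal.mul_mem_left _ (X j) hx)
      have hθX : θ (X j) = s j := aeval_X (R := R) s j
      rw [hθX] at this
      convert this using 1
      rw [h3, map_mul, hθX, show g j = X j - s j from rfl]
      ring
  refine ⟨g, fun i => hgK i, fun x hx => ?_⟩
  have h1 : θ x ∈ K ^ 2 := Ideal.Quotient.eq_zero_iff_mem.1 (by rw [hθ, hx, map_zero])
  have := (K ^ 2).sub_mem h1 (hT x)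
  convert this using 1
  ring

/-- Derivations extend along formally étale algebras. -/
theorem exists_derivation_extend {A P Q : Type u} [CommRing A] [CommRing P] [CommRing Q] [Algebra A P] [Algebra P Q]
    [Algebra A Q] [IsScalarTower A P Q] [Algebra.FormallyEtale P Q] (L : Derivation A P P) :
    ∃ L' : Derivation A Q Q, ∀ z, L' (algebraMap P Q z) = algebraMap P Q (L z) := by
  let e := KaehlerDifferential.tensorKaehlerEquivOfFormallyEtale A P Q
  let l : Ω[P⁄A] →ₗ[P] Q := (Algebra.linearMap P Q).comp L.liftKaehlerDifferential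
  let m : Ω[Q⁄A] →ₗ[Q] Q := (LinearMap.liftBaseChange Q l).comp e.symm.toLinearMap
  refine ⟨m.compDer (KaehlerDifferential.D A Q), fun z => ?_⟩
  change LinearMap.liftBaseChange Q l (e.symm (KaehlerDifferential.D A Q (algebraMap P Q z))) = _
  rw [KaehlerDifferential.tensorKaehlerEquivOfFormallyEtale_symm_D_algebraMap, LinearMap.liftBaseChange_tmul, one_smul]
  exact congrArg (algebraMap P Q) (Derivation.liftKaehlerDifferential_comp_D L z)

/-- A criterion for smoothness of a quotient by the coordinates of a section of the image of an idempotent. -/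
theorem smooth_quotient_of_idempotent {A P : Type u} [CommRing A] [CommRing P] [Algebra A P] [Algebra.Smooth A P]
    {n : ℕ} (h : Fin n → P) (e : Matrix (Fin n) (Fin n) P) (he : e * e = e) (heh : e.mulVec h = h)
    (L : Fin n → Derivation A P P)
    (hU : IsUnit (Ideal.Quotient.mk (Ideal.span (Set.range h))
      ((Matrix.of fun i k => L k (h i)) * e + (1 - e)).det)) :
    Algebra.Smooth A (P ⧸ Ideal.span (Set.range h)) := by
  classical
  let H := Ideal.span (Set.range h)
  let Q := P ⧸ H
  haveI : Algebra.FinitePresentation A Q :=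
    Algebra.FinitePresentation.quotient (Submodule.fg_span (Set.finite_range h))
  refine ⟨(Algebra.FormallySmooth.iff_split_injection (R := A) (P := P) (A := Q) Ideal.Quotient.mk_surjective).2 ?_, inferInstance⟩
  let K := RingHom.ker (algebraMap P Q)
  have hKH : K = H := Ideal.mk_ker
  have hhK : ∀ i, h i ∈ K := fun i => hKH ▸ Ideal.subset_span (Set.mem_range_self i)
  have hkill : ∀ p ∈ K, ∀ z : K.Cotangent, p • z = 0 := fun p hp z => by
    obtain ⟨y, rfl⟩ := Ideal.toCotangent_surjective _ z
    rw [← map_smul, Ideal.toCotangent_eq_zero, sq]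
    exact Ideal.mul_mem_mul hp y.2
  let q : P →+* Q := Ideal.Quotient.mk H
  let M : Matrix (Fin n) (Fin n) P := Matrix.of fun i k => L k (h i)
  have hM : M.map q = e.map q * M.map q := by
    refine Matrix.ext fun i k => ?_
    simp only [Matrix.map_apply, Matrix.mul_apply]
    change q (L k (h i)) = _
    conv_lhs => rw [← heh]
    simp only [Matrix.mulVec, dotProduct, map_sum, Derivation.leibniz, smul_eq_mul, map_add, map_mul]
    refine Finset.sum_congr rfl fun j _ => ?_
    rw [show q (h j) = 0 from Ideal.Quotient.eq_zero_iff_mem.2 (Ideal.subset_span (Set.mem_range_self j)), zero_mul, add_zero]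
    rfl
  let U : Matrix (Fin n) (Fin n) Q := M.map q * e.map q + (1 - e.map q)
  have hUdet : IsUnit U.det := by
    have hU' : U = (M * e + (1 - e)).map q := by
      rw [← RingHom.mapMatrix_apply, map_add, map_mul, map_sub, map_one]
      rfl
    rw [hU', ← RingHom.mapMatrix_apply, ← RingHom.map_det]
    exact hU
  have heq : e.map q * e.map q = e.map q := by rw [← Matrix.map_mul, he]
  have h1 : M.map q * e.map q = e.map q * U := by
    rw [show e.map q * U = e.map q * (M.map q * e.map q) + e.map q * (1 - e.map q) from mul_add _ _ _, ← mul_assoc,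
      ← hM, mul_sub, mul_one, heq, sub_self, add_zero]
  choose Cm hCm using fun i j => Ideal.Quotient.mk_surjective ((e.map q * U⁻¹) i j)
  have hMC : ∀ i j, ∑ k, M i k * Cm k j - e i j ∈ K := fun i j => by
    rw [hKH, ← Ideal.Quotient.eq_zero_iff_mem, map_sub, map_sum, sub_eq_zero]
    have h2 : M.map q * (e.map q * U⁻¹) = e.map q := by
      rw [← mul_assoc, h1, mul_assoc, Matrix.mul_nonsing_inv U hUdet, mul_one]
    have h3 := congrFun (congrFun h2 i) j
    simp only [Matrix.mul_apply, Matrix.map_apply] at h3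
    rw [← h3]
    refine Finset.sum_congr rfl fun k _ => ?_
    rw [map_mul, hCm, Matrix.mul_apply]
    rfl
  let v : Fin n → K.Cotangent := fun j => K.toCotangent ⟨h j, hhK j⟩
  let ψ : Ω[P⁄A] →ₗ[P] K.Cotangent :=
    ∑ k, (L k).liftKaehlerDifferential.smulRight (∑ j, Cm k j • v j)
  let β : Q →ₗ[P] Ω[P⁄A] →ₗ[P] K.Cotangent :=
    Submodule.liftQ H (LinearMap.toSpanSingleton P _ ψ) fun p hp => by
      rw [LinearMap.mem_ker, LinearMap.toSpanSingleton_apply]
      exact LinearMap.ext fun ω => hkill p (hKH ▸ hp) _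
  let l : Q ⊗[P] Ω[P⁄A] →ₗ[P] K.Cotangent := TensorProduct.lift β
  have hβ : ∀ ω, β (1 : Q) ω = ψ ω := fun ω => by
    change ((1 : P) • ψ) ω = ψ ω
    rw [one_smul]
  have hgen : ∀ i, l (KaehlerDifferential.kerCotangentToTensor A P Q (v i)) = v i := fun i => by
    rw [KaehlerDifferential.kerCotangentToTensor_toCotangent, TensorProduct.lift.tmul, hβ]
    simp only [ψ, LinearMap.coe_sum, Finset.sum_apply, LinearMap.smulRight_apply,
      Derivation.liftKaehlerDifferential_comp_D, Finset.smul_sum, smul_smul]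
    rw [Finset.sum_comm]
    simp only [← Finset.sum_smul]
    calc ∑ j, (∑ k, M i k * Cm k j) • v j = ∑ j, e i j • v j :=
          Finset.sum_congr rfl fun j _ => by
            rw [← sub_eq_zero, ← sub_smul]; exact hkill _ (hMC i j) _
      _ = v i := by
        simp only [v, ← map_smul, ← map_sum]
        refine congrArg _ (Subtype.ext ?_)
        rw [AddSubmonoidClass.coe_finsetSum]
        exact congrFun heh i
  refine ⟨l, LinearMap.ext fun z => ?_⟩
  obtain ⟨⟨y, hy⟩, rfl⟩ := Ideal.toCotangent_surjective _ z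
  rw [LinearMap.comp_apply, LinearMap.id_apply]
  have hy' : y ∈ Ideal.span (Set.range h) := by
    change y ∈ H
    rw [← hKH]
    exact hy
  obtain ⟨c, rfl⟩ := Ideal.mem_span_range_iff_exists_fun.1 hy'
  have hsum : (⟨_, hy⟩ : K) = ∑ i, c i • (⟨h i, hhK i⟩ : K) := Subtype.ext (by
    rw [AddSubmonoidClass.coe_finsetSum]; simp [smul_eq_mul])
  rw [hsum]
  simp only [map_sum, map_smul]
  exact Finset.sum_congr rfl fun i _ => congrArg (c i • ·) (hgen i)

/-- Smooth algebras lift along quotients. -/
theorem exists_smooth_lift_quotient (A : Type u) [CommRing A] (I : Ideal A) (B : Type u) [CommRing B]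
    [Algebra (A ⧸ I) B] [Algebra.Smooth (A ⧸ I) B] :
    ∃ (R : Type u) (_ : CommRing R) (_ : Algebra A R), Algebra.Smooth A R ∧
      Nonempty ((R ⧸ I.map (algebraMap A R)) ≃ₐ[A ⧸ I] B) := by
  classical
  letI : Algebra A B := ((algebraMap (A ⧸ I) B).comp (Ideal.Quotient.mk I)).toAlgebra
  haveI : IsScalarTower A (A ⧸ I) B := IsScalarTower.of_algebraMap_eq fun _ => rfl
  obtain ⟨n, π₀, hπ₀, hfg⟩ := Algebra.FinitePresentation.out (R := A ⧸ I) (A := B)
  obtain ⟨g, hg, hgexp⟩ := exists_kernel_splitting π₀ hπ₀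
  let P₀ := MvPolynomial (Fin n) A
  let red : P₀ →+* MvPolynomial (Fin n) (A ⧸ I) := MvPolynomial.map (Ideal.Quotient.mk I)
  have hred : Function.Surjective red := MvPolynomial.map_surjective _ Ideal.Quotient.mk_surjective
  let π : P₀ →ₐ[A] B := aeval fun i => π₀ (X i)
  have hπ : ∀ x, π x = π₀ (red x) := fun x => by
    refine RingHom.congr_fun (MvPolynomial.ringHom_ext (f := π.toRingHom) (g := π₀.toRingHom.comp red) (fun a => ?_) fun i => ?_) x
    · change π (C a) = π₀ (red (C a))
      rw [show red (C a) = C (Ideal.Quotient.mk I a) from map_C _ _]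
      exact (π.commutes a).trans ((π₀.commutes _).symm)
    · change π (X i) = π₀ (red (X i))
      rw [show red (X i) = X i from map_X _ _, aeval_X]
  let J : Ideal P₀ := RingHom.ker π.toRingHom
  let IP : Ideal P₀ := I.map (algebraMap A P₀)
  have hkred : RingHom.ker red = IP := by
    rw [MvPolynomial.ker_map, Ideal.mk_ker]
    rfl
  have hJK : J.map red = RingHom.ker π₀.toRingHom := by
    refine le_antisymm (Ideal.map_le_iff_le_comap.2 fun x hx => ?_) fun y hy => ?_
    · exact ((hπ x).symm.trans hx : π₀ (red x) = 0)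
    · obtain ⟨x, rfl⟩ := hred y
      exact Ideal.mem_map_of_mem _ ((hπ x).trans hy : π x = 0)
  have hIJ : IP ≤ J := fun x hx => by
    change π x = 0
    rw [hπ, show red x = 0 from RingHom.mem_ker.1 (hkred ▸ hx), map_zero]
  choose G hG using fun i => hred (g i)
  have hGJ : ∀ i, G i ∈ J := fun i => (hπ _).trans ((congrArg π₀ (hG i)).trans (hg i))
  have hexp : ∀ x ∈ J, x - ∑ i, pderiv i x * G i ∈ J ^ 2 ⊔ IP := fun x hx => by
    rw [← hkred, RingHom.ker_eq_comap_bot, ← Ideal.comap_map_of_surjective red hred (J ^ 2), Ideal.mem_comap, Ideal.map_pow, hJK]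
    have h1 := hgexp (red x) ((hπ x).symm.trans hx)
    rw [map_sub, map_sum]
    convert h1 using 3
    rw [map_mul, hG, ← MvPolynomial.pderiv_map]
  let E : Matrix (Fin n) (Fin n) (P₀ ⧸ J) := Matrix.of fun i k => Ideal.Quotient.mk J (pderiv k (G i))
  have hE : E * E = E := by
    refine Matrix.ext fun i l => ?_
    have hd : ∀ z ∈ J ^ 2 ⊔ IP, pderiv l z ∈ J := by
      intro z hz
      obtain ⟨a, ha, b, hb, rfl⟩ := Submodule.mem_sup.1 hz
      clear hz
      rw [map_add]
      refine J.add_mem ?_ ?_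
      · rw [sq] at ha
        induction ha using Submodule.mul_induction_on' with
        | mem_mul_mem x hx y hy =>
          rw [Derivation.leibniz, smul_eq_mul, smul_eq_mul]
          exact J.add_mem (J.mul_mem_right _ hx) (J.mul_mem_right _ hy)
        | add x _ y _ hx hy => rw [map_add]; exact J.add_mem hx hy
      · induction hb using Submodule.span_induction with
        | mem x hx =>
          obtain ⟨c, -, rfl⟩ := hx
          rw [Derivation.map_algebraMap]
          exact J.zero_mem
        | zero => rw [map_zero]; exact J.zero_mem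
        | add x y _ _ hx hy => rw [map_add]; exact J.add_mem hx hy
        | smul c x hx hx' =>
          rw [smul_eq_mul, Derivation.leibniz, smul_eq_mul, smul_eq_mul]
          exact J.add_mem (J.mul_mem_left _ hx') (J.mul_mem_right _ (hIJ hx))
    have h1 := Ideal.Quotient.eq_zero_iff_mem.2 (hd _ (hexp (G i) (hGJ i)))
    simp only [map_sub, map_sum, Derivation.leibniz, smul_eq_mul, map_add, map_mul,
      Ideal.Quotient.eq_zero_iff_mem.2 (hGJ _), zero_mul, add_zero, sub_eq_zero] at h1
    rw [Matrix.mul_apply]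
    simp only [E, Matrix.of_apply]
    exact h1.symm
  obtain ⟨P', _, _, het, hbij, e, hee, heE⟩ := Groth.Agent.EtLiftLib.exists_idem_lift J E hE
  letI : Algebra A P' := ((algebraMap P₀ P').comp (algebraMap A P₀)).toAlgebra
  haveI : IsScalarTower A P₀ P' := IsScalarTower.of_algebraMap_eq fun _ => rfl
  let J' : Ideal P' := J.map (algebraMap P₀ P')
  let IP' : Ideal P' := I.map (algebraMap A P')
  have hIP' : IP.map (algebraMap P₀ P') = IP' := Ideal.map_map _ _
  let G' : Fin n → P' := fun i => algebraMap P₀ P' (G i)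
  let h : Fin n → P' := e.mulVec G'
  have hG'J : ∀ i, G' i ∈ J' := fun i => Ideal.mem_map_of_mem _ (hGJ i)
  have hhJ : ∀ i, h i ∈ J' := fun i => by
    show ∑ k, e i k * G' k ∈ J'
    exact J'.sum_mem fun k _ => J'.mul_mem_left _ (hG'J k)
  have heG : ∀ i k, algebraMap P₀ P' (pderiv k (G i)) - e i k ∈ J' := fun i k => by
    rw [← Ideal.Quotient.eq_zero_iff_mem, map_sub, sub_eq_zero]
    exact (congrFun (congrFun heE i) k).symm
  let N : Ideal P' := Ideal.span (Set.range h) ⊔ IP'
  have hexp' : ∀ x ∈ J, algebraMap P₀ P' x - ∑ i, algebraMap P₀ P' (pderiv i x) * G' i ∈ J' * J' ⊔ IP' := fun x hx => by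
    have h1 := Ideal.mem_map_of_mem (algebraMap P₀ P') (hexp x hx)
    rw [Ideal.map_sup, Ideal.map_pow, hIP', sq] at h1
    simpa only [map_sub, map_sum, map_mul] using h1
  have hGh : ∀ i, G' i ∈ N ⊔ J' * J' := fun i => by
    have h1 : G' i - h i ∈ J' * J' ⊔ IP' := by
      have h2 : G' i - h i = (G' i - ∑ k, algebraMap P₀ P' (pderiv k (G i)) * G' k) +
          ∑ k, (algebraMap P₀ P' (pderiv k (G i)) - e i k) * G' k := by
        simp only [h, Matrix.mulVec, dotProduct, sub_mul, Finset.sum_sub_distrib]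
        ring
      rw [h2]
      exact Ideal.add_mem _ (hexp' _ (hGJ i))
        (Ideal.mem_sup_left (Ideal.sum_mem _ fun k _ => Ideal.mul_mem_mul (heG i k) (hG'J k)))
    have h3 : J' * J' ⊔ IP' ≤ N ⊔ J' * J' := sup_le le_sup_right (le_sup_right.trans le_sup_left)
    have h4 := Ideal.add_mem _ (h3 h1)
      (Ideal.mem_sup_left (Ideal.mem_sup_left (Ideal.subset_span (Set.mem_range_self i))) : h i ∈ N ⊔ J' * J')
    rwa [sub_add_cancel] at h4
  have hJN : J' ≤ N ⊔ J' * J' := Ideal.map_le_iff_le_comap.2 fun x hx => by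
    have h3 : J' * J' ⊔ IP' ≤ N ⊔ J' * J' := sup_le le_sup_right (le_sup_right.trans le_sup_left)
    have h1 := Ideal.add_mem _ (h3 (hexp' x hx))
      (Ideal.sum_mem (N ⊔ J' * J') (t := Finset.univ) fun i _ =>
        Ideal.mul_mem_left _ (algebraMap P₀ P' (pderiv i x)) (hGh i))
    rwa [sub_add_cancel] at h1
  -- `J'` is finitely generated modulo `N`
  obtain ⟨s, hs⟩ := hfg
  choose lift hlift using hred
  let S : Ideal P' := Ideal.span ((fun y => algebraMap P₀ P' (lift y)) '' (s : Set _))
  have hJS : J' ≤ S ⊔ IP' := Ideal.map_le_iff_le_comap.2 fun x hx => by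
    let S₀ : Ideal P₀ := Ideal.span (lift '' (s : Set _))
    have h0 : S₀.map red = RingHom.ker π₀.toRingHom := by
      rw [Ideal.map_span, ← Set.image_comp, ← hs]
      congr 1
      simp only [Function.comp_def, hlift, Set.image_id']
    have h1 : x ∈ S₀ ⊔ IP := by
      rw [← hkred, RingHom.ker_eq_comap_bot, ← Ideal.comap_map_of_surjective red (fun y => ⟨lift y, hlift y⟩) S₀, Ideal.mem_comap, h0]
      exact (hπ x).symm.trans hx
    have h2 := Ideal.mem_map_of_mem (algebraMap P₀ P') h1
    rw [Ideal.map_sup, hIP', Ideal.map_span, ← Set.image_comp] at h2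
    exact h2
  have hSJ : S ≤ J' := Ideal.span_le.2 (by
    rintro _ ⟨y, hy, rfl⟩
    refine Ideal.mem_map_of_mem _ ?_
    change π (lift y) = 0
    rw [hπ, hlift]
    exact (RingHom.mem_ker (f := π₀.toRingHom)).1 (hs ▸ Ideal.subset_span hy))
  let T : Submodule P' (P' ⧸ N) := Submodule.map N.mkQ S
  have hTfg : T.FG := Submodule.FG.map _ (Submodule.fg_span (s.finite_toSet.image _))
  have hTJ : T ≤ J' • T := by
    rintro _ ⟨y, hy, rfl⟩
    obtain ⟨a, ha, b, hb, rfl⟩ := Submodule.mem_sup.1 (hJN (hSJ hy))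
    clear hy
    rw [map_add, Submodule.mkQ_apply, (Submodule.Quotient.mk_eq_zero N).2 ha, zero_add]
    induction hb using Submodule.mul_induction_on' with
    | mem_mul_mem p hp q hq =>
      obtain ⟨c, hc, d, hd, rfl⟩ := Submodule.mem_sup.1 (hJS hq)
      rw [mul_add, map_add, Submodule.mkQ_apply N (p * d), (Submodule.Quotient.mk_eq_zero N).2
        (Ideal.mul_mem_left _ p (Ideal.mem_sup_right hd)), add_zero, ← smul_eq_mul, map_smul]
      exact Submodule.smul_mem_smul hp (Submodule.mem_map_of_mem hc)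
    | add p _ q _ hp hq => rw [map_add]; exact Submodule.add_mem _ hp hq
  obtain ⟨r, hr1, hr0⟩ := Submodule.exists_sub_one_mem_and_smul_eq_zero_of_fg_of_le_smul J' T hTfg hTJ
  have hrJ : ∀ p ∈ J', r * p ∈ N := fun p hp => by
    obtain ⟨c, hc, d, hd, rfl⟩ := Submodule.mem_sup.1 (hJS hp)
    rw [mul_add]
    refine N.add_mem ?_ (N.mul_mem_left _ (Ideal.mem_sup_right hd))
    rw [← Submodule.Quotient.mk_eq_zero N, ← smul_eq_mul, Submodule.Quotient.mk_smul]
    exact hr0 _ (Submodule.mem_map_of_mem hc)
  -- derivations and the determinant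
  choose L hL using fun k : Fin n => exists_derivation_extend (A := A) (P := P₀) (Q := P') (pderiv k)
  let M : Matrix (Fin n) (Fin n) P' := Matrix.of fun i k => L k (h i)
  let mk' : P' →+* P' ⧸ J' := Ideal.Quotient.mk J'
  have hMe : M.map mk' = e.map mk' := by
    refine Matrix.ext fun i k => ?_
    change mk' (L k (∑ j, e i j * G' j)) = mk' (e i k)
    simp only [G', map_sum, Derivation.leibniz, smul_eq_mul, map_add, map_mul, hL]
    simp only [show ∀ j, mk' (algebraMap P₀ P' (G j)) = 0 from fun j => Ideal.Quotient.eq_zero_iff_mem.2 (hG'J j),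
      zero_mul, add_zero]
    calc ∑ j, mk' (e i j) * mk' (algebraMap P₀ P' (pderiv k (G j))) = ∑ j, mk' (e i j) * mk' (e j k) :=
          Finset.sum_congr rfl fun j _ => congrArg _ (Ideal.Quotient.eq.2 (heG j k))
      _ = mk' (e i k) := by
        rw [← congrFun (congrFun hee i) k, Matrix.mul_apply]
        simp only [map_sum, map_mul]
  let U := M * e + (1 - e)
  have hU : mk' U.det = 1 := by
    rw [RingHom.map_det, RingHom.mapMatrix_apply]
    have : U.map mk' = 1 := by
      rw [← RingHom.mapMatrix_apply, map_add, map_mul, map_sub, map_one, RingHom.mapMatrix_apply, RingHom.mapMatrix_apply,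
        hMe, ← Matrix.map_mul, hee, add_sub_cancel]
    rw [this, Matrix.det_one]
  let d := r * U.det
  let P'' := Localization.Away d
  haveI : Algebra.Etale P₀ P'' := Algebra.Etale.comp P₀ P' P''
  haveI : Algebra.Smooth A P₀ := ⟨inferInstance, inferInstance⟩
  haveI : Algebra.Smooth A P'' := Algebra.Smooth.comp A P₀ P''
  choose L'' hL'' using fun k : Fin n => exists_derivation_extend (A := A) (P := P') (Q := P'') (L k)
  let ι : P' →+* P'' := algebraMap P' P''
  let h'' : Fin n → P'' := fun i => ι (h i)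
  let H : Ideal P'' := Ideal.span (Set.range h'')
  have hdu : IsUnit (ι d) := IsLocalization.Away.algebraMap_isUnit d
  have hsmooth : Algebra.Smooth A (P'' ⧸ H) := by
    refine smooth_quotient_of_idempotent h'' (e.map ι) (by rw [← Matrix.map_mul, hee]) (funext fun i => ?_) L'' ?_
    · change (e.map ι).mulVec (ι ∘ h) i = ι (h i)
      rw [← RingHom.map_mulVec, Matrix.mulVec_mulVec, hee]
    · refine IsUnit.map _ ?_
      have hM'' : (Matrix.of fun i k => L'' k (h'' i)) * e.map ι + (1 - e.map ι) = U.map ι := by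
        rw [show (Matrix.of fun i k => L'' k (h'' i)) = M.map ι from Matrix.ext fun i k => hL'' k (h i)]
        simp only [U, ← RingHom.mapMatrix_apply, map_add, map_mul, map_sub, map_one]
      rw [hM'', ← RingHom.mapMatrix_apply, ← RingHom.map_det]
      exact isUnit_of_mul_isUnit_right (by rw [← map_mul]; exact hdu)
  -- the map to `B`
  let π' : P₀ ⧸ J →+* B := Ideal.Quotient.lift J π.toRingHom fun x hx => hx
  let qe := RingEquiv.ofBijective _ hbij
  let ρ' : P' →+* B := π'.comp (qe.symm.toRingHom.comp mk')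
  have hρ'alg : ∀ x, ρ' (algebraMap P₀ P' x) = π x := fun x => by
    change π' (qe.symm (mk' (algebraMap P₀ P' x))) = π x
    rw [show qe.symm (mk' (algebraMap P₀ P' x)) = Ideal.Quotient.mk J x from qe.symm_apply_eq.2 rfl]
    rfl
  have hρ'ker : ∀ p, ρ' p = 0 ↔ p ∈ J' := fun p => by
    constructor
    · intro hp
      obtain ⟨y, hy⟩ := Ideal.Quotient.mk_surjective (qe.symm (mk' p))
      have hyJ : y ∈ J := by
        change π y = 0
        rw [← hp]
        change π y = π' (qe.symm (mk' p))
        rw [← hy]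
        rfl
      rw [← Ideal.Quotient.eq_zero_iff_mem, ← map_eq_zero_iff qe.symm qe.symm.injective]
      exact hy.symm.trans (Ideal.Quotient.eq_zero_iff_mem.2 hyJ)
    · intro hp
      change π' (qe.symm (mk' p)) = 0
      rw [Ideal.Quotient.eq_zero_iff_mem.2 hp, map_zero, map_zero]
  have hd1 : ρ' d = 1 := by
    have h1 : mk' d = 1 := by
      rw [map_mul, hU, mul_one, ← map_one mk']
      exact Ideal.Quotient.eq.2 hr1
    change π' (qe.symm (mk' d)) = 1
    rw [h1, map_one, map_one]
  let ρ'' : P'' →+* B := IsLocalization.Away.lift d (g := ρ') (hd1 ▸ isUnit_one)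
  have hρ'' : ∀ p, ρ'' (ι p) = ρ' p := fun p => IsLocalization.Away.lift_eq d _ p
  let R := P'' ⧸ H
  have hHker : ∀ a ∈ H, ρ'' a = 0 := fun a ha => by
    refine (Ideal.span_le (I := RingHom.ker ρ'')).2 ?_ ha
    rintro _ ⟨i, rfl⟩
    exact (hρ'' _).trans ((hρ'ker _).2 (hhJ i))
  let ρ : R →ₐ[A] B :=
    { Ideal.Quotient.lift H ρ'' hHker with
      commutes' := fun a => by
        change ρ'' (algebraMap A P'' a) = algebraMap A B a
        rw [IsScalarTower.algebraMap_apply A P' P'', show algebraMap P' P'' = ι from rfl, hρ'',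
          IsScalarTower.algebraMap_apply A P₀ P', hρ'alg, AlgHom.commutes] }
  have hρsurj : Function.Surjective ρ := fun b => by
    obtain ⟨y, rfl⟩ := hπ₀ b
    refine ⟨Ideal.Quotient.mk H (ι (algebraMap P₀ P' (lift y))), ?_⟩
    change ρ'' (ι _) = _
    rw [hρ'', hρ'alg, hπ, hlift]
  have hρker : RingHom.ker ρ.toRingHom = I.map (algebraMap A R) := by
    refine le_antisymm (fun z hz => ?_) (Ideal.map_le_iff_le_comap.2 fun a ha => ?_)
    · obtain ⟨z, rfl⟩ := Ideal.Quotient.mk_surjective z
      obtain ⟨p, ⟨_, m, rfl⟩, rfl⟩ := IsLocalization.exists_mk'_eq (Submonoid.powers d) z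
      have hz0 : ρ'' (IsLocalization.mk' P'' p (⟨d ^ m, m, rfl⟩ : Submonoid.powers d)) = 0 := hz
      have hp : ρ' p = 0 := by
        rw [← hρ'', show ι p = IsLocalization.mk' P'' p (⟨d ^ m, m, rfl⟩ : Submonoid.powers d) * ι (d ^ m) from
          (IsLocalization.mk'_spec P'' p _).symm, map_mul, hz0, zero_mul]
      have h2 : ι r * ι p ∈ N.map ι := by
        rw [← map_mul]
        exact Ideal.mem_map_of_mem _ (hrJ p ((hρ'ker p).1 hp))
      have hru : IsUnit (ι r) := isUnit_of_mul_isUnit_left (by rw [← map_mul]; exact hdu)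
      rw [Ideal.unit_mul_mem_iff_mem _ hru] at h2
      have h3 : IsLocalization.mk' P'' p (⟨d ^ m, m, rfl⟩ : Submonoid.powers d) ∈ N.map ι := by
        refine (Ideal.mul_unit_mem_iff_mem _ (hdu.pow m)).1 ?_
        rw [← map_pow, show IsLocalization.mk' P'' p (⟨d ^ m, m, rfl⟩ : Submonoid.powers d) * ι (d ^ m) = ι p from
          IsLocalization.mk'_spec P'' p _]
        exact h2
      have h4 := Ideal.mem_map_of_mem (Ideal.Quotient.mk H) h3
      rw [Ideal.map_sup, Ideal.map_sup, Ideal.map_map, Ideal.map_map, Ideal.map_map, Ideal.map_span] at h4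
      have hzero : Ideal.span (⇑((Ideal.Quotient.mk H).comp ι) '' Set.range h) = ⊥ := by
        rw [Ideal.span_eq_bot]
        rintro _ ⟨_, ⟨i, rfl⟩, rfl⟩
        exact Ideal.Quotient.eq_zero_iff_mem.2 (Ideal.subset_span ⟨i, rfl⟩)
      rw [hzero, bot_sup_eq] at h4
      convert h4 using 2
      rw [IsScalarTower.algebraMap_eq A P' R]
      rfl
    · change ρ (algebraMap A R a) = 0
      rw [AlgHom.commutes, IsScalarTower.algebraMap_apply A (A ⧸ I) B, Ideal.Quotient.algebraMap_eq,
        Ideal.Quotient.eq_zero_iff_mem.2 ha, map_zero]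
  let eR : (R ⧸ I.map (algebraMap A R)) ≃+* B :=
    (Ideal.quotEquivOfEq hρker.symm).trans (RingHom.quotientKerEquivOfSurjective hρsurj)
  refine ⟨R, inferInstance, inferInstance, hsmooth, ⟨AlgEquiv.ofRingEquiv (f := eR) fun a => ?_⟩⟩
  obtain ⟨a, rfl⟩ := Ideal.Quotient.mk_surjective a
  change ρ (algebraMap A R a) = _
  rw [AlgHom.commutes]
  rfl

end Groth.Agent.Hensel
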