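import Groth.Agent.Hensel.PairEnvelopeStage
import Groth.Agent.Hensel.PairBaseChange
import Mathlib.RingTheory.TensorProduct.Maps

/-!
Étale neighbourhoods of a henselization of a pair: directedness, henselization of a neighbourhood, quotients.
-/

set_option autoImplicit false

namespace Groth.Agent.Hensel

universe u

open scoped TensorProduct

variable {A : Type u} [CommRing A] {I : Ideal A} {B : Type u} [CommRing B] [Algebra A B]

/-- A henselization of a pair is a henselization of each of its étale neighbourhoods. -/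
theorem isPairHenselization_of_nhd (hB : Hens2.IsPairHenselization A I B) (A' : Type u) [CommRing A'] [Algebra A A']
    [Algebra.Etale A A'] [Algebra A' B] [IsScalarTower A A' B]
    (h : Function.Bijective (Ideal.quotientMap (I.map (algebraMap A A')) (algebraMap A A') Ideal.le_comap_map)) :
    Hens2.IsPairHenselization A' (I.map (algebraMap A A')) B := by
  refine ⟨?_, fun C _ J f hJ hf => ?_⟩
  · rw [Ideal.map_map, ← IsScalarTower.algebraMap_eq]; exact hB.1
  letI := (f.comp (algebraMap A A')).toAlgebra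
  have hJI : I.map (algebraMap A C) ≤ J := (le_of_eq (Ideal.map_map _ _).symm).trans hf
  obtain ⟨k, -, hku⟩ := existsUnique_nhd_hom (A' := A') h hJ hJI
  obtain ⟨g, hg, hgu⟩ := hB.2 C J (algebraMap A C) hJ hJI
  let gA : A' →ₐ[A] C :=
    { g.comp (algebraMap A' B) with
      commutes' := fun r => by
        change g (algebraMap A' B (algebraMap A A' r)) = _
        rw [← IsScalarTower.algebraMap_apply]
        exact RingHom.congr_fun hg r }
  let fA : A' →ₐ[A] C := { f with commutes' := fun r => rfl }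
  have hle : ∀ k' : A' →ₐ[A] C, (I.map (algebraMap A A')).map k'.toRingHom ≤ J := fun k' => by
    rw [Ideal.map_map, show k'.toRingHom.comp (algebraMap A A') = algebraMap A C from RingHom.ext k'.commutes]
    exact hJI
  have heq : gA = fA := (hku gA (hle gA)).trans (hku fA (hle fA)).symm
  refine ⟨g, congrArg AlgHom.toRingHom heq, fun g' hg' => hgu g' ?_⟩
  dsimp only at hg' ⊢
  rw [IsScalarTower.algebraMap_eq A A' B, ← RingHom.comp_assoc, hg']
  rfl

/-- Any two elements of a henselization come from a common étale neighbourhood. -/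
theorem exists_nhd_pair (hB : Hens2.IsPairHenselization A I B)
    {A₁ : Type u} [CommRing A₁] [Algebra A A₁] [Algebra.Etale A A₁]
    (h₁ : Function.Bijective (Ideal.quotientMap (I.map (algebraMap A A₁)) (algebraMap A A₁) Ideal.le_comap_map))
    (φ₁ : A₁ →ₐ[A] B) {A₂ : Type u} [CommRing A₂] [Algebra A A₂] [Algebra.Etale A A₂]
    (h₂ : Function.Bijective (Ideal.quotientMap (I.map (algebraMap A A₂)) (algebraMap A A₂) Ideal.le_comap_map))
    (φ₂ : A₂ →ₐ[A] B) :
    ∃ (A' : Type u) (_ : CommRing A') (_ : Algebra A A') (_ : Algebra.Etale A A'),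
      Function.Bijective (Ideal.quotientMap (I.map (algebraMap A A')) (algebraMap A A') Ideal.le_comap_map) ∧
        ∃ φ : A' →ₐ[A] B, Set.range φ₁ ⊆ Set.range φ ∧ Set.range φ₂ ⊆ Set.range φ := by
  let φ : A₁ ⊗[A] A₂ →ₐ[A] B := Algebra.TensorProduct.productMap φ₁ φ₂
  haveI : Algebra.Etale A (A₁ ⊗[A] A₂) := Algebra.Etale.comp A A₁ (A₁ ⊗[A] A₂)
  refine ⟨A₁ ⊗[A] A₂, inferInstance, inferInstance, inferInstance, ⟨?_, ?_⟩, φ, ?_, ?_⟩
  · refine Ideal.quotientMap_injective' fun a ha => ?_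
    have h1 := Ideal.mem_map_of_mem φ.toRingHom (Ideal.mem_comap.1 ha)
    rw [Ideal.map_map, show φ.toRingHom.comp (algebraMap A (A₁ ⊗[A] A₂)) = algebraMap A B from
      RingHom.ext φ.commutes, show φ.toRingHom (algebraMap A (A₁ ⊗[A] A₂) a) = algebraMap A B a from φ.commutes a] at h1
    have h2 : algebraMap A B a ∈ (I ^ 1).map (algebraMap A B) := by rw [pow_one]; exact h1
    simpa using pairHenselization_mem_pow hB h2
  · intro y
    obtain ⟨z, rfl⟩ := Ideal.Quotient.mk_surjective y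
    induction z using TensorProduct.induction_on with
    | zero => exact ⟨0, by simp⟩
    | tmul x₁ x₂ =>
      obtain ⟨a₁, ha₁⟩ := h₁.2 (Ideal.Quotient.mk _ x₁)
      obtain ⟨a₁, rfl⟩ := Ideal.Quotient.mk_surjective a₁
      obtain ⟨a₂, ha₂⟩ := h₂.2 (Ideal.Quotient.mk _ x₂)
      obtain ⟨a₂, rfl⟩ := Ideal.Quotient.mk_surjective a₂
      rw [Ideal.quotientMap_mk, Ideal.Quotient.eq] at ha₁ ha₂
      refine ⟨Ideal.Quotient.mk I (a₁ * a₂), ?_⟩
      rw [Ideal.quotientMap_mk, Ideal.Quotient.eq]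
      have e₁ := Ideal.mem_map_of_mem (Algebra.TensorProduct.includeLeft : A₁ →ₐ[A] A₁ ⊗[A] A₂).toRingHom ha₁
      have e₂ := Ideal.mem_map_of_mem (Algebra.TensorProduct.includeRight : A₂ →ₐ[A] A₁ ⊗[A] A₂).toRingHom ha₂
      rw [Ideal.map_map,
        show (Algebra.TensorProduct.includeLeft : A₁ →ₐ[A] A₁ ⊗[A] A₂).toRingHom.comp (algebraMap A A₁) =
          algebraMap A (A₁ ⊗[A] A₂) from RingHom.ext fun r => (Algebra.TensorProduct.includeLeft : A₁ →ₐ[A] A₁ ⊗[A] A₂).commutes r, map_sub] at e₁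
      rw [Ideal.map_map,
        show (Algebra.TensorProduct.includeRight : A₂ →ₐ[A] A₁ ⊗[A] A₂).toRingHom.comp (algebraMap A A₂) =
          algebraMap A (A₁ ⊗[A] A₂) from RingHom.ext fun r => (Algebra.TensorProduct.includeRight : A₂ →ₐ[A] A₁ ⊗[A] A₂).commutes r, map_sub] at e₂
      have key : algebraMap A (A₁ ⊗[A] A₂) (a₁ * a₂) - x₁ ⊗ₜ[A] x₂ =
          ((Algebra.TensorProduct.includeLeft : A₁ →ₐ[A] A₁ ⊗[A] A₂).toRingHom (algebraMap A A₁ a₁) -
            (Algebra.TensorProduct.includeLeft : A₁ →ₐ[A] A₁ ⊗[A] A₂).toRingHom x₁) * algebraMap A _ a₂ +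
          (x₁ ⊗ₜ[A] (1 : A₂)) *
            ((Algebra.TensorProduct.includeRight : A₂ →ₐ[A] A₁ ⊗[A] A₂).toRingHom (algebraMap A A₂ a₂) -
              (Algebra.TensorProduct.includeRight : A₂ →ₐ[A] A₁ ⊗[A] A₂).toRingHom x₂) := by
        simp only [AlgHom.toRingHom_eq_coe, RingHom.coe_coe, AlgHom.commutes]
        rw [show x₁ ⊗ₜ[A] x₂ = (x₁ ⊗ₜ[A] (1 : A₂)) * ((1 : A₁) ⊗ₜ[A] x₂) by simp]
        simp only [map_mul, Algebra.TensorProduct.includeLeft_apply, Algebra.TensorProduct.includeRight_apply]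
        ring
      rw [key]
      exact Ideal.add_mem _ (Ideal.mul_mem_right _ _ e₁) (Ideal.mul_mem_left _ _ e₂)
    | add z w hz hw =>
      obtain ⟨p, hp⟩ := hz
      obtain ⟨q, hq⟩ := hw
      exact ⟨p + q, by rw [map_add, hp, hq, map_add]⟩
  · rintro _ ⟨x, rfl⟩
    exact ⟨x ⊗ₜ[A] 1, Algebra.TensorProduct.productMap_left_apply φ₁ φ₂ x⟩
  · rintro _ ⟨x, rfl⟩
    exact ⟨(1 : A₁) ⊗ₜ[A] x, Algebra.TensorProduct.productMap_right_apply φ₁ φ₂ x⟩

/-- Finitely many elements come from one étale neighbourhood. -/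
theorem exists_nhd_finite (hB : Hens2.IsPairHenselization A I B) (s : Finset B) :
    ∃ (A' : Type u) (_ : CommRing A') (_ : Algebra A A') (_ : Algebra.Etale A A'),
      Function.Bijective (Ideal.quotientMap (I.map (algebraMap A A')) (algebraMap A A') Ideal.le_comap_map) ∧
        ∃ φ : A' →ₐ[A] B, (s : Set B) ⊆ Set.range φ := by
  classical
  induction s using Finset.induction with
  | empty =>
    obtain ⟨A', _, _, hA', h, φ, -⟩ := exists_nhd_mem hB 0
    exact ⟨A', inferInstance, inferInstance, hA', h, φ, by simp⟩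
  | insert x s _ ih =>
    obtain ⟨A₁, _, _, _, h₁, φ₁, hs⟩ := ih
    obtain ⟨A₂, _, _, _, h₂, φ₂, y, hy⟩ := exists_nhd_mem hB x
    obtain ⟨A', _, _, hA', h, φ, hφ₁, hφ₂⟩ := exists_nhd_pair hB h₁ φ₁ h₂ φ₂
    refine ⟨A', inferInstance, inferInstance, hA', h, φ, ?_⟩
    rw [Finset.coe_insert]
    exact Set.insert_subset (hφ₂ ⟨y, hy⟩) (hs.trans hφ₁)

/-- Henselization commutes with quotients. -/
theorem isPairHenselization_quotient (hB : Hens2.IsPairHenselization A I B) (J : Ideal A) :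
    Hens2.IsPairHenselization (A ⧸ J) (I.map (Ideal.Quotient.mk J)) (B ⧸ J.map (algebraMap A B)) := by
  have hc : (algebraMap (A ⧸ J) (B ⧸ J.map (algebraMap A B))).comp (Ideal.Quotient.mk J) =
      (Ideal.Quotient.mk (J.map (algebraMap A B))).comp (algebraMap A B) := RingHom.ext fun _ => rfl
  refine ⟨?_, fun C _ K f hK hf => ?_⟩
  · haveI := hB.1
    have h := henselianRing_integral B (I.map (algebraMap A B)) (B ⧸ J.map (algebraMap A B))
    rw [Ideal.map_map, Ideal.Quotient.algebraMap_eq] at h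
    rwa [Ideal.map_map, hc]
  obtain ⟨g, hg, hgu⟩ := hB.2 C K (f.comp (Ideal.Quotient.mk J)) hK ((le_of_eq (Ideal.map_map _ _).symm).trans hf)
  have hker : J.map (algebraMap A B) ≤ RingHom.ker g := Ideal.map_le_iff_le_comap.2 fun a ha => by
    rw [Ideal.mem_comap, RingHom.mem_ker, ← RingHom.comp_apply, hg, RingHom.comp_apply,
      Ideal.Quotient.eq_zero_iff_mem.2 ha, map_zero]
  refine ⟨Ideal.Quotient.lift _ g fun z hz => hker hz, Ideal.Quotient.ringHom_ext ?_, fun g' hg' =>
    Ideal.Quotient.ringHom_ext ?_⟩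
  · rw [RingHom.comp_assoc, hc, ← RingHom.comp_assoc]
    exact RingHom.ext fun a => RingHom.congr_fun hg a
  · rw [hgu (g'.comp (Ideal.Quotient.mk _)) (by
      dsimp only at hg' ⊢
      rw [RingHom.comp_assoc, ← hc, ← RingHom.comp_assoc, hg'])]
    exact RingHom.ext fun z => rfl

/-- Transport along an isomorphism of the base. -/
theorem isPairHenselization_of_base_equiv {A' : Type u} [CommRing A'] {I' : Ideal A'} [Algebra A' B] (e : A' ≃+* A)
    (he : I'.map e.toRingHom = I) (halg : ∀ x, algebraMap A' B x = algebraMap A B (e x))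
    (hB : Hens2.IsPairHenselization A I B) : Hens2.IsPairHenselization A' I' B := by
  have hc : algebraMap A' B = (algebraMap A B).comp e.toRingHom := RingHom.ext halg
  refine ⟨?_, fun C _ J f hJ hf => ?_⟩
  · rw [hc, ← Ideal.map_map, he]; exact hB.1
  have hes : e.symm.toRingHom.comp e.toRingHom = RingHom.id A' := RingHom.ext e.symm_apply_apply
  have hse : e.toRingHom.comp e.symm.toRingHom = RingHom.id A := RingHom.ext e.apply_symm_apply
  obtain ⟨g, hg, hgu⟩ := hB.2 C J (f.comp e.symm.toRingHom) hJ (by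
    rw [← he, Ideal.map_map, RingHom.comp_assoc, hes, RingHom.comp_id]; exact hf)
  refine ⟨g, ?_, fun g' hg' => hgu g' ?_⟩
  · dsimp only
    rw [hc, ← RingHom.comp_assoc, hg, RingHom.comp_assoc, hes, RingHom.comp_id]
  · dsimp only at hg' ⊢
    rw [← hg', hc, RingHom.comp_assoc, RingHom.comp_assoc, hse, RingHom.comp_id]

end Groth.Agent.Hensel
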