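import Mathlib
import Groth.Agent.Hensel.SpreadNbhd
import Groth.Agent.Hensel.PairNbhd
import Groth.Agent.FibCrit.Tools
import Groth.Agent.SepSurj.Basic

/-!
Flat, smooth and étale models of henselian finitely presented algebras.
-/

set_option autoImplicit false

namespace Groth.Agent.Hensel

universe u

open scoped TensorProduct

section

variable {A : Type u} [CommRing A] (K : Ideal A) {R : Type u} [CommRing R] [Algebra A R]

/-- Smooth modulo `K` and flat implies smooth along `V(KR)`. -/
theorem isSmoothAt_of_quotient [Algebra.FinitePresentation A R] [Module.Flat A R]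
    [Algebra.Smooth (A ⧸ K) (R ⧸ K.map (algebraMap A R))] (p : Ideal R) [p.IsPrime]
    (hp : K.map (algebraMap A R) ≤ p) : Algebra.IsSmoothAt A p := by
  let q := p.under A
  let κ := q.ResidueField
  have hK : ∀ a ∈ K, algebraMap A κ a = 0 := fun a ha => by
    rw [← RingHom.mem_ker, Ideal.ker_algebraMap_residueField]
    exact hp (Ideal.mem_map_of_mem _ ha)
  letI : Algebra (A ⧸ K) κ := (Ideal.Quotient.lift K (algebraMap A κ) hK).toAlgebra
  haveI : IsScalarTower A (A ⧸ K) κ := IsScalarTower.of_algebraMap_eq fun _ => rfl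
  haveI : Algebra.IsPushout A (A ⧸ K) R (R ⧸ K.map (algebraMap A R)) := Groth.Agent.FibCrit.isPushout_quot K rfl
  let e : (R ⧸ K.map (algebraMap A R)) ≃ₐ[A ⧸ K] (A ⧸ K) ⊗[A] R :=
    (Algebra.IsPushout.equiv A (A ⧸ K) R (R ⧸ K.map (algebraMap A R))).symm
  haveI : Algebra.FormallySmooth (A ⧸ K) ((A ⧸ K) ⊗[A] R) := Algebra.FormallySmooth.of_equiv e
  haveI : Algebra.FormallySmooth κ (κ ⊗[A ⧸ K] ((A ⧸ K) ⊗[A] R)) := inferInstance
  haveI : Algebra.FormallySmooth q.ResidueField (q.Fiber R) :=
    Algebra.FormallySmooth.of_equiv (Algebra.TensorProduct.cancelBaseChange A (A ⧸ K) κ κ R)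
  exact Algebra.IsSmoothAt.of_formallySmooth_fiber q p

/-- Unramified modulo `K` implies unramified along `V(KR)`. -/
theorem isUnramifiedAt_of_quotient [Algebra.FiniteType A R]
    [Algebra.FormallyUnramified (A ⧸ K) (R ⧸ K.map (algebraMap A R))] (p : Ideal R) [p.IsPrime]
    (hp : K.map (algebraMap A R) ≤ p) : Algebra.IsUnramifiedAt A p := by
  let J := K.map (algebraMap A R)
  let Q := R ⧸ J
  haveI : IsScalarTower A (A ⧸ K) Q := IsScalarTower.of_algebraMap_eq fun _ => rfl
  haveI : Algebra.FormallyUnramified A Q := Algebra.FormallyUnramified.comp A (A ⧸ K) Q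
  let M := Ω[R⁄A] ⧸ (J • ⊤ : Submodule R Ω[R⁄A])
  let D₀ : Derivation A R M := (J • ⊤ : Submodule R Ω[R⁄A]).mkQ.compDer (KaehlerDifferential.D A R)
  have hsmul : ∀ (r : R), r ∈ J → ∀ m : M, r • m = 0 := fun r hr m => by
    obtain ⟨w, rfl⟩ := Submodule.Quotient.mk_surjective _ m
    rw [← Submodule.Quotient.mk_smul, Submodule.Quotient.mk_eq_zero]
    exact Submodule.smul_mem_smul hr Submodule.mem_top
  have hD₀ : ∀ r ∈ J, D₀ r = 0 := by
    intro r hr
    induction hr using Submodule.span_induction with
    | mem x hx =>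
      obtain ⟨a, -, rfl⟩ := hx
      exact D₀.map_algebraMap a
    | zero => exact map_zero _
    | add x y _ _ hx hy => rw [map_add, hx, hy, add_zero]
    | smul c x hx hxD => rw [smul_eq_mul, D₀.leibniz, hxD, hsmul x hx, smul_zero, add_zero]
  letI : Module Q M := Module.IsTorsionBySet.module (R := R) (M := M) (I := J) fun m r => hsmul r r.2 m
  have hqs : ∀ (r : R) (m : M), (Ideal.Quotient.mk J r : Q) • m = r • m := fun r m => rfl
  haveI : IsScalarTower A Q M := ⟨fun a q m => by
    obtain ⟨r, rfl⟩ := Ideal.Quotient.mk_surjective q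
    change (Ideal.Quotient.mk J (a • r) : Q) • m = a • ((Ideal.Quotient.mk J r : Q) • m)
    rw [hqs, hqs, smul_assoc]⟩
  let L : Q →ₗ[A] M := Submodule.liftQ (J.restrictScalars A) D₀.toLinearMap fun r hr => hD₀ r hr
  let D : Derivation A Q M :=
    Derivation.mk' L fun x y => by
      obtain ⟨r, rfl⟩ := Ideal.Quotient.mk_surjective x
      obtain ⟨s, rfl⟩ := Ideal.Quotient.mk_surjective y
      rw [hqs, hqs]
      exact D₀.leibniz r s
  haveI : Subsingleton Ω[Q⁄A] := inferInstance
  have hDz : ∀ x : Q, D x = 0 := fun x => by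
    rw [← Derivation.liftKaehlerDifferential_comp_D D x, Subsingleton.elim (KaehlerDifferential.D A Q x) 0, map_zero]
  have htop : (⊤ : Submodule R Ω[R⁄A]) ≤ J • ⊤ := by
    rw [← KaehlerDifferential.span_range_derivation]
    refine Submodule.span_le.2 ?_
    rintro _ ⟨r, rfl⟩
    rw [SetLike.mem_coe, KaehlerDifferential.span_range_derivation, ← Submodule.Quotient.mk_eq_zero]
    exact hDz (Ideal.Quotient.mk J r)
  obtain ⟨r, hr1, hr0⟩ :=
    Submodule.exists_sub_one_mem_and_smul_eq_zero_of_fg_of_le_smul J _ Module.Finite.fg_top htop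
  change (⟨p, ‹_›⟩ : PrimeSpectrum R) ∈ Algebra.unramifiedLocus A R
  rw [Algebra.unramifiedLocus_eq_compl_support, Set.mem_compl_iff, Module.notMem_support_iff']
  refine fun m => ⟨r, fun hmem => Ideal.IsPrime.ne_top ‹_› ((Ideal.eq_top_iff_one p).2 ?_), hr0 m Submodule.mem_top⟩
  simpa using p.sub_mem hmem (hp hr1)

end

section

variable {A : Type u} [CommRing A] {I : Ideal A} {R : Type u} [CommRing R] [Algebra A R]
  {B : Type u} [CommRing B] [Algebra R B] [Algebra A B] [IsScalarTower A R B]

/-- An étale neighbourhood maps to the henselization. -/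
theorem exists_model_of_nhd (hB : Hens2.IsPairHenselization R (I.map (algebraMap A R)) B)
    (R' : Type u) [CommRing R'] [Algebra R R'] [Algebra A R'] [IsScalarTower A R R'] [Algebra.Etale R R']
    (hbij : Function.Bijective (Ideal.quotientMap ((I.map (algebraMap A R)).map (algebraMap R R'))
      (algebraMap R R') Ideal.le_comap_map)) :
    ∃ (_ : Algebra R' B), IsScalarTower A R' B ∧ Hens2.IsPairHenselization R' (I.map (algebraMap A R')) B := by
  obtain ⟨ψ, -, -⟩ := existsUnique_nhd_hom (A' := R') hbij hB.1 le_rfl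
  letI := ψ.toRingHom.toAlgebra
  haveI : IsScalarTower R R' B := IsScalarTower.of_algebraMap_eq fun r => (ψ.commutes r).symm
  refine ⟨ψ.toRingHom.toAlgebra, IsScalarTower.of_algebraMap_eq fun a => ?_, ?_⟩
  · rw [IsScalarTower.algebraMap_apply A R B, IsScalarTower.algebraMap_apply A R R']
    exact (ψ.commutes _).symm
  · rw [IsScalarTower.algebraMap_eq A R R', ← Ideal.map_map]
    exact isPairHenselization_of_nhd hB R' hbij

/-- Flatness of the henselization gives flatness at the primes containing the ideal. -/
theorem flat_atPrime_of_henselization (hB : Hens2.IsPairHenselization R (I.map (algebraMap A R)) B)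
    [Module.Flat A B] (p : Ideal R) [p.IsPrime] (hp : I.map (algebraMap A R) ≤ p) :
    Module.Flat A (Localization.AtPrime p) := by
  obtain ⟨g, hg, -⟩ := hB.2 (R ⧸ p) ⊥ (Ideal.Quotient.mk p) henselianRing_bot
    (by rw [le_bot_iff, Ideal.map_eq_bot_iff_le_ker, Ideal.mk_ker]; exact hp)
  let P : Ideal B := RingHom.ker g
  haveI : P.IsPrime := RingHom.ker_isPrime g
  have hPp : p = P.comap (algebraMap R B) := by
    change p = (RingHom.ker g).comap (algebraMap R B)
    rw [RingHom.comap_ker, hg, Ideal.mk_ker]
  haveI : Module.Flat R B := pairHenselization_flat hB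
  let f := Localization.localRingHom p P (algebraMap R B) hPp
  have hflat : f.Flat := RingHom.Flat.localRingHom (RingHom.flat_algebraMap_iff.2 inferInstance) P p hPp
  letI : Algebra (Localization.AtPrime p) (Localization.AtPrime P) := f.toAlgebra
  haveI : Module.Flat (Localization.AtPrime p) (Localization.AtPrime P) := hflat
  haveI : IsLocalHom (algebraMap (Localization.AtPrime p) (Localization.AtPrime P)) :=
    Localization.isLocalHom_localRingHom p P _ hPp
  haveI : Module.FaithfullyFlat (Localization.AtPrime p) (Localization.AtPrime P) :=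
    Module.FaithfullyFlat.of_flat_of_isLocalHom
  haveI : IsScalarTower A (Localization.AtPrime p) (Localization.AtPrime P) :=
    IsScalarTower.of_algebraMap_eq fun a => by
      rw [IsScalarTower.algebraMap_apply A B (Localization.AtPrime P),
        IsScalarTower.algebraMap_apply A R (Localization.AtPrime p), IsScalarTower.algebraMap_apply A R B]
      exact (Localization.localRingHom_to_map p P _ hPp _).symm
  haveI : Module.Flat A (Localization.AtPrime P) := Module.Flat.trans A B _
  exact Groth.Agent.SepSurj.flat_of_comp_faithfullyFlat (R := A) (S := Localization.AtPrime p)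
    (T := Localization.AtPrime P)

/-- A flat model. -/
theorem exists_flat_model [Algebra.FinitePresentation A R]
    (hB : Hens2.IsPairHenselization R (I.map (algebraMap A R)) B) [Module.Flat A B] :
    ∃ (S : Type u) (_ : CommRing S) (_ : Algebra A S) (_ : Algebra S B), IsScalarTower A S B ∧
      Algebra.FinitePresentation A S ∧ Module.Flat A S ∧
      Hens2.IsPairHenselization S (I.map (algebraMap A S)) B := by
  have hU : IsOpen {q : PrimeSpectrum R | Module.Flat A (LocalizedModule q.asIdeal.primeCompl R)} :=
    Groth.Agent.FlatSpread.isOpen_flatLocus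
  obtain ⟨g, hg, hgU⟩ := exists_sub_one_mem_basicOpen_subset (I.map (algebraMap A R)) hU
    fun p hp => flat_atPrime_of_henselization hB p.asIdeal hp
  obtain ⟨algB, hT, hH⟩ := exists_model_of_nhd hB (Localization.Away g) (bijective_quotientMap_away _ hg)
  haveI : Algebra.FinitePresentation R (Localization.Away g) := IsLocalization.Away.finitePresentation g
  exact ⟨Localization.Away g, inferInstance, inferInstance, algB, hT,
    Algebra.FinitePresentation.trans A R _, flat_away g hgU, hH⟩

/-- The quotient of a model by a power of the ideal. -/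
theorem exists_quotient_equiv_one (hB : Hens2.IsPairHenselization R (I.map (algebraMap A R)) B) :
    Nonempty ((B ⧸ (I ^ 1).map (algebraMap A B)) ≃ₐ[A ⧸ I ^ 1] (R ⧸ (I ^ 1).map (algebraMap A R))) :=
  (exists_algEquiv_quotient I hB 1).map fun e => e.symm

end

end Groth.Agent.Hensel
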