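import Groth.Prelude.Def_EssEt
import Groth.Agent.Hensel.Etale
import Mathlib.RingTheory.Unramified.LocalRing

/-!
Essentially étale local algebras.
-/

set_option autoImplicit false

namespace Groth.Agent.Hensel

universe u

open IsLocalRing

variable {A : Type u} [CommRing A] [IsLocalRing A] {A₁ : Type u} [CommRing A₁] [Algebra A A₁]

theorem essEt_unramified (h : EGA4loc.IsEssentiallyEtale A A₁) :
    Algebra.FormallyUnramified A A₁ ∧ Algebra.EssFiniteType A A₁ := by
  obtain ⟨C, _, _, q, _, hC, -, ⟨e⟩⟩ := h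
  haveI := hC
  haveI : Algebra.FormallyUnramified C (Localization.AtPrime q) :=
    Algebra.FormallyUnramified.of_isLocalization q.primeCompl
  haveI : Algebra.FormallyUnramified A (Localization.AtPrime q) := Algebra.FormallyUnramified.comp A C _
  haveI : Algebra.EssFiniteType A (Localization.AtPrime q) := Algebra.EssFiniteType.comp A C _
  exact ⟨Algebra.FormallyUnramified.of_equiv e.symm,
    (Algebra.EssFiniteType.iff_of_algEquiv e.symm).1 inferInstance⟩

theorem essEt_hom_local [IsLocalRing A₁] [IsLocalHom (algebraMap A A₁)] (h : EGA4loc.IsEssentiallyEtale A A₁)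
    {A₂ : Type u} [CommRing A₂] [IsLocalRing A₂] [Algebra A A₂] [IsLocalHom (algebraMap A A₂)] (ψ : A₁ →ₐ[A] A₂) :
    IsLocalHom ψ.toRingHom := by
  obtain ⟨_, _⟩ := essEt_unramified h
  refine ((local_hom_TFAE ψ.toRingHom).out 0 2).2 ?_
  rw [← Algebra.FormallyUnramified.map_maximalIdeal (R := A) (S := A₁), Ideal.map_map,
    AlgHom.toRingHom_eq_coe, AlgHom.comp_algebraMap]
  exact ((local_hom_TFAE (algebraMap A A₂)).out 0 2).1 ‹_›

theorem essEt_hom_eq (h : EGA4loc.IsEssentiallyEtale A A₁) {A₂ : Type u} [CommRing A₂] [IsLocalRing A₂]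
    [Algebra A A₂] (ψ ψ' : A₁ →ₐ[A] A₂) (hr : ∀ x, residue A₂ (ψ x) = residue A₂ (ψ' x)) : ψ = ψ' := by
  obtain ⟨_, _⟩ := essEt_unramified h
  refine algHom_eq_of_unramified (maximalIdeal_le_jacobson ⊥) ψ ψ' fun x => ?_
  rw [← residue_eq_zero_iff, map_sub, hr, sub_self]

end Groth.Agent.Hensel
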