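import Groth.Agent.Hensel.BranchDimOne
import Mathlib

/-!
Branches and geometric branches of the completion of a local ring of dimension one.
-/

set_option autoImplicit false

namespace Groth.Agent.Hensel

universe u

open IsLocalRing

theorem numBranches_completion_dim_one (A : Type u) [CommRing A] [IsLocalRing A] [IsNoetherianRing A]
    (S : Type u) [CommRing S] [IsLocalRing S] [Algebra A S] [IsLocalHom (algebraMap A S)]
    [_root_.Hensel.IsHenselization A S] (hA : ringKrullDim A = 1) :
    Brnch.numBranches (AdicCompletion (maximalIdeal A) A) = Brnch.numBranches A := by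
  obtain ⟨ψ, hψ⟩ := exists_completion_map A S
  obtain ⟨hloc, hm, hres⟩ := completion_setup A S ψ hψ
  refine ((numBranches_eq_completion_iff_injOn A S ψ hψ).2 ?_).symm
  letI := ψ.toAlgebra
  haveI : IsLocalHom (algebraMap S (AdicCompletion (maximalIdeal A) A)) := hloc
  haveI := faithfullyFlat_completion A S ψ hψ
  haveI : HenselianLocalRing S := _root_.Hensel.IsHenselization.henselian (R := A)
  haveI : IsNoetherianRing S := (henselization_isNoetherianRing_iff A S).1 inferInstance
  exact injOn_minimalPrimes hm hres ((AdicBasics.ringKrullDim_completion A).trans hA)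

/-- A henselian Noetherian local ring of dimension one has as many minimal primes as its completion. -/
theorem card_minimalPrimes_completion_dim_one (S : Type u) [CommRing S] [HenselianLocalRing S] [IsNoetherianRing S]
    (hS : ringKrullDim S = 1) :
    ENat.card (minimalPrimes (AdicCompletion (maximalIdeal S) S)) = ENat.card (minimalPrimes S) := by
  haveI : IsLocalHom (algebraMap S S) := ⟨fun _ h => h⟩
  haveI := isHenselization_of_bijective (T := S) (T' := S) Function.bijective_id
  rw [← numBranches_completion, ← numBranches_henselian S]
  exact numBranches_completion_dim_one S S hS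

theorem geom_aux {A B : Type u} [CommRing A] [CommRing B] [IsLocalRing A] [IsLocalRing B] [IsNoetherianRing A]
    [IsNoetherianRing B] (f : A →+* B) [IsLocalHom f] (hf : f.Flat)
    (hm : (maximalIdeal A).map f = maximalIdeal B) (hres : Function.Surjective (ResidueField.map f))
    (hA : ringKrullDim A = 1)
    (S T : Type u) [CommRing S] [IsLocalRing S] [CommRing T] [IsLocalRing T] [Algebra A S] [Algebra B T]
    [IsLocalHom (algebraMap A S)] [IsLocalHom (algebraMap B T)] [_root_.Hensel.IsStrictHenselization A S]
    [_root_.Hensel.IsStrictHenselization B T] :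
    Brnch.numGeomBranches B = Brnch.numGeomBranches A := by
  refine le_antisymm ?_ (numGeomBranches_le_of_flat f hf)
  haveI : HenselianLocalRing S := _root_.Hensel.IsStrictHenselization.henselian (R := A)
  haveI : HenselianLocalRing T := _root_.Hensel.IsStrictHenselization.henselian (R := B)
  haveI : IsSepClosure (ResidueField A) (ResidueField S) := _root_.Hensel.IsStrictHenselization.isSepClosure
  haveI : IsSepClosure (ResidueField B) (ResidueField T) := _root_.Hensel.IsStrictHenselization.isSepClosure
  haveI : IsSepClosed (ResidueField T) := IsSepClosure.sep_closed (ResidueField B)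
  haveI : IsSepClosed (ResidueField S) := IsSepClosure.sep_closed (ResidueField A)
  haveI : Algebra.IsSeparable (ResidueField A) (ResidueField S) := IsSepClosure.separable
  haveI : Algebra.IsSeparable (ResidueField B) (ResidueField T) := IsSepClosure.separable
  haveI : IsNoetherianRing S := (strictHenselization_isNoetherianRing_iff A S).1 inferInstance
  haveI : IsNoetherianRing T := (strictHenselization_isNoetherianRing_iff B T).1 inferInstance
  let f' : A →+* T := (algebraMap B T).comp f
  haveI hloc : IsLocalHom f' := RingHom.isLocalHom_comp _ _
  letI := (ResidueField.map f').toAlgebra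
  let τ₀ : ResidueField S →ₐ[ResidueField A] ResidueField T := IsSepClosed.lift
  have hτ : τ₀.toRingHom.comp (ResidueField.map (algebraMap A S)) = ResidueField.map f' :=
    RingHom.ext τ₀.commutes
  obtain ⟨g, ⟨hg, hgr⟩, -⟩ :=
    _root_.Hensel.IsStrictHenselization.universal (R := A) (S := S) T f' τ₀.toRingHom hτ
  have hflat : g.Flat := by
    refine flat_of_strictHenselization (A := A) g ?_
    rw [hg]
    exact hf.comp (RingHom.flat_algebraMap_iff.2 (strictHenselization_flat B T))
  haveI : IsLocalHom g := ⟨fun x hx => by
    by_contra h
    refine ((residue_ne_zero_iff_isUnit (g x)).2 hx) ?_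
    rw [hgr, (residue_eq_zero_iff x).2 h, map_zero]⟩
  have hgm : (maximalIdeal S).map g = maximalIdeal T := by
    rw [← strictHenselization_map_maximalIdeal A S, Ideal.map_map, hg, ← Ideal.map_map, hm,
      strictHenselization_map_maximalIdeal B T]
  -- residue fields
  have hsepT : Algebra.IsSeparable (ResidueField A) (ResidueField T) := by
    refine Algebra.IsSeparable.of_equiv_equiv (A₁ := ResidueField B) (B₁ := ResidueField T)
      (RingEquiv.ofBijective (ResidueField.map f) ⟨RingHom.injective _, hres⟩).symm (RingEquiv.refl _) ?_
    refine RingHom.ext fun x => ?_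
    obtain ⟨y, rfl⟩ := hres x
    obtain ⟨a, rfl⟩ := residue_surjective y
    show algebraMap (ResidueField A) (ResidueField T)
      ((RingEquiv.ofBijective (ResidueField.map f) ⟨RingHom.injective _, hres⟩).symm (ResidueField.map f (residue A a))) = _
    rw [show (RingEquiv.ofBijective (ResidueField.map f) ⟨RingHom.injective _, hres⟩).symm
      (ResidueField.map f (residue A a)) = residue A a from (RingEquiv.symm_apply_eq _).2 rfl]
    rfl
  letI := τ₀.toRingHom.toAlgebra
  haveI : IsScalarTower (ResidueField A) (ResidueField S) (ResidueField T) :=
    IsScalarTower.of_algebraMap_eq fun x => (τ₀.commutes x).symm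
  haveI : Algebra.IsSeparable (ResidueField S) (ResidueField T) :=
    Algebra.isSeparable_tower_top_of_isSeparable (ResidueField A) (ResidueField S) (ResidueField T)
  have hτs : Function.Surjective τ₀ := IsSepClosed.algebraMap_surjective (ResidueField S) (ResidueField T)
  algebraize [g]
  haveI hff := Module.FaithfullyFlat.of_flat_of_isLocalHom (A := S) (B := T)
  have hpow : PowBij (maximalIdeal S) T := by
    refine ⟨fun n a ha => ?_, exists_sub_mem_pow _ _ fun t => ?_⟩
    · rw [← Ideal.map_pow, ← Ideal.mem_comap] at ha
      rwa [Ideal.comap_map_eq_self_of_faithfullyFlat] at ha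
    · obtain ⟨y, hy⟩ := hτs (residue T t)
      obtain ⟨s, rfl⟩ := residue_surjective y
      refine ⟨s, ?_⟩
      rw [show algebraMap S T = g from rfl, hgm, ← residue_eq_zero_iff, map_sub, hgr, sub_eq_zero]
      exact hy.symm
  have hlocC : IsLocalHom hpow.toCompletion := ⟨fun t ht => by
    by_contra h
    have h1 : t ∈ maximalIdeal T := h
    have h2 : AdicCompletion.evalₐ (maximalIdeal S) 1 (hpow.toCompletion t) = 0 := by
      rw [hpow.evalₐ_toCompletion (a := 0) (by
        rw [map_zero, sub_zero, pow_one, show algebraMap S T = g from rfl, hgm]; exact h1), map_zero]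
    have h3 := (ht.map (AdicCompletion.evalₐ (maximalIdeal S) 1))
    rw [h2, isUnit_zero_iff, eq_comm, ← map_one (Ideal.Quotient.mk _), Ideal.Quotient.eq_zero_iff_mem, pow_one] at h3
    exact (maximalIdeal.isMaximal S).ne_top ((Ideal.eq_top_iff_one _).2 h3)⟩
  haveI : IsNoetherianRing (AdicCompletion (maximalIdeal S) S) :=
    Groth.Agent.ResExt.isNoetherianRing_adicCompletion _ (IsNoetherian.noetherian _)
  have hle : ENat.card (minimalPrimes T) ≤ ENat.card (minimalPrimes (AdicCompletion (maximalIdeal S) S)) := by
    letI := hpow.toCompletion.toAlgebra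
    haveI : Module.Flat T (AdicCompletion (maximalIdeal S) S) := hpow.flat
    haveI : IsLocalHom (algebraMap T (AdicCompletion (maximalIdeal S) S)) := hlocC
    haveI := Module.FaithfullyFlat.of_flat_of_isLocalHom (A := T) (B := AdicCompletion (maximalIdeal S) S)
    exact card_minimalPrimes_le
  rw [card_minimalPrimes_completion_dim_one S ((strictHenselization_ringKrullDim A S).trans hA)] at hle
  rwa [← card_minimalPrimes_strictHenselization (A := A) (S := S),
    ← card_minimalPrimes_strictHenselization (A := B) (S := T)]

theorem numGeomBranches_eq_of_dim_one {A B : Type u} [CommRing A] [CommRing B] [IsLocalRing A] [IsLocalRing B]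
    [IsNoetherianRing A] [IsNoetherianRing B] (f : A →+* B) [IsLocalHom f] (hf : f.Flat)
    (hm : (maximalIdeal A).map f = maximalIdeal B) (hres : Function.Surjective (ResidueField.map f))
    (hA : ringKrullDim A = 1) : Brnch.numGeomBranches B = Brnch.numGeomBranches A := by
  obtain ⟨_, hA'⟩ := exists_strictHenselization A
  obtain ⟨_, hB'⟩ := exists_strictHenselization B
  haveI := henselian_env A (SeparableClosure (ResidueField A))
  haveI := henselian_env B (SeparableClosure (ResidueField B))
  exact geom_aux f hf hm hres hA (Env A (SeparableClosure (ResidueField A)))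
    (Env B (SeparableClosure (ResidueField B)))

theorem branches_completion_dim_one (A : Type u) [CommRing A] [IsLocalRing A] [IsNoetherianRing A]
    (hA : ringKrullDim A = 1) :
    Brnch.numBranches (AdicCompletion (maximalIdeal A) A) = Brnch.numBranches A ∧
      Brnch.numGeomBranches (AdicCompletion (maximalIdeal A) A) = Brnch.numGeomBranches A := by
  obtain ⟨_, hH⟩ := exists_henselization A
  haveI := henselian_env A (ResidueField A)
  refine ⟨numBranches_completion_dim_one A (Env A (ResidueField A)) hA,
    numGeomBranches_eq_of_dim_one (algebraMap A (AdicCompletion (maximalIdeal A) A))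
      (RingHom.flat_algebraMap_iff.2 (AdicCompletion.flat_of_isNoetherian _))
      AdicCompletion.maximalIdeal_eq_map.symm
      (AdicCompletion.residueField_map_bijective_of_fg (maximalIdeal A).fg_of_isNoetherianRing).2 hA⟩

end Groth.Agent.Hensel
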