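import Groth.Agent.LocH.DepthMisc
import Groth.Agent.Hensel.HenselizationNoeth

/-!
Depth and the Cohen–Macaulay property under (strict) henselization.
-/

set_option autoImplicit false

namespace Groth.Agent.Hensel

universe u

open IsLocalRing

/-- Depth is invariant along a faithfully flat local extension with trivial closed fibre. -/
theorem depth_eq_of_map_maximalIdeal {R S : Type u} [CommRing R] [IsLocalRing R] [IsNoetherianRing R] [CommRing S]
    [IsLocalRing S] [IsNoetherianRing S] [Algebra R S] [Module.FaithfullyFlat R S]
    (hm : (maximalIdeal R).map (algebraMap R S) = maximalIdeal S) : LocCoh.depth S S = LocCoh.depth R R := by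
  have h := le_antisymm (LocH.idealDepth_baseChange_le (S := S) (maximalIdeal R) R)
    (LocH.idealDepth_le_baseChange (S := S) (maximalIdeal R) R)
  rw [LocH.idealDepth_congr (TensorProduct.AlgebraTensorModule.rid R S S), hm] at h
  exact h

theorem isCohenMacaulay_iff_of_map_maximalIdeal {R S : Type u} [CommRing R] [IsLocalRing R] [IsNoetherianRing R]
    [CommRing S] [IsLocalRing S] [IsNoetherianRing S] [Algebra R S] [Module.FaithfullyFlat R S]
    (hm : (maximalIdeal R).map (algebraMap R S) = maximalIdeal S) (hd : ringKrullDim S = ringKrullDim R) :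
    LocCoh.IsCohenMacaulayLocalRing S ↔ LocCoh.IsCohenMacaulayLocalRing R := by
  have hdep := depth_eq_of_map_maximalIdeal hm
  refine ⟨fun h => ⟨?_⟩, fun h => ⟨?_⟩⟩
  · have h' := h.supportDim_eq_depth
    rw [Module.supportDim_self_eq_ringKrullDim] at h' ⊢
    rw [← hd, h', ← hdep]
  · have h' := h.supportDim_eq_depth
    rw [Module.supportDim_self_eq_ringKrullDim] at h' ⊢
    rw [hd, h', hdep]

end Groth.Agent.Hensel
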