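import Groth.Agent.Hensel.BranchCountStrict
import Groth.Agent.Hensel.Fibres
import Groth.Agent.SegreDim.Noether
import Mathlib

/-!
Dimensions of the irreducible components of (strict) henselizations and of the normalisation.
-/

set_option autoImplicit false

namespace Groth.Agent.Hensel

universe u

open IsLocalRing TensorProduct

theorem UnramifiedFibres.le_of_comap_le {R S : Type u} [CommRing R] [CommRing S] [Algebra R S]
    (hU : UnramifiedFibres R S) {P P' : Ideal S} [P.IsPrime] [P'.IsPrime] (h : P ≤ P')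
    (he : P'.comap (algebraMap R S) ≤ P.comap (algebraMap R S)) : P' ≤ P := fun z hz => by
  obtain ⟨s, hs, hsz⟩ := hU P' ‹_› z hz
  exact (Ideal.IsPrime.mem_or_mem ‹_› ((Ideal.map_le_iff_le_comap.2 he) hsz)).resolve_left fun hh => hs (h hh)

variable {A : Type u} [CommRing A] {S : Type u} [CommRing S] [Algebra A S]

/-- The inclusion of the normalisation into its base change. -/
abbrev brIncl : CAlg2.normRed A →ₐ[A] brTensor A S := Algebra.TensorProduct.includeRight

theorem flat_brIncl [Module.Flat A S] : (brIncl (A := A) (S := S)).toRingHom.Flat := by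
  letI : Algebra (CAlg2.normRed A) (brTensor A S) := Algebra.TensorProduct.rightAlgebra
  rw [show (brIncl (A := A) (S := S)).toRingHom = algebraMap (CAlg2.normRed A) (brTensor A S) from rfl,
    RingHom.flat_algebraMap_iff]
  refine Module.Flat.of_linearEquiv (M := CAlg2.normRed A ⊗[A] S) (LinearEquiv.symm ?_)
  exact
    { (Algebra.TensorProduct.comm A (CAlg2.normRed A) S).toLinearEquiv.toAddEquiv with
      map_smul' := fun r x => by
        change (Algebra.TensorProduct.comm A (CAlg2.normRed A) S) (r • x) =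
          (1 : S) ⊗ₜ[A] r * (Algebra.TensorProduct.comm A (CAlg2.normRed A) S) x
        rw [Algebra.smul_def, map_mul]
        rfl }

theorem strictMono_comap_brIncl (hU : UnramifiedFibres A S) :
    StrictMono (PrimeSpectrum.comap (brIncl (A := A) (S := S)).toRingHom) := by
  haveI := isIntegral_brTensor (A := A) (S := S)
  intro Q Q' h
  refine lt_of_le_of_ne (Ideal.comap_mono h.le) fun he => ?_
  have h1 : Q'.asIdeal.comap (algebraMap S (brTensor A S)) ≤ Q.asIdeal.comap (algebraMap S (brTensor A S)) := by
    refine hU.le_of_comap_le (Ideal.comap_mono h.le) ?_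
    have h2 := congrArg (fun q : PrimeSpectrum (CAlg2.normRed A) => q.asIdeal.comap (algebraMap A (CAlg2.normRed A))) he
    simp only [PrimeSpectrum.comap_asIdeal, Ideal.comap_comap, AlgHom.toRingHom_eq_coe, AlgHom.comp_algebraMap] at h2
    rw [Ideal.comap_comap, Ideal.comap_comap, ← IsScalarTower.algebraMap_eq]
    exact h2.ge
  exact (Ideal.IsIntegral.comap_lt_comap (R := S) (show Q.asIdeal < Q'.asIdeal from h)).not_ge h1

/-- The height of a point of the base change is the height of its image in the normalisation. -/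
theorem height_brTensor [Module.Flat A S] (hU : UnramifiedFibres A S) (M : PrimeSpectrum (brTensor A S)) :
    Order.height (PrimeSpectrum.comap (brIncl (A := A) (S := S)).toRingHom M) = Order.height M := by
  refine le_antisymm (Order.height_le fun l hl => ?_)
    (Order.height_le_height_apply_of_strictMono _ (strictMono_comap_brIncl hU) M)
  letI : Algebra (CAlg2.normRed A) (brTensor A S) := (brIncl (A := A) (S := S)).toRingHom.toAlgebra
  haveI : Module.Flat (CAlg2.normRed A) (brTensor A S) := flat_brIncl
  haveI : M.asIdeal.LiesOver l.last.asIdeal := ⟨by rw [hl]; rfl⟩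
  obtain ⟨L, hlen, hlast, -⟩ := Ideal.exists_ltSeries_of_hasGoingDown l M.asIdeal
  rw [← hlen]
  exact Order.length_le_height (le_of_eq hlast)

theorem ringKrullDim_comap_eq_atPrime [HenselianLocalRing S] [Module.Flat A S] (hU : UnramifiedFibres A S)
    (hdom : ∀ (M : Ideal (brTensor A S)) [M.IsMaximal], IsDomain (Localization.AtPrime M))
    {P : Ideal (brTensor A S)} (hP : P ∈ minimalPrimes (brTensor A S)) (M : Ideal (brTensor A S)) [M.IsMaximal]
    (hPM : P ≤ M) : ringKrullDim (S ⧸ P.comap (algebraMap S (brTensor A S))) =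
      ringKrullDim (Localization.AtPrime (M.comap (brIncl (A := A) (S := S)).toRingHom)) := by
  haveI := isIntegral_brTensor (A := A) (S := S)
  haveI : P.IsPrime := hP.1.1
  have huniq : ∀ (M' : Ideal (brTensor A S)) [M'.IsMaximal], P ≤ M' → M' = M := fun M' _ hM' => by
    haveI : IsLocalRing (brTensor A S ⧸ P) := isLocalRing_of_integral_domain S (brTensor A S ⧸ P)
    have key : ∀ (N : Ideal (brTensor A S)) [N.IsMaximal], P ≤ N →
        N = (maximalIdeal (brTensor A S ⧸ P)).comap (Ideal.Quotient.mk P) := fun N hN hPN => by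
      refine hN.eq_of_le (Ideal.comap_ne_top _ (maximalIdeal.isMaximal _).ne_top) fun x hx => ?_
      rw [Ideal.mem_comap, IsLocalRing.mem_maximalIdeal, mem_nonunits_iff]
      intro hu
      obtain ⟨y, hy⟩ := hu.exists_right_inv
      obtain ⟨y, rfl⟩ := Ideal.Quotient.mk_surjective y
      rw [← map_mul, ← map_one (Ideal.Quotient.mk P), Ideal.Quotient.eq] at hy
      exact hN.ne_top ((Ideal.eq_top_iff_one _).2
        (by simpa using N.sub_mem (N.mul_mem_right y hx) (hPN hy)))
    rw [key M' hM', key M hPM]
  have hmin : ∀ Q ∈ minimalPrimes (brTensor A S), Q ≤ M → Q = P := by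
    haveI := hdom M
    haveI : (⊥ : Ideal (Localization.AtPrime M)).IsPrime := Ideal.isPrime_bot
    let K := (⊥ : Ideal (Localization.AtPrime M)).comap (algebraMap (brTensor A S) _)
    have key : ∀ Q ∈ minimalPrimes (brTensor A S), Q ≤ M → Q = K := fun Q hQ hQM => by
      have hle : K ≤ Q := fun x hx => by
        obtain ⟨c, hc⟩ := (IsLocalization.map_eq_zero_iff M.primeCompl _ x).1 hx
        exact ((hQ.1.1).mem_or_mem (hc ▸ Q.zero_mem)).resolve_left fun h => c.2 (hQM h)
      exact le_antisymm (hQ.2 ⟨Ideal.IsPrime.comap _, bot_le⟩ hle) hle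
    exact fun Q hQ hQM => (key Q hQ hQM).trans (key P hP hPM).symm
  have hset : PrimeSpectrum.zeroLocus (R := brTensor A S) P = Set.Iic ⟨M, inferInstance⟩ := by
    ext Q
    rw [PrimeSpectrum.mem_zeroLocus, SetLike.coe_subset_coe, Set.mem_Iic]
    refine ⟨fun h => ?_, fun h => ?_⟩
    · obtain ⟨M', hM', hle⟩ := Q.asIdeal.exists_le_maximal Q.2.ne_top
      exact hle.trans (huniq M' (h.trans hle)).le
    · obtain ⟨P', hP', hle⟩ := Ideal.exists_minimalPrimes_le (bot_le : (⊥ : Ideal (brTensor A S)) ≤ Q.asIdeal)
      exact (hmin P' hP' (hle.trans h)).ge.trans hle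
  have h1 : ringKrullDim (S ⧸ P.comap (algebraMap S (brTensor A S))) = ringKrullDim (brTensor A S ⧸ P) := by
    haveI : P.LiesOver (P.comap (algebraMap S (brTensor A S))) := ⟨rfl⟩
    haveI : IsScalarTower S (S ⧸ P.comap (algebraMap S (brTensor A S))) (brTensor A S ⧸ P) :=
      IsScalarTower.of_algebraMap_eq fun _ => rfl
    haveI : Algebra.IsIntegral S (brTensor A S ⧸ P) :=
      ⟨fun y => by
        obtain ⟨y, rfl⟩ := Ideal.Quotient.mk_surjective y
        exact (Algebra.IsIntegral.isIntegral (R := S) y).map (Ideal.Quotient.mkₐ S P)⟩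
    haveI : Algebra.IsIntegral (S ⧸ P.comap (algebraMap S (brTensor A S))) (brTensor A S ⧸ P) :=
      ⟨fun y => (Algebra.IsIntegral.isIntegral (R := S) y).tower_top⟩
    exact SegreDim.ringKrullDim_eq_of_injective_integral (A := S ⧸ P.comap (algebraMap S (brTensor A S)))
      (B := brTensor A S ⧸ P)
      (FaithfulSMul.algebraMap_injective (S ⧸ P.comap (algebraMap S (brTensor A S))) (brTensor A S ⧸ P))
  rw [h1, ringKrullDim_quotient, hset, ← Order.height_eq_krullDim_Iic, ← height_brTensor hU,
    IsLocalization.AtPrime.ringKrullDim_eq_height (M.comap (brIncl (A := A) (S := S)).toRingHom)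
      (Localization.AtPrime (M.comap (brIncl (A := A) (S := S)).toRingHom)),
    ← PrimeSpectrum.height_eq_orderHeight]
  rfl

theorem forall_le_dim_iff [IsLocalRing A] [HenselianLocalRing S] [IsLocalHom (algebraMap A S)]
    [Module.FaithfullyFlat A S] (hfin : (minimalPrimes A).Finite) (hU : UnramifiedFibres A S)
    (hdom : ∀ (M : Ideal (brTensor A S)) [M.IsMaximal], IsDomain (Localization.AtPrime M)) (d : WithBot ℕ∞) :
    (∀ m : MaximalSpectrum (CAlg2.normRed A), d ≤ ringKrullDim (Localization.AtPrime m.asIdeal)) ↔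
      ∀ p ∈ minimalPrimes S, d ≤ ringKrullDim (S ⧸ p) := by
  constructor
  · intro h p hp
    obtain ⟨P, hP, rfl⟩ := (bijOn_minimalPrimes (A := A) (S := S) hfin).surjOn hp
    obtain ⟨M, hM, hPM⟩ := P.exists_le_maximal hP.1.1.ne_top
    rw [ringKrullDim_comap_eq_atPrime hU hdom hP M hPM]
    exact h ⟨_, (comap_maximal_brTensor M).2.1⟩
  · intro h m
    haveI := m.isMaximal
    letI : Algebra (CAlg2.normRed A) (brTensor A S) := Algebra.TensorProduct.rightAlgebra
    haveI : Module.FaithfullyFlat (CAlg2.normRed A) (brTensor A S) := by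
      refine Module.FaithfullyFlat.of_linearEquiv (CAlg2.normRed A) (CAlg2.normRed A ⊗[A] S) (LinearEquiv.symm ?_)
      exact
        { (Algebra.TensorProduct.comm A (CAlg2.normRed A) S).toLinearEquiv.toAddEquiv with
          map_smul' := fun r x => by
            change (Algebra.TensorProduct.comm A (CAlg2.normRed A) S) (r • x) =
              (1 : S) ⊗ₜ[A] r * (Algebra.TensorProduct.comm A (CAlg2.normRed A) S) x
            rw [Algebra.smul_def, map_mul]
            rfl }
    obtain ⟨Q, hQ⟩ := PrimeSpectrum.comap_surjective_of_faithfullyFlat (A := CAlg2.normRed A) (B := brTensor A S)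
      ⟨m.asIdeal, inferInstance⟩
    obtain ⟨M, hM, hQM⟩ := Q.asIdeal.exists_le_maximal Q.2.ne_top
    obtain ⟨P, hP, hPM⟩ := Ideal.exists_minimalPrimes_le (bot_le : (⊥ : Ideal (brTensor A S)) ≤ M)
    have hm : M.comap (brIncl (A := A) (S := S)).toRingHom = m.asIdeal := by
      have hle : m.asIdeal ≤ M.comap (brIncl (A := A) (S := S)).toRingHom :=
        (congrArg PrimeSpectrum.asIdeal hQ).ge.trans (Ideal.comap_mono hQM)
      exact (m.isMaximal.eq_of_le (Ideal.comap_ne_top _ hM.ne_top) hle).symm
    have h1 := (h _ ((bijOn_minimalPrimes (A := A) (S := S) hfin).mapsTo hP)).trans_eq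
      (ringKrullDim_comap_eq_atPrime hU hdom hP M hPM)
    rwa [IsLocalization.AtPrime.ringKrullDim_eq_height (M.comap (brIncl (A := A) (S := S)).toRingHom)
      (Localization.AtPrime (M.comap (brIncl (A := A) (S := S)).toRingHom)), hm,
      ← IsLocalization.AtPrime.ringKrullDim_eq_height m.asIdeal (Localization.AtPrime m.asIdeal)] at h1

end Groth.Agent.Hensel
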