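import Groth.Agent.Hensel.PunctConn
import Groth.Agent.Hensel.TensorFinite
import Groth.Agent.AdicBasics.Dimension
import Mathlib

/-!
Branches of the completion in dimension one.
-/

set_option autoImplicit false

namespace Groth.Agent.Hensel

universe u

open IsLocalRing

/-- A henselian local ring has as many branches as minimal primes. -/
theorem numBranches_henselian (B : Type u) [CommRing B] [HenselianLocalRing B] :
    Brnch.numBranches B = ENat.card (minimalPrimes B) := by
  haveI : IsLocalHom (algebraMap B B) := ⟨fun _ h => h⟩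
  haveI := isHenselization_of_bijective (T := B) (T' := B) Function.bijective_id
  exact (card_minimalPrimes_henselization (A := B) (S := B)).symm

theorem henselianLocalRing_completion (A : Type u) [CommRing A] [IsLocalRing A] [IsNoetherianRing A] :
    HenselianLocalRing (AdicCompletion (maximalIdeal A) A) := by
  haveI h := IsAdicComplete.henselianRing (AdicCompletion (maximalIdeal A) A) (maximalIdeal _)
  exact { is_henselian := fun f hf a₀ h₁ h₂ => h.is_henselian f hf a₀ h₁ (h₂.map (Ideal.Quotient.mk _)) }

theorem numBranches_completion (A : Type u) [CommRing A] [IsLocalRing A] [IsNoetherianRing A] :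
    Brnch.numBranches (AdicCompletion (maximalIdeal A) A) =
      ENat.card (minimalPrimes (AdicCompletion (maximalIdeal A) A)) := by
  haveI := henselianLocalRing_completion A
  exact numBranches_henselian _

theorem completion_setup (A S : Type u) [CommRing A] [IsLocalRing A] [IsNoetherianRing A] [CommRing S] [IsLocalRing S]
    [Algebra A S] [IsLocalHom (algebraMap A S)] [_root_.Hensel.IsHenselization A S]
    (ψ : S →+* AdicCompletion (maximalIdeal A) A)
    (hψ : ψ.comp (algebraMap A S) = algebraMap A (AdicCompletion (maximalIdeal A) A)) :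
    IsLocalHom ψ ∧ (maximalIdeal S).map ψ = maximalIdeal (AdicCompletion (maximalIdeal A) A) ∧
      ∀ b, ∃ s, b - ψ s ∈ maximalIdeal (AdicCompletion (maximalIdeal A) A) := by
  have hm : (maximalIdeal S).map ψ = maximalIdeal (AdicCompletion (maximalIdeal A) A) := by
    rw [← henselization_map_maximalIdeal A S, Ideal.map_map, hψ, AdicCompletion.maximalIdeal_eq_map]
  refine ⟨((local_hom_TFAE ψ).out 0 2).2 hm.le, hm, fun b => ?_⟩
  obtain ⟨c, hc⟩ := (AdicCompletion.residueField_map_bijective_of_fg (maximalIdeal A).fg_of_isNoetherianRing).2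
    (residue _ b)
  obtain ⟨a, rfl⟩ := residue_surjective c
  refine ⟨algebraMap A S a, ?_⟩
  rw [← RingHom.comp_apply, hψ, ← residue_eq_zero_iff, map_sub, ← ResidueField.map_residue, hc, sub_self]

/-- Contraction is injective on minimal primes iff the radicals of extensions are prime. -/
theorem injOn_iff_radical_isPrime {S B : Type u} [CommRing S] [CommRing B] [Algebra S B]
    [Module.FaithfullyFlat S B] :
    Set.InjOn (Ideal.comap (algebraMap S B)) (minimalPrimes B) ↔
      ∀ q ∈ minimalPrimes S, (Ideal.map (algebraMap S B) q).radical.IsPrime := by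
  have hmin : ∀ q ∈ minimalPrimes S, ∀ P ∈ (Ideal.map (algebraMap S B) q).minimalPrimes,
      P ∈ minimalPrimes B ∧ P.comap (algebraMap S B) = q := by
    intro q hq P hP
    haveI := hP.1.1
    haveI := hq.1.1
    have hqP : q ≤ P.comap (algebraMap S B) := Ideal.map_le_iff_le_comap.1 hP.1.2
    haveI : P.LiesOver (P.comap (algebraMap S B)) := ⟨rfl⟩
    obtain ⟨P₀, hle, hP₀, hover⟩ := Ideal.exists_ideal_le_liesOver_of_le (p := q) P hqP
    have h0 : P₀.comap (algebraMap S B) = q := hover.over.symm
    have hPP₀ : P ≤ P₀ := hP.2 ⟨hP₀, Ideal.map_le_iff_le_comap.2 h0.ge⟩ hle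
    have hcomap : P.comap (algebraMap S B) = q := by rw [le_antisymm hPP₀ hle]; exact h0
    refine ⟨⟨⟨inferInstance, bot_le⟩, fun P' hP' hle' => ?_⟩, hcomap⟩
    haveI := hP'.1
    refine hP.2 ⟨hP'.1, Ideal.map_le_iff_le_comap.2 ?_⟩ hle'
    exact hq.2 ⟨Ideal.IsPrime.comap _, bot_le⟩ ((Ideal.comap_mono hle').trans hcomap.le)
  constructor
  · intro hinj q hq
    obtain ⟨P, hP, hPq⟩ := exists_minimal_comap_eq (A := S) (S := B) hq
    haveI := hP.1.1
    rw [← Ideal.sInf_minimalPrimes]
    have hle : Ideal.map (algebraMap S B) q ≤ P := Ideal.map_le_iff_le_comap.2 hPq.ge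
    have hs : (Ideal.map (algebraMap S B) q).minimalPrimes = {P} := by
      refine Set.eq_singleton_iff_unique_mem.2 ⟨?_, fun Q hQ => ?_⟩
      · exact ⟨⟨inferInstance, hle⟩, fun Q hQ h => hP.2 ⟨hQ.1, bot_le⟩ h⟩
      · exact hinj (hmin q hq Q hQ).1 hP ((hmin q hq Q hQ).2.trans hPq.symm)
    rw [hs, sInf_singleton]
    infer_instance
  · intro hrad P hP P' hP' h
    have hq := comap_mem_minimalPrimes_of_flat (R := S) hP
    haveI := hP.1.1
    haveI := hP'.1.1
    have hr := hrad _ hq
    have h1 : (Ideal.map (algebraMap S B) (P.comap (algebraMap S B))).radical ≤ P :=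
      (Ideal.IsPrime.radical_le_iff inferInstance).2 Ideal.map_comap_le
    have h2 : (Ideal.map (algebraMap S B) (P.comap (algebraMap S B))).radical ≤ P' :=
      (Ideal.IsPrime.radical_le_iff inferInstance).2 (h ▸ Ideal.map_comap_le)
    exact (le_antisymm h1 (hP.2 ⟨hr, bot_le⟩ h1)).symm.trans (le_antisymm h2 (hP'.2 ⟨hr, bot_le⟩ h2))

/-- Equality of the numbers of minimal primes is injectivity of contraction. -/
theorem card_eq_iff_injOn {S B : Type u} [CommRing S] [CommRing B] [Algebra S B]
    [Module.FaithfullyFlat S B] [IsNoetherianRing B] :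
    ENat.card (minimalPrimes S) = ENat.card (minimalPrimes B) ↔
      Set.InjOn (Ideal.comap (algebraMap S B)) (minimalPrimes B) := by
  haveI : Finite (minimalPrimes B) := (minimalPrimes.finite_of_isNoetherianRing B).to_subtype
  let f : minimalPrimes B → minimalPrimes S := fun P => ⟨_, comap_mem_minimalPrimes_of_flat P.2⟩
  have hf : Function.Surjective f := fun p => by
    obtain ⟨P, hP, hPp⟩ := exists_minimal_comap_eq (A := S) (S := B) p.2
    exact ⟨⟨P, hP⟩, Subtype.ext hPp⟩
  haveI : Finite (minimalPrimes S) := Finite.of_surjective f hf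
  constructor
  · intro h P hP P' hP' he
    rw [ENat.card_eq_coe_natCard, ENat.card_eq_coe_natCard, Nat.cast_inj] at h
    have hb : Function.Bijective f := hf.bijective_of_nat_card_le h.ge
    exact congrArg Subtype.val (hb.1 (show f ⟨P, hP⟩ = f ⟨P', hP'⟩ from Subtype.ext he))
  · intro h
    refine (ENat.card_congr (Equiv.ofBijective f ⟨fun P P' he => ?_, hf⟩)).symm
    exact Subtype.ext (h P.2 P'.2 (congrArg Subtype.val he))

theorem numBranches_eq_completion_iff_injOn (A S : Type u) [CommRing A] [IsLocalRing A] [IsNoetherianRing A]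
    [CommRing S] [IsLocalRing S] [Algebra A S] [IsLocalHom (algebraMap A S)] [_root_.Hensel.IsHenselization A S]
    (ψ : S →+* AdicCompletion (maximalIdeal A) A)
    (hψ : ψ.comp (algebraMap A S) = algebraMap A (AdicCompletion (maximalIdeal A) A)) :
    Brnch.numBranches A = Brnch.numBranches (AdicCompletion (maximalIdeal A) A) ↔
      Set.InjOn (Ideal.comap ψ) (minimalPrimes (AdicCompletion (maximalIdeal A) A)) := by
  rw [numBranches_completion, ← card_minimalPrimes_henselization (A := A) (S := S)]
  letI := ψ.toAlgebra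
  haveI := faithfullyFlat_completion A S ψ hψ
  haveI : IsNoetherianRing (AdicCompletion (maximalIdeal A) A) :=
    Groth.Agent.ResExt.isNoetherianRing_adicCompletion _ (IsNoetherian.noetherian _)
  exact card_eq_iff_injOn

theorem exists_completion_map (A S : Type u) [CommRing A] [IsLocalRing A] [IsNoetherianRing A]
    [CommRing S] [IsLocalRing S] [Algebra A S] [IsLocalHom (algebraMap A S)] [_root_.Hensel.IsHenselization A S] :
    ∃ ψ : S →+* AdicCompletion (maximalIdeal A) A,
      ψ.comp (algebraMap A S) = algebraMap A (AdicCompletion (maximalIdeal A) A) := by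
  haveI := henselianLocalRing_completion A
  obtain ⟨ψ, h, -⟩ := _root_.Hensel.IsHenselization.universal (R := A) (S := S)
    (AdicCompletion (maximalIdeal A) A) (algebraMap A _) inferInstance
  exact ⟨ψ, h⟩

end Groth.Agent.Hensel
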