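import Groth.Agent.Hensel.BranchDimOne
import Groth.Agent.Hensel.Fibres
import Mathlib

/-!
Components of the completion of a henselian domain of dimension at least two have dimension at least two.
-/

set_option autoImplicit false

namespace Groth.Agent.Hensel

universe u

open IsLocalRing TensorProduct

/-- An element carried into `b B` by an ideal `J` of the base lies in the extension of the colon. -/
theorem mem_map_colon_of_flat {D B : Type u} [CommRing D] [IsNoetherianRing D] [CommRing B] [Algebra D B]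
    [Module.Flat D B] (b : D) (J : Ideal D) {u : B}
    (hu : ∀ y ∈ J, algebraMap D B y * u ∈ Ideal.span {algebraMap D B b}) :
    u ∈ (Submodule.colon (Ideal.span {b}) (J : Set D)).map (algebraMap D B) := by
  classical
  obtain ⟨n, g, hg⟩ := Submodule.fg_iff_exists_fin_generating_family.1 (IsNoetherian.noetherian J)
  let f : D →ₗ[D] (Fin n → D ⧸ Ideal.span {b}) :=
    LinearMap.pi fun i => (Ideal.Quotient.mkₐ D (Ideal.span {b})).toLinearMap ∘ₗ LinearMap.mul D D (g i)
  have hker : LinearMap.ker f = Submodule.colon (Ideal.span {b}) (J : Set D) := by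
    ext d
    rw [LinearMap.mem_ker, Submodule.mem_colon, funext_iff]
    simp only [f, LinearMap.pi_apply, LinearMap.comp_apply, LinearMap.mul_apply', AlgHom.toLinearMap_apply,
      Ideal.Quotient.mkₐ_eq_mk, Pi.zero_apply, Ideal.Quotient.eq_zero_iff_mem, smul_eq_mul]
    refine ⟨fun h y hy => ?_, fun h i => mul_comm d (g i) ▸ h _ (hg ▸ Submodule.subset_span ⟨i, rfl⟩)⟩
    rw [← hg] at hy
    induction hy using Submodule.span_induction with
    | mem y hy =>
      obtain ⟨i, rfl⟩ := hy
      rw [mul_comm]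
      exact h i
    | zero => simp
    | add y y' _ _ hy hy' => rw [mul_add]; exact add_mem hy hy'
    | smul c y _ hy => rw [smul_eq_mul, mul_left_comm]; exact Ideal.mul_mem_left _ c hy
  have hex : Function.Exact (LinearMap.lTensor B (LinearMap.ker f).subtype) (LinearMap.lTensor B f) :=
    Module.Flat.lTensor_exact B (LinearMap.exact_subtype_ker_map f)
  have h0 : LinearMap.lTensor B f (u ⊗ₜ[D] 1) = 0 := by
    rw [LinearMap.lTensor_tmul, ← Finset.univ_sum_single (f 1), TensorProduct.tmul_sum]
    refine Finset.sum_eq_zero fun i _ => ?_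
    obtain ⟨w, hw⟩ := Ideal.mem_span_singleton'.1 (hu (g i) (hg ▸ Submodule.subset_span ⟨i, rfl⟩))
    rw [show f 1 i = g i • (1 : D ⧸ Ideal.span {b}) by simp [f, Algebra.smul_def], Pi.single_smul,
      ← TensorProduct.smul_tmul, Algebra.smul_def, ← hw, mul_comm, ← Algebra.smul_def, TensorProduct.smul_tmul,
      ← Pi.single_smul, Algebra.smul_def, Ideal.Quotient.algebraMap_eq,
      Ideal.Quotient.eq_zero_iff_mem.2 (Ideal.mem_span_singleton_self b), zero_mul, Pi.single_zero,
      TensorProduct.tmul_zero]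
  obtain ⟨z, hz⟩ := (hex _).1 h0
  have key : ∀ z : B ⊗[D] LinearMap.ker f, (TensorProduct.rid D B) (LinearMap.lTensor B (LinearMap.ker f).subtype z) ∈
      (Submodule.colon (Ideal.span {b}) (J : Set D)).map (algebraMap D B) := by
    intro z
    induction z using TensorProduct.induction_on with
    | zero => simp
    | tmul x y =>
      simp only [LinearMap.lTensor_tmul, Submodule.coe_subtype, TensorProduct.rid_tmul, Algebra.smul_def]
      exact Ideal.mul_mem_right _ _ (Ideal.mem_map_of_mem _ (hker ▸ y.2))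
    | add x y hx hy => simpa using add_mem hx hy
  have h := key z
  rwa [hz, TensorProduct.rid_tmul, one_smul] at h

/-- The base change of a finite local algebra to a local ring with the same residue field is local. -/
theorem isLocalRing_tensor_of_residue {D B C : Type u} [CommRing D] [IsLocalRing D] [CommRing B] [IsLocalRing B]
    [CommRing C] [IsLocalRing C] [Algebra D B] [Algebra D C] [Algebra.IsIntegral D C]
    (hm : (maximalIdeal D).map (algebraMap D B) = maximalIdeal B)
    (hres : ∀ x : B, ∃ d : D, x - algebraMap D B d ∈ maximalIdeal B) [Nontrivial (B ⊗[D] C)] :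
    IsLocalRing (B ⊗[D] C) := by
  haveI : Algebra.IsIntegral B (B ⊗[D] C) := ⟨fun y => by
    induction y using TensorProduct.induction_on with
    | zero => exact isIntegral_zero
    | add a b ha hb => exact ha.add hb
    | tmul s r =>
      rw [show s ⊗ₜ[D] r = s • ((1 : B) ⊗ₜ[D] r) by rw [TensorProduct.smul_tmul', smul_eq_mul, mul_one]]
      exact ((Algebra.IsIntegral.isIntegral (R := D) r).map
        (Algebra.TensorProduct.includeRight : C →ₐ[D] B ⊗[D] C)).tower_top.smul s⟩
  have hMB : ∀ (M : Ideal (B ⊗[D] C)) [M.IsMaximal], M.comap (algebraMap B (B ⊗[D] C)) = maximalIdeal B :=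
    fun M _ => eq_maximalIdeal (Ideal.isMaximal_comap_of_isIntegral_of_isMaximal (R := B) M)
  have hMC : ∀ (M : Ideal (B ⊗[D] C)) [M.IsMaximal],
      M.comap (Algebra.TensorProduct.includeRight : C →ₐ[D] B ⊗[D] C).toRingHom = maximalIdeal C := by
    intro M _
    refine eq_maximalIdeal ?_
    haveI : (M.comap (Algebra.TensorProduct.includeRight : C →ₐ[D] B ⊗[D] C).toRingHom).IsPrime :=
      Ideal.IsPrime.comap _
    refine Ideal.isMaximal_of_isIntegral_of_isMaximal_comap (R := D) _ ?_
    haveI : IsLocalHom (algebraMap D B) := ((local_hom_TFAE (algebraMap D B)).out 2 0).1 hm.le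
    rw [Ideal.comap_comap, AlgHom.toRingHom_eq_coe, AlgHom.comp_algebraMap, IsScalarTower.algebraMap_eq D B (B ⊗[D] C),
      ← Ideal.comap_comap, hMB M, maximalIdeal_comap (algebraMap D B)]
    exact maximalIdeal.isMaximal D
  have key : ∀ x : B ⊗[D] C, ∃ r : C, ∀ (M : Ideal (B ⊗[D] C)) [M.IsMaximal], x - (1 : B) ⊗ₜ[D] r ∈ M := by
    intro x
    induction x using TensorProduct.induction_on with
    | zero => exact ⟨0, fun M _ => by simp⟩
    | tmul s r =>
      obtain ⟨a, ha⟩ := hres s
      refine ⟨a • r, fun M _ => ?_⟩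
      rw [← TensorProduct.smul_tmul, ← Algebra.algebraMap_eq_smul_one, ← TensorProduct.sub_tmul]
      rw [← hMB M] at ha
      have h1 := M.mul_mem_right ((1 : B) ⊗ₜ[D] r) (Ideal.mem_comap.1 ha)
      rwa [Algebra.TensorProduct.algebraMap_apply, Algebra.algebraMap_self, RingHom.id_apply,
        Algebra.TensorProduct.tmul_mul_tmul, mul_one, one_mul] at h1
    | add x y hx hy =>
      obtain ⟨r, hr⟩ := hx
      obtain ⟨r', hr'⟩ := hy
      refine ⟨r + r', fun M _ => ?_⟩
      rw [TensorProduct.tmul_add, add_sub_add_comm]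
      exact M.add_mem (hr M) (hr' M)
  obtain ⟨M₀, hM₀⟩ := Ideal.exists_maximal (B ⊗[D] C)
  refine IsLocalRing.of_unique_max_ideal ⟨M₀, hM₀, fun M hM => hM.eq_of_le hM₀.ne_top fun x hx => ?_⟩
  obtain ⟨r, hr⟩ := key x
  have h1 : r ∈ M.comap (Algebra.TensorProduct.includeRight : C →ₐ[D] B ⊗[D] C).toRingHom := by
    have := M.sub_mem hx (hr M)
    rwa [sub_sub_cancel] at this
  rw [hMC M, ← hMC M₀] at h1
  have h2 := M₀.add_mem (hr M₀) (Ideal.mem_comap.1 h1)
  rwa [show (Algebra.TensorProduct.includeRight : C →ₐ[D] B ⊗[D] C).toRingHom r = (1 : B) ⊗ₜ[D] r from rfl,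
    sub_add_cancel] at h2

/-- A splitting of `algebraMap b` by a henselian domain is trivial. -/
theorem eq_zero_or_eq_of_sq_eq {D B : Type u} [CommRing D] [IsDomain D] [HenselianLocalRing D]
    [CommRing B] [IsLocalRing B] [Algebra D B] [Module.FaithfullyFlat D B]
    (hm : (maximalIdeal D).map (algebraMap D B) = maximalIdeal B)
    (hres : ∀ x : B, ∃ d : D, x - algebraMap D B d ∈ maximalIdeal B)
    {b : D} (hb : b ≠ 0) {d : D} {u w : B} (hu : u = algebraMap D B d + algebraMap D B b * w)
    (huu : u * u = algebraMap D B b * u) : u = 0 ∨ u = algebraMap D B b := by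
  set β := algebraMap D B b with hβ
  have hreg : IsSMulRegular B β :=
    (show IsSMulRegular D b from fun x y h => mul_left_cancel₀ hb h).of_flat_of_isBaseChange
      (IsBaseChange.linearMap D B)
  have hdd : d * d ∈ Ideal.span {b * d, b * b} := by
    rw [← Ideal.comap_map_eq_self_of_faithfullyFlat (B := B) (Ideal.span {b * d, b * b}), Ideal.mem_comap,
      Ideal.map_span, Set.image_pair, map_mul, map_mul, map_mul]
    refine Ideal.mem_span_pair.2 ⟨1 - 2 * w, w - w ^ 2, ?_⟩
    rw [hu] at huu
    linear_combination -huu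
  obtain ⟨c₁, c₀, hc⟩ := Ideal.mem_span_pair.1 hdd
  set L := Localization.Away b
  set R := Localization.Away β
  haveI : IsDomain L := IsLocalization.isDomain_of_le_nonZeroDivisors (M := Submonoid.powers b) L
    (powers_le_nonZeroDivisors_of_noZeroDivisors hb)
  let bu : L := IsLocalization.Away.invSelf b
  have hbu : algebraMap D L b * bu = 1 := IsLocalization.Away.mul_invSelf b
  let e' : L := algebraMap D L d * bu
  have he' : e' * e' = algebraMap D L c₁ * e' + algebraMap D L c₀ := by
    have hc' := congrArg (algebraMap D L) hc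
    simp only [map_add, map_mul] at hc'
    simp only [e']
    linear_combination (-bu ^ 2) * hc' + (algebraMap D L c₁ * algebraMap D L d * bu +
      algebraMap D L c₀ * (algebraMap D L b * bu + 1)) * hbu
  have hint : IsIntegral D e' := by
    refine ⟨Polynomial.X ^ 2 - (Polynomial.C c₁ * Polynomial.X + Polynomial.C c₀),
      Polynomial.monic_X_pow_sub (Polynomial.degree_linear_le.trans_lt (by norm_num)), ?_⟩
    simp only [Polynomial.eval₂_sub, Polynomial.eval₂_add, Polynomial.eval₂_mul, Polynomial.eval₂_C,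
      Polynomial.eval₂_X, Polynomial.eval₂_X_pow, pow_two, he', sub_self]
  let C := Algebra.adjoin D ({e'} : Set L)
  haveI : Module.Finite D C := Module.Finite.iff_fg.2 hint.fg_adjoin_singleton
  haveI : Algebra.IsIntegral D C := Algebra.IsIntegral.of_finite D C
  haveI : IsLocalRing C := isLocalRing_of_integral_domain D C
  let g : L →ₐ[D] R := IsLocalization.liftAlgHom (M := Submonoid.powers b) (S := L) (f := Algebra.ofId D R) <| by
    rintro ⟨y, n, rfl⟩
    simp only [Algebra.ofId_apply, map_pow, IsScalarTower.algebraMap_apply D B R]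
    exact (IsLocalization.Away.algebraMap_isUnit β).pow n
  let φ : B ⊗[D] C →ₐ[D] R := Algebra.TensorProduct.productMap (IsScalarTower.toAlgHom D B R) (g.comp C.val)
  have hinj : Function.Injective (algebraMap B R) := IsLocalization.injective R (M := Submonoid.powers β) (by
    rintro - ⟨n, rfl⟩
    refine pow_mem (mem_nonZeroDivisors_iff_right.2 fun x hx => hreg ?_) n
    simpa [mul_comm] using hx)
  haveI : Nontrivial R := hinj.nontrivial
  haveI : Nontrivial (B ⊗[D] C) := φ.toRingHom.domain_nontrivial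
  haveI := isLocalRing_tensor_of_residue (C := C) hm hres
  let z : B ⊗[D] C := (1 : B) ⊗ₜ[D] (⟨e', Algebra.self_mem_adjoin_singleton D e'⟩ : C) + w ⊗ₜ[D] 1
  have hbr : algebraMap B R β * g bu = 1 := by
    have h := congrArg g hbu
    rwa [map_mul, map_one, g.commutes, IsScalarTower.algebraMap_apply D B R] at h
  have hz : φ z = algebraMap B R u * g bu := by
    simp only [φ, z, map_add, Algebra.TensorProduct.productMap_apply_tmul, map_one, mul_one, one_mul,
      AlgHom.comp_apply, Subalgebra.coe_val, IsScalarTower.coe_toAlgHom']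
    simp only [e', map_mul, g.commutes, IsScalarTower.algebraMap_apply D B R, hu, map_add, ← hβ]
    linear_combination (-algebraMap B R w) * hbr
  have hid : φ z * (1 - φ z) = 0 := by
    have h := congrArg (algebraMap B R) huu
    simp only [map_mul] at h
    rw [hz]
    linear_combination (-(g bu) ^ 2) * h - (algebraMap B R u * g bu) * hbr
  rcases IsLocalRing.isUnit_or_isUnit_one_sub_self z with hu1 | hu1
  · refine Or.inr (hinj ?_)
    have h1 : 1 - φ z = 0 := (hu1.map φ).mul_right_eq_zero.1 hid
    rw [hz] at h1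
    linear_combination (-algebraMap B R β) * h1 - (algebraMap B R u) * hbr
  · refine Or.inl (hinj ?_)
    have h1 : φ z = 0 := by
      have := hu1.map φ
      rw [map_sub, map_one] at this
      exact this.mul_left_eq_zero.1 hid
    rw [map_zero]
    rw [hz] at h1
    linear_combination (algebraMap B R β) * h1 - (algebraMap B R u) * hbr

/-- Components of a completion of a henselian domain of dimension at least two have dimension at least two. -/
theorem two_le_ringKrullDim_quotient_of_henselian {D B : Type u} [CommRing D] [IsDomain D] [HenselianLocalRing D]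
    [IsNoetherianRing D] [CommRing B] [IsLocalRing B] [IsNoetherianRing B] [Algebra D B] [Module.FaithfullyFlat D B]
    (hm : (maximalIdeal D).map (algebraMap D B) = maximalIdeal B)
    (hres : ∀ x : B, ∃ d : D, x - algebraMap D B d ∈ maximalIdeal B)
    (hdim : (2 : WithBot ℕ∞) ≤ ringKrullDim D) {q : Ideal B} (hq : q ∈ minimalPrimes B) :
    (2 : WithBot ℕ∞) ≤ ringKrullDim (B ⧸ q) := by
  classical
  by_contra hlt
  haveI : q.IsPrime := hq.1.1
  have hmax : ∀ (Q : Ideal B) [Q.IsPrime], q < Q → Q = maximalIdeal B := by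
    intro Q _ hqQ
    by_contra hne
    have hQm : Q < maximalIdeal B := lt_of_le_of_ne (IsLocalRing.le_maximalIdeal Ideal.IsPrime.ne_top') hne
    refine hlt ?_
    rw [ringKrullDim_quotient]
    let p0 : PrimeSpectrum.zeroLocus (R := B) q := ⟨⟨q, inferInstance⟩, (PrimeSpectrum.mem_zeroLocus _ _).2 subset_rfl⟩
    let p1 : PrimeSpectrum.zeroLocus (R := B) q := ⟨⟨Q, inferInstance⟩, (PrimeSpectrum.mem_zeroLocus _ _).2 hqQ.le⟩
    let p2 : PrimeSpectrum.zeroLocus (R := B) q :=
      ⟨⟨maximalIdeal B, inferInstance⟩, (PrimeSpectrum.mem_zeroLocus _ _).2 (hqQ.le.trans hQm.le)⟩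
    exact le_iSup_of_le ((RelSeries.singleton _ p0).snoc p1 (show p0 < p1 from hqQ) |>.snoc p2
      (by rw [RelSeries.last_snoc]; exact (show p1 < p2 from hQm))) (by simp)
  -- the other minimal primes
  let s : Finset (Ideal B) := (minimalPrimes.finite_of_isNoetherianRing B).toFinset.erase q
  have hs : ∀ q', q' ∈ s ↔ q' ≠ q ∧ q' ∈ minimalPrimes B := fun q' => by simp [s]
  obtain ⟨q₁, hq₁⟩ : s.Nonempty := by
    by_contra hse
    refine hlt ?_
    rw [ringKrullDim_quotient, show PrimeSpectrum.zeroLocus (R := B) q = Set.univ by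
      refine Set.eq_univ_of_forall fun P => ?_
      obtain ⟨P', hP', hle⟩ := Ideal.exists_minimalPrimes_le (bot_le : (⊥ : Ideal B) ≤ P.asIdeal)
      have : P' = q := by_contra fun h => hse ⟨P', (hs P').2 ⟨h, hP'⟩⟩
      exact this ▸ hle]
    have h2 := hdim.trans_eq (ringKrullDim_eq_of_map_maximalIdeal hm).symm
    exact h2.trans_eq (Order.krullDim_eq_of_orderIso OrderIso.Set.univ).symm
  let q' : Ideal B := s.inf id
  have hq' : q' ≤ q₁ := Finset.inf_le (f := id) hq₁
  have hnil : q ⊓ q' ≤ nilradical B := by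
    rw [nilradical, Ideal.radical_eq_sInf]
    refine le_sInf fun P hP => ?_
    haveI := hP.2
    obtain ⟨P', hP', hle⟩ := Ideal.exists_minimalPrimes_le (bot_le : (⊥ : Ideal B) ≤ P)
    refine le_trans ?_ hle
    by_cases h : P' = q
    · exact inf_le_left.trans h.ge
    · exact inf_le_right.trans (Finset.inf_le (f := id) ((hs P').2 ⟨h, hP'⟩))
  obtain ⟨n, hn⟩ := IsNoetherianRing.isNilpotent_nilradical B
  obtain ⟨K, hK⟩ : ∃ K, maximalIdeal B ^ K ≤ q ^ (n + 1) ⊔ q' ^ (n + 1) := by
    refine Ideal.exists_pow_le_of_le_radical_of_fg ?_ (IsNoetherian.noetherian _)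
    rw [Ideal.radical_eq_sInf]
    refine le_sInf fun P hP => ?_
    haveI := hP.2
    have h1 : q ≤ P := Ideal.IsPrime.le_of_pow_le (le_sup_left.trans hP.1)
    have h2 : q' ≤ P := Ideal.IsPrime.le_of_pow_le (le_sup_right.trans hP.1)
    obtain ⟨P', hP', hle⟩ := (Ideal.IsPrime.inf_le' ‹_›).1 h2
    refine (hmax P (lt_of_le_of_ne h1 fun h => ?_)).ge
    exact ((hs P').1 hP').1 (le_antisymm (hle.trans h.ge) (hq.2 ⟨((hs P').1 hP').2.1.1, bot_le⟩ (hle.trans h.ge)))
  obtain ⟨a, ha, ha0⟩ : ∃ a ∈ maximalIdeal D, a ≠ 0 := by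
    refine Submodule.exists_mem_ne_zero_of_ne_bot fun h => ?_
    have hf : IsField D := IsLocalRing.isField_iff_maximalIdeal_eq.2 h
    rw [ringKrullDim_eq_zero_of_isField hf] at hdim
    exact absurd hdim (by norm_num)
  have hb : a ^ K ≠ 0 := pow_ne_zero _ ha0
  have hmem : algebraMap D B (a ^ K) ∈ q ^ (n + 1) ⊔ q' ^ (n + 1) := by
    refine hK ?_
    rw [map_pow]
    exact Ideal.pow_mem_pow (hm ▸ Ideal.mem_map_of_mem _ ha) K
  obtain ⟨u, hu, v, hv, huv⟩ := Submodule.mem_sup.1 hmem
  have hzero : ∀ x ∈ q ^ (n + 1), ∀ y ∈ q' ^ (n + 1), x * y = 0 := fun x hx y hy => by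
    have h : x * y ∈ (q * q') ^ (n + 1) := by rw [mul_pow]; exact Ideal.mul_mem_mul hx hy
    have h2 : (q * q') ^ (n + 1) ≤ nilradical B ^ n :=
      (Ideal.pow_right_mono (Ideal.mul_le_inf.trans hnil) _).trans (Ideal.pow_le_pow_right n.le_succ)
    simpa [hn] using h2 h
  have hucolon : ∀ y ∈ maximalIdeal D ^ K, algebraMap D B y * u ∈ Ideal.span {algebraMap D B (a ^ K)} := by
    intro y hy
    have h1 : algebraMap D B y ∈ q ^ (n + 1) ⊔ q' ^ (n + 1) := hK (by
      rw [← hm, ← Ideal.map_pow]
      exact Ideal.mem_map_of_mem _ hy)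
    obtain ⟨u', hu', v', hv', hyv⟩ := Submodule.mem_sup.1 h1
    refine Ideal.mem_span_singleton'.2 ⟨u', ?_⟩
    rw [← hyv, ← huv]
    linear_combination hzero _ hu' _ hv - hzero _ hu _ hv'
  have hsup := mem_map_colon_of_flat (a ^ K) (maximalIdeal D ^ K) hucolon
  have happrox : ∀ (m : ℕ) (x : B), ∃ d : D, x - algebraMap D B d ∈ (maximalIdeal D ^ m).map (algebraMap D B) := by
    intro m
    induction m with
    | zero => exact fun x => ⟨0, by simp [Ideal.one_eq_top, Ideal.map_top]⟩
    | succ m ih =>
      have step : ∀ x ∈ (maximalIdeal D ^ m).map (algebraMap D B),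
          ∃ d : D, x - algebraMap D B d ∈ (maximalIdeal D ^ (m + 1)).map (algebraMap D B) := by
        intro x hx
        rw [Ideal.map] at hx
        induction hx using Submodule.span_induction with
        | mem x hx =>
          obtain ⟨h, -, rfl⟩ := hx
          exact ⟨h, by simp⟩
        | zero => exact ⟨0, by simp⟩
        | add x y _ _ hx hy =>
          obtain ⟨d, hd⟩ := hx
          obtain ⟨d', hd'⟩ := hy
          exact ⟨d + d', by rw [map_add, add_sub_add_comm]; exact add_mem hd hd'⟩
        | smul c x hxm hx =>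
          obtain ⟨d, hd⟩ := hx
          obtain ⟨e, he⟩ := hres c
          refine ⟨e * d, ?_⟩
          rw [smul_eq_mul, map_mul, show c * x - algebraMap D B e * algebraMap D B d =
            (c - algebraMap D B e) * x + algebraMap D B e * (x - algebraMap D B d) by ring]
          refine add_mem ?_ (Ideal.mul_mem_left _ _ hd)
          rw [pow_succ', Ideal.map_mul, hm]
          exact Ideal.mul_mem_mul he hxm
      intro x
      obtain ⟨d, hd⟩ := ih x
      obtain ⟨d', hd'⟩ := step _ hd
      exact ⟨d + d', by rwa [map_add, ← sub_sub]⟩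
  set H := Submodule.colon (Ideal.span {a ^ K}) ((maximalIdeal D ^ K : Ideal D) : Set D) with hH
  have key : ∀ x ∈ H.map (algebraMap D B),
      ∃ d, d ∈ H ∧ ∃ w, x = algebraMap D B d + algebraMap D B (a ^ K) * w := by
    intro x hx
    rw [Ideal.map] at hx
    induction hx using Submodule.span_induction with
    | mem x hx =>
      obtain ⟨h, hh, rfl⟩ := hx
      exact ⟨h, hh, 0, by simp⟩
    | zero => exact ⟨0, zero_mem _, 0, by simp⟩
    | add x y _ _ hx hy =>
      obtain ⟨d, hd, w, rfl⟩ := hx
      obtain ⟨d', hd', w', rfl⟩ := hy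
      exact ⟨d + d', add_mem hd hd', w + w', by rw [map_add]; ring⟩
    | smul c x hxm hx =>
      obtain ⟨d, hd, w, rfl⟩ := hx
      obtain ⟨e, he⟩ := happrox K c
      have h1 : (c - algebraMap D B e) * algebraMap D B d ∈ (maximalIdeal D ^ K * H).map (algebraMap D B) := by
        rw [Ideal.map_mul]
        exact Ideal.mul_mem_mul he (Ideal.mem_map_of_mem _ hd)
      have h2 : maximalIdeal D ^ K * H ≤ Ideal.span {a ^ K} := by
        rw [Ideal.mul_le]
        intro r hr s hs
        have := Submodule.mem_colon.1 hs r hr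
        rwa [smul_eq_mul, mul_comm] at this
      have h3 := Ideal.map_mono h2 h1
      rw [Ideal.map_span, Set.image_singleton] at h3
      obtain ⟨r, hr⟩ := Ideal.mem_span_singleton'.1 h3
      exact ⟨e * d, Ideal.mul_mem_left _ _ hd, r + c * w, by rw [smul_eq_mul, map_mul]; linear_combination -hr⟩
  obtain ⟨d, -, w, hdw⟩ := key u hsup
  have huu : u * u = algebraMap D B (a ^ K) * u := by
    rw [← huv]
    linear_combination -(hzero _ hu _ hv)
  have hbq : ∀ P ∈ minimalPrimes B, algebraMap D B (a ^ K) ∉ P := fun P hP h => by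
    have h1 := comap_mem_minimalPrimes_of_flat (R := D) hP
    rw [IsDomain.minimalPrimes_eq_singleton_bot, Set.mem_singleton_iff] at h1
    exact hb (by rw [← Ideal.mem_bot, ← h1]; exact h)
  rcases eq_zero_or_eq_of_sq_eq hm hres hb hdw huu with h0 | h0
  · rw [h0, zero_add] at huv
    exact hbq q₁ ((hs q₁).1 hq₁).2 (hq' (Ideal.pow_le_self n.succ_ne_zero (huv ▸ hv)))
  · exact hbq q hq (Ideal.pow_le_self n.succ_ne_zero (h0 ▸ hu))

end Groth.Agent.Hensel
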