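import Groth.Agent.Hensel.EtaleProd
import Groth.Agent.Hensel.Local
import Mathlib.RingTheory.Unramified.LocalStructure
import Mathlib.FieldTheory.PrimitiveElement

/-!
The henselian envelope of a local ring along a separable algebraic extension of its residue field
(henselization, strict henselization).
-/

set_option autoImplicit false

namespace Groth.Agent.Hensel

universe u v w

open IsLocalRing
open scoped Polynomial

/-- A point of a standard étale pair in a local algebra is determined by its residue. -/
theorem hasMap_unique {R : Type u} [CommRing R] {A : Type v} [CommRing A] [Algebra R A] [IsLocalRing A]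
    (P : StandardEtalePair R) {x y : A} (hx : P.HasMap x) (hy : P.HasMap y) (h : x - y ∈ maximalIdeal A) :
    x = y := by
  obtain ⟨k, hk⟩ := Polynomial.binomExpansion (P.f.map (algebraMap R A)) y (x - y)
  rw [add_sub_cancel, Polynomial.eval_map_algebraMap, Polynomial.eval_map_algebraMap, hx.1, hy.1,
    Polynomial.derivative_map, Polynomial.eval_map_algebraMap] at hk
  have hu : IsUnit (Polynomial.aeval y (Polynomial.derivative P.f) + k * (x - y)) :=
    isUnit_of_mk (maximalIdeal_le_jacobson (⊥ : Ideal A)) (by
      rw [map_add, map_mul, Ideal.Quotient.eq_zero_iff_mem.2 h, mul_zero, add_zero]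
      exact hy.isUnit_derivative_f.map _)
  refine sub_eq_zero.1 (hu.mul_left_eq_zero.1 ?_)
  linear_combination -hk

/-- The quotient by an ideal, as an opaque surjection. -/
theorem exists_quotientHom (R : Type u) [CommRing R] (A : Type v) [CommRing A] [Algebra R A] (J : Ideal A) :
    ∃ (Q : Type v) (_ : CommRing Q) (_ : Algebra R Q) (q : A →ₐ[R] Q),
      Function.Surjective q ∧ ∀ x, q x = 0 ↔ x ∈ J :=
  ⟨A ⧸ J, inferInstance, inferInstance, Ideal.Quotient.mkₐ R J, Ideal.Quotient.mk_surjective,
    fun _ => Ideal.Quotient.eq_zero_iff_mem⟩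

variable (R : Type u) [CommRing R] (K : Type u) [Field K] [Algebra R K]

/-- Standard étale algebras with a `K`-point. -/
abbrev EnvIdx := Σ' P : StandardEtalePair R, {a : K // P.HasMap a}

/-- The standard étale pairs indexed by their `K`-points. -/
abbrev envPairs : EnvIdx R K → StandardEtalePair R := fun i => i.1

/-- The product of all standard étale algebras with a `K`-point. -/
abbrev EnvTop := EtProd (envPairs R K)

/-- The tautological point. -/
noncomputable def envEv : EnvTop R K →ₐ[R] K :=
  etLift (fun i => i.2.1) fun i => i.2.2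

/-- The kernel of the tautological point. -/
noncomputable def envPrime : Ideal (EnvTop R K) :=
  RingHom.ker (envEv R K).toRingHom

instance envPrime_isPrime : (envPrime R K).IsPrime := RingHom.ker_isPrime _

/-- The henselian envelope. -/
abbrev Env := Localization.AtPrime (envPrime R K)

/-- The residue map of the envelope. -/
noncomputable def envRes : Env R K →ₐ[R] K :=
  IsLocalization.liftAlgHom (M := (envPrime R K).primeCompl) (f := envEv R K) fun z => by
    rw [isUnit_iff_ne_zero]
    exact z.2

theorem envRes_algebraMap (z : EnvTop R K) : envRes R K (algebraMap _ _ z) = envEv R K z :=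
  IsLocalization.lift_eq _ z

/-- The universal point in the envelope. -/
noncomputable def envPt (i : EnvIdx R K) : Env R K :=
  algebraMap (EnvTop R K) (Env R K) (etPt (envPairs R K) i)

theorem hasMap_envPt (i : EnvIdx R K) : i.1.HasMap (envPt R K i) :=
  have h := (hasMap_etPt (P := envPairs R K) i).map (T := Env R K)
    (IsScalarTower.toAlgHom R (EnvTop R K) (Env R K))
  h

@[simp]
theorem envRes_envPt (i : EnvIdx R K) : envRes R K (envPt R K i) = i.2.1 :=
  (envRes_algebraMap R K _).trans (etLift_etPt (P := envPairs R K) _ _ i)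

theorem flat_env : Module.Flat R (Env R K) := by
  haveI : Module.Flat (EnvTop R K) (Env R K) := IsLocalization.flat _ (envPrime R K).primeCompl
  exact Module.Flat.trans R (EnvTop R K) (Env R K)

section separable

variable [IsLocalRing R] [Algebra (ResidueField R) K] [IsScalarTower R (ResidueField R) K]
  [Algebra.IsSeparable (ResidueField R) K]

theorem algebraMap_eq_zero_of_mem {r : R} (hr : r ∈ maximalIdeal R) : algebraMap R K r = 0 := by
  rw [IsScalarTower.algebraMap_apply R (ResidueField R) K, ResidueField.algebraMap_eq,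
    (residue_eq_zero_iff r).2 hr, map_zero]

/-- A pair with point `a` lifting the minimal polynomial of `a`. -/
theorem exists_idx (a : K) :
    ∃ i : EnvIdx R K, i.2.1 = a ∧ i.1.f.map (residue R) = minpoly (ResidueField R) a := by
  have hint := Algebra.IsSeparable.isIntegral (ResidueField R) a
  obtain ⟨F, hF, -, hFm⟩ := Polynomial.lifts_and_degree_eq_and_monic
    ((Polynomial.lifts_iff_coeff_lifts (minpoly (ResidueField R) a)).2 fun k => residue_surjective _)
    (minpoly.monic hint)
  let P : StandardEtalePair R := ⟨F, hFm, Polynomial.derivative F, 1, 0, 1, by ring⟩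
  have hP : P.HasMap a := by
    refine ⟨?_, ?_⟩
    · change Polynomial.aeval a F = 0
      rw [← Polynomial.aeval_map_algebraMap (ResidueField R), ResidueField.algebraMap_eq, hF, minpoly.aeval]
    · change IsUnit (Polynomial.aeval a (Polynomial.derivative F))
      rw [← Polynomial.aeval_map_algebraMap (ResidueField R), ResidueField.algebraMap_eq, ← Polynomial.derivative_map,
        hF, isUnit_iff_ne_zero]
      exact (Algebra.IsSeparable.isSeparable (ResidueField R) a).aeval_derivative_ne_zero (minpoly.aeval _ a)
  exact ⟨⟨P, a, hP⟩, rfl, hF⟩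

theorem envRes_surjective : Function.Surjective (envRes R K) := fun a => by
  obtain ⟨i, hi, -⟩ := exists_idx R K a
  exact ⟨envPt R K i, (envRes_envPt R K i).trans hi⟩

theorem envRes_eq_zero_iff (z : Env R K) : envRes R K z = 0 ↔ z ∈ maximalIdeal (Env R K) := by
  have h : (RingHom.ker (envRes R K).toRingHom).IsMaximal :=
    RingHom.ker_isMaximal_of_surjective _ (envRes_surjective R K)
  rw [← eq_maximalIdeal h]
  rfl

theorem isLocalHom_env : IsLocalHom (algebraMap R (Env R K)) := by
  refine ((local_hom_TFAE (algebraMap R (Env R K))).out 2 0).1 ?_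
  rw [Ideal.map_le_iff_le_comap]
  intro r hr
  rw [Ideal.mem_comap, ← envRes_eq_zero_iff, AlgHom.commutes, algebraMap_eq_zero_of_mem R K hr]

/-- A local ring generated by separable points with residues in `K` has maximal ideal generated by `R`. -/
theorem maximalIdeal_le_of_points {S : Type v} [CommRing S] [IsLocalRing S] [Algebra R S] (π : S →ₐ[R] K)
    (hπ : ∀ z, π z = 0 ↔ z ∈ maximalIdeal S) (ι : EnvTop R K →ₐ[R] S) (hι : ∀ x, π (ι x) = envEv R K x)
    (hloc : ∀ z, ∃ x t, IsUnit (ι t) ∧ z * ι t = ι x) :
    maximalIdeal S ≤ (maximalIdeal R).map (algebraMap R S) := by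
  intro z hz
  set J := (maximalIdeal R).map (algebraMap R S)
  have hJ : ∀ x ∈ J, π x = 0 := fun x hx => by
    have h1 : J ≤ RingHom.ker (π).toRingHom := Ideal.map_le_iff_le_comap.2 fun r hr =>
      ((π).commutes r).trans (algebraMap_eq_zero_of_mem R K hr)
    exact h1 hx
  obtain ⟨Q, _, _, q, hq, hqJ⟩ := exists_quotientHom R S J
  have hm0 : ∀ r ∈ maximalIdeal R, algebraMap R Q r = 0 := fun r hr => by
    rw [← q.commutes, hqJ]; exact Ideal.mem_map_of_mem _ hr
  letI algQ : Algebra (ResidueField R) Q :=
    (Ideal.Quotient.lift (maximalIdeal R) (algebraMap R Q) hm0).toAlgebra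
  have hQ : ∀ r, algebraMap (ResidueField R) Q (residue R r) = algebraMap R Q r := fun r => rfl
  haveI : IsScalarTower R (ResidueField R) Q := IsScalarTower.of_algebraMap_eq fun r => (hQ r).symm
  have hker : RingHom.ker (q : S →+* Q) ≤ RingHom.ker (π).toRingHom := fun x hx =>
    hJ x ((hqJ x).1 hx)
  let θ₀ : Q →+* K := RingHom.liftOfSurjective (q : S →+* Q) hq ⟨_, hker⟩
  have hθ₀ : ∀ x, θ₀ (q x) = π x := fun x => RingHom.liftOfRightInverse_comp_apply _ _ _ ⟨_, hker⟩ x
  let θ : Q →ₐ[ResidueField R] K :=
    { θ₀ with
      commutes' := fun c => by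
        obtain ⟨r, rfl⟩ := residue_surjective c
        change θ₀ (algebraMap (ResidueField R) Q (residue R r)) = _
        rw [hQ, ← q.commutes, hθ₀, AlgHom.commutes, IsScalarTower.algebraMap_apply R (ResidueField R) K]
        rfl }
  have hθ : ∀ x, θ (q x) = π x := hθ₀
  have hunit : ∀ y : Q, θ y ≠ 0 → IsUnit y := fun y hy => by
    obtain ⟨x, rfl⟩ := hq y
    refine IsUnit.map q ?_
    rw [hθ, Ne, hπ, mem_maximalIdeal, mem_nonunits_iff, not_not] at hy
    exact hy
  -- simple roots are unique
  have huniq : ∀ (μ : (ResidueField R)[X]) (v w : Q), Polynomial.aeval v μ = 0 → Polynomial.aeval w μ = 0 →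
      θ v = θ w → Polynomial.aeval (θ w) (Polynomial.derivative μ) ≠ 0 → v = w := fun μ v w hv hw hvw hd => by
    obtain ⟨k, hk⟩ := Polynomial.binomExpansion (μ.map (algebraMap _ Q)) w (v - w)
    rw [add_sub_cancel, Polynomial.eval_map_algebraMap, Polynomial.eval_map_algebraMap, hv, hw,
      Polynomial.derivative_map, Polynomial.eval_map_algebraMap] at hk
    have hu : IsUnit (Polynomial.aeval w (Polynomial.derivative μ) + k * (v - w)) := by
      refine hunit _ ?_
      rwa [map_add, map_mul, map_sub, hvw, sub_self, mul_zero, add_zero, ← Polynomial.aeval_algHom_apply]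
    refine sub_eq_zero.1 (hu.mul_left_eq_zero.1 ?_)
    linear_combination -hk
  have hsep : ∀ a : K, Polynomial.aeval a (Polynomial.derivative (minpoly (ResidueField R) a)) ≠ 0 := fun a =>
    (Algebra.IsSeparable.isSeparable (ResidueField R) a).aeval_derivative_ne_zero (minpoly.aeval _ a)
  let W : Set Q := {y | Polynomial.aeval y (minpoly (ResidueField R) (θ y)) = 0}
  have hWeq : ∀ v w, v ∈ W → w ∈ W → θ v = θ w → v = w := fun v w hv hw h =>
    huniq (minpoly (ResidueField R) (θ w)) v w (by rw [← h]; exact hv) hw h (hsep _)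
  have hpoly : ∀ c, c ∈ W → ∀ p : (ResidueField R)[X], Polynomial.aeval c p ∈ W := fun c hc p => by
    obtain ⟨d, hd⟩ := minpoly.dvd (ResidueField R) (θ c)
      (p := (minpoly (ResidueField R) (θ (Polynomial.aeval c p))).comp p) (by
        rw [Polynomial.aeval_comp, Polynomial.aeval_algHom_apply θ c p, minpoly.aeval])
    have h1 := congrArg (Polynomial.aeval c) hd
    rw [Polynomial.aeval_comp, map_mul, show Polynomial.aeval c (minpoly (ResidueField R) (θ c)) = 0 from hc,
      zero_mul] at h1
    exact h1
  -- values of the universal points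
  let qT : EnvTop R K →ₐ[R] Q := q.comp ι
  have hθT : ∀ x, θ (qT x) = envEv R K x := fun x => (hθ _).trans (hι x)
  have hptW : ∀ i, qT (etPt (envPairs R K) i) ∈ W := fun i => by
    set x := qT (etPt (envPairs R K) i) with hx
    have hxa : θ x = i.2.1 := (hθT _).trans (etLift_etPt (P := envPairs R K) _ _ i)
    have hxf : Polynomial.aeval x (i.1.f.map (residue R)) = 0 := by
      rw [← ResidueField.algebraMap_eq, Polynomial.aeval_map_algebraMap]
      exact ((hasMap_etPt (P := envPairs R K) i).map qT).1
    have haf : Polynomial.aeval i.2.1 (i.1.f.map (residue R)) = 0 := by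
      rw [← ResidueField.algebraMap_eq, Polynomial.aeval_map_algebraMap]
      exact i.2.2.1
    have had : Polynomial.aeval i.2.1 (Polynomial.derivative (i.1.f.map (residue R))) ≠ 0 := by
      rw [Polynomial.derivative_map, ← ResidueField.algebraMap_eq, Polynomial.aeval_map_algebraMap,
        ← isUnit_iff_ne_zero]
      exact i.2.2.isUnit_derivative_f
    obtain ⟨d, hd⟩ := minpoly.dvd (ResidueField R) i.2.1 haf
    change Polynomial.aeval x (minpoly (ResidueField R) (θ x)) = 0
    rw [hxa]
    have hdu : IsUnit (Polynomial.aeval x d) := hunit _ (by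
      rw [← Polynomial.aeval_algHom_apply, hxa]
      intro h0
      apply had
      rw [hd, Polynomial.derivative_mul, map_add, map_mul, map_mul, minpoly.aeval, h0]
      simp)
    refine hdu.mul_left_eq_zero.1 ?_
    rw [← map_mul, ← hd, hxf]
  have hWex : ∀ a : K, ∃ c ∈ W, θ c = a := fun a => by
    obtain ⟨i, hi, -⟩ := exists_idx R K a
    exact ⟨_, hptW i, ((hθT _).trans (etLift_etPt (P := envPairs R K) _ _ i)).trans hi⟩
  have hop : ∀ v w, v ∈ W → w ∈ W → v + w ∈ W ∧ v * w ∈ W := fun v w hv hw => by
    haveI : FiniteDimensional (ResidueField R) (IntermediateField.adjoin (ResidueField R) {θ v, θ w}) :=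
      IntermediateField.finiteDimensional_adjoin fun x _ => Algebra.IsSeparable.isIntegral _ x
    let L := IntermediateField.adjoin (ResidueField R) {θ v, θ w}
    haveI : Algebra.IsSeparable (ResidueField R) L := Algebra.isSeparable_tower_bot_of_isSeparable _ L K
    obtain ⟨α, hα⟩ := Field.exists_primitive_element (ResidueField R) L
    obtain ⟨c, hc, hcα⟩ := hWex (α : K)
    have hp : ∀ b ∈ L, ∃ p : (ResidueField R)[X], Polynomial.aeval (θ c) p = b := fun b hb => by
      have h1 : (⟨b, hb⟩ : L) ∈ Algebra.adjoin (ResidueField R) {α} := by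
        rw [← IntermediateField.adjoin_simple_toSubalgebra_of_isAlgebraic
          (Algebra.IsSeparable.isIntegral (ResidueField R) α).isAlgebraic, hα]
        trivial
      rw [Algebra.adjoin_singleton_eq_range_aeval] at h1
      obtain ⟨p, hp⟩ := h1
      refine ⟨p, ?_⟩
      rw [hcα]
      have h2 := congrArg Subtype.val hp
      simpa [Polynomial.aeval_subalgebra_coe] using! (Polynomial.aeval_algHom_apply L.val α p).trans h2
    obtain ⟨p, hp1⟩ := hp (θ v) (IntermediateField.subset_adjoin _ _ (Set.mem_insert _ _))
    obtain ⟨r, hr1⟩ := hp (θ w) (IntermediateField.subset_adjoin _ _ (Set.mem_insert_of_mem _ rfl))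
    have hpv : Polynomial.aeval c p = v :=
      hWeq _ _ (hpoly c hc p) hv (by rw [← Polynomial.aeval_algHom_apply, hp1])
    have hrw : Polynomial.aeval c r = w :=
      hWeq _ _ (hpoly c hc r) hw (by rw [← Polynomial.aeval_algHom_apply, hr1])
    exact ⟨by rw [← hpv, ← hrw, ← map_add]; exact hpoly c hc _,
      by rw [← hpv, ← hrw, ← map_mul]; exact hpoly c hc _⟩
  have hconst : ∀ r : R, algebraMap R Q r ∈ W := fun r => by
    obtain ⟨c, hc, -⟩ := hWex 0
    have := hpoly c hc (Polynomial.C (residue R r))
    rwa [Polynomial.aeval_C, hQ] at this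
  have hTW : ∀ x, qT x ∈ W := fun x => by
    obtain ⟨p, rfl⟩ := Ideal.Quotient.mk_surjective x
    induction p using MvPolynomial.induction_on with
    | C r => exact (qT.commutes r).symm ▸ hconst r
    | add p r hp hr => rw [map_add, map_add]; exact (hop _ _ hp hr).1
    | mul_X p j hp =>
      rw [map_mul, map_mul]
      refine (hop _ _ hp ?_).2
      rcases j with i | i
      · exact hptW i
      set y : Q := qT (Ideal.Quotient.mk _ (MvPolynomial.X (Sum.inr i)))
      obtain ⟨c, hc, hca⟩ := hWex (θ y)
      set g := qT (Polynomial.aeval (etPt (envPairs R K) i) i.1.g)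
      have hg : g ∈ W := by
        have := hpoly _ (hptW i) (i.1.g.map (residue R))
        rwa [← ResidueField.algebraMap_eq, Polynomial.aeval_map_algebraMap, Polynomial.aeval_algHom_apply] at this
      have hyg : y * g = 1 := by
        rw [← map_mul, aeval_g_etPt_mul (P := envPairs R K) i, map_one]
      have hcg : c * g = 1 := by
        refine hWeq _ _ (hop c g hc hg).2 ?_ (by rw [map_mul, hca, ← map_mul, hyg])
        have := hconst 1
        rwa [map_one] at this
      have : c = y := (IsUnit.of_mul_eq_one _ ((mul_comm g y).trans hyg)).mul_left_injective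
        (hcg.trans hyg.symm)
      rw [← this]; exact hc
  obtain ⟨x, t, ht, hzt⟩ := hloc z
  have hx : envEv R K x = 0 := by
    rw [← hι, ← hzt, map_mul, (hπ z).2 hz, zero_mul]
  have hqx : qT x = 0 := hWeq _ _ (hTW x) (by simpa using hconst 0) (by rw [hθT, hx, map_zero])
  have h3 : ι x ∈ J := (hqJ _).1 hqx
  rwa [← hzt, Ideal.mul_unit_mem_iff_mem _ ht] at h3

/-- The maximal ideal of the envelope is generated by that of `R`. -/
theorem map_maximalIdeal_env : (maximalIdeal R).map (algebraMap R (Env R K)) = maximalIdeal (Env R K) := by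
  refine le_antisymm ?_ (maximalIdeal_le_of_points (S := Env R K) R K (envRes R K) (envRes_eq_zero_iff R K)
    (IsScalarTower.toAlgHom R (EnvTop R K) (Env R K)) (envRes_algebraMap R K) fun z => ?_)
  · rw [Ideal.map_le_iff_le_comap]
    intro r hr
    rw [Ideal.mem_comap, ← envRes_eq_zero_iff, AlgHom.commutes, algebraMap_eq_zero_of_mem R K hr]
  · obtain ⟨x, s, rfl⟩ := IsLocalization.exists_mk'_eq (envPrime R K).primeCompl z
    exact ⟨x, s.1, IsLocalization.map_units _ s, IsLocalization.mk'_spec (Env R K) x s⟩

end separable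

end Groth.Agent.Hensel
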