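import Mathlib
import Groth.Prelude.Def_EssEt
import Groth.Agent.UnibranchEtale.Neighbourhood
import Groth.Agent.UnramLib.FlatUnram

/-! Composition of essentially étale local algebras. -/

set_option autoImplicit false
set_option linter.style.haveILetI false

namespace Groth.Agent.Hensel

universe u

open IsLocalRing

theorem essEt_trans {A : Type u} [CommRing A] [IsLocalRing A] {B : Type u} [CommRing B] [IsLocalRing B]
    [Algebra A B] {C : Type u} [CommRing C] [Algebra B C] [Algebra A C] [IsScalarTower A B C]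
    (hB : EGA4loc.IsEssentiallyEtale A B) (hC : EGA4loc.IsEssentiallyEtale B C) :
    EGA4loc.IsEssentiallyEtale A C := by
  obtain ⟨C₁, _, _, q₁, _, hC₁, hq₁, ⟨e₁⟩⟩ := hB
  obtain ⟨D, _, _, q₂, _, hD, hq₂, ⟨e₂⟩⟩ := hC
  -- B as localisation of C₁
  letI : Algebra C₁ B := (e₁.symm.toRingHom.comp (algebraMap C₁ (Localization.AtPrime q₁))).toAlgebra
  haveI : IsScalarTower A C₁ B := IsScalarTower.of_algebraMap_eq fun a => by
    show algebraMap A B a = e₁.symm (algebraMap C₁ _ (algebraMap A C₁ a))
    rw [← IsScalarTower.algebraMap_apply A C₁ (Localization.AtPrime q₁), e₁.symm.commutes]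
  haveI : IsLocalization.AtPrime B q₁ :=
    IsLocalization.isLocalization_of_algEquiv q₁.primeCompl
      (AlgEquiv.ofRingEquiv (R := C₁) (f := e₁.symm.toRingEquiv) fun _ => rfl)
  have hq₁B : (maximalIdeal B).comap (algebraMap C₁ B) = q₁ :=
    (IsLocalization.AtPrime.under_maximalIdeal B q₁)
  obtain ⟨f, hf, hstd⟩ := Algebra.IsEtaleAt.exists_isStandardEtale (R := B) q₂
  obtain ⟨P⟩ := hstd.nonempty_standardEtalePresentation
  obtain ⟨C', _, _, _, _, _, α, hα⟩ := Groth.Agent.UnibranchEtale.exists_spread q₁ B P.P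
  let g : Localization.Away f →ₐ[B] Localization.AtPrime q₂ :=
    IsLocalization.Away.liftAlgHom f (f := IsScalarTower.toAlgHom B D (Localization.AtPrime q₂))
      (IsLocalization.map_units (M := q₂.primeCompl) _ ⟨f, hf⟩)
  let γ : P.P.Ring →ₐ[B] C := (e₂.symm.toAlgHom.comp g).comp P.equivRing.symm.toAlgHom
  haveI : IsLocalRing C := e₂.symm.toRingEquiv.isLocalRing
  let φ : C' →+* C := γ.toRingHom.comp α.toRingHom
  have hφC₁ : ∀ c, φ (algebraMap C₁ C' c) = algebraMap B C (algebraMap C₁ B c) := fun c => by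
    show γ (α (algebraMap C₁ C' c)) = _
    rw [α.commutes, IsScalarTower.algebraMap_apply C₁ B P.P.Ring, γ.commutes]
  let Q : Ideal C' := (maximalIdeal C).comap φ
  haveI : Q.IsPrime := Ideal.comap_isPrime _ _
  let ψ : Localization.AtPrime Q →+* C := IsLocalization.lift (M := Q.primeCompl) (g := φ) fun y => by
    by_contra h
    exact y.2 ((IsLocalRing.mem_maximalIdeal _).2 h)
  have hψ : ∀ c, ψ (algebraMap C' _ c) = φ c := IsLocalization.lift_eq _
  have hqB : (maximalIdeal C).comap (algebraMap B C) = maximalIdeal B := by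
    rw [← hq₂]
    ext b
    simp only [Ideal.mem_comap, IsLocalRing.mem_maximalIdeal, mem_nonunits_iff]
    rw [← MulEquiv.isUnit_map (f := e₂), e₂.commutes, IsScalarTower.algebraMap_apply B D (Localization.AtPrime q₂)]
    rw [← not_iff_not, not_not]
    exact IsLocalization.AtPrime.isUnit_to_map_iff (Localization.AtPrime q₂) q₂ _
  have hQC₁ : Q.comap (algebraMap C₁ C') = q₁ := by
    rw [← hq₁B, ← hqB, Ideal.comap_comap, Ideal.comap_comap]
    congr 1
    exact RingHom.ext hφC₁
  letI : Algebra A C' := ((algebraMap C₁ C').comp (algebraMap A C₁)).toAlgebra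
  haveI : IsScalarTower A C₁ C' := IsScalarTower.of_algebraMap_eq fun _ => rfl
  haveI : Algebra.Etale A C' := Algebra.Etale.comp A C₁ C'
  have hQA : Q.comap (algebraMap A C') = maximalIdeal A := by
    rw [← hq₁, ← hQC₁, Ideal.comap_comap]; rfl
  -- B acts on the localisation
  let η : B →+* Localization.AtPrime Q := IsLocalization.lift (M := q₁.primeCompl)
    (g := (algebraMap C' (Localization.AtPrime Q)).comp (algebraMap C₁ C')) fun y => by
      refine IsLocalization.map_units (M := Q.primeCompl) _ ⟨_, fun h => y.2 ?_⟩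
      exact hQC₁.le h
  letI : Algebra B (Localization.AtPrime Q) := η.toAlgebra
  letI : Algebra (Localization.AtPrime Q) C := ψ.toAlgebra
  have hη : ψ.comp η = algebraMap B C := by
    refine IsLocalization.ringHom_ext q₁.primeCompl (RingHom.ext fun c => ?_)
    simp only [RingHom.comp_apply, η, IsLocalization.lift_eq, hψ, hφC₁]
  haveI : IsScalarTower B (Localization.AtPrime Q) C :=
    IsScalarTower.of_algebraMap_eq fun b => (RingHom.congr_fun hη b).symm
  haveI : IsScalarTower C₁ B (Localization.AtPrime Q) := IsScalarTower.of_algebraMap_eq fun c => by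
    show algebraMap C₁ (Localization.AtPrime Q) c = η (algebraMap C₁ B c)
    rw [IsScalarTower.algebraMap_apply C₁ C' (Localization.AtPrime Q)]
    simp only [η, IsLocalization.lift_eq, RingHom.comp_apply]
  haveI : Algebra.FormallyUnramified C' (Localization.AtPrime Q) :=
    Algebra.FormallyUnramified.of_isLocalization Q.primeCompl
  haveI : Algebra.FormallyUnramified C₁ (Localization.AtPrime Q) := Algebra.FormallyUnramified.comp C₁ C' _
  haveI : Algebra.EssFiniteType C₁ (Localization.AtPrime Q) := Algebra.EssFiniteType.comp C₁ C' _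
  haveI : Algebra.FormallyUnramified B (Localization.AtPrime Q) := Algebra.FormallyUnramified.of_restrictScalars C₁ B _
  haveI : Algebra.EssFiniteType B (Localization.AtPrime Q) := Algebra.EssFiniteType.of_comp C₁ B _
  haveI : Module.Flat B C := by
    haveI : Module.Flat B D := Algebra.Smooth.flat B D
    haveI : Module.Flat D (Localization.AtPrime q₂) := IsLocalization.flat _ q₂.primeCompl
    haveI : Module.Flat B (Localization.AtPrime q₂) := Module.Flat.trans B D _
    exact Module.Flat.of_linearEquiv e₂.toLinearEquiv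
  haveI : Module.Flat (Localization.AtPrime Q) C :=
    Groth.Agent.UnramLib.flat_of_formallyUnramified B _ C
  haveI : IsLocalHom (algebraMap (Localization.AtPrime Q) C) := by
    constructor
    intro z hz
    obtain ⟨⟨c, s⟩, hcs⟩ := IsLocalization.surj Q.primeCompl z
    have h1 : IsUnit (φ c) := by
      rw [← hψ, ← hcs, map_mul]
      exact hz.mul ((IsLocalization.map_units (M := Q.primeCompl) _ s).map ψ)
    have h2 : IsUnit (z * algebraMap C' _ (s : C')) := hcs ▸
      IsLocalization.map_units (M := Q.primeCompl) _ (⟨c, fun h => (IsLocalRing.mem_maximalIdeal _).1 h h1⟩)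
    exact isUnit_of_mul_isUnit_left h2
  haveI : Module.FaithfullyFlat (Localization.AtPrime Q) C := Module.FaithfullyFlat.of_flat_of_isLocalHom
  have hinj : Function.Injective ψ := FaithfulSMul.algebraMap_injective (Localization.AtPrime Q) C
  have hsurj : Function.Surjective ψ := by
    have key : ∀ x : D, ∃ (c : C') (d : C₁), d ∉ q₁ ∧
        e₂.symm (algebraMap D _ x) * algebraMap B C (algebraMap C₁ B d) = φ c := by
      intro x
      obtain ⟨c, d, hd, h⟩ := hα (P.equivRing (algebraMap D _ x))
      refine ⟨c, d, hd, ?_⟩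
      show _ = γ (α c)
      rw [← h, map_mul, IsScalarTower.algebraMap_apply C₁ B P.P.Ring, γ.commutes]
      congr 1
      simp [γ, g, IsLocalization.Away.liftAlgHom]
    have hunit : ∀ d, d ∉ q₁ → IsUnit (φ (algebraMap C₁ C' d)) := fun d hd => by
      rw [hφC₁]; exact (IsLocalization.map_units (M := q₁.primeCompl) B ⟨d, hd⟩).map _
    intro y
    obtain ⟨⟨x, s⟩, hxs⟩ := IsLocalization.surj q₂.primeCompl (e₂ y)
    obtain ⟨cx, dx, hdx, hx⟩ := key x
    obtain ⟨cs, ds, hds, hs⟩ := key s
    have hus : IsUnit (φ cs) := by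
      rw [← hs]
      exact ((IsLocalization.map_units (M := q₂.primeCompl) _ s).map e₂.symm).mul
        ((IsLocalization.map_units (M := q₁.primeCompl) B ⟨ds, hds⟩).map _)
    have hmem : cs * algebraMap C₁ C' dx ∈ Q.primeCompl := fun h => by
      refine (IsLocalRing.mem_maximalIdeal _).1 h ?_
      rw [map_mul]; exact hus.mul (hunit dx hdx)
    refine ⟨IsLocalization.mk' _ (cx * algebraMap C₁ C' ds) ⟨_, hmem⟩,
      (IsLocalization.lift_mk'_spec (hg := _) (cx * algebraMap C₁ C' ds) y ⟨_, hmem⟩).2 ?_⟩
    rw [map_mul, map_mul, hφC₁, hφC₁, ← hx, ← hs]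
    have hy : e₂.symm (algebraMap D _ x) = y * e₂.symm (algebraMap D _ (s : D)) := by
      rw [← hxs, map_mul, e₂.symm_apply_apply]
    rw [hy]; ring
  refine ⟨C', inferInstance, inferInstance, Q, inferInstance, inferInstance, hQA, ⟨?_⟩⟩
  refine (AlgEquiv.ofRingEquiv (R := A) (f := RingEquiv.ofBijective ψ ⟨hinj, hsurj⟩) fun a => ?_).symm
  show ψ (algebraMap A (Localization.AtPrime Q) a) = algebraMap A C a
  rw [IsScalarTower.algebraMap_apply A C' (Localization.AtPrime Q), hψ]
  show φ (algebraMap C₁ C' (algebraMap A C₁ a)) = _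
  rw [hφC₁, ← IsScalarTower.algebraMap_apply A C₁ B, ← IsScalarTower.algebraMap_apply A B C]

end Groth.Agent.Hensel
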