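import Mathlib

/-!
Étale neighbourhoods of a prime with trivial residue field extension: they are detected by maps to the
residue field of the prime.
-/

universe u

open scoped TensorProduct

namespace Groth.Agent.Hensel

variable {R : Type u} [CommRing R] (p : Ideal R) [p.IsPrime] {S : Type u} [CommRing S] {f : R →+* S}
  {q : Ideal S} [q.IsPrime]

/-- A map to the residue field of `p` over `R` with kernel `q` makes `κ(p) → κ(q)` bijective. -/
theorem residueMap_bijective_of_hom (θ : S →+* p.ResidueField) (hθ : θ.comp f = algebraMap R p.ResidueField)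
    (hker : RingHom.ker θ = q) (h : p = q.comap f) :
    Function.Bijective (Ideal.ResidueField.map p q f h) := by
  refine ⟨RingHom.injective _, ?_⟩
  let L : q.ResidueField →+* p.ResidueField := Ideal.ResidueField.lift q θ hker.ge fun x hx =>
    isUnit_iff_ne_zero.2 fun h0 => hx (hker ▸ (RingHom.mem_ker.2 h0))
  have hid : L.comp (Ideal.ResidueField.map p q f h) = RingHom.id _ := by
    apply Ideal.ResidueField.ringHom_ext
    ext r
    simp only [RingHom.comp_apply, Ideal.ResidueField.map_algebraMap, RingHom.id_apply]
    rw [Ideal.ResidueField.lift_algebraMap, ← RingHom.comp_apply, hθ]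
  intro y
  exact ⟨L y, L.injective (RingHom.congr_fun hid (L y))⟩

/-- Conversely, a bijection of residue fields gives a map to `κ(p)`, and it is unique. -/
theorem exists_hom_of_residueMap_bijective (h : p = q.comap f)
    (hb : Function.Bijective (Ideal.ResidueField.map p q f h)) :
    ∃ θ : S →+* p.ResidueField, θ.comp f = algebraMap R p.ResidueField ∧ RingHom.ker θ = q ∧
      ∀ θ' : S →+* p.ResidueField, θ'.comp f = algebraMap R p.ResidueField → RingHom.ker θ' = q → θ' = θ := by
  let e := RingEquiv.ofBijective _ hb
  refine ⟨e.symm.toRingHom.comp (algebraMap S q.ResidueField), ?_, ?_, fun θ' hθ' hker' => ?_⟩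
  · ext r
    apply e.injective
    simp [e, Ideal.ResidueField.map_algebraMap]
  · rw [RingHom.ker_comp_of_injective _ e.symm.injective, Ideal.ker_algebraMap_residueField]
  · ext s
    let L : q.ResidueField →+* p.ResidueField := Ideal.ResidueField.lift q θ' hker'.ge fun x hx =>
      isUnit_iff_ne_zero.2 fun h0 => hx (hker' ▸ (RingHom.mem_ker.2 h0))
    have hid : L.comp (Ideal.ResidueField.map p q f h) = RingHom.id _ := by
      apply Ideal.ResidueField.ringHom_ext
      ext r
      simp only [RingHom.comp_apply, Ideal.ResidueField.map_algebraMap, RingHom.id_apply]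
      rw [Ideal.ResidueField.lift_algebraMap, ← RingHom.comp_apply, hθ']
    obtain ⟨z, hz⟩ := e.surjective (algebraMap S q.ResidueField s)
    have h1 : L (algebraMap S q.ResidueField s) = θ' s := Ideal.ResidueField.lift_algebraMap _ _ _ _ _
    rw [← h1, ← hz]
    change L (Ideal.ResidueField.map p q f h z) = e.symm (algebraMap S q.ResidueField s)
    rw [← hz, RingEquiv.symm_apply_apply]
    exact RingHom.congr_fun hid z

end Groth.Agent.Hensel
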