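import Mathlib.RingTheory.Etale.Basic
import Mathlib.RingTheory.Smooth.Flat
import Mathlib.RingTheory.MvPolynomial.Basic
import Mathlib.RingTheory.Finiteness.Finsupp

/-!
The (possibly infinite) tensor product of presented étale algebras.
-/

set_option autoImplicit false

namespace Groth.Agent.Hensel

universe u v w

open MvPolynomial

/-- A presented étale algebra. -/
structure EtFP (A : Type u) [CommRing A] : Type u where
  n : ℕ
  rels : Finset (MvPolynomial (Fin n) A)
  etale : Algebra.Etale A (MvPolynomial (Fin n) A ⧸ Ideal.span (rels : Set (MvPolynomial (Fin n) A)))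

namespace EtFP

variable {A : Type u} [CommRing A]

/-- The algebra. -/
abbrev Ring (i : EtFP A) : Type u :=
  MvPolynomial (Fin i.n) A ⧸ Ideal.span (i.rels : Set (MvPolynomial (Fin i.n) A))

instance (i : EtFP A) : Algebra.Etale A i.Ring := i.etale

/-- A point of a presented algebra. -/
def HasPt {C : Type v} [CommRing C] [Algebra A C] (i : EtFP A) (x : Fin i.n → C) : Prop :=
  ∀ p ∈ i.rels, aeval x p = 0

theorem HasPt.map {C : Type v} [CommRing C] [Algebra A C] {D : Type w} [CommRing D] [Algebra A D] {i : EtFP A}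
    {x : Fin i.n → C} (h : i.HasPt x) (f : C →ₐ[A] D) : i.HasPt (f ∘ x) := fun p hp => by
  rw [show aeval (f ∘ x) p = f (aeval x p) from
    (AlgHom.congr_fun (MvPolynomial.algHom_ext (g := f.comp (aeval x)) fun m => by simp) p), h p hp, map_zero]

/-- The homomorphism of a point. -/
noncomputable def lift {C : Type v} [CommRing C] [Algebra A C] (i : EtFP A) (x : Fin i.n → C) (h : i.HasPt x) :
    i.Ring →ₐ[A] C :=
  Ideal.Quotient.liftₐ _ (aeval x) fun a ha => by
    refine (Ideal.span_le (I := RingHom.ker (aeval (R := A) x))).2 ?_ ha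
    exact fun p hp => RingHom.mem_ker.2 (h p hp)

/-- The generators. -/
noncomputable def pt (i : EtFP A) (m : Fin i.n) : i.Ring := Ideal.Quotient.mk _ (X m)

theorem aeval_pt (i : EtFP A) (p : MvPolynomial (Fin i.n) A) : aeval i.pt p = Ideal.Quotient.mk _ p := by
  refine AlgHom.congr_fun (MvPolynomial.algHom_ext (g := Ideal.Quotient.mkₐ A _) fun m => ?_) p
  rw [aeval_X]
  rfl

theorem hasPt_pt (i : EtFP A) : i.HasPt i.pt := fun p hp => by
  rw [aeval_pt, Ideal.Quotient.eq_zero_iff_mem]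
  exact Ideal.subset_span hp

@[simp]
theorem lift_pt {C : Type v} [CommRing C] [Algebra A C] (i : EtFP A) (x : Fin i.n → C) (h : i.HasPt x) (m : Fin i.n) :
    i.lift x h (i.pt m) = x m := by
  change aeval x (X m : MvPolynomial (Fin i.n) A) = x m
  simp

theorem hom_ext {C : Type v} [CommRing C] [Algebra A C] {i : EtFP A} {f g : i.Ring →ₐ[A] C}
    (h : ∀ m, f (i.pt m) = g (i.pt m)) : f = g :=
  Ideal.Quotient.algHom_ext A (MvPolynomial.algHom_ext h)

/-- Every étale algebra has a presentation. -/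
theorem exists_algEquiv (B : Type v) [CommRing B] [Algebra A B] [hB : Algebra.Etale A B] :
    ∃ i : EtFP A, Nonempty (i.Ring ≃ₐ[A] B) := by
  obtain ⟨n, f, hf, s, hs⟩ := Algebra.FinitePresentation.out (R := A) (A := B)
  let e : (MvPolynomial (Fin n) A ⧸ Ideal.span (s : Set (MvPolynomial (Fin n) A))) ≃ₐ[A] B :=
    (Ideal.quotientEquivAlgOfEq A hs).trans (Ideal.quotientKerAlgEquivOfSurjective hf)
  exact ⟨⟨n, s, Algebra.Etale.of_equiv e.symm⟩, ⟨e⟩⟩

end EtFP

section

variable {R : Type u} [CommRing R] {ι : Type v}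

/-- The relations of the product. -/
noncomputable def algProdRel (P : ι → EtFP R) :
    (Σ k, {p // p ∈ (P k).rels}) → MvPolynomial (Σ k, Fin (P k).n) R :=
  fun q => rename (Sigma.mk q.1) q.2.1

/-- The tensor product of a family of presented étale algebras. -/
abbrev AlgProd (P : ι → EtFP R) :=
  MvPolynomial (Σ k, Fin (P k).n) R ⧸ Ideal.span (Set.range (algProdRel P))

variable {P : ι → EtFP R}

/-- The generators. -/
noncomputable def algPt (P : ι → EtFP R) (k : ι) (m : Fin (P k).n) : AlgProd P :=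
  Ideal.Quotient.mk _ (X (⟨k, m⟩ : Σ k, Fin (P k).n))

theorem aeval_algPt (k : ι) (p : MvPolynomial (Fin (P k).n) R) :
    aeval (algPt P k) p = Ideal.Quotient.mk _ (rename (Sigma.mk k) p) := by
  refine AlgHom.congr_fun (MvPolynomial.algHom_ext
    (g := (Ideal.Quotient.mkₐ R (Ideal.span (Set.range (algProdRel P)))).comp (rename (Sigma.mk k))) fun m => ?_) p
  rw [aeval_X, AlgHom.comp_apply, rename_X]
  rfl

theorem hasPt_algPt (k : ι) : (P k).HasPt (algPt P k) := fun p hp => by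
  rw [aeval_algPt, Ideal.Quotient.eq_zero_iff_mem]
  exact Ideal.subset_span ⟨⟨k, p, hp⟩, rfl⟩

/-- Maps out of the product are families of points. -/
noncomputable def algLift {A : Type w} [CommRing A] [Algebra R A] (x : ∀ k, Fin (P k).n → A)
    (h : ∀ k, (P k).HasPt (x k)) : AlgProd P →ₐ[R] A :=
  Ideal.Quotient.liftₐ _ (aeval fun v : Σ k, Fin (P k).n => x v.1 v.2) fun a ha => by
    refine (Ideal.span_le (I := RingHom.ker (aeval (R := R) fun v : Σ k, Fin (P k).n => x v.1 v.2))).2 ?_ ha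
    rintro _ ⟨⟨k, p, hp⟩, rfl⟩
    rw [SetLike.mem_coe, RingHom.mem_ker, algProdRel, aeval_rename]
    exact h k p hp

@[simp]
theorem algLift_algPt {A : Type w} [CommRing A] [Algebra R A] (x : ∀ k, Fin (P k).n → A)
    (h : ∀ k, (P k).HasPt (x k)) (k : ι) (m : Fin (P k).n) : algLift x h (algPt P k m) = x k m := by
  change aeval (fun v : Σ k, Fin (P k).n => x v.1 v.2) (X (⟨k, m⟩ : Σ k, Fin (P k).n) : MvPolynomial _ R) = x k m
  simp

theorem algProd_hom_ext {A : Type w} [CommRing A] [Algebra R A] {f g : AlgProd P →ₐ[R] A}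
    (H : ∀ k m, f (algPt P k m) = g (algPt P k m)) : f = g :=
  Ideal.Quotient.algHom_ext R (MvPolynomial.algHom_ext fun v => H v.1 v.2)

/-- The `k`-th factor. -/
noncomputable def algIncl (P : ι → EtFP R) (k : ι) : (P k).Ring →ₐ[R] AlgProd P :=
  (P k).lift (algPt P k) (hasPt_algPt k)

instance formallyEtale_algProd : Algebra.FormallyEtale R (AlgProd P) := by
  refine Algebra.FormallyEtale.iff_comp_bijective.mpr fun B _ _ I hI => ⟨fun f g h => ?_, fun φ => ?_⟩
  · refine algProd_hom_ext fun k m => ?_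
    have := (Algebra.FormallyEtale.comp_bijective R (P k).Ring I hI).1
      (a₁ := f.comp (algIncl P k)) (a₂ := g.comp (algIncl P k)) (by
        simp only [← AlgHom.comp_assoc]
        exact congrArg (fun z => AlgHom.comp z (algIncl P k)) h)
    simpa [algIncl] using AlgHom.congr_fun this ((P k).pt m)
  · choose b hb using fun k =>
      (Algebra.FormallyEtale.comp_bijective R (P k).Ring I hI).2 (φ.comp (algIncl P k))
    refine ⟨algLift (fun k m => b k ((P k).pt m)) fun k => (P k).hasPt_pt.map (b k),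
      algProd_hom_ext fun k m => ?_⟩
    simpa [algIncl] using AlgHom.congr_fun (hb k) ((P k).pt m)

theorem etale_algProd [Finite ι] : Algebra.Etale R (AlgProd P) :=
  { formallyEtale := inferInstance
    finitePresentation := Algebra.FinitePresentation.quotient (Submodule.fg_span (Set.finite_range _)) }

/-- The map induced by a map of index sets. -/
noncomputable def algMap {κ : Type w} (s : κ → ι) : AlgProd (P ∘ s) →ₐ[R] AlgProd P :=
  algLift (fun k => algPt P (s k)) fun k => hasPt_algPt (s k)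

theorem algMap_mk {κ : Type w} (s : κ → ι) (p : MvPolynomial (Σ k, Fin (P (s k)).n) R) :
    algMap (P := P) s (Ideal.Quotient.mk _ p) =
      Ideal.Quotient.mk _ (rename (fun v => (⟨s v.1, v.2⟩ : Σ i, Fin (P i).n)) p) := by
  have key : (algMap (P := P) s).comp (Ideal.Quotient.mkₐ R _) =
      (Ideal.Quotient.mkₐ R _).comp (rename (fun v => (⟨s v.1, v.2⟩ : Σ i, Fin (P i).n))) := by
    refine MvPolynomial.algHom_ext fun v => ?_
    simp only [AlgHom.comp_apply, Ideal.Quotient.mkₐ_eq_mk, rename_X]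
    exact algLift_algPt (P := P ∘ s) _ _ v.1 v.2
  exact AlgHom.congr_fun key p

theorem algMap_comp {κ : Type w} {τ : Type w} (s : κ → ι) (t : τ → κ) :
    (algMap (P := P) s).comp (algMap (P := P ∘ s) t) = algMap (P := P) (s ∘ t) :=
  algProd_hom_ext fun k m => by
    change algMap (P := P) s (algMap (P := P ∘ s) t (algPt _ k m)) = algMap (P := P) (s ∘ t) (algPt _ k m)
    simp only [algMap, algLift_algPt]
    rfl

theorem algMap_comp_algIncl {κ : Type w} (s : κ → ι) (k : κ) :
    (algMap (P := P) s).comp (algIncl (P ∘ s) k) = algIncl P (s k) :=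
  EtFP.hom_ext fun m => by
    have h1 : algIncl (P ∘ s) k ((P (s k)).pt m) = algPt (P ∘ s) k m := EtFP.lift_pt _ _ _ m
    have h2 : algIncl P (s k) ((P (s k)).pt m) = algPt P (s k) m := EtFP.lift_pt _ _ _ m
    exact ((congrArg (algMap (P := P) s) h1).trans (algLift_algPt (P := P ∘ s) (fun k => algPt P (s k))
      (fun k => hasPt_algPt (s k)) k m)).trans h2.symm

/-- Every element comes from a finite subfamily. -/
theorem exists_algMap_eq (z : AlgProd P) :
    ∃ (F : Finset ι) (z' : AlgProd (P ∘ ((↑) : F → ι))), algMap (P := P) ((↑) : F → ι) z' = z := by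
  classical
  obtain ⟨p, rfl⟩ := Ideal.Quotient.mk_surjective z
  let F : Finset ι := p.vars.image Sigma.fst
  obtain ⟨p', hp'⟩ := exists_rename_eq_of_vars_subset_range p
    (fun v : Σ k : F, Fin (P k.1).n => (⟨v.1.1, v.2⟩ : Σ i, Fin (P i).n))
    (fun v w h => by
      obtain ⟨⟨a, ha⟩, m⟩ := v
      obtain ⟨⟨b, hb⟩, m'⟩ := w
      simp only [Sigma.mk.injEq] at h
      obtain ⟨rfl, h⟩ := h
      rw [eq_of_heq h])
    (fun v hv => ⟨⟨⟨v.1, Finset.mem_image_of_mem _ (Finset.mem_coe.1 hv)⟩, v.2⟩, rfl⟩)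
  exact ⟨F, Ideal.Quotient.mk _ p', by rw [algMap_mk]; exact congrArg _ hp'⟩

/-- Vanishing is detected in a finite subfamily. -/
theorem exists_finset_algMap_eq_zero {F : Finset ι} (z : AlgProd (P ∘ ((↑) : F → ι)))
    (hz : algMap (P := P) ((↑) : F → ι) z = 0) :
    ∃ (F' : Finset ι) (h : F ⊆ F'),
      algMap (P := P ∘ ((↑) : F' → ι)) (fun k : F => (⟨k.1, h k.2⟩ : F')) z = 0 := by
  classical
  obtain ⟨p, rfl⟩ := Ideal.Quotient.mk_surjective z
  rw [algMap_mk, Ideal.Quotient.eq_zero_iff_mem] at hz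
  obtain ⟨c, hc⟩ := Finsupp.mem_span_range_iff_exists_finsupp.1 hz
  let F' : Finset ι := F ∪ c.support.image Sigma.fst
  refine ⟨F', Finset.subset_union_left, ?_⟩
  let kill : MvPolynomial (Σ i, Fin (P i).n) R →ₐ[R] MvPolynomial (Σ k : F', Fin (P k.1).n) R :=
    aeval fun v => if h : v.1 ∈ F' then X (⟨⟨v.1, h⟩, v.2⟩ : Σ k : F', Fin (P k.1).n) else 0
  have hk : ∀ (i : ι) (hi : i ∈ F') (m : Fin (P i).n),
      kill (X (⟨i, m⟩ : Σ i, Fin (P i).n)) = X (⟨⟨i, hi⟩, m⟩ : Σ k : F', Fin (P k.1).n) := fun i hi m => by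
    simp [kill, hi]
  have hcomp : kill.comp (rename (fun v : Σ k : F, Fin (P k.1).n => (⟨v.1.1, v.2⟩ : Σ i, Fin (P i).n))) =
      rename (fun v : Σ k : F, Fin (P k.1).n =>
        (⟨⟨v.1.1, Finset.subset_union_left v.1.2⟩, v.2⟩ : Σ k : F', Fin (P k.1).n)) := by
    refine MvPolynomial.algHom_ext fun v => ?_
    rw [AlgHom.comp_apply, rename_X, rename_X]
    exact hk v.1.1 (Finset.subset_union_left v.1.2) v.2
  refine (algMap_mk (P := P ∘ ((↑) : F' → ι)) (fun k : F => (⟨k.1, Finset.subset_union_left k.2⟩ : F')) p).trans ?_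
  rw [Ideal.Quotient.eq_zero_iff_mem]
  refine (AlgHom.congr_fun hcomp p) ▸ ?_
  rw [AlgHom.comp_apply]
  rw [show rename (fun v : Σ k : F, Fin (P k.1).n => (⟨v.1.1, v.2⟩ : Σ i, Fin (P i).n)) p = _ from hc.symm]
  rw [Finsupp.sum, map_sum]
  refine Ideal.sum_mem _ fun q hq => ?_
  rw [smul_eq_mul, map_mul]
  refine Ideal.mul_mem_left _ _ (Ideal.subset_span ?_)
  obtain ⟨i, r, hr⟩ := q
  have hiF : i ∈ F' := Finset.mem_union_right _ (Finset.mem_image_of_mem Sigma.fst hq)
  refine ⟨⟨⟨i, hiF⟩, r, hr⟩, ?_⟩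
  have hki : kill.comp (rename (Sigma.mk i)) =
      rename (Sigma.mk (β := fun k : F' => Fin (P k.1).n) (⟨i, hiF⟩ : F')) :=
    MvPolynomial.algHom_ext fun m => by
      rw [AlgHom.comp_apply, rename_X, rename_X]
      exact hk i hiF m
  exact (AlgHom.congr_fun hki r).symm

instance flat_algProd : Module.Flat R (AlgProd P) := by
  classical
  refine Module.Flat.of_forall_isTrivialRelation fun {l} {f} {x} hrel => ?_
  choose F z hz using fun i => exists_algMap_eq (P := P) (x i)
  let F₀ : Finset ι := Finset.univ.biUnion F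
  have hsub : ∀ i, F i ⊆ F₀ := fun i => Finset.subset_biUnion_of_mem F (Finset.mem_univ i)
  let y : Fin l → AlgProd (P ∘ ((↑) : F₀ → ι)) := fun i =>
    algMap (P := P ∘ ((↑) : F₀ → ι)) (fun k : F i => (⟨k.1, hsub i k.2⟩ : F₀)) (z i)
  have hy : ∀ i, algMap (P := P) ((↑) : F₀ → ι) (y i) = x i := fun i => by
    rw [← hz i]
    exact AlgHom.congr_fun (algMap_comp (P := P) ((↑) : F₀ → ι) fun k : F i => (⟨k.1, hsub i k.2⟩ : F₀)) (z i)
  have h0 : algMap (P := P) ((↑) : F₀ → ι) (∑ i, f i • y i) = 0 := by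
    simp only [map_sum, map_smul, hy, hrel]
  obtain ⟨F₁, h₁, hF₁⟩ := exists_finset_algMap_eq_zero _ h0
  let j : AlgProd (P ∘ ((↑) : F₀ → ι)) →ₐ[R] AlgProd (P ∘ ((↑) : F₁ → ι)) :=
    algMap (P := P ∘ ((↑) : F₁ → ι)) fun k : F₀ => (⟨k.1, h₁ k.2⟩ : F₁)
  have := etale_algProd (P := P ∘ ((↑) : F₁ → ι))
  have hflat : Module.Flat R (AlgProd (P ∘ ((↑) : F₁ → ι))) := inferInstance
  have h2 : ∑ i, f i • j (y i) = 0 := by
    rw [← hF₁]; simp only [j, map_sum, map_smul]
  obtain ⟨k, a, w, hw, ha⟩ := Module.Flat.isTrivialRelation_of_sum_smul_eq_zero (M := AlgProd (P ∘ ((↑) : F₁ → ι))) h2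
  refine ⟨k, a, fun t => algMap (P := P) ((↑) : F₁ → ι) (w t), fun i => ?_, ha⟩
  have h3 : algMap (P := P) ((↑) : F₁ → ι) (j (y i)) = x i := by
    rw [← hy i]
    exact AlgHom.congr_fun (algMap_comp (P := P) ((↑) : F₁ → ι) fun k : F₀ => (⟨k.1, h₁ k.2⟩ : F₁)) (y i)
  have hwi : j (y i) = ∑ t, a i t • w t := hw i
  rw [← h3, hwi]
  simp only [map_sum, map_smul]

end

end Groth.Agent.Hensel
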