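import Groth.Agent.Hensel.Decomp
import Mathlib.RingTheory.QuasiFinite.Polynomial
import Mathlib.RingTheory.AdjoinRoot

/-!
Lifting coprime factorizations of non-monic polynomials over henselian local rings.
-/

set_option autoImplicit false

namespace Groth.Agent.Hensel

universe u

open IsLocalRing Polynomial
open scoped TensorProduct

/-- The algebra cut out by a primitive polynomial is quasi-finite. -/
theorem quasiFinite_quotient_span (R : Type u) [CommRing R] (f : R[X])
    (hf : ∀ (p : Ideal R) [p.IsPrime], f.map (algebraMap R p.ResidueField) ≠ 0) :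
    Algebra.QuasiFinite R (R[X] ⧸ Ideal.span ({f} : Set R[X])) := by
  refine ⟨fun p _ => ?_⟩
  let φ : R[X] →ₐ[R] R[X] ⧸ Ideal.span ({f} : Set R[X]) := Ideal.Quotient.mkₐ R _
  let E := Polynomial.fiberEquivQuotient φ Ideal.Quotient.mk_surjective p
  set K := p.ResidueField
  set fp := f.map (algebraMap R K) with hfp
  haveI : Module.Finite K (K[X] ⧸ Ideal.span ({fp} : Set K[X])) :=
    (AdjoinRoot.powerBasis (hf p)).finite
  have hle : (Ideal.span {fp} : Ideal K[X]) ≤
      (RingHom.ker (φ : R[X] →+* R[X] ⧸ Ideal.span ({f} : Set R[X]))).map (mapRingHom (algebraMap R K)) := by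
    rw [Ideal.span_singleton_le_iff_mem]
    refine Ideal.mem_map_of_mem (mapRingHom (algebraMap R K)) ?_
    exact Ideal.Quotient.eq_zero_iff_mem.2 (Ideal.mem_span_singleton_self f)
  haveI : Module.Finite K (K[X] ⧸ (RingHom.ker (φ : R[X] →+* R[X] ⧸ Ideal.span ({f} : Set R[X]))).map (mapRingHom (algebraMap R K))) :=
    Module.Finite.of_surjective (M := K[X] ⧸ Ideal.span ({fp} : Set K[X]))
      (Ideal.Quotient.factorₐ K hle).toLinearMap (Ideal.Quotient.factor_surjective hle)
  exact Module.Finite.equiv E.symm.toLinearEquiv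

theorem map_residue_ne_zero_of_ne_zero {R : Type u} [CommRing R] [IsLocalRing R] {f : R[X]}
    (hf : f.map (residue R) ≠ 0) (p : Ideal R) [p.IsPrime] : f.map (algebraMap R p.ResidueField) ≠ 0 := by
  intro h
  refine hf (Polynomial.ext fun n => ?_)
  have h1 := congrArg (fun g => g.coeff n) h
  simp only [coeff_map, coeff_zero, Ideal.algebraMap_residueField_eq_zero] at h1
  rw [coeff_map, coeff_zero, residue_eq_zero_iff]
  exact le_maximalIdeal (Ideal.IsPrime.ne_top ‹_›) h1

/-- Lifting a factorization with one monic factor coprime to the other. -/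
theorem exists_factor (R : Type u) [CommRing R] [HenselianLocalRing R]
    (f : R[X]) (g₀ h₀ : (ResidueField R)[X]) (hg : g₀.Monic)
    (hc : IsCoprime g₀ h₀) (hf : f.map (residue R) = g₀ * h₀) :
    ∃ g h : R[X], f = g * h ∧ g.Monic ∧ g.map (residue R) = g₀ ∧ h.map (residue R) = h₀ := by
  classical
  set ρ := residue R
  by_cases hf0 : f.map ρ = 0
  · rw [hf0, eq_comm, mul_eq_zero, or_iff_right hg.ne_zero] at hf
    subst hf
    rw [isCoprime_zero_right] at hc
    exact ⟨1, f, by rw [one_mul], monic_one, by rw [Polynomial.map_one, hg.eq_one_of_isUnit hc], hf0⟩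
  set m := maximalIdeal R with hm
  -- the quotient `S = R[X] / (f)`
  obtain ⟨S, _, _, mk, hmk, hmk0, _⟩ : ∃ (S : Type u) (_ : CommRing S) (_ : Algebra R S) (mk : R[X] →ₐ[R] S),
      Function.Surjective mk ∧ (∀ a, mk a = 0 ↔ f ∣ a) ∧ Algebra.QuasiFinite R S :=
    ⟨R[X] ⧸ Ideal.span ({f} : Set R[X]), inferInstance, inferInstance, Ideal.Quotient.mkₐ R _,
      Ideal.Quotient.mk_surjective, fun a => Ideal.Quotient.eq_zero_iff_mem.trans Ideal.mem_span_singleton,
      quasiFinite_quotient_span R f fun p _ => map_residue_ne_zero_of_ne_zero hf0 p⟩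
  have hmkf : mk f = 0 := (hmk0 f).2 dvd_rfl
  haveI : Algebra.FiniteType R S := Algebra.FiniteType.of_surjective mk hmk
  obtain ⟨e, he, hfin, hB⟩ := exists_idempotent_quasiFinite R S
  haveI := hfin
  let T := S ⧸ Ideal.span ({1 - e} : Set S)
  let toT : S →ₐ[R] T := Ideal.Quotient.mkₐ R _
  -- reduction modulo `g₀`
  have hθ0 : RingHom.ker (mk : R[X] →+* S) ≤ RingHom.ker ((AdjoinRoot.mk g₀).comp (mapRingHom ρ)) := fun a ha => by
    obtain ⟨c, rfl⟩ := (hmk0 a).1 ha
    rw [RingHom.mem_ker, RingHom.comp_apply, map_mul, map_mul, coe_mapRingHom, hf, map_mul, AdjoinRoot.mk_self,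
      zero_mul, zero_mul]
  let θ : S →+* AdjoinRoot g₀ := RingHom.liftOfSurjective (mk : R[X] →+* S) hmk ⟨_, hθ0⟩
  have hθ : ∀ p, θ (mk p) = AdjoinRoot.mk g₀ (p.map ρ) := fun p =>
    RingHom.liftOfRightInverse_comp_apply _ _ _ ⟨_, hθ0⟩ p
  have hθm : m.map (algebraMap R S) ≤ RingHom.ker θ := Ideal.map_le_iff_le_comap.2 fun a ha => by
    rw [Ideal.mem_comap, RingHom.mem_ker, ← mk.commutes a, Polynomial.algebraMap_eq, hθ, map_C,
      (residue_eq_zero_iff a).2 ha, map_zero, map_zero]
  have hker : ∀ p : R[X], p.map ρ = 0 → mk p ∈ m.map (algebraMap R S) := fun p hp => by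
    have h1 : p ∈ RingHom.ker (mapRingHom ρ) := hp
    rw [Polynomial.ker_mapRingHom, ker_residue] at h1
    have h2 := Ideal.mem_map_of_mem (mk : R[X] →+* S) h1
    rw [Ideal.map_map] at h2
    rwa [show ((mk : R[X] →+* S)).comp C = algebraMap R S from RingHom.ext fun a => mk.commutes a] at h2
  -- Bezout coefficients
  obtain ⟨u, v, huv⟩ := hc
  obtain ⟨V, hV⟩ := map_surjective ρ residue_surjective v
  obtain ⟨U, hU⟩ := map_surjective ρ residue_surjective u
  obtain ⟨H, hH⟩ := map_surjective ρ residue_surjective h₀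
  obtain ⟨G, hG, hGdeg, hGm⟩ := lifts_and_degree_eq_and_monic
    ((lifts_iff_coeff_lifts g₀).2 fun k => residue_surjective (g₀.coeff k)) hg
  set n := g₀.natDegree with hn
  have hG' : G.map ρ = g₀ := hG
  have hb1 : mk (V * H) * mk (V * H) - mk (V * H) ∈ m.map (algebraMap R S) := by
    have h1 := hker (V * H * (V * H) - V * H + U * V * f) (by
      simp only [Polynomial.map_add, Polynomial.map_sub, Polynomial.map_mul, hU, hV, hH, hf]
      linear_combination (v * h₀) * huv)
    rwa [map_add, map_mul mk _ f, hmkf, mul_zero, add_zero, map_sub, map_mul mk (V * H)] at h1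
  have hb2 : toT (mk (V * H)) * toT (mk (V * H)) - toT (mk (V * H)) ∈ (Ideal.map (algebraMap R T) m : Ideal T) := by
    have h1 := Ideal.mem_map_of_mem (toT : S →+* T) hb1
    rw [Ideal.map_map, show (toT : S →+* T).comp (algebraMap R S) = algebraMap R T from
      RingHom.ext fun a => toT.commutes a] at h1
    simpa using h1
  obtain ⟨ET, hET, hETb⟩ := exists_idempotent_lift (A := R) (I := m) (B := T) (toT (mk (V * H))) hb2
  obtain ⟨b, hb⟩ := Ideal.Quotient.mk_surjective ET
  have hbb : b * b - b ∈ Ideal.span ({1 - e} : Set S) := by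
    rw [← Ideal.Quotient.eq, map_mul, hb]; exact hET
  obtain ⟨c, hc⟩ := Ideal.mem_span_singleton.1 hbb
  have he' : e * e = e := he
  set E := e * b with hE
  have hEE : E * E = E := by
    rw [hE]; linear_combination (b * b) * he' + e * hc - c * he'
  -- the finite quotient `T₁`
  let T₁ := S ⧸ Ideal.span ({1 - E} : Set S)
  let ψ : R[X] →ₐ[R] T₁ := (Ideal.Quotient.mkₐ R _).comp mk
  have heE : Ideal.span ({1 - e} : Set S) ≤ Ideal.span ({1 - E} : Set S) := by
    rw [Ideal.span_singleton_le_span_singleton]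
    exact ⟨1 - e, by rw [hE]; linear_combination (-b) * he'⟩
  let fac : T →ₐ[R] T₁ := Ideal.Quotient.factorₐ R heE
  haveI : Module.Finite R T₁ := Module.Finite.of_surjective fac.toLinearMap (Ideal.Quotient.factor_surjective heE)
  have hfac : fac ET = 1 := by
    rw [← hb]
    change Ideal.Quotient.mk (Ideal.span ({1 - E} : Set S)) b = 1
    rw [← map_one (Ideal.Quotient.mk _), Ideal.Quotient.eq, Ideal.mem_span_singleton]
    refine ⟨(1 - e) * b - 1, ?_⟩
    rw [hE]; linear_combination (-(b * b)) * he'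
  have hVH : ψ (V * H) - 1 ∈ m.map (algebraMap R T₁) := by
    have h1 := Ideal.mem_map_of_mem (fac : T →+* T₁) hETb
    rw [Ideal.map_map, show (fac : T →+* T₁).comp (algebraMap R T) = algebraMap R T₁ from
      RingHom.ext fun a => fac.commutes a] at h1
    simp only [RingHom.coe_coe, map_sub, hfac] at h1
    have h2 := neg_mem h1
    rw [neg_sub] at h2
    exact h2
  have hψG : ψ G ∈ m.map (algebraMap R T₁) := by
    have h1 := Ideal.mem_map_of_mem (Ideal.Quotient.mkₐ R (Ideal.span ({1 - E} : Set S)) : S →+* T₁)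
      (hker (G * (V * H) - V * f) (by
        simp only [Polynomial.map_sub, Polynomial.map_mul, hG', hV, hH, hf]; ring))
    rw [Ideal.map_map, show (Ideal.Quotient.mkₐ R (Ideal.span ({1 - E} : Set S)) : S →+* T₁).comp (algebraMap R S) =
      algebraMap R T₁ from rfl] at h1
    have h2 : ψ (G * (V * H) - V * f) ∈ m.map (algebraMap R T₁) := h1
    have h3 : ψ f = 0 := by simp [ψ, hmkf]
    rw [map_sub, map_mul ψ V f, h3, mul_zero, sub_zero, map_mul] at h2
    have h4 := sub_mem h2 (Ideal.mul_mem_left _ (ψ G) hVH)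
    rwa [mul_sub, mul_one, sub_sub_cancel] at h4
  have hspan : (⊤ : Submodule R T₁) ≤ (degreeLT R n).map ψ.toLinearMap := by
    refine Submodule.le_of_le_smul_of_le_jacobson_bot Module.Finite.fg_top
      (maximalIdeal_le_jacobson (⊥ : Ideal R)) fun y _ => ?_
    obtain ⟨p, rfl⟩ : ∃ p, ψ p = y :=
      ((Ideal.Quotient.mk_surjective (I := Ideal.span ({1 - E} : Set S))).comp hmk) y
    refine Submodule.mem_sup.2 ⟨ψ (p %ₘ G), ⟨_, ?_, rfl⟩, ψ (G * (p /ₘ G)), ?_, ?_⟩
    · refine mem_degreeLT.2 ((degree_modByMonic_lt p hGm).trans_le ?_)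
      rw [hGdeg, degree_eq_natDegree hg.ne_zero]
    · rw [Ideal.smul_top_eq_map, Submodule.restrictScalars_mem, map_mul]
      exact Ideal.mul_mem_right _ _ hψG
    · rw [← map_add, modByMonic_add_div p G]
  obtain ⟨p₁, hp₁, hp₁e⟩ := hspan (Submodule.mem_top : ψ (X ^ n) ∈ _)
  have hp₁' : ψ p₁ = ψ (X ^ n) := hp₁e
  have hp₁d : p₁.degree < n := mem_degreeLT.1 hp₁
  set g := X ^ n - p₁ with hgdef
  have hgm : g.Monic := monic_X_pow_sub hp₁d
  have hψg : ψ g = 0 := by rw [map_sub, hp₁', sub_self]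
  have hgn : g.natDegree = n := by
    refine natDegree_eq_of_degree_eq_some ?_
    rw [hgdef, degree_sub_eq_left_of_degree_lt] <;> rw [degree_X_pow]
    exact hp₁d
  -- `θ` sends `E` to one
  have hθe : θ e = 1 := by
    have h1 : (1 : S) ∈ m.map (algebraMap R S) ⊔ Ideal.span {e} := by
      have h2 : (1 : S ⧸ Ideal.span ({e} : Set S)) ∈ (m.map (algebraMap R S)).map (Ideal.Quotient.mk _) := by
        rw [Ideal.map_map, show (Ideal.Quotient.mk (Ideal.span ({e} : Set S))).comp (algebraMap R S) =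
          algebraMap R _ from rfl, hB]; trivial
      have h3 : (1 : S) ∈ ((m.map (algebraMap R S)).map (Ideal.Quotient.mk (Ideal.span {e}))).comap
          (Ideal.Quotient.mk _) := by rw [Ideal.mem_comap, map_one]; exact h2
      rwa [Ideal.comap_map_of_surjective _ Ideal.Quotient.mk_surjective, ← RingHom.ker_eq_comap_bot,
        Ideal.mk_ker] at h3
    obtain ⟨a, ha, c', hc', hac⟩ := Submodule.mem_sup.1 h1
    obtain ⟨d, rfl⟩ := Ideal.mem_span_singleton.1 hc'
    have h4 := congrArg θ hac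
    rw [map_add, RingHom.mem_ker.1 (hθm ha), zero_add, map_mul, map_one] at h4
    calc θ e = θ e * (θ e * θ d) := by rw [h4, mul_one]
      _ = θ (e * e) * θ d := by rw [map_mul, mul_assoc]
      _ = 1 := by rw [he', h4]
  have hθE : θ E = 1 := by
    let θT : T →+* AdjoinRoot g₀ := Ideal.Quotient.lift _ θ fun a ha => by
      obtain ⟨d, rfl⟩ := Ideal.mem_span_singleton.1 ha
      rw [map_mul, map_sub, map_one, hθe, sub_self, zero_mul]
    have hθT : m.map (algebraMap R T) ≤ RingHom.ker θT := Ideal.map_le_iff_le_comap.2 fun a ha =>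
      hθm (Ideal.mem_map_of_mem _ ha)
    have h1 : θT (ET - toT (mk (V * H))) = 0 := hθT hETb
    rw [map_sub, sub_eq_zero, ← hb] at h1
    change θ b = θ (mk (V * H)) at h1
    rw [hE, map_mul, hθe, one_mul, h1, hθ, Polynomial.map_mul, hV, hH, ← map_one (AdjoinRoot.mk g₀),
      AdjoinRoot.mk_eq_mk]
    exact ⟨-u, by linear_combination huv⟩
  have hθ1 : ∀ p, ψ p = 0 → θ (mk p) = 0 := fun p hp => by
    obtain ⟨d, hd⟩ := Ideal.mem_span_singleton.1 (Ideal.Quotient.eq_zero_iff_mem.1 hp)
    rw [show mk p = (1 - E) * d from hd, map_mul, map_sub, map_one, hθE, sub_self, zero_mul]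
  have hgg₀ : g.map ρ = g₀ := by
    refine eq_of_monic_of_dvd_of_natDegree_le hg (hgm.map ρ) ?_ (by rw [hgm.natDegree_map, hgn])
    have h1 := hθ1 g hψg
    rwa [hθ, AdjoinRoot.mk_eq_zero] at h1
  -- division
  set r := f %ₘ g with hr
  set q := f /ₘ g with hq
  have hrq : r + g * q = f := modByMonic_add_div f g
  have hψr : ψ r = 0 := by
    have : ψ f = 0 := by simp [ψ, hmkf]
    rw [← hrq, map_add, map_mul, hψg, zero_mul, add_zero] at this
    exact this
  have hr0 : r.map ρ = 0 := by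
    rw [hr, map_modByMonic ρ hgm, hgg₀, hf, (modByMonic_eq_zero_iff_dvd hg).2 (dvd_mul_right g₀ h₀)]
  obtain ⟨Ep, hEp⟩ := hmk E
  have hrE : f ∣ r * Ep := by
    have h1 := Ideal.Quotient.eq_zero_iff_mem.1 hψr
    obtain ⟨d, hd⟩ := Ideal.mem_span_singleton.1 h1
    have h2 : mk (r * Ep) = 0 := by
      rw [map_mul, hEp]
      change mk r * E = 0
      rw [show mk r = (1 - E) * d from hd]
      linear_combination (-d) * hEE
    exact (hmk0 _).1 h2
  obtain ⟨a, ha⟩ := hrE
  have ha0 : a.map ρ = 0 := by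
    have h1 := congrArg (Polynomial.map ρ) ha
    rw [Polynomial.map_mul, hr0, zero_mul, Polynomial.map_mul] at h1
    exact (mul_eq_zero.1 h1.symm).resolve_left hf0
  haveI : Module.Finite R (AdjoinRoot g) := hgm.finite_adjoinRoot
  have hunit : IsUnit (AdjoinRoot.mk g (Ep - a)) := by
    have h1 : AdjoinRoot.mk g₀ (Ep.map ρ) = AdjoinRoot.mk g₀ 1 := by
      rw [map_one, ← hθ, hEp, hθE]
    obtain ⟨k, hk⟩ := AdjoinRoot.mk_eq_mk.1 h1
    obtain ⟨k', hk'⟩ := map_surjective ρ residue_surjective k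
    have h2 : Ep - a - 1 - g * k' ∈ RingHom.ker (mapRingHom ρ) := by
      rw [RingHom.mem_ker, coe_mapRingHom]
      simp only [Polynomial.map_sub, Polynomial.map_mul, Polynomial.map_one, ha0, hk', hgg₀, sub_zero, hk, sub_self]
    rw [Polynomial.ker_mapRingHom, ker_residue] at h2
    have h3 := Ideal.mem_map_of_mem (AdjoinRoot.mk g) h2
    rw [Ideal.map_map, show (AdjoinRoot.mk g).comp C = algebraMap R (AdjoinRoot g) from rfl] at h3
    have h4 := Ideal.mem_jacobson_bot.1
      (map_le_jacobson (maximalIdeal_le_jacobson (⊥ : Ideal R)) h3) 1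
    rw [mul_one] at h4
    convert h4 using 1
    simp [map_sub, map_mul, AdjoinRoot.mk_self]
  have hrzero : r = 0 := by
    have h1 : AdjoinRoot.mk g r * AdjoinRoot.mk g (Ep - a) = 0 := by
      rw [← map_mul, AdjoinRoot.mk_eq_zero]
      refine ⟨a * q, ?_⟩
      linear_combination ha - a * hrq
    have h2 := hunit.mul_left_eq_zero.1 h1
    rw [AdjoinRoot.mk_eq_zero] at h2
    exact ((modByMonic_eq_self_iff hgm).2 (by rw [hr]; exact degree_modByMonic_lt f hgm)).symm.trans
      ((modByMonic_eq_zero_iff_dvd hgm).2 h2)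
  refine ⟨g, q, ?_, hgm, hgg₀, ?_⟩
  · rw [← hrq, hrzero, zero_add]
  · refine mul_left_cancel₀ hg.ne_zero ?_
    rw [← hf, ← hrq, hrzero, zero_add, Polynomial.map_mul, hgg₀]

end Groth.Agent.Hensel
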