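import Mathlib

/-!
Gabber's criterion for henselian pairs: roots of monic polynomials `≡ X ^ n * (X - 1)` give sections of étale algebras.
-/

set_option autoImplicit false

namespace Groth.Agent.Hensel

universe u v

open Polynomial

variable {A : Type u} [CommRing A] {I : Ideal A}

/-- Gabber's condition: monic polynomials congruent to `X ^ n * (X - 1)` modulo `I` have a root congruent to `1`. -/
def GRoot (A : Type u) [CommRing A] (I : Ideal A) : Prop :=
  I ≤ Ideal.jacobson ⊥ ∧ ∀ (P : A[X]) (n : ℕ), P.Monic → P.map (Ideal.Quotient.mk I) = X ^ n * (X - 1) →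
    ∃ α : A, P.IsRoot α ∧ α - 1 ∈ I

theorem isUnit_of_mk (h : I ≤ Ideal.jacobson ⊥) {a : A} (ha : IsUnit (Ideal.Quotient.mk I a)) : IsUnit a :=
  haveI := isLocalHom_of_le_jacobson_bot I h
  ha.of_map

theorem mk_eval (P : A[X]) (a : A) :
    Ideal.Quotient.mk I (P.eval a) = (P.map (Ideal.Quotient.mk I)).eval (Ideal.Quotient.mk I a) :=
  (eval_map_apply _ _).symm

theorem gRoot_of_henselianRing [HenselianRing A I] : GRoot A I := by
  refine ⟨HenselianRing.jac, fun P n hP hmap => HenselianRing.is_henselian P hP 1 ?_ ?_⟩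
  · rw [← Ideal.Quotient.eq_zero_iff_mem, mk_eval, hmap, map_one]; simp
  · rw [mk_eval, ← derivative_map, hmap, map_one, derivative_mul]
    simp

/-- Isolated sections of finite algebras lift to idempotents of rank one. -/
theorem exists_idempotent_of_section (h : GRoot A I) {B : Type v} [CommRing B] [Algebra A B] [Module.Finite A B]
    (σ : B →ₐ[A] A ⧸ I) (b : B) (hb : σ b = 1) (hker : ∀ x, σ x = 0 → b * x ∈ I • (⊤ : Submodule A B)) :
    ∃ q : B, IsIdempotentElem q ∧ σ q = 1 ∧ ∀ x, ∃ a : A, q * x = a • q := by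
  classical
  obtain ⟨hI, hroot⟩ := h
  obtain ⟨N, g, hg⟩ := Module.Finite.exists_fin (R := A) (M := B)
  have hres : ∀ x : B, ∃ a : A, σ (x - algebraMap A B a) = 0 := fun x => by
    obtain ⟨a, ha⟩ := Ideal.Quotient.mk_surjective (σ x)
    exact ⟨a, by rw [map_sub, AlgHom.commutes, Ideal.Quotient.algebraMap_eq, ha, sub_self]⟩
  let G : Fin (N + 1) → B := Fin.cons b (fun i => (1 - b) * g i)
  have hG : Submodule.span A (Set.range G) = ⊤ := by
    refine top_le_iff.1 (Submodule.le_of_le_smul_of_le_jacobson_bot (I := I) Module.Finite.fg_top hI fun x _ => ?_)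
    obtain ⟨a, ha⟩ := hres x
    obtain ⟨c, hc⟩ := (Submodule.mem_span_range_iff_exists_fun A).1 (hg ▸ Submodule.mem_top : x ∈ Submodule.span A (Set.range g))
    refine Submodule.mem_sup.2 ⟨a • G 0 + ∑ i, c i • G i.succ,
      add_mem (Submodule.smul_mem _ _ (Submodule.subset_span ⟨_, rfl⟩))
        (Submodule.sum_mem _ fun i _ => Submodule.smul_mem _ _ (Submodule.subset_span ⟨_, rfl⟩)),
      b * (x - algebraMap A B a), hker _ ha, ?_⟩
    have e : ∀ i, c i • G i.succ = (1 - b) * (c i • g i) := fun i => by simp [G, mul_smul_comm]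
    rw [Finset.sum_congr rfl fun i _ => e i, ← Finset.mul_sum, hc]
    simp only [G, Fin.cons_zero, Algebra.smul_def]
    ring
  let d : Fin (N + 1) → A := Fin.cons 1 (fun _ => 0)
  have hd : ∀ i, b * G i - d i • G i ∈ I • (⊤ : Submodule A B) := fun i => by
    refine Fin.cases ?_ (fun j => ?_) i
    · simp only [G, d, Fin.cons_zero, one_smul]
      rw [show b * b - b = b * (b - 1) by ring]
      exact hker _ (by rw [map_sub, hb, map_one, sub_self])
    · simp only [G, d, Fin.cons_succ, zero_smul, sub_zero]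
      exact hker _ (by rw [map_mul, map_sub, hb, map_one, sub_self, zero_mul])
  have hC : ∀ i, ∃ c : Fin (N + 1) → A, (∀ j, c j ∈ I) ∧ b * G i - d i • G i = ∑ j, c j • G j := fun i => by
    have h := hd i
    rw [← hG, Submodule.mem_ideal_smul_span_iff_exists_sum] at h
    obtain ⟨a, ha, he⟩ := h
    exact ⟨a, ha, by rw [← he, Finsupp.sum_fintype]; intro j; exact zero_smul A _⟩
  choose Cm hCI hC using hC
  let M : Matrix (Fin (N + 1)) (Fin (N + 1)) A := Matrix.of fun i j => (if i = j then d i else 0) + Cm i j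
  have hM : ∀ i, b * G i = ∑ j, M i j • G j := fun i => by
    simp only [M, Matrix.of_apply, add_smul, Finset.sum_add_distrib, ite_smul, zero_smul, Finset.sum_ite_eq,
      Finset.mem_univ, if_true]
    rw [← hC i]; abel
  set P := M.charpoly with hP
  have hPmap : P.map (Ideal.Quotient.mk I) = X ^ N * (X - 1) := by
    rw [hP, ← Matrix.charpoly_map]
    have : M.map (Ideal.Quotient.mk I) = Matrix.diagonal (fun i => Ideal.Quotient.mk I (d i)) := by
      ext i j
      simp only [Matrix.map_apply, M, Matrix.of_apply, map_add, Ideal.Quotient.eq_zero_iff_mem.2 (hCI i j), add_zero]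
      rcases eq_or_ne i j with rfl | hij
      · simp
      · simp [hij]
    rw [this, Matrix.charpoly_diagonal, Fin.prod_univ_succ]
    simp [d, mul_comm]
  have hPb : aeval b P = 0 := by
    -- Cayley–Hamilton
    let π : (Fin (N + 1) → A) →ₗ[A] B := Fintype.linearCombination A G
    let f : (Fin (N + 1) → A) →ₗ[A] (Fin (N + 1) → A) := Matrix.toLin' M.transpose
    have hπ : ∀ v, π (f v) = b * π v := fun v => by
      simp only [π, f, Matrix.toLin'_apply, Fintype.linearCombination_apply, Matrix.mulVec, dotProduct,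
        Matrix.transpose_apply, Finset.mul_sum, mul_smul_comm, hM, Finset.smul_sum, smul_smul, Finset.sum_smul]
      rw [Finset.sum_comm]
      simp only [mul_comm]
    have hpol : ∀ (R : A[X]) v, π (aeval f R v) = aeval b R * π v := fun R => by
      induction R using Polynomial.induction_on with
      | C c => intro v; rw [aeval_C, aeval_C, Module.algebraMap_end_apply, map_smul, Algebra.smul_def]
      | add p q hp hq => intro v; rw [map_add, LinearMap.add_apply, map_add, hp, hq, map_add, add_mul]
      | monomial n c hn =>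
        intro v
        rw [pow_succ, ← mul_assoc, map_mul, aeval_X, Module.End.mul_apply, hn, hπ, map_mul (aeval b) _ X, aeval_X, mul_assoc]
    have h0 : aeval f P = 0 := by
      have h1 := Matrix.aeval_self_charpoly M.transpose
      rw [Matrix.charpoly_transpose] at h1
      exact (aeval_algHom_apply (Matrix.toLinAlgEquiv' (R := A) (n := Fin (N + 1))).toAlgHom M.transpose P).trans
        (by rw [h1, map_zero])
    have hann : ∀ x : B, aeval b P * x = 0 := fun x => by
      have hx : x ∈ Submodule.span A (Set.range G) := hG ▸ Submodule.mem_top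
      obtain ⟨v, rfl⟩ := (Submodule.mem_span_range_iff_exists_fun A).1 hx
      rw [← Fintype.linearCombination_apply A G v]
      change aeval b P * π v = 0
      rw [← hpol, h0, LinearMap.zero_apply, map_zero]
    simpa using hann 1
  obtain ⟨α, hα, hα1⟩ := hroot P N (M.charpoly_monic) hPmap
  obtain ⟨Q, hQ⟩ := dvd_iff_isRoot.2 hα
  have hα' : Ideal.Quotient.mk I α = 1 := by
    rw [← map_one (Ideal.Quotient.mk I)]; exact Ideal.Quotient.eq.2 hα1
  have hQmap : Q.map (Ideal.Quotient.mk I) = X ^ N := by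
    have h1 := congrArg (Polynomial.map (Ideal.Quotient.mk I)) hQ
    rw [hPmap, Polynomial.map_mul, Polynomial.map_sub, map_X, map_C, hα', map_one, mul_comm (X - 1)] at h1
    have hreg : IsRegular ((X : (A ⧸ I)[X]) - 1) := by rw [← map_one C]; exact (monic_X_sub_C _).isRegular
    exact (hreg.right h1).symm
  have hQu : IsUnit (Q.eval α) := isUnit_of_mk hI (by rw [mk_eval, hQmap, hα', eval_pow, eval_X, one_pow]; exact isUnit_one)
  let w : A := hQu.unit⁻¹.1
  have hw : Q.eval α * w = 1 := hQu.mul_val_inv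
  let q : B := aeval b Q * algebraMap A B w
  have hq0 : (b - algebraMap A B α) * q = 0 := by
    have : aeval b ((X - C α) * Q) = 0 := by rw [← hQ]; exact hPb
    rw [map_mul, map_sub, aeval_X, aeval_C] at this
    rw [← mul_assoc, this, zero_mul]
  have hq1 : ∃ t, q - 1 = (b - algebraMap A B α) * t := by
    obtain ⟨R, hR⟩ := dvd_iff_isRoot.2 (show (Q - C (Q.eval α)).IsRoot α by simp [IsRoot])
    refine ⟨aeval b R * algebraMap A B w, ?_⟩
    have h1 := congrArg (aeval b) hR
    rw [map_mul, map_sub, map_sub, aeval_X, aeval_C, aeval_C] at h1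
    have h2 : algebraMap A B (Q.eval α) * algebraMap A B w = 1 := by rw [← map_mul, hw, map_one]
    linear_combination (algebraMap A B w) * h1 + h2
  have hqi : IsIdempotentElem q := by
    obtain ⟨t, ht⟩ := hq1
    change q * q = q
    linear_combination q * ht + t * hq0
  have hσq : σ q = 1 := by
    have h1 : σ (b - algebraMap A B α) = 0 := by rw [map_sub, hb, AlgHom.commutes, Ideal.Quotient.algebraMap_eq, hα', sub_self]
    obtain ⟨t, ht⟩ := hq1
    have h2 := congrArg σ ht
    rwa [map_sub, map_one, map_mul σ (b - algebraMap A B α) t, h1, zero_mul, sub_eq_zero] at h2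
  refine ⟨q, hqi, hσq, fun x => ?_⟩
  obtain ⟨αu, hαu⟩ : IsUnit α := isUnit_of_mk hI (by rw [hα']; exact isUnit_one)
  let F : B →ₗ[A] B := LinearMap.mulLeft A q
  have hle : LinearMap.range F ≤ Submodule.span A {q} := by
    refine Submodule.le_of_le_smul_of_le_jacobson_bot (I := I)
      (LinearMap.range_eq_map F ▸ Module.Finite.fg_top.map F) hI ?_
    rintro _ ⟨y, rfl⟩
    obtain ⟨a, ha⟩ := hres y
    refine Submodule.mem_sup.2 ⟨a • q, Submodule.smul_mem _ _ (Submodule.mem_span_singleton_self q),
      F (y - algebraMap A B a), ?_, ?_⟩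
    · have e : F (y - algebraMap A B a) = (↑αu⁻¹ : A) • F (b * (y - algebraMap A B a)) := by
        change q * (y - algebraMap A B a) = (↑αu⁻¹ : A) • (q * (b * (y - algebraMap A B a)))
        have h1 : algebraMap A B ↑αu⁻¹ * algebraMap A B α = 1 := by rw [← map_mul, ← hαu, Units.inv_mul, map_one]
        rw [Algebra.smul_def]
        linear_combination -(algebraMap A B ↑αu⁻¹ * (y - algebraMap A B a)) * hq0 - q * (y - algebraMap A B a) * h1
      rw [e]
      have := Submodule.mem_map_of_mem (f := F) (hker _ ha)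
      rw [Submodule.map_smul'', ← LinearMap.range_eq_map] at this
      exact Submodule.smul_mem _ _ this
    · change a • q + q * (y - algebraMap A B a) = q * y
      rw [Algebra.smul_def]; ring
  obtain ⟨a, ha⟩ := Submodule.mem_span_singleton.1 (hle ⟨x, rfl⟩)
  exact ⟨a, ha.symm⟩

/-- Sections of a finite algebra sitting with bounded denominators inside a flat algebra lift. -/
theorem exists_section_lift (h : GRoot A I) {B : Type v} [CommRing B] [Algebra A B] [Module.Finite A B]
    {E : Type*} [CommRing E] [Algebra A E] [Module.Flat A E] (φ : B →ₐ[A] E) (hφ : Function.Injective φ)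
    (s : B) (hs : ∀ e : E, ∃ n : ℕ, φ s ^ n * e ∈ φ.range)
    (σ : B →ₐ[A] A ⧸ I) (hσs : IsUnit (σ s)) (b : B) (hb : σ b = 1)
    (hker : ∀ x, σ x = 0 → b * x ∈ I • (⊤ : Submodule A B)) :
    ∃ (τ : B →ₐ[A] A) (q : B), σ q = 1 ∧ (∀ x, Ideal.Quotient.mk I (τ x) = σ x) ∧ IsUnit (τ s) ∧
      (∀ x, q * x = τ x • q) ∧ (∀ a : A, a • q = 0 → a = 0) := by
  obtain ⟨q, hqi, hσq, hq⟩ := exists_idempotent_of_section h σ b hb hker
  have hmk : ∀ x (a : A), q * x = a • q → σ x = Ideal.Quotient.mk I a := fun x a e => by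
    have := congrArg σ e
    rwa [map_mul, hσq, one_mul, map_smul, hσq, Algebra.smul_def, mul_one, Ideal.Quotient.algebraMap_eq] at this
  obtain ⟨c, hc⟩ := hq s
  have hcu : IsUnit c := isUnit_of_mk h.1 (hmk s c hc ▸ hσs)
  have hinj : ∀ a : A, a • q = 0 → a = 0 := by
    intro a ha
    have hrel : ∑ _i : Fin 1, a • φ q = 0 := by simp [← map_smul, ha]
    obtain ⟨k, C, y, hy, hC⟩ := Module.Flat.isTrivialRelation_of_sum_smul_eq_zero (R := A) (f := fun _ : Fin 1 => a)
      (x := fun _ => φ q) hrel
    have hqy : ∀ e : E, ∃ d : A, φ q * e = d • φ q := fun e => by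
      obtain ⟨n, x, hx⟩ := hs e
      change φ x = _ at hx
      obtain ⟨d, hd⟩ := hq x
      have hcn : ∀ m : ℕ, q * s ^ m = c ^ m • q := fun m => by
        induction m with
        | zero => simp
        | succ m ih => rw [pow_succ, ← mul_assoc, ih, smul_mul_assoc, hc, smul_smul, ← pow_succ]
      refine ⟨((hcu.pow n).unit⁻¹ : Aˣ).1 * d, ?_⟩
      have h1 : c ^ n • (φ q * e) = d • φ q := by
        rw [← map_smul, ← hd, map_mul, hx, ← mul_assoc, ← map_pow, ← map_mul, hcn, map_smul, smul_mul_assoc]
      rw [mul_smul, ← h1, smul_smul, IsUnit.val_inv_mul, one_smul]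
    choose d hd using fun j => hqy (y j)
    have hqq : φ q = (∑ j, C 0 j * d j) • φ q := by
      conv_lhs => rw [show φ q = φ q * φ q by rw [← map_mul, hqi.eq]]
      nth_rewrite 2 [show φ q = ∑ j, C 0 j • y j from hy 0]
      rw [Finset.mul_sum, Finset.sum_smul]
      exact Finset.sum_congr rfl fun j _ => by rw [mul_smul_comm, hd, smul_smul]
    have hq2 : q = (∑ j, C 0 j * d j) • q := hφ (by rw [map_smul]; exact hqq)
    have hu : IsUnit (∑ j, C 0 j * d j) := by
      refine isUnit_of_mk h.1 ?_
      have := hmk 1 (∑ j, C 0 j * d j) (by rw [mul_one]; exact hq2)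
      rw [map_one] at this
      rw [← this]; exact isUnit_one
    refine hu.mul_left_eq_zero.1 ?_
    rw [Finset.mul_sum]
    refine Finset.sum_eq_zero fun j _ => ?_
    have h2 := hC j
    simp only [Fin.sum_univ_one] at h2
    rw [← mul_assoc, h2, zero_mul]
  choose τ₀ hτ₀ using hq
  have huniq : ∀ x a, q * x = a • q → τ₀ x = a := fun x a e => by
    refine sub_eq_zero.1 (hinj _ ?_)
    rw [sub_smul, ← hτ₀, e, sub_self]
  let τ : B →ₐ[A] A :=
    { toFun := τ₀
      map_one' := huniq 1 1 (by rw [mul_one, one_smul])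
      map_mul' := fun x y => huniq _ _ (by rw [← mul_assoc, hτ₀ x, smul_mul_assoc, hτ₀ y, smul_smul])
      map_zero' := huniq 0 0 (by rw [mul_zero, zero_smul])
      map_add' := fun x y => huniq _ _ (by rw [mul_add, hτ₀ x, hτ₀ y, add_smul])
      commutes' := fun a => huniq _ _ (by rw [mul_comm, ← Algebra.smul_def, Algebra.algebraMap_self, RingHom.id_apply]) }
  exact ⟨τ, q, hσq, fun x => (hmk x _ (hτ₀ x)).symm, isUnit_of_mk h.1 (hmk s _ (hτ₀ s) ▸ hσs), hτ₀, hinj⟩

end Groth.Agent.Hensel
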