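import Groth.Prelude.Def_Hens2
import Groth.Agent.Hensel.EtaleAlgProd
import Groth.Agent.Hensel.Local

/-!
The henselization of a pair `(A, I)`.
-/

set_option autoImplicit false

namespace Groth.Agent.Hensel

universe u v w

open scoped Polynomial

variable (A : Type u) [CommRing A] (I : Ideal A)

/-- Presented étale algebras with an `A ⧸ I`-point. -/
abbrev PairIdx := Σ' i : EtFP A, {x : Fin i.n → A ⧸ I // i.HasPt x}

/-- The algebras indexed by their points. -/
abbrev pairFam : PairIdx A I → EtFP A := fun k => k.1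

/-- The product of all presented étale algebras with an `A ⧸ I`-point. -/
abbrev PairTop := AlgProd (pairFam A I)

/-- The tautological point. -/
noncomputable def pairEv : PairTop A I →ₐ[A] A ⧸ I :=
  algLift (fun k => k.2.1) fun k => k.2.2

/-- The elements inverted in the henselization. -/
noncomputable def pairSub : Submonoid (PairTop A I) :=
  (IsUnit.submonoid (A ⧸ I)).comap (pairEv A I)

theorem mem_pairSub {t : PairTop A I} : t ∈ pairSub A I ↔ IsUnit (pairEv A I t) :=
  Iff.rfl

/-- The henselization of the pair. -/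
def PairEnv : Type u := Localization (pairSub A I)

noncomputable instance instCommRingPairEnv : CommRing (PairEnv A I) :=
  inferInstanceAs (CommRing (Localization (pairSub A I)))

noncomputable instance instAlgebraTopPairEnv : Algebra (PairTop A I) (PairEnv A I) :=
  inferInstanceAs (Algebra (PairTop A I) (Localization (pairSub A I)))

noncomputable instance instAlgebraPairEnv : Algebra A (PairEnv A I) :=
  ((algebraMap (PairTop A I) (PairEnv A I)).comp (algebraMap A (PairTop A I))).toAlgebra

instance instScalarTowerPairEnv : IsScalarTower A (PairTop A I) (PairEnv A I) :=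
  IsScalarTower.of_algebraMap_eq (R := A) (S := PairTop A I) (A := PairEnv A I) fun _ => rfl

instance instIsLocalizationPairEnv : IsLocalization (pairSub A I) (PairEnv A I) :=
  inferInstanceAs (IsLocalization (pairSub A I) (Localization (pairSub A I)))

/-- The residue map. -/
noncomputable def pairRes : PairEnv A I →ₐ[A] A ⧸ I :=
  IsLocalization.liftAlgHom (M := pairSub A I) (f := pairEv A I) fun t => t.2

theorem pairRes_algebraMap (x : PairTop A I) : pairRes A I (algebraMap _ _ x) = pairEv A I x :=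
  IsLocalization.lift_eq _ x

theorem pairRes_surjective : Function.Surjective (pairRes A I) := fun y => by
  obtain ⟨a, rfl⟩ := Ideal.Quotient.mk_surjective y
  exact ⟨algebraMap A _ a, (pairRes A I).commutes a⟩

theorem exists_mul_algebraMap (z : PairEnv A I) :
    ∃ x t : PairTop A I, IsUnit (pairEv A I t) ∧ IsUnit (algebraMap _ (PairEnv A I) t) ∧
      z * algebraMap _ (PairEnv A I) t = algebraMap _ (PairEnv A I) x := by
  obtain ⟨x, s, rfl⟩ := IsLocalization.exists_mk'_eq (pairSub A I) z
  exact ⟨x, s.1, s.2, IsLocalization.map_units _ s, IsLocalization.mk'_spec _ x s⟩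

theorem isUnit_of_isUnit_pairRes {z : PairEnv A I} (hz : IsUnit (pairRes A I z)) : IsUnit z := by
  obtain ⟨x, t, ht, htu, hxt⟩ := exists_mul_algebraMap A I z
  have hx : IsUnit (pairEv A I x) := by
    rw [← pairRes_algebraMap, ← hxt, map_mul, pairRes_algebraMap]
    exact hz.mul ht
  have hxu : IsUnit (algebraMap _ (PairEnv A I) x) :=
    IsLocalization.map_units (PairEnv A I) (⟨x, hx⟩ : pairSub A I)
  rw [← hxt] at hxu
  exact isUnit_of_mul_isUnit_left hxu

theorem ker_pairRes_le_jacobson : RingHom.ker (pairRes A I).toRingHom ≤ Ideal.jacobson ⊥ := fun x hx => by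
  rw [Ideal.mem_jacobson_bot]
  intro y
  refine isUnit_of_isUnit_pairRes A I ?_
  have hx' : pairRes A I x = 0 := hx
  rw [map_add, map_mul, hx', zero_mul, zero_add, map_one]
  exact isUnit_one

theorem ker_pairRes : RingHom.ker (pairRes A I).toRingHom = I.map (algebraMap A (PairEnv A I)) := by
  set J := I.map (algebraMap A (PairEnv A I))
  have hJ : J ≤ RingHom.ker (pairRes A I).toRingHom := Ideal.map_le_iff_le_comap.2 fun a ha => by
    refine ((pairRes A I).commutes a).trans ?_
    exact Ideal.Quotient.eq_zero_iff_mem.2 ha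
  refine le_antisymm (fun z hz => ?_) hJ
  let q : PairEnv A I →ₐ[A] PairEnv A I ⧸ J := Ideal.Quotient.mkₐ A J
  let g : A ⧸ I →ₐ[A] PairEnv A I ⧸ J := Ideal.quotientMapₐ J (Algebra.ofId A _) Ideal.le_comap_map
  have hjac : (RingHom.ker (pairRes A I).toRingHom).map q.toRingHom ≤ Ideal.jacobson ⊥ := fun w hw => by
    obtain ⟨w, hw', rfl⟩ := (Ideal.mem_map_iff_of_surjective q.toRingHom Ideal.Quotient.mk_surjective).1 hw
    rw [Ideal.mem_jacobson_bot]
    intro y
    obtain ⟨y, rfl⟩ := Ideal.Quotient.mk_surjective y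
    have := (Ideal.mem_jacobson_bot.1 (ker_pairRes_le_jacobson A I hw') y).map q.toRingHom
    simpa [q, Ideal.Quotient.mkₐ_eq_mk] using this
  have hpt : q.comp (IsScalarTower.toAlgHom A (PairTop A I) (PairEnv A I)) = g.comp (pairEv A I) := by
    refine algProd_hom_ext fun k m => ?_
    refine AlgHom.congr_fun (algHom_eq_of_unramified (E := (pairFam A I k).Ring) hjac
      ((q.comp (IsScalarTower.toAlgHom A (PairTop A I) (PairEnv A I))).comp (algIncl (pairFam A I) k))
      ((g.comp (pairEv A I)).comp (algIncl (pairFam A I) k)) fun e => ?_) ((pairFam A I k).pt m) |>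
        fun h => by simpa [algIncl] using h
    obtain ⟨a, ha⟩ := Ideal.Quotient.mk_surjective (pairEv A I (algIncl (pairFam A I) k e))
    have hga : g (pairEv A I (algIncl (pairFam A I) k e)) = q (algebraMap A _ a) := by rw [← ha]; rfl
    simp only [AlgHom.comp_apply]
    rw [hga, ← map_sub]
    refine Ideal.mem_map_of_mem q.toRingHom ?_
    change pairRes A I (_ - _) = 0
    rw [map_sub, sub_eq_zero, AlgHom.commutes]
    exact (pairRes_algebraMap A I _).trans ha.symm
  obtain ⟨x, t, ht, htu, hxt⟩ := exists_mul_algebraMap A I z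
  have hx : pairEv A I x = 0 := by
    rw [← pairRes_algebraMap, ← hxt, map_mul, show pairRes A I z = 0 from hz, zero_mul]
  have h1 : q (algebraMap _ (PairEnv A I) x) = 0 := (AlgHom.congr_fun hpt x).trans (by
    change g (pairEv A I x) = 0
    rw [hx, map_zero])
  rw [← hxt, map_mul] at h1
  exact Ideal.Quotient.eq_zero_iff_mem.1 ((htu.map q).mul_left_eq_zero.1 h1)

/-- A ring with all universal points, made of their fractions, is henselian. -/
theorem henselianRing_pairEnv : HenselianRing (PairEnv A I) (I.map (algebraMap A (PairEnv A I))) := by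
  classical
  rw [← ker_pairRes]
  refine ⟨ker_pairRes_le_jacobson A I, fun f hf a₀ ha₀ hd => ?_⟩
  have hd' : IsUnit (pairRes A I (f.derivative.eval a₀)) :=
    hd.map (Ideal.Quotient.lift _ (pairRes A I).toRingHom fun a ha => ha)
  set n := f.natDegree
  choose x t ht htu hxt using fun k : Fin n => exists_mul_algebraMap A I (f.coeff k)
  choose Fx zx hzx using fun k => exists_algMap_eq (P := pairFam A I) (x k)
  choose Ft zt hzt using fun k => exists_algMap_eq (P := pairFam A I) (t k)
  let F : Finset (PairIdx A I) := Finset.univ.biUnion fun k => Fx k ∪ Ft k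
  have hFx : ∀ k, Fx k ⊆ F := fun k =>
    Finset.subset_union_left.trans (Finset.subset_biUnion_of_mem (fun k => Fx k ∪ Ft k) (Finset.mem_univ k))
  have hFt : ∀ k, Ft k ⊆ F := fun k =>
    Finset.subset_union_right.trans (Finset.subset_biUnion_of_mem (fun k => Fx k ∪ Ft k) (Finset.mem_univ k))
  let E := AlgProd (pairFam A I ∘ ((↑) : F → PairIdx A I))
  let inc : E →ₐ[A] PairTop A I := algMap (P := pairFam A I) ((↑) : F → PairIdx A I)
  let ι : PairTop A I →ₐ[A] PairEnv A I := IsScalarTower.toAlgHom A (PairTop A I) (PairEnv A I)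
  let x' : Fin n → E := fun k =>
    algMap (P := pairFam A I ∘ ((↑) : F → PairIdx A I)) (fun j : Fx k => (⟨j.1, hFx k j.2⟩ : F)) (zx k)
  let t' : Fin n → E := fun k =>
    algMap (P := pairFam A I ∘ ((↑) : F → PairIdx A I)) (fun j : Ft k => (⟨j.1, hFt k j.2⟩ : F)) (zt k)
  have hx' : ∀ k, ι (inc (x' k)) = ι (x k) := fun k => by
    rw [← hzx k]
    exact congrArg ι (AlgHom.congr_fun
      (algMap_comp (P := pairFam A I) ((↑) : F → PairIdx A I) fun j : Fx k => (⟨j.1, hFx k j.2⟩ : F)) (zx k))
  have ht' : ∀ k, ι (inc (t' k)) = ι (t k) := fun k => by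
    rw [← hzt k]
    exact congrArg ι (AlgHom.congr_fun
      (algMap_comp (P := pairFam A I) ((↑) : F → PairIdx A I) fun j : Ft k => (⟨j.1, hFt k j.2⟩ : F)) (zt k))
  haveI : Algebra.Etale A E := etale_algProd
  let T₀ : E := ∏ k, t' k
  have hT₀ : IsUnit (ι.comp inc T₀) := by
    rw [map_prod]
    refine IsUnit.prod_univ_iff.2 fun k => ?_
    rw [AlgHom.comp_apply, ht']
    exact htu k
  let E₁ := Localization.Away T₀
  haveI : Algebra.Etale A E₁ := inferInstance
  let χ : E₁ →ₐ[A] PairEnv A I := IsLocalization.Away.liftAlgHom T₀ (f := ι.comp inc) hT₀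
  have hχ : ∀ a, χ (algebraMap E E₁ a) = ι (inc a) := fun a => IsLocalization.Away.lift_eq T₀ hT₀ a
  have hu : ∀ k, IsUnit (algebraMap E E₁ (t' k)) := fun k =>
    isUnit_of_dvd_unit (map_dvd (algebraMap E E₁) (Finset.dvd_prod_of_mem t' (Finset.mem_univ k)))
      (IsLocalization.Away.algebraMap_isUnit T₀)
  let c : Fin n → E₁ := fun k => algebraMap E E₁ (x' k) * ↑(hu k).unit⁻¹
  have hc : ∀ k : Fin n, χ (c k) = f.coeff k := fun k => by
    have h1 : c k * algebraMap E E₁ (t' k) = algebraMap E E₁ (x' k) := by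
      rw [mul_assoc, IsUnit.val_inv_mul, mul_one]
    have h2 := congrArg χ h1
    rw [map_mul, hχ, hχ, hx', ht'] at h2
    exact (htu k).mul_left_injective (h2.trans (hxt k).symm)
  let f₁ : E₁[X] := Polynomial.X ^ n + ∑ k : Fin n, Polynomial.C (c k) * Polynomial.X ^ (k : ℕ)
  have hf₁ : f₁.Monic := Polynomial.monic_X_pow_add (Polynomial.degree_sum_fin_lt c)
  have hmap : f₁.map χ.toRingHom = f := by
    conv_rhs => rw [hf.as_sum]
    simp only [f₁, Polynomial.map_add, Polynomial.map_pow, Polynomial.map_X, Polynomial.map_sum,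
      Polynomial.map_mul, Polynomial.map_C]
    rw [← Fin.sum_univ_eq_sum_range (fun k => Polynomial.C (f.coeff k) * Polynomial.X ^ k)]
    congr 1
    exact Finset.sum_congr rfl fun k _ => by rw [← hc k]; rfl
  letI : Algebra E₁ (A ⧸ I) := ((pairRes A I).comp χ).toRingHom.toAlgebra
  haveI : IsScalarTower A E₁ (A ⧸ I) :=
    IsScalarTower.of_algebraMap_eq fun r => (((pairRes A I).comp χ).commutes r).symm
  let P₂ : StandardEtalePair E₁ := ⟨f₁, hf₁, Polynomial.derivative f₁, 1, 0, 1, by ring⟩
  have heval : ∀ p : E₁[X], Polynomial.aeval (pairRes A I a₀) p = pairRes A I ((p.map χ.toRingHom).eval a₀) :=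
    fun p => by
      rw [Polynomial.eval_map, Polynomial.aeval_def]
      exact (Polynomial.hom_eval₂ p χ.toRingHom (pairRes A I).toRingHom a₀).symm
  have hP₂ : P₂.HasMap (pairRes A I a₀) := by
    refine ⟨?_, ?_⟩
    · change Polynomial.aeval (pairRes A I a₀) f₁ = 0
      rw [heval, hmap]
      exact ha₀
    · change IsUnit (Polynomial.aeval (pairRes A I a₀) (Polynomial.derivative f₁))
      rw [heval, ← Polynomial.derivative_map, hmap]
      exact hd'
  letI : Algebra A P₂.Ring := ((algebraMap E₁ P₂.Ring).comp (algebraMap A E₁)).toAlgebra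
  haveI : IsScalarTower A E₁ P₂.Ring := IsScalarTower.of_algebraMap_eq' rfl
  haveI : Algebra.Etale A P₂.Ring := Algebra.Etale.comp A E₁ P₂.Ring
  let ev₂ : P₂.Ring →ₐ[A] A ⧸ I := (P₂.lift (pairRes A I a₀) hP₂).restrictScalars A
  obtain ⟨i, ⟨e⟩⟩ := EtFP.exists_algEquiv (A := A) P₂.Ring
  let k₀ : PairIdx A I := ⟨i, fun m => ev₂ (e (i.pt m)), i.hasPt_pt.map (ev₂.comp e.toAlgHom)⟩
  let φ₂ : P₂.Ring →ₐ[A] PairEnv A I := (ι.comp (algIncl (pairFam A I) k₀)).comp e.symm.toAlgHom
  have hφ₂' : (pairRes A I).comp φ₂ = ev₂ := by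
    have h1 : ((pairRes A I).comp (ι.comp (algIncl (pairFam A I) k₀))) = ev₂.comp e.toAlgHom :=
      EtFP.hom_ext fun m => by
        change pairRes A I (algebraMap _ _ (algIncl (pairFam A I) k₀ (i.pt m))) = ev₂ (e (i.pt m))
        rw [pairRes_algebraMap]
        exact (congrArg (pairEv A I) (EtFP.lift_pt _ _ _ m)).trans (algLift_algPt _ _ k₀ m)
    refine AlgHom.ext fun z => ?_
    refine (AlgHom.congr_fun h1 (e.symm z)).trans ?_
    change ev₂ (e (e.symm z)) = ev₂ z
    rw [e.apply_symm_apply]
  have hφ₂ : ∀ z, pairRes A I (φ₂ z) = ev₂ z := AlgHom.congr_fun hφ₂'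
  have hφχ : φ₂.comp (IsScalarTower.toAlgHom A E₁ P₂.Ring) = χ := by
    refine algHom_eq_of_unramified (ker_pairRes_le_jacobson A I) _ _ fun z => ?_
    change pairRes A I (_ - _) = 0
    rw [map_sub, sub_eq_zero]
    exact (hφ₂ _).trans ((P₂.lift (pairRes A I a₀) hP₂).commutes z)
  refine ⟨φ₂ P₂.X, ?_, ?_⟩
  · have h1 : φ₂ (Polynomial.aeval P₂.X f₁) = 0 := by
      rw [show Polynomial.aeval P₂.X f₁ = 0 from P₂.hasMap_X.1, map_zero]
    rw [Polynomial.IsRoot, ← hmap, Polynomial.eval_map, ← hφχ]
    exact (Polynomial.hom_eval₂ f₁ (algebraMap E₁ P₂.Ring) φ₂.toRingHom P₂.X).symm.trans h1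
  · change pairRes A I (_ - _) = 0
    rw [map_sub, sub_eq_zero, hφ₂]
    exact StandardEtalePair.lift_X P₂ _ hP₂

theorem isPairHenselization_pairEnv : Hens2.IsPairHenselization A I (PairEnv A I) := by
  refine ⟨henselianRing_pairEnv A I, fun C _ J f hJ hf => ?_⟩
  letI := f.toAlgebra
  let π : C →ₐ[A] C ⧸ J := Ideal.Quotient.mkₐ A J
  have hK : HenselianRing C (RingHom.ker π.toRingHom) := by
    rw [show RingHom.ker π.toRingHom = J from Ideal.mk_ker]; exact hJ
  let τ : A ⧸ I →ₐ[A] C ⧸ J :=
    Ideal.quotientMapₐ J (Algebra.ofId A C) fun a ha => hf (Ideal.mem_map_of_mem _ ha)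
  have hpts : ∀ k : PairIdx A I, ∃! φ : (pairFam A I k).Ring →ₐ[A] C,
      π.comp φ = τ.comp ((pairFam A I k).lift k.2.1 k.2.2) :=
    fun k => existsUnique_algHom_of_quotient π Ideal.Quotient.mk_surjective hK _
  choose φ hφ hφu using hpts
  let g₀ : PairTop A I →ₐ[A] C :=
    algLift (fun k m => φ k ((pairFam A I k).pt m)) fun k => (pairFam A I k).hasPt_pt.map (φ k)
  have hg₀ : π.comp g₀ = τ.comp (pairEv A I) := algProd_hom_ext fun k m => by
    simp only [AlgHom.comp_apply, g₀, pairEv, algLift_algPt]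
    exact (AlgHom.congr_fun (hφ k) ((pairFam A I k).pt m)).trans (congrArg τ (EtFP.lift_pt _ k.2.1 k.2.2 m))
  have hunit : ∀ s : pairSub A I, IsUnit (g₀ s) := fun s => by
    refine isUnit_of_mk hJ.jac ?_
    change IsUnit (π (g₀ s))
    rw [← AlgHom.comp_apply, hg₀]
    exact s.2.map τ
  let G : PairEnv A I →ₐ[A] C := IsLocalization.liftAlgHom (M := pairSub A I) hunit
  refine ⟨G.toRingHom, RingHom.ext G.commutes, fun g' hg' => ?_⟩
  let G' : PairEnv A I →ₐ[A] C := { g' with commutes' := RingHom.congr_fun hg' }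
  refine congrArg AlgHom.toRingHom (?_ : G' = G)
  have hres : ∀ z, π (G' z) = τ (pairRes A I z) := fun z => by
    obtain ⟨a, ha⟩ := Ideal.Quotient.mk_surjective (pairRes A I z)
    have hz : z - algebraMap A _ a ∈ I.map (algebraMap A (PairEnv A I)) := by
      rw [← ker_pairRes]
      change pairRes A I (_ - _) = 0
      rw [map_sub, AlgHom.commutes, sub_eq_zero]
      exact ha.symm
    have key : I.map (algebraMap A (PairEnv A I)) ≤ RingHom.ker (π.comp G').toRingHom :=
      Ideal.map_le_iff_le_comap.2 fun x hx => by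
        change π (G' (algebraMap A _ x)) = 0
        rw [AlgHom.commutes]
        exact Ideal.Quotient.eq_zero_iff_mem.2 (hf (Ideal.mem_map_of_mem _ hx))
    have h1 : π (G' (z - algebraMap A _ a)) = 0 := key hz
    rw [map_sub, map_sub, AlgHom.commutes, AlgHom.commutes, sub_eq_zero] at h1
    rw [h1, ← ha]
    rfl
  refine IsLocalization.algHom_ext (pairSub A I) (algProd_hom_ext fun k m => ?_)
  let ψ : (pairFam A I k).Ring →ₐ[A] C :=
    (G'.comp (IsScalarTower.toAlgHom A (PairTop A I) (PairEnv A I))).comp (algIncl (pairFam A I) k)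
  have hψ : ψ = φ k := hφu k ψ (EtFP.hom_ext fun m' => by
    change π (G' (algebraMap _ (PairEnv A I) (algIncl (pairFam A I) k ((pairFam A I k).pt m')))) = _
    rw [hres, pairRes_algebraMap, AlgHom.comp_apply, EtFP.lift_pt, algIncl, EtFP.lift_pt]
    exact congrArg τ (algLift_algPt _ _ k m'))
  have h2 : G' (algebraMap _ (PairEnv A I) (algPt (pairFam A I) k m)) = φ k ((pairFam A I k).pt m) := by
    rw [← hψ]
    simp [ψ, algIncl]
  have h3 : G (algebraMap _ (PairEnv A I) (algPt (pairFam A I) k m)) = g₀ (algPt (pairFam A I) k m) :=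
    IsLocalization.lift_eq _ _
  have h4 : g₀ (algPt (pairFam A I) k m) = φ k ((pairFam A I k).pt m) := by simp only [g₀, algLift_algPt]
  exact h2.trans (h3.trans h4).symm

theorem flat_pairEnv : Module.Flat A (PairEnv A I) := by
  haveI : Module.Flat (PairTop A I) (PairEnv A I) := IsLocalization.flat _ (pairSub A I)
  exact Module.Flat.trans A (PairTop A I) (PairEnv A I)

end Groth.Agent.Hensel
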