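import Groth.Agent.S17609
import Groth.Agent.S17596
import Groth.Agent.Hensel.SmoothQuotientLift
import Groth.Agent.Hensel.SpreadModel
import Groth.Agent.Hensel.PairEnvelope
import Groth.Agent.Hensel.Smooth

/-!
Henselian finitely presented algebras with smooth truncations are quotients of henselizations of smooth algebras.
-/

set_option autoImplicit false

namespace Groth.Agent.Hensel

universe u

open scoped TensorProduct

variable {A : Type u} [CommRing A] {I : Ideal A}

/-- A surjection of truncations with formally smooth target which is injective modulo `I` is injective. -/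
theorem injective_of_formallySmooth {n : ℕ} {E F : Type u} [CommRing E] [CommRing F] [Algebra A E] [Algebra A F]
    [Algebra (A ⧸ I ^ n) E] [Algebra (A ⧸ I ^ n) F] [IsScalarTower A (A ⧸ I ^ n) E] [IsScalarTower A (A ⧸ I ^ n) F]
    [Algebra.FormallySmooth (A ⧸ I ^ n) F] (ψ : E →ₐ[A] F) (hψ : Function.Surjective ψ)
    (hker : ∀ x, ψ x = 0 → x ∈ I.map (algebraMap A E)) : Function.Injective ψ := by
  have hIn : (I ^ n).map (algebraMap A E) = ⊥ := by
    rw [eq_bot_iff, Ideal.map_le_iff_le_comap]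
    intro a ha
    rw [Ideal.mem_comap, IsScalarTower.algebraMap_apply A (A ⧸ I ^ n) E, Ideal.Quotient.algebraMap_eq,
      Ideal.Quotient.eq_zero_iff_mem.2 ha, map_zero]
    exact Submodule.zero_mem _
  let ψ' : E →ₐ[A ⧸ I ^ n] F :=
    { ψ with
      commutes' := fun r => by
        obtain ⟨a, rfl⟩ := Ideal.Quotient.mk_surjective r
        change ψ (algebraMap (A ⧸ I ^ n) E (algebraMap A (A ⧸ I ^ n) a)) = algebraMap _ F (algebraMap A (A ⧸ I ^ n) a)
        rw [← IsScalarTower.algebraMap_apply, ← IsScalarTower.algebraMap_apply, ψ.commutes] }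
  have hnil : IsNilpotent (RingHom.ker ψ'.toRingHom) := ⟨n, by
    rw [Ideal.zero_eq_bot, eq_bot_iff]
    refine (Ideal.pow_right_mono (fun x hx => hker x hx : RingHom.ker ψ'.toRingHom ≤ I.map (algebraMap A E)) n).trans ?_
    rw [← Ideal.map_pow, hIn]⟩
  let s : F →ₐ[A ⧸ I ^ n] E := Algebra.FormallySmooth.liftOfSurjective (AlgHom.id _ F) ψ' hψ hnil
  have hs : ∀ y, ψ (s y) = y := fun y =>
    AlgHom.congr_fun (Algebra.FormallySmooth.comp_liftOfSurjective (AlgHom.id _ F) ψ' hψ hnil) y
  let Δ : E →ₗ[A] E := LinearMap.id - ((s.restrictScalars A).comp ψ).toLinearMap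
  have hΔ : ∀ x, Δ x ∈ (I • ⊤ : Submodule A E) := fun x => by
    rw [Ideal.smul_top_eq_map]
    refine hker (x - s (ψ x)) ?_
    rw [map_sub, hs, sub_self]
  rw [injective_iff_map_eq_zero]
  intro x hx
  have hxΔ : Δ x = x := by
    change x - s (ψ x) = x
    rw [hx, map_zero, sub_zero]
  have key : ∀ k, x ∈ (I ^ k • ⊤ : Submodule A E) := by
    intro k
    induction k with
    | zero => rw [pow_zero, Ideal.one_eq_top, Submodule.top_smul]; trivial
    | succ k ih =>
      rw [← hxΔ]
      have h1 : Δ x ∈ (I ^ k • ⊤ : Submodule A E).map Δ := Submodule.mem_map_of_mem ih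
      rw [Submodule.map_smul''] at h1
      rw [pow_succ, mul_smul]
      refine Submodule.smul_mono le_rfl ?_ h1
      rintro _ ⟨y, -, rfl⟩
      exact hΔ y
  have h := key n
  rw [Ideal.smul_top_eq_map, hIn] at h
  exact h

variable [HenselianRing A I] {R₀ : Type u} [CommRing R₀] [Algebra A R₀] [Algebra.FinitePresentation A R₀]
  {B : Type u} [CommRing B] [Algebra R₀ B] [Algebra A B] [IsScalarTower A R₀ B]

/-- A smooth model inducing the truncation presents `B` as a quotient of its henselization. -/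
theorem exists_surjection_of_model (hB : Hens2.IsPairHenselization R₀ (I.map (algebraMap A R₀)) B)
    (het : ∀ r : ℕ, 1 ≤ r → Algebra.Smooth (A ⧸ I ^ r) (B ⧸ (I ^ r).map (algebraMap A B)))
    (R : Type u) [CommRing R] [Algebra A R] [Algebra.FinitePresentation A R] (τ : R →ₐ[A] B)
    (hsurj : ∀ b, ∃ x, b - τ x ∈ I.map (algebraMap A B))
    (hinj : ∀ x, τ x ∈ I.map (algebraMap A B) → x ∈ I.map (algebraMap A R)) :
    ∃ (H : Type u) (_ : CommRing H) (_ : Algebra R H) (_ : Algebra A H) (_ : IsScalarTower A R H),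
      Hens2.IsPairHenselization R (I.map (algebraMap A R)) H ∧
        ∃ φ : H →ₐ[A] B, Function.Surjective φ ∧ (RingHom.ker φ).FG ∧
          ∀ n : ℕ, RingHom.ker φ ≤ (I ^ n).map (algebraMap A H) := by
  let J := I.map (algebraMap A R)
  let H := PairEnv R J
  letI : Algebra A H := ((algebraMap R H).comp (algebraMap A R)).toAlgebra
  haveI : IsScalarTower A R H := IsScalarTower.of_algebraMap_eq fun _ => rfl
  have hH : Hens2.IsPairHenselization R J H := isPairHenselization_pairEnv R J
  have hJB : J.map τ.toRingHom ≤ I.map (algebraMap A B) := by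
    rw [Ideal.map_map, show τ.toRingHom.comp (algebraMap A R) = algebraMap A B from RingHom.ext τ.commutes]
  have hIB : HenselianRing B (I.map (algebraMap A B)) := by
    have := hB.1
    rwa [Ideal.map_map, ← IsScalarTower.algebraMap_eq] at this
  obtain ⟨g, hg, -⟩ := hH.2 B (I.map (algebraMap A B)) τ.toRingHom hIB hJB
  have hgA : ∀ a, g (algebraMap A H a) = algebraMap A B a := fun a =>
    (RingHom.congr_fun hg (algebraMap A R a)).trans (τ.commutes a)
  let φ : H →ₐ[A] B := { g with commutes' := hgA }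
  letI algHB : Algebra H B := g.toAlgebra
  haveI : IsScalarTower A H B := IsScalarTower.of_algebraMap_eq fun a => (hgA a).symm
  have hIH : HenselianRing H (I.map (algebraMap A H)) := by
    have := hH.1
    rwa [Ideal.map_map, ← IsScalarTower.algebraMap_eq] at this
  obtain ⟨T, _, _, _, _, hTfp, hT⟩ := Groth.Agent.S17609.result A I R H hH R₀ B hB
  haveI := hTfp
  haveI := hIH
  have hIHB : (I.map (algebraMap A H)).map (algebraMap H B) = I.map (algebraMap A B) := by
    rw [Ideal.map_map, ← IsScalarTower.algebraMap_eq]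
  have hτH : ∀ x, g (algebraMap R H x) = τ x := fun x => RingHom.congr_fun hg x
  have hsurjH : Function.Surjective (Ideal.quotientMap ((I.map (algebraMap A H)).map (algebraMap H B)) (algebraMap H B)
      Ideal.le_comap_map) := fun y => by
    obtain ⟨b, rfl⟩ := Ideal.Quotient.mk_surjective y
    obtain ⟨x, hx⟩ := hsurj b
    refine ⟨Ideal.Quotient.mk _ (algebraMap R H x), ?_⟩
    rw [Ideal.quotientMap_mk, eq_comm, Ideal.Quotient.eq, show algebraMap H B (algebraMap R H x) = τ x from hτH x, hIHB]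
    exact hx
  obtain ⟨hfin, hfp⟩ := Groth.Agent.S17596.result H (I.map (algebraMap A H)) T B hT
    (RingHom.Finite.of_surjective _ hsurjH)
  haveI := hfin
  haveI := hfp
  have hφ : Function.Surjective (algebraMap H B) := by
    have htop : (⊤ : Submodule H B) ≤ LinearMap.range (Algebra.linearMap H B) ⊔ (I.map (algebraMap A H)) • ⊤ := by
      rintro b -
      obtain ⟨x, hx⟩ := hsurj b
      refine Submodule.mem_sup.2 ⟨τ x, ⟨algebraMap R H x, hτH x⟩, b - τ x, ?_, add_sub_cancel _ _⟩
      rw [Ideal.smul_top_eq_map, hIHB]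
      exact hx
    have h := Submodule.le_of_le_smul_of_le_jacobson_bot Module.Finite.fg_top hIH.jac htop
    exact fun b => h (Submodule.mem_top (x := b))
  refine ⟨H, inferInstance, inferInstance, inferInstance, inferInstance, hH, φ, hφ,
    Algebra.FinitePresentation.ker_fG_of_surjective (Algebra.ofId H B) hφ, fun n x hx => ?_⟩
  rcases Nat.eq_zero_or_pos n with rfl | hn
  · simp [Ideal.map_top]
  haveI := het n hn
  have hJn : (J ^ n).map (algebraMap R H) = (I ^ n).map (algebraMap A H) := by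
    rw [← Ideal.map_pow, Ideal.map_map, ← IsScalarTower.algebraMap_eq]
  obtain ⟨y, hy⟩ := pairHenselization_exists_sub_mem hH n x
  rw [hJn] at hy
  let ψ : (R ⧸ (I ^ n).map (algebraMap A R)) →ₐ[A] (B ⧸ (I ^ n).map (algebraMap A B)) :=
    Ideal.quotientMapₐ _ τ (Ideal.map_le_iff_le_comap.2 fun a ha => by
      rw [Ideal.mem_comap, Ideal.mem_comap, τ.commutes]
      exact Ideal.mem_map_of_mem _ ha)
  have hψs : Function.Surjective ψ := fun z => by
    obtain ⟨b, rfl⟩ := Ideal.Quotient.mk_surjective z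
    obtain ⟨h, rfl⟩ := hφ b
    obtain ⟨r, hr⟩ := pairHenselization_exists_sub_mem hH n h
    rw [hJn] at hr
    refine ⟨Ideal.Quotient.mk _ r, ?_⟩
    change Ideal.Quotient.mk _ (τ r) = _
    rw [eq_comm, Ideal.Quotient.eq, ← hτH r, ← RingHom.algebraMap_toAlgebra g, ← map_sub,
      IsScalarTower.algebraMap_eq A H B, ← Ideal.map_map]
    exact Ideal.mem_map_of_mem _ hr
  have hψk : ∀ z, ψ z = 0 → z ∈ I.map (algebraMap A (R ⧸ (I ^ n).map (algebraMap A R))) := fun z hz => by
    obtain ⟨r, rfl⟩ := Ideal.Quotient.mk_surjective z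
    have h1 : τ r ∈ (I ^ n).map (algebraMap A B) := Ideal.Quotient.eq_zero_iff_mem.1 hz
    have h2 := hinj r (Ideal.map_mono (Ideal.pow_le_self hn.ne') h1)
    rw [IsScalarTower.algebraMap_eq A R (R ⧸ (I ^ n).map (algebraMap A R)), ← Ideal.map_map, Ideal.Quotient.algebraMap_eq]
    exact Ideal.mem_map_of_mem _ h2
  haveI : Algebra.FormallySmooth (A ⧸ I ^ n) (B ⧸ (I ^ n).map (algebraMap A B)) := inferInstance
  have hinjψ := injective_of_formallySmooth (I := I) (n := n) ψ hψs hψk
  have hτy : τ y ∈ (I ^ n).map (algebraMap A B) := by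
    have h1 := Ideal.mem_map_of_mem g hy
    rw [Ideal.map_map, show g.comp (algebraMap A H) = algebraMap A B from RingHom.ext hgA, map_sub,
      show g x = 0 from hx, zero_sub, Ideal.neg_mem_iff, hτH] at h1
    exact h1
  have hy' : y ∈ (I ^ n).map (algebraMap A R) :=
    Ideal.Quotient.eq_zero_iff_mem.1 (hinjψ (((Ideal.Quotient.eq_zero_iff_mem.2 hτy : Ideal.Quotient.mk _ (τ y) = 0) :
      ψ (Ideal.Quotient.mk _ y) = 0).trans (map_zero ψ).symm))
  have h2 := Ideal.mem_map_of_mem (algebraMap R H) hy'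
  rw [Ideal.map_map, ← IsScalarTower.algebraMap_eq] at h2
  simpa using Ideal.add_mem _ hy h2

/-- A smooth algebra lifting the first truncation maps to `B`. -/
theorem exists_smooth_model (hB : Hens2.IsPairHenselization R₀ (I.map (algebraMap A R₀)) B)
    (het : Algebra.Smooth (A ⧸ I ^ 1) (B ⧸ (I ^ 1).map (algebraMap A B))) :
    ∃ (R : Type u) (_ : CommRing R) (_ : Algebra A R), Algebra.Smooth A R ∧
      Nonempty ((R ⧸ (I ^ 1).map (algebraMap A R)) ≃ₐ[A ⧸ I ^ 1] (B ⧸ (I ^ 1).map (algebraMap A B))) ∧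
      ∃ τ : R →ₐ[A] B, (∀ b, ∃ x, b - τ x ∈ I.map (algebraMap A B)) ∧
        ∀ x, τ x ∈ I.map (algebraMap A B) → x ∈ I.map (algebraMap A R) := by
  haveI := het
  obtain ⟨R, _, _, hR, ⟨e⟩⟩ := exists_smooth_lift_quotient A (I ^ 1) (B ⧸ (I ^ 1).map (algebraMap A B))
  have hpow : ∀ (T : Type u) [CommRing T] [Algebra A T], (I ^ 1).map (algebraMap A T) = I.map (algebraMap A T) :=
    fun T _ _ => by rw [pow_one]
  have hIB : HenselianRing B (I.map (algebraMap A B)) := by
    have := hB.1
    rwa [Ideal.map_map, ← IsScalarTower.algebraMap_eq] at this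
  haveI : HenselianRing B ((I ^ 1).map (algebraMap A B)) := by rw [hpow]; exact hIB
  let σ₀ : R →ₐ[A] B ⧸ (I ^ 1).map (algebraMap A B) := (e.restrictScalars A).toAlgHom.comp (Ideal.Quotient.mkₐ A _)
  let σ : B ⊗[A] R →ₐ[B] B ⧸ (I ^ 1).map (algebraMap A B) :=
    Algebra.TensorProduct.lift (Algebra.ofId B _) σ₀ fun _ _ => Commute.all _ _
  obtain ⟨τ', hτ'⟩ := exists_smooth_lift (A := B) (B ⊗[A] R) σ
  let τ : R →ₐ[A] B := (τ'.restrictScalars A).comp Algebra.TensorProduct.includeRight
  have hτ : ∀ x, Ideal.Quotient.mk ((I ^ 1).map (algebraMap A B)) (τ x) = e (Ideal.Quotient.mk _ x) := fun x => by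
    rw [show τ x = τ' ((1 : B) ⊗ₜ[A] x) from rfl, hτ', Algebra.TensorProduct.lift_tmul, map_one, one_mul]
    rfl
  refine ⟨R, inferInstance, inferInstance, hR, ⟨e⟩, τ, fun b => ?_, fun x hx => ?_⟩
  · obtain ⟨x, hx⟩ := Ideal.Quotient.mk_surjective (e.symm (Ideal.Quotient.mk _ b))
    refine ⟨x, ?_⟩
    rw [← hpow, ← Ideal.Quotient.eq, hτ, hx, e.apply_symm_apply]
  · rw [← hpow, ← Ideal.Quotient.eq_zero_iff_mem]
    apply e.injective
    rw [← hτ, map_zero, Ideal.Quotient.eq_zero_iff_mem, hpow]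
    exact hx

end Groth.Agent.Hensel
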