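import Groth.Agent.Hensel.HenselizationProps

/-!
Universal properties of (strict) henselizations of local rings at primes, phrased over the base ring.
-/

set_option autoImplicit false

namespace Groth.Agent.Hensel

universe u

open IsLocalRing

variable {A : Type u} [CommRing A] {p : Ideal A} [p.IsPrime] (Rh : Type u) [CommRing Rh] [IsLocalRing Rh]
  [Algebra (Localization.AtPrime p) Rh] [IsLocalHom (algebraMap (Localization.AtPrime p) Rh)]
  [Algebra A Rh] [IsScalarTower A (Localization.AtPrime p) Rh]

include p in
/-- The prime is recovered from the henselization. -/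
theorem comap_point : (maximalIdeal Rh).comap (algebraMap A Rh) = p := by
  rw [IsScalarTower.algebraMap_eq A (Localization.AtPrime p) Rh, ← Ideal.comap_comap, maximalIdeal_comap]
  exact IsLocalization.AtPrime.under_maximalIdeal _ p

/-- A map out of the local ring at `p` compatible with a map sending the closed point to `p` is local. -/
theorem exists_localHom {T : Type u} [CommRing T] [IsLocalRing T] (f : A →+* T)
    (hf : (maximalIdeal T).comap f = p) : ∃ f' : Localization.AtPrime p →+* T,
      IsLocalHom f' ∧ f'.comp (algebraMap A (Localization.AtPrime p)) = f := by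
  have hu : ∀ y : p.primeCompl, IsUnit (f y.1) := fun y =>
    notMem_maximalIdeal.1 fun h => y.2 (le_of_eq hf (Ideal.mem_comap.2 h))
  refine ⟨IsLocalization.lift (S := Localization.AtPrime p) hu, ⟨fun x hx => ?_⟩, IsLocalization.lift_comp hu⟩
  obtain ⟨a, s, rfl⟩ := IsLocalization.exists_mk'_eq p.primeCompl x
  refine (IsLocalization.AtPrime.isUnit_mk'_iff (Localization.AtPrime p) p a s).2 fun ha => ?_
  have h1 : IsUnit (f a) := by
    have h2 := hx.mul (hu s)
    rwa [← IsLocalization.lift_eq (S := Localization.AtPrime p) hu s.1, ← map_mul, IsLocalization.mk'_spec,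
      IsLocalization.lift_eq hu] at h2
  exact notMem_maximalIdeal.2 h1 (Ideal.mem_comap.1 (le_of_eq hf.symm ha))

theorem hens_lift [_root_.Hensel.IsHenselization (Localization.AtPrime p) Rh] {T : Type u} [CommRing T]
    [HenselianLocalRing T] (f : A →+* T) (hf : (maximalIdeal T).comap f = p) :
    ∃! g : Rh →+* T, g.comp (algebraMap A Rh) = f := by
  obtain ⟨f', hloc, hf'⟩ := exists_localHom f hf
  obtain ⟨g, hg, hgu⟩ := _root_.Hensel.IsHenselization.universal (R := Localization.AtPrime p) (S := Rh) T f' hloc
  refine ⟨g, ?_, fun g' hg' => hgu g' (IsLocalization.ringHom_ext p.primeCompl ?_)⟩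
  · change g.comp (algebraMap A Rh) = f
    rw [IsScalarTower.algebraMap_eq A (Localization.AtPrime p) Rh, ← RingHom.comp_assoc, hg, hf']
  · rw [RingHom.comp_assoc, ← IsScalarTower.algebraMap_eq, hg', hf']

include p in
theorem hens_ext [_root_.Hensel.IsHenselization (Localization.AtPrime p) Rh] {T : Type u} [CommRing T]
    [HenselianLocalRing T] (g₁ g₂ : Rh →+* T) (h : g₁.comp (algebraMap A Rh) = g₂.comp (algebraMap A Rh))
    (hp : (maximalIdeal T).comap (g₁.comp (algebraMap A Rh)) = p) : g₁ = g₂ :=
  (hens_lift Rh _ hp).unique rfl h.symm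

include p in
/-- Maps out of a local ring with maximal ideal generated from the base are local as soon as they are
local on the base. -/
theorem isLocalHom_of_comap (hm : (maximalIdeal (Localization.AtPrime p)).map (algebraMap _ Rh) = maximalIdeal Rh)
    {T : Type u} [CommRing T] [IsLocalRing T] (g : Rh →+* T)
    (hp : (maximalIdeal T).comap (g.comp (algebraMap A Rh)) = p) : IsLocalHom g := by
  refine ((local_hom_TFAE g).out 0 4).2 ?_
  refine ((maximalIdeal.isMaximal Rh).eq_of_le (Ideal.IsPrime.ne_top (Ideal.IsPrime.comap g)) ?_).symm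
  rw [← hm, Ideal.map_le_iff_le_comap, Localization.AtPrime.map_eq_maximalIdeal.symm, Ideal.map_le_iff_le_comap,
    Ideal.comap_comap, Ideal.comap_comap, ← IsScalarTower.algebraMap_eq, hp]

theorem strict_lift [_root_.Hensel.IsStrictHenselization (Localization.AtPrime p) Rh] {T : Type u} [CommRing T]
    [HenselianLocalRing T] (f : A →+* T) (hf : (maximalIdeal T).comap f = p)
    (τ : ResidueField Rh →+* ResidueField T)
    (hτ : ∀ a, τ (residue Rh (algebraMap A Rh a)) = residue T (f a)) :
    ∃! g : Rh →+* T, g.comp (algebraMap A Rh) = f ∧ ∀ x, residue T (g x) = τ (residue Rh x) := by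
  obtain ⟨f', hloc, hf'⟩ := exists_localHom f hf
  haveI := hloc
  have hτ' : τ.comp (ResidueField.map (algebraMap (Localization.AtPrime p) Rh)) = ResidueField.map f' := by
    apply Ideal.ResidueField.ringHom_ext
    ext a
    simp only [RingHom.comp_apply]
    rw [IsScalarTower.algebraMap_apply A (Localization.AtPrime p) p.ResidueField, ResidueField.algebraMap_eq,
      ResidueField.map_residue, ResidueField.map_residue, ← IsScalarTower.algebraMap_apply, hτ, ← RingHom.comp_apply f',
      hf']
  obtain ⟨g, ⟨hg, hgr⟩, hgu⟩ :=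
    _root_.Hensel.IsStrictHenselization.universal (R := Localization.AtPrime p) (S := Rh) T f' τ hτ'
  refine ⟨g, ⟨?_, hgr⟩, fun g' hg' => hgu g' ⟨IsLocalization.ringHom_ext p.primeCompl ?_, hg'.2⟩⟩
  · rw [IsScalarTower.algebraMap_eq A (Localization.AtPrime p) Rh, ← RingHom.comp_assoc, hg, hf']
  · rw [RingHom.comp_assoc, ← IsScalarTower.algebraMap_eq, hg'.1, hf']

include p in
theorem strict_ext [_root_.Hensel.IsStrictHenselization (Localization.AtPrime p) Rh] {T : Type u} [CommRing T]
    [HenselianLocalRing T] (g₁ g₂ : Rh →+* T) (h : g₁.comp (algebraMap A Rh) = g₂.comp (algebraMap A Rh))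
    (hp : (maximalIdeal T).comap (g₁.comp (algebraMap A Rh)) = p)
    (hr : ∀ x, residue T (g₁ x) = residue T (g₂ x)) : g₁ = g₂ := by
  haveI : IsLocalHom g₁ := isLocalHom_of_comap Rh (strictHenselization_map_maximalIdeal _ Rh) g₁ hp
  refine (strict_lift Rh (g₁.comp (algebraMap A Rh)) hp (ResidueField.map g₁) fun a => rfl).unique
    ⟨rfl, fun x => rfl⟩ ⟨h.symm, fun x => ?_⟩
  rw [← hr]
  rfl

/-- A separable closure maps isomorphically onto a separably closed field which is separable over a subfield. -/
theorem exists_equiv_of_isSepClosure {k₀ k K K' : Type u} [Field k₀] [Field k] [Field K] [Field K'] [Algebra k K]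
    [IsSepClosure k K] [IsSepClosed K'] [Algebra k₀ K'] [Algebra.IsSeparable k₀ K'] (ι : k₀ →+* k)
    (φ : k →+* K') (h : φ.comp ι = algebraMap k₀ K') :
    ∃ τ : K ≃+* K', ∀ c, τ (algebraMap k K c) = φ c := by
  letI : Algebra k K' := φ.toAlgebra
  letI : Algebra k₀ k := ι.toAlgebra
  haveI : IsScalarTower k₀ k K' := IsScalarTower.of_algebraMap_eq' h.symm
  haveI : Algebra.IsSeparable k K' := Algebra.isSeparable_tower_top_of_isSeparable k₀ k K'
  haveI : IsSepClosure k K' := ⟨inferInstance, inferInstance⟩
  exact ⟨(IsSepClosure.equiv k K K').toRingEquiv, fun c => (IsSepClosure.equiv k K K').commutes c⟩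

end Groth.Agent.Hensel
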