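import Groth.Agent.Hensel.PunctDescent
import Groth.Agent.Hensel.BranchFlat
import Mathlib

/-!
Punctured spectra and minimal primes along maps like completion of henselian Noetherian local rings.
-/

set_option autoImplicit false

namespace Groth.Agent.Hensel

universe u

open IsLocalRing

section

variable {A B : Type u} [CommRing A] [CommRing B] [Algebra A B] [IsLocalRing A] [IsLocalRing B]

/-- The fibre of the closed point. -/
theorem comap_eq_maximal_iff [IsLocalHom (algebraMap A B)]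
    (hm : (maximalIdeal A).map (algebraMap A B) = maximalIdeal B) (P : Ideal B) [P.IsPrime] :
    P.comap (algebraMap A B) = maximalIdeal A ↔ P = maximalIdeal B := by
  refine ⟨fun h => ?_, fun h => h ▸ maximalIdeal_comap _⟩
  refine le_antisymm (le_maximalIdeal (Ideal.IsPrime.ne_top ‹_›)) ?_
  rw [← hm, Ideal.map_le_iff_le_comap, h]

end

variable {A B : Type u} [CommRing A] [CommRing B] [Algebra A B] [HenselianLocalRing A] [IsNoetherianRing A]
  [IsLocalRing B] [IsNoetherianRing B] [IsLocalHom (algebraMap A B)]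

/-- Complementary closed subsets of the punctured spectrum descend. -/
theorem exists_descent_ideal [Module.Flat A B]
    (hm : (maximalIdeal A).map (algebraMap A B) = maximalIdeal B)
    (hres : ∀ b : B, ∃ a, b - algebraMap A B a ∈ maximalIdeal B)
    (I J : Ideal B) (hIJ : I * J ≤ nilradical B) (hsup : maximalIdeal B ≤ (I ⊔ J).radical) :
    ∃ I₀ J₀ : Ideal A, I₀ * J₀ = ⊥ ∧ maximalIdeal A ≤ (I₀ ⊔ J₀).radical ∧
      ∀ P : Ideal B, P.IsPrime → P ≠ maximalIdeal B →
        (I ≤ P ↔ I₀ ≤ P.comap (algebraMap A B)) ∧ (J ≤ P ↔ J₀ ≤ P.comap (algebraMap A B)) := by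
  classical
  obtain ⟨k, hk⟩ := Ideal.exists_radical_pow_le_of_fg (⊥ : Ideal B) (IsNoetherian.noetherian _)
  let I' := I ^ (k + 1)
  let J' := J ^ (k + 1)
  have hI'J' : I' * J' = ⊥ := by
    rw [← mul_pow]
    exact le_bot_iff.1 ((Ideal.pow_right_mono hIJ _).trans ((Ideal.pow_le_pow_right k.le_succ).trans hk))
  have hsup' : maximalIdeal B ≤ (I' ⊔ J').radical := by
    rw [Ideal.radical_sup, Ideal.radical_pow _ k.succ_ne_zero, Ideal.radical_pow _ k.succ_ne_zero,
      ← Ideal.radical_sup]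
    exact hsup
  obtain ⟨N, hN⟩ := Ideal.exists_pow_le_of_le_radical_of_fg hsup' (IsNoetherian.noetherian _)
  let G : Ideal A := maximalIdeal A ^ (N + 1)
  obtain ⟨n, g, hg⟩ := Submodule.fg_iff_exists_fin_generating_family.1 (IsNoetherian.noetherian G)
  have hgG : ∀ i, g i ∈ G := fun i => hg ▸ Submodule.subset_span ⟨i, rfl⟩
  have hGm : G ≤ maximalIdeal A := Ideal.pow_le_self N.succ_ne_zero
  have hGB : G.map (algebraMap A B) = maximalIdeal B ^ (N + 1) := by rw [Ideal.map_pow, hm]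
  have hxy : ∀ i, ∃ x ∈ I', ∃ y ∈ J', x + y = algebraMap A B (g i) := fun i => by
    refine Submodule.mem_sup.1 (hN (Ideal.pow_le_pow_right N.le_succ ?_))
    rw [← hGB]
    exact Ideal.mem_map_of_mem _ (hgG i)
  choose x hx y hy hxy using hxy
  have h0 : ∀ i j, x i * y j = 0 := fun i j => by
    have := Ideal.mul_mem_mul (hx i) (hy j)
    rwa [hI'J', Ideal.mem_bot] at this
  have hresG : ∀ b : B, ∃ a, b - algebraMap A B a ∈ (Ideal.span (Set.range g)).map (algebraMap A B) := fun b => by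
    rw [show Ideal.span (Set.range g) = G from hg, hGB, ← hm]
    exact exists_sub_mem_pow _ _ (fun s => hm.symm ▸ hres s) _ b
  obtain ⟨a, ha, key⟩ := exists_descent g (fun i => hGm (hgG i)) hresG x fun i j => by
    rw [← hxy i, add_mul, mul_comm (y i), h0, add_zero]
  refine ⟨Ideal.span (Set.range a), Ideal.span (Set.range fun i => g i - a i), ?_, ?_, fun P hP hne => ?_⟩
  · rw [Ideal.span_mul_span', Ideal.span_eq_bot]
    rintro _ ⟨_, ⟨i, rfl⟩, _, ⟨j, rfl⟩, rfl⟩
    have h1 := ha j i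
    change a i * (g j - a j) = 0
    linear_combination -h1
  · refine le_of_eq_of_le (Ideal.IsPrime.radical (inferInstance : (maximalIdeal A).IsPrime)).symm ?_
    rw [← Ideal.radical_pow (maximalIdeal A) N.succ_ne_zero]
    refine Ideal.radical_mono (show G ≤ _ from ?_)
    rw [← hg, Submodule.span_le]
    rintro _ ⟨i, rfl⟩
    rw [SetLike.mem_coe, ← add_sub_cancel (a i) (g i)]
    exact Ideal.add_mem _ (Ideal.mem_sup_left (Ideal.subset_span ⟨i, rfl⟩))
      (Ideal.mem_sup_right (Ideal.subset_span ⟨i, rfl⟩))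
  haveI := hP
  obtain ⟨i, hi⟩ : ∃ i, algebraMap A B (g i) ∉ P := by
    by_contra! h
    refine hne ((maximalIdeal.isMaximal B).eq_of_le hP.ne_top (hP.le_of_pow_le (n := N + 1) ?_)).symm
    rw [← hGB, Ideal.map_le_iff_le_comap, ← hg, Submodule.span_le]
    exact Set.range_subset_iff.2 h
  have kI : I ≤ P ↔ ∀ j, x j ∈ P := by
    rw [← Ideal.IsPrime.pow_le_iff (P := P) (n := k + 1) k.succ_ne_zero]
    refine ⟨fun h j => h (hx j), fun h => ?_⟩
    refine ((hP.mul_le).1 (hI'J'.le.trans bot_le)).resolve_right fun hJ => hi ?_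
    rw [← hxy i]
    exact P.add_mem (h i) (hJ (hy i))
  have kJ : J ≤ P ↔ ∀ j, y j ∈ P := by
    rw [← Ideal.IsPrime.pow_le_iff (P := P) (n := k + 1) k.succ_ne_zero]
    refine ⟨fun h j => h (hy j), fun h => ?_⟩
    refine ((hP.mul_le).1 (hI'J'.le.trans bot_le)).resolve_left fun hI => hi ?_
    rw [← hxy i]
    exact P.add_mem (hI (hx i)) (h i)
  have sI : ∀ t : Fin n → A, Ideal.span (Set.range t) ≤ P.comap (algebraMap A B) ↔
      ∀ j, algebraMap A B (t j) ∈ P := fun t => by
    rw [Ideal.span_le, Set.range_subset_iff]; rfl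
  have hkey := key P hP ⟨i, hi⟩
  refine ⟨by rw [kI, sI, hkey], ?_⟩
  rw [kJ, sI]
  -- exactly one of the two alternatives holds
  have e₁ : (∀ j, y j ∈ P) ↔ ¬ ∀ j, x j ∈ P := by
    refine ⟨fun h h' => hi (hxy i ▸ P.add_mem (h' i) (h i)), fun h j => ?_⟩
    obtain ⟨l, hl⟩ := not_forall.1 h
    exact (hP.mem_or_mem (show x l * y j ∈ P from (h0 l j).symm ▸ P.zero_mem)).resolve_left hl
  have e₂ : (∀ j, algebraMap A B (g j - a j) ∈ P) ↔ ¬ ∀ j, algebraMap A B (a j) ∈ P := by
    refine ⟨fun h h' => hi ?_, fun h j => ?_⟩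
    · rw [← add_sub_cancel (a i) (g i), map_add]
      exact P.add_mem (h' i) (h i)
    · obtain ⟨l, hl⟩ := not_forall.1 h
      refine (hP.mem_or_mem (show algebraMap A B (a l) * algebraMap A B (g j - a j) ∈ P from ?_)).resolve_left hl
      have h1 : a l * (g j - a j) = 0 := by linear_combination -ha j l
      rw [← map_mul, h1, map_zero]
      exact P.zero_mem
  rw [e₁, e₂, hkey]

/-- Preconnectedness of the punctured spectrum descends and ascends. -/
theorem isPreconnected_punctured_iff [Module.FaithfullyFlat A B]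
    (hm : (maximalIdeal A).map (algebraMap A B) = maximalIdeal B)
    (hres : ∀ b : B, ∃ a, b - algebraMap A B a ∈ maximalIdeal B) :
    IsPreconnected ({closedPoint B}ᶜ : Set (PrimeSpectrum B)) ↔
      IsPreconnected ({closedPoint A}ᶜ : Set (PrimeSpectrum A)) := by
  have hne : ∀ P : PrimeSpectrum B, P.comap (algebraMap A B) = closedPoint A ↔ P = closedPoint B := fun P => by
    rw [PrimeSpectrum.ext_iff, PrimeSpectrum.ext_iff]
    exact comap_eq_maximal_iff hm P.asIdeal
  constructor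
  · intro h
    have himg : PrimeSpectrum.comap (algebraMap A B) '' ({closedPoint B}ᶜ) = {closedPoint A}ᶜ := by
      refine Set.Subset.antisymm ?_ fun p hp => ?_
      · rintro _ ⟨P, hP, rfl⟩
        exact fun h => hP ((hne P).1 h)
      · obtain ⟨P, rfl⟩ := PrimeSpectrum.comap_surjective_of_faithfullyFlat (A := A) (B := B) p
        exact ⟨P, fun h => hp ((hne P).2 h), rfl⟩
    rw [← himg]
    exact h.image _ (PrimeSpectrum.continuous_comap _).continuousOn
  · intro h
    rw [isPreconnected_closed_iff] at h ⊢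
    intro t t' ht ht' hcov ⟨P, hPU, hPt⟩ ⟨P', hPU', hPt'⟩
    by_contra hempty
    obtain ⟨I, rfl⟩ := (PrimeSpectrum.isClosed_iff_zeroLocus_ideal _).1 ht
    obtain ⟨J, rfl⟩ := (PrimeSpectrum.isClosed_iff_zeroLocus_ideal _).1 ht'
    have hsep : ∀ Q : Ideal B, Q.IsPrime → Q ≠ maximalIdeal B → I ≤ Q → ¬ J ≤ Q := fun Q hQ hQm h1 h2 =>
      hempty ⟨⟨Q, hQ⟩, fun h => hQm (congrArg PrimeSpectrum.asIdeal h), h1, h2⟩
    let I₁ := I ⊓ maximalIdeal B
    let J₁ := J ⊓ maximalIdeal B
    have hI₁ : ∀ Q : Ideal B, Q.IsPrime → Q ≠ maximalIdeal B → (I₁ ≤ Q ↔ I ≤ Q) := fun Q hQ hQm =>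
      ⟨fun h => (hQ.inf_le.1 h).resolve_right fun h' => hQm ((maximalIdeal.isMaximal B).eq_of_le hQ.ne_top h').symm,
        fun h => inf_le_left.trans h⟩
    have hJ₁ : ∀ Q : Ideal B, Q.IsPrime → Q ≠ maximalIdeal B → (J₁ ≤ Q ↔ J ≤ Q) := fun Q hQ hQm =>
      ⟨fun h => (hQ.inf_le.1 h).resolve_right fun h' => hQm ((maximalIdeal.isMaximal B).eq_of_le hQ.ne_top h').symm,
        fun h => inf_le_left.trans h⟩
    obtain ⟨I₀, J₀, hmul, -, hdes⟩ := exists_descent_ideal hm hres I₁ J₁
      (by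
        rw [nilradical, Ideal.radical_eq_sInf]
        refine le_sInf fun Q hQ => ?_
        by_cases hQm : Q = maximalIdeal B
        · exact Ideal.mul_le_right.trans (hQm ▸ inf_le_right)
        · rcases hcov (show (⟨Q, hQ.2⟩ : PrimeSpectrum B) ∈ ({closedPoint B}ᶜ : Set _) from
            fun h => hQm (congrArg PrimeSpectrum.asIdeal h)) with h' | h'
          · exact Ideal.mul_le_left.trans ((hI₁ Q hQ.2 hQm).2 h')
          · exact Ideal.mul_le_right.trans ((hJ₁ Q hQ.2 hQm).2 h'))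
      (by
        rw [Ideal.radical_eq_sInf]
        refine le_sInf fun Q hQ => ?_
        by_contra hQm
        have hQm' : Q ≠ maximalIdeal B := fun h => hQm h.ge
        obtain ⟨h1, h2⟩ := sup_le_iff.1 hQ.1
        exact hsep Q hQ.2 hQm' ((hI₁ Q hQ.2 hQm').1 h1) ((hJ₁ Q hQ.2 hQm').1 h2))
    have hkey : ∀ Q : PrimeSpectrum B, Q ≠ closedPoint B →
        (I ≤ Q.asIdeal ↔ I₀ ≤ Q.asIdeal.comap (algebraMap A B)) ∧
        (J ≤ Q.asIdeal ↔ J₀ ≤ Q.asIdeal.comap (algebraMap A B)) := fun Q hQ => by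
      have hQm : Q.asIdeal ≠ maximalIdeal B := fun h => hQ (PrimeSpectrum.ext h)
      rw [← hI₁ _ Q.2 hQm, ← hJ₁ _ Q.2 hQm]
      exact hdes _ Q.2 hQm
    obtain ⟨p, hpU, hp1, hp2⟩ := h (PrimeSpectrum.zeroLocus I₀) (PrimeSpectrum.zeroLocus J₀)
      (PrimeSpectrum.isClosed_zeroLocus _) (PrimeSpectrum.isClosed_zeroLocus _)
      (fun p _ => (p.2.mul_le.1 (hmul.le.trans bot_le)).imp id id)
      ⟨PrimeSpectrum.comap (algebraMap A B) P, fun h => hPU ((hne P).1 h), (hkey P hPU).1.1 hPt⟩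
      ⟨PrimeSpectrum.comap (algebraMap A B) P', fun h => hPU' ((hne P').1 h), (hkey P' hPU').2.1 hPt'⟩
    obtain ⟨Q, rfl⟩ := PrimeSpectrum.comap_surjective_of_faithfullyFlat (A := A) (B := B) p
    have hQ : Q ≠ closedPoint B := fun h => hpU ((hne Q).2 h)
    exact hempty ⟨Q, hQ, (hkey Q hQ).1.2 hp1, (hkey Q hQ).2.2 hp2⟩

/-- A minimal prime whose only specialisation is the closed point is the only minimal prime in its fibre. -/
theorem eq_of_comap_eq [Module.Flat A B]
    (hm : (maximalIdeal A).map (algebraMap A B) = maximalIdeal B)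
    (hres : ∀ b : B, ∃ a, b - algebraMap A B a ∈ maximalIdeal B)
    {q P : Ideal B} (hq : q ∈ minimalPrimes B) (hqm : q ≠ maximalIdeal B)
    (hdim : ∀ Q : Ideal B, Q.IsPrime → q < Q → Q = maximalIdeal B)
    (hP : P ∈ minimalPrimes B) (h : P.comap (algebraMap A B) = q.comap (algebraMap A B)) : P = q := by
  haveI := hq.1.1
  haveI := hP.1.1
  have hPm : P ≠ maximalIdeal B := fun e => hqm ((comap_eq_maximal_iff hm q).1
    (h.symm.trans ((comap_eq_maximal_iff hm P).2 e)))
  let J : Ideal B := sInf {Q | Q ∈ minimalPrimes B ∧ Q ≠ q}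
  have hfin : {Q | Q ∈ minimalPrimes B ∧ Q ≠ q}.Finite :=
    (minimalPrimes.finite_of_isNoetherianRing B).subset fun Q hQ => hQ.1
  obtain ⟨I₀, J₀, -, -, hdes⟩ := exists_descent_ideal hm hres q J
    (by
      rw [nilradical, ← Ideal.sInf_minimalPrimes]
      refine le_sInf fun Q hQ => ?_
      by_cases h : Q = q
      · exact Ideal.mul_le_left.trans h.ge
      · exact Ideal.mul_le_right.trans (sInf_le ⟨hQ, h⟩))
    (by
      rw [Ideal.radical_eq_sInf]
      refine le_sInf fun Q hQ => ?_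
      obtain ⟨h1, h2⟩ := sup_le_iff.1 hQ.1
      obtain ⟨Q', hQ', hle⟩ : ∃ Q' ∈ hfin.toFinset, Q' ≤ Q := by
        refine (Ideal.IsPrime.inf_le' hQ.2).1 (le_trans (le_of_eq ?_) h2)
        show hfin.toFinset.inf id = J
        rw [Finset.inf_id_eq_sInf, Set.Finite.coe_toFinset]
      rw [Set.Finite.mem_toFinset] at hQ'
      refine (hdim Q hQ.2 (lt_of_le_of_ne h1 fun e => hQ'.2 ?_)).ge
      exact le_antisymm (e ▸ hle) (hq.2 hQ'.1.1 (e ▸ hle)))
  have h1 : I₀ ≤ q.comap (algebraMap A B) := (hdes q inferInstance hqm).1.1 le_rfl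
  have h2 : q ≤ P := (hdes P inferInstance hPm).1.2 (h ▸ h1)
  exact le_antisymm (hP.2 hq.1 h2) h2

/-- For a dimension one target contraction of minimal primes is injective. -/
theorem injOn_minimalPrimes [Module.Flat A B]
    (hm : (maximalIdeal A).map (algebraMap A B) = maximalIdeal B)
    (hres : ∀ b : B, ∃ a, b - algebraMap A B a ∈ maximalIdeal B) (hdim : ringKrullDim B = 1) :
    Set.InjOn (Ideal.comap (algebraMap A B)) (minimalPrimes B) := by
  intro P hP q hq h
  haveI := hq.1.1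
  have hqm : q ≠ maximalIdeal B := fun e => by
    have h0 : Ring.KrullDimLE 0 B := Ring.krullDimLE_zero_iff.2 fun Q hQ => by
      have : Q = maximalIdeal B := le_antisymm (le_maximalIdeal hQ.ne_top)
        (e ▸ hq.2 ⟨hQ, bot_le⟩ (e ▸ le_maximalIdeal hQ.ne_top))
      exact this ▸ maximalIdeal.isMaximal B
    have := ringKrullDimZero_iff_ringKrullDim_eq_zero.1 h0
    rw [hdim] at this
    exact one_ne_zero this
  refine eq_of_comap_eq hm hres hq hqm (fun Q hQ hlt => ?_) hP h
  haveI : Ring.KrullDimLE 1 B := (Ring.krullDimLE_iff).2 (hdim.le.trans (le_of_eq (by simp)))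
  exact IsLocalRing.eq_maximalIdeal (((Ring.krullDimLE_one_iff.1 inferInstance) Q hQ).resolve_left fun h =>
    (lt_irrefl q) (hlt.trans_le (h.2 hq.1 hlt.le)))

end Groth.Agent.Hensel
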