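import Mathlib.RingTheory.Flat.EquationalCriterion
import Mathlib.RingTheory.Flat.FaithfullyFlat.Algebra
import Mathlib.RingTheory.Henselian
import Mathlib

/-!
Descending decompositions of the punctured spectrum along a map like completion of a henselian local ring.
-/

set_option autoImplicit false

namespace Groth.Agent.Hensel

universe u

open IsLocalRing

variable {A B : Type u} [CommRing A] [CommRing B] [Algebra A B]

/-- Solutions in a flat algebra of linear equations are combinations of solutions in the base. -/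
theorem flat_solutions [Module.Flat A B] {ι κ : Type*} [Fintype ι] [Finite κ] (rel : κ → ι → A) (x : ι → B)
    (h : ∀ k, ∑ i, algebraMap A B (rel k i) * x i = 0) :
    ∃ (n : ℕ) (w : Fin n → ι → A) (b : Fin n → B),
      (∀ l k, ∑ i, rel k i * w l i = 0) ∧ ∀ i, x i = ∑ l, algebraMap A B (w l i) * b l := by
  classical
  haveI := Fintype.ofFinite κ
  let f : (κ → A) →ₗ[A] (ι → A) := ∑ k, (LinearMap.proj k).smulRight (rel k)
  let X : (ι → A) →ₗ[A] B := ∑ i, (LinearMap.proj i).smulRight (x i)
  have hf : ∀ k, f (Pi.single k 1) = rel k := fun k => by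
    simp [f, LinearMap.sum_apply, Pi.single_apply]
  have hX : ∀ v, X v = ∑ i, algebraMap A B (v i) * x i := fun v => by
    simp [X, LinearMap.sum_apply, Algebra.smul_def]
  have hXf : X ∘ₗ f = 0 := by
    refine LinearMap.pi_ext' fun k => LinearMap.ext_ring ?_
    simp [hf, hX, h k]
  obtain ⟨n, a, y, hxy, haf⟩ := Module.Flat.exists_factorization_of_comp_eq_zero_of_free hXf
  refine ⟨n, fun l i => a (Pi.single i 1) l, fun l => y (Finsupp.single l 1), fun l k => ?_, fun i => ?_⟩
  · have h1 : a (rel k) l = 0 := by rw [← hf, ← LinearMap.comp_apply, haf]; rfl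
    rw [← Finset.univ_sum_single (rel k), map_sum, Finsupp.finsetSum_apply] at h1
    refine (Finset.sum_congr rfl fun i _ => ?_).trans h1
    symm
    rw [show Pi.single i (rel k i) = rel k i • (Pi.single i (1 : A) : ι → A) by rw [← Pi.single_smul]; simp,
      map_smul, Finsupp.smul_apply, smul_eq_mul]
  · have h1 : X (Pi.single i 1) = x i := by
      rw [hX, Finset.sum_eq_single i (fun j _ hj => by rw [Pi.single_eq_of_ne hj, map_zero, zero_mul])
        (fun hi => absurd (Finset.mem_univ i) hi), Pi.single_eq_same, map_one, one_mul]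
    rw [← h1, hxy, LinearMap.comp_apply]
    conv_lhs => rw [← Finsupp.univ_sum_single (a (Pi.single i 1))]
    rw [map_sum]
    refine Finset.sum_congr rfl fun l _ => ?_
    rw [show Finsupp.single l (a (Pi.single i 1) l) = a (Pi.single i 1) l • Finsupp.single l (1 : A) by
      rw [Finsupp.smul_single, smul_eq_mul, mul_one], map_smul, Algebra.smul_def]

variable [HenselianLocalRing A]

/-- A decomposition `g = x + y` with orthogonal parts in `B` comes from one in `A`, up to the parts which are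
congruent on the punctured spectrum. -/
theorem exists_descent [Module.Flat A B] [IsLocalRing B] [IsLocalHom (algebraMap A B)]
    {ι : Type*} [Fintype ι] (g : ι → A) (hg : ∀ i, g i ∈ maximalIdeal A)
    (hres : ∀ b : B, ∃ a, b - algebraMap A B a ∈ (Ideal.span (Set.range g)).map (algebraMap A B))
    (x : ι → B) (hx : ∀ i k, x i * x k = algebraMap A B (g i) * x k) :
    ∃ a : ι → A, (∀ i k, a i * a k = g i * a k) ∧
      ∀ P : Ideal B, P.IsPrime → (∃ i, algebraMap A B (g i) ∉ P) →
        ((∀ i, algebraMap A B (a i) ∈ P) ↔ ∀ i, x i ∈ P) := by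
  classical
  let φ := algebraMap A B
  have hG : (Ideal.span (Set.range g)).map φ ≤ maximalIdeal B :=
    Ideal.map_le_iff_le_comap.2 (Ideal.span_le.2 (Set.range_subset_iff.2 fun i => map_nonunit φ _ (hg i)))
  -- solutions of the symmetry equations
  obtain ⟨n, w, b, hw, hxw⟩ := flat_solutions
    (fun (p : ι × ι) (i : ι) => (if i = p.1 then g p.2 else 0) - (if i = p.2 then g p.1 else 0)) x fun p => by
      simp only [map_sub, sub_mul, Finset.sum_sub_distrib, apply_ite φ, map_zero, ite_mul, zero_mul,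
        Finset.sum_ite_eq', Finset.mem_univ, if_true, φ]
      rw [sub_eq_zero, ← hx p.2 p.1, ← hx p.1 p.2, mul_comm]
  have hwsym : ∀ l i k, g k * w l i = g i * w l k := fun l i k => by
    have := hw l (i, k)
    simp only [sub_mul, ite_mul, zero_mul, Finset.sum_sub_distrib, Finset.sum_ite_eq', Finset.mem_univ,
      if_true, sub_eq_zero] at this
    exact this
  choose c hc using fun l => hres (b l)
  have hc' : ∀ l, ∃ d : ι → B, b l - φ (c l) = ∑ j, d j * φ (g j) := fun l => by
    have h1 := hc l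
    rw [Ideal.map_span, ← Set.range_comp, Ideal.mem_span_range_iff_exists_fun] at h1
    obtain ⟨d, hd⟩ := h1
    exact ⟨d, hd.symm⟩
  choose d hd using hc'
  let v : ι → A := fun i => ∑ l, w l i * c l
  let β₀ : B := ∑ l, ∑ j, d l j * φ (w l j)
  have hxv : ∀ i, x i = φ (v i) + φ (g i) * β₀ := fun i => by
    rw [hxw i]
    have h1 : ∀ l, φ (w l i) * b l = φ (w l i * c l) + φ (g i) * ∑ j, d l j * φ (w l j) := fun l => by
      rw [show b l = φ (c l) + ∑ j, d l j * φ (g j) by rw [← hd]; ring, mul_add, map_mul, Finset.mul_sum,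
        Finset.mul_sum]
      congr 1
      refine Finset.sum_congr rfl fun j _ => ?_
      calc φ (w l i) * (d l j * φ (g j)) = d l j * (φ (g j) * φ (w l i)) := by ring
        _ = d l j * (φ (g i) * φ (w l j)) := by rw [← map_mul, ← map_mul, hwsym]
        _ = _ := by ring
    rw [Finset.sum_congr rfl fun l _ => h1 l, Finset.sum_add_distrib, ← Finset.mul_sum, ← map_sum]
  have hsym : ∀ i k, g k * v i = g i * v k := fun i k => by
    simp only [v, Finset.mul_sum]
    exact Finset.sum_congr rfl fun l _ => by rw [← mul_assoc, ← mul_assoc, hwsym]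
  -- the quadratic equation
  obtain ⟨m, w', b', hw', hxw'⟩ := flat_solutions
    (fun (p : ι × ι) => ![g p.1 * v p.2, g p.1 * g p.2, -(v p.1 * v p.2)])
    ![1 - 2 * β₀, β₀ - β₀ ^ 2, 1] fun p => by
      simp only [Fin.sum_univ_three, Matrix.cons_val_zero, Matrix.cons_val_one, Matrix.cons_val_two,
        Matrix.tail_cons, Matrix.head_cons, map_mul, map_neg]
      have h1 := hx p.1 p.2
      rw [hxv p.1, hxv p.2] at h1
      have h2 := congrArg φ (hsym p.1 p.2)
      rw [map_mul, map_mul] at h2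
      linear_combination -h1 + β₀ * h2
  choose c' hc'' using fun l => hres (b' l)
  let s : Fin 3 → A := fun i => ∑ l, w' l i * c' l
  have hs : ∀ i, (![1 - 2 * β₀, β₀ - β₀ ^ 2, 1] : Fin 3 → B) i - φ (s i) ∈ maximalIdeal B := fun i => by
    rw [hxw' i, map_sum, ← Finset.sum_sub_distrib]
    refine Ideal.sum_mem _ fun l _ => ?_
    rw [map_mul, ← mul_sub]
    exact Ideal.mul_mem_left _ _ (hG (hc'' l))
  have hsol : ∀ i k, s 0 * (g i * v k) + s 1 * (g i * g k) = s 2 * (v i * v k) := fun i k => by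
    have : ∑ l, c' l * ∑ j, ![g i * v k, g i * g k, -(v i * v k)] j * w' l j = 0 :=
      Finset.sum_eq_zero fun l _ => by rw [hw' l (i, k), mul_zero]
    simp only [Fin.sum_univ_three, Matrix.cons_val_zero, Matrix.cons_val_one, Matrix.cons_val_two,
      Matrix.tail_cons, Matrix.head_cons] at this
    simp only [mul_add, Finset.sum_add_distrib] at this
    have e : ∀ (t : A) (j : Fin 3), ∑ l, c' l * (t * w' l j) = t * s j := fun t j => by
      simp only [s, Finset.mul_sum]; exact Finset.sum_congr rfl fun l _ => by ring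
    rw [e, e, e] at this
    linear_combination this
  have hs2 : IsUnit (s 2) := by
    refine IsUnit.of_map φ _ (notMem_maximalIdeal.1 fun h => (maximalIdeal.isMaximal B).ne_top ?_)
    exact (Ideal.eq_top_iff_one _).2 (by simpa using Ideal.add_mem _ (hs 2) h)
  obtain ⟨u₂, hu₂⟩ := hs2
  obtain ⟨α, hαdef⟩ : ∃ α, α = (↑u₂⁻¹ : A) * s 0 := ⟨_, rfl⟩
  obtain ⟨β, hβdef⟩ : ∃ β, β = (↑u₂⁻¹ : A) * s 1 := ⟨_, rfl⟩
  have hquad : ∀ i k, v i * v k = α * (g i * v k) + β * (g i * g k) := fun i k => by
    have h1 := hsol i k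
    rw [← hu₂] at h1
    calc v i * v k = ↑u₂⁻¹ * (↑u₂ * (v i * v k)) := by rw [← mul_assoc _ (↑u₂ : A), Units.inv_mul, one_mul]
      _ = _ := by rw [← h1, hαdef, hβdef]; ring
  let q := Ideal.Quotient.mk (maximalIdeal B)
  have hq2 : q (φ ↑u₂⁻¹) = 1 := by
    have h2 : q (φ (s 2)) = 1 := (Ideal.Quotient.eq.2 (hs 2)).symm.trans (map_one q)
    calc q (φ ↑u₂⁻¹) = q (φ ↑u₂⁻¹) * q (φ (s 2)) := by rw [h2, mul_one]
      _ = 1 := by rw [← map_mul, ← map_mul, ← hu₂, Units.inv_mul, map_one, map_one]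
  have hα : q (φ α) = 1 - 2 * q β₀ := by
    have h1 := Ideal.Quotient.eq.2 (hs 0)
    simp only [Matrix.cons_val_zero, map_sub, map_mul, map_ofNat, map_one] at h1
    simp only [hαdef, map_mul, hq2, one_mul]; exact h1.symm
  have hβ : q (φ β) = q β₀ - q β₀ ^ 2 := by
    have h1 := Ideal.Quotient.eq.2 (hs 1)
    simp only [Matrix.cons_val_one, Matrix.cons_val_zero, map_sub, map_pow] at h1
    simp only [hβdef, map_mul, hq2, one_mul]; exact h1.symm
  -- a root of the quadratic
  obtain ⟨c₀, hc₀⟩ := hres β₀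
  have hc₀' : q β₀ = q (φ c₀) := Ideal.Quotient.eq.2 (hG hc₀)
  let f : Polynomial A := Polynomial.X ^ 2 - Polynomial.C α * Polynomial.X - Polynomial.C β
  have hf : f.Monic := by
    have : f = Polynomial.X ^ 2 - (Polynomial.C α * Polynomial.X + Polynomial.C β) := by simp [f]; ring
    rw [this]
    exact Polynomial.monic_X_pow_sub (Polynomial.degree_linear_le.trans_lt (by norm_num))
  have hmem : ∀ t : A, q (φ t) = 0 ↔ t ∈ maximalIdeal A := fun t => by
    rw [Ideal.Quotient.eq_zero_iff_mem, ← Ideal.mem_comap, IsLocalRing.maximalIdeal_comap]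
  obtain ⟨r, hr, hr0⟩ := HenselianLocalRing.is_henselian f hf (-c₀) (by
      rw [← hmem]
      simp only [f, Polynomial.eval_sub, Polynomial.eval_pow, Polynomial.eval_X, Polynomial.eval_mul,
        Polynomial.eval_C, map_sub, map_pow, map_neg, map_mul, hα, hβ, hc₀']
      ring) (notMem_maximalIdeal.1 fun h => one_ne_zero (α := B ⧸ maximalIdeal B) (by
      rw [← hmem] at h
      simp only [f, Polynomial.derivative_sub, Polynomial.derivative_X_pow, Polynomial.derivative_C_mul,
        Polynomial.derivative_X, Polynomial.derivative_C, mul_one, sub_zero, Polynomial.eval_sub,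
        Polynomial.eval_mul, Polynomial.eval_C, Polynomial.eval_ofNat, Polynomial.eval_pow, Polynomial.eval_X,
        Nat.cast_ofNat, map_sub, map_mul, map_ofNat, map_neg, hα, hc₀', Nat.add_one_sub_one, pow_one] at h
      linear_combination -h))
  have hr' : r ^ 2 - α * r - β = 0 := by
    simpa [f] using hr
  have hrq : q (φ r) = - q β₀ := by
    rw [hc₀', ← sub_eq_zero, sub_neg_eq_add, ← map_add, ← map_add, hmem]
    simpa using hr0
  obtain ⟨u, hu⟩ : IsUnit (α - 2 * r) := notMem_maximalIdeal.1 fun h => one_ne_zero (α := B ⧸ maximalIdeal B) (by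
    rw [← hmem, map_sub, map_sub, map_mul, map_mul, map_ofNat, map_ofNat, hα, hrq] at h
    linear_combination h)
  let a : ι → A := fun i => ↑u⁻¹ * (v i - r * g i)
  have key : ∀ i k, (v i - r * g i) * (v k - r * g k) = ↑u * (g i * (v k - r * g k)) := fun i k => by
    rw [hu]
    linear_combination hquad i k - r * hsym i k + (g i * g k) * (-hr' + 2 * (r^2 - r^2))
  refine ⟨a, fun i k => ?_, fun P hP hne => ?_⟩
  · calc a i * a k = ↑u⁻¹ * ↑u⁻¹ * ((v i - r * g i) * (v k - r * g k)) := by simp only [a]; ring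
      _ = ↑u⁻¹ * (↑u⁻¹ * ↑u) * (g i * (v k - r * g k)) := by rw [key]; ring
      _ = _ := by rw [Units.inv_mul]; simp only [a]; ring
  obtain ⟨i, hi⟩ := hne
  have hP' : P ≤ maximalIdeal B := le_maximalIdeal hP.ne_top
  let π := Ideal.Quotient.mk P
  have hgi : π (φ (g i)) ≠ 0 := fun h => hi (Ideal.Quotient.eq_zero_iff_mem.1 h)
  have hai : φ (a i) = φ ↑u⁻¹ * (x i - φ (g i) * (β₀ + φ r)) := by
    simp only [a, map_mul, map_sub, hxv i]; ring
  have hbr : β₀ + φ r ∈ maximalIdeal B := Ideal.Quotient.eq_zero_iff_mem.1 (by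
    show q (β₀ + φ r) = 0
    rw [map_add, hrq, add_neg_cancel])
  have hall : ∀ z : ι → B, (∀ i k, z i * z k = φ (g i) * z k) → ((∀ k, z k ∈ P) ↔ z i ∈ P) := fun z hz =>
    ⟨fun h => h i, fun h k => (hP.mem_or_mem (show φ (g i) * z k ∈ P from hz i k ▸ Ideal.mul_mem_right _ _ h)).resolve_left hi⟩
  have hza : ∀ i k, φ (a i) * φ (a k) = φ (g i) * φ (a k) := fun j k => by
    rw [← map_mul, ← map_mul]
    congr 1
    calc a j * a k = ↑u⁻¹ * ↑u⁻¹ * ((v j - r * g j) * (v k - r * g k)) := by simp only [a]; ring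
      _ = ↑u⁻¹ * (↑u⁻¹ * ↑u) * (g j * (v k - r * g k)) := by rw [key]; ring
      _ = _ := by rw [Units.inv_mul]; simp only [a]; ring
  rw [hall _ hza, hall x hx]
  -- the two idempotents agree
  have hrel : π (φ (a i)) = π (φ ↑u⁻¹) * (π (x i) - π (φ (g i)) * π (β₀ + φ r)) := by
    rw [← map_mul π, ← map_sub π, ← map_mul π, ← hai]
  have hu' : IsUnit (φ (↑u⁻¹ : A)) := (Units.isUnit u⁻¹).map φ
  have hdich : ∀ z : B, z * z = φ (g i) * z → π z = 0 ∨ π z = π (φ (g i)) := fun z hz => by
    rcases mul_eq_zero.1 (show π z * (π z - π (φ (g i))) = 0 by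
      rw [← map_sub, ← map_mul, mul_sub, hz, mul_comm (φ (g i)), sub_self, map_zero]) with h | h
    · exact Or.inl h
    · exact Or.inr (sub_eq_zero.1 h)
  have unit_not_mem : ∀ z, IsUnit z → z ∈ P → False := fun z hz h => hP.ne_top (Ideal.eq_top_of_isUnit_mem _ h hz)
  rw [← Ideal.Quotient.eq_zero_iff_mem, ← Ideal.Quotient.eq_zero_iff_mem]
  change π (φ (a i)) = 0 ↔ π (x i) = 0
  rcases hdich _ (hza i i) with ha | ha <;> rcases hdich _ (hx i i) with hxi | hxi
  · exact ⟨fun _ => hxi, fun _ => ha⟩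
  · exfalso
    rw [ha, hxi, ← mul_one_sub, ← mul_assoc, eq_comm, mul_eq_zero, mul_eq_zero] at hrel
    rcases hrel with (h | h) | h
    · exact unit_not_mem _ hu' (Ideal.Quotient.eq_zero_iff_mem.1 h)
    · exact hgi h
    · rw [← map_one π, ← map_sub, Ideal.Quotient.eq_zero_iff_mem] at h
      exact (maximalIdeal.isMaximal B).ne_top ((Ideal.eq_top_iff_one _).2
        (by simpa using Ideal.add_mem _ (hP' h) hbr))
  · exfalso
    rw [ha, hxi, zero_sub, mul_neg, ← mul_assoc] at hrel
    have h2 : π (φ (g i)) * π (1 + φ ↑u⁻¹ * (β₀ + φ r)) = 0 := by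
      rw [map_add π, map_one π, map_mul π]; linear_combination hrel
    rcases mul_eq_zero.1 h2 with h | h
    · exact hgi h
    · exact (maximalIdeal.isMaximal B).ne_top ((Ideal.eq_top_iff_one _).2
        (by simpa using Ideal.sub_mem _ (hP' (Ideal.Quotient.eq_zero_iff_mem.1 h)) (Ideal.mul_mem_left _ (φ ↑u⁻¹) hbr)))
  · exact ⟨fun h => absurd (ha.symm.trans h) hgi, fun h => absurd (hxi.symm.trans h) hgi⟩

end Groth.Agent.Hensel
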