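import Mathlib

/-!
Finite algebras over local rings which are products of local rings.
-/

set_option autoImplicit false

namespace Groth.Agent.Hensel.SemiLocalProd

universe u

open IsLocalRing

/-- `B` has an idempotent separating each maximal ideal from the others. -/
def Separated (B : Type u) [CommRing B] : Prop :=
  ∀ n : MaximalSpectrum B, ∃ e : B, IsIdempotentElem e ∧ e ∉ n.asIdeal ∧ ∀ n' : MaximalSpectrum B, n' ≠ n → e ∈ n'.asIdeal

variable (A : Type u) [CommRing A] [IsLocalRing A] (B : Type u) [CommRing B] [Algebra A B] [Module.Finite A B]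

theorem map_le (n : Ideal B) [n.IsMaximal] : (maximalIdeal A).map (algebraMap A B) ≤ n := by
  rw [Ideal.map_le_iff_le_comap]
  haveI : Algebra.IsIntegral A B := inferInstance
  exact ((IsLocalRing.eq_maximalIdeal (Ideal.isMaximal_comap_of_isIntegral_of_isMaximal n)).ge)

include A in
theorem finite_maximalSpectrum : Finite (MaximalSpectrum B) := by
  haveI : Finite ((maximalIdeal A).primesOver B) := (Algebra.QuasiFinite.finite_primesOver (S := B) _).to_subtype
  refine Finite.of_injective (fun n : MaximalSpectrum B => (⟨n.asIdeal, n.isMaximal.isPrime, ⟨?_⟩⟩ :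
    (maximalIdeal A).primesOver B)) fun n n' h => MaximalSpectrum.ext (Subtype.mk.inj h)
  haveI := n.isMaximal
  exact (IsLocalRing.eq_maximalIdeal (Ideal.isMaximal_comap_of_isIntegral_of_isMaximal n.asIdeal)).symm

variable {B}

omit [Algebra A B] [Module.Finite A B] in
theorem bijective_of_separated [Finite (MaximalSpectrum B)] (h : Separated B) :
    Function.Bijective (RingHom.pi fun n : MaximalSpectrum B => algebraMap B (Localization.AtPrime n.asIdeal)) := by
  classical
  haveI := Fintype.ofFinite (MaximalSpectrum B)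
  choose e he hen hne using h
  have h1 : ∀ n : MaximalSpectrum B, algebraMap B (Localization.AtPrime n.asIdeal) (e n) = 1 := fun n =>
    (IsIdempotentElem.iff_eq_one_of_isUnit (IsLocalization.map_units (Localization.AtPrime n.asIdeal) (⟨e n, hen n⟩ : n.asIdeal.primeCompl))).1
      ((he n).map (algebraMap B (Localization.AtPrime n.asIdeal)))
  have h0 : ∀ n n' : MaximalSpectrum B, n' ≠ n → algebraMap B (Localization.AtPrime n.asIdeal) (e n') = 0 := fun n n' hn => by
    have hu : IsUnit (1 - algebraMap B (Localization.AtPrime n.asIdeal) (e n')) := by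
      rw [← map_one (algebraMap B (Localization.AtPrime n.asIdeal)), ← map_sub]
      refine IsLocalization.map_units _ (⟨1 - e n', fun hm => ?_⟩ : n.asIdeal.primeCompl)
      have := n.asIdeal.add_mem hm (hne n' n hn.symm)
      rw [sub_add_cancel] at this
      exact n.isMaximal.ne_top ((Ideal.eq_top_iff_one _).2 this)
    have := (IsIdempotentElem.iff_eq_one_of_isUnit hu).1 (((he n').map (algebraMap B (Localization.AtPrime n.asIdeal))).one_sub)
    rwa [sub_eq_self] at this
  refine ⟨MaximalSpectrum.toPiLocalization_injective B, fun x => ?_⟩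
  have hx : ∀ n : MaximalSpectrum B, ∃ r : B, algebraMap B (Localization.AtPrime n.asIdeal) r = x n := fun n => by
    obtain ⟨b, ⟨s, hs⟩, hbs⟩ := IsLocalization.exists_mk'_eq n.asIdeal.primeCompl (x n)
    have hu : IsUnit (s * e n + (1 - e n)) := by
      by_contra hu
      obtain ⟨m, hm, hum⟩ := exists_max_ideal_of_mem_nonunits hu
      have hee : e n * (1 - e n) = 0 := by rw [mul_sub, mul_one, (he n).eq, sub_self]
      by_cases hmn : (⟨m, hm⟩ : MaximalSpectrum B) = n
      · subst hmn
        have h2 : 1 - e ⟨m, hm⟩ ∈ m := (hm.isPrime.mem_or_mem (hee ▸ m.zero_mem)).resolve_left (hen ⟨m, hm⟩)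
        have h3 := m.sub_mem hum h2
        rw [add_sub_cancel_right] at h3
        exact (hm.isPrime.mem_or_mem h3).elim hs (hen ⟨m, hm⟩)
      · have h2 : e n ∈ m := hne n ⟨m, hm⟩ hmn
        refine hm.ne_top ((Ideal.eq_top_iff_one _).2 ?_)
        have h3 := m.sub_mem hum (m.mul_mem_left s h2)
        rw [add_sub_cancel_left] at h3
        have h4 := m.add_mem h3 h2
        rwa [sub_add_cancel] at h4
    obtain ⟨u, hu⟩ := hu
    refine ⟨b * ↑u⁻¹, ?_⟩
    rw [← hbs, IsLocalization.eq_mk'_iff_mul_eq, ← map_mul]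
    have h5 : algebraMap B (Localization.AtPrime n.asIdeal) s = algebraMap B (Localization.AtPrime n.asIdeal) u := by
      rw [hu, map_add, map_mul, map_sub, h1, map_one, mul_one, sub_self, add_zero]
    rw [map_mul, h5, ← map_mul, mul_assoc, Units.inv_mul, mul_one]
  choose r hr using hx
  refine ⟨∑ n, e n * r n, funext fun n => ?_⟩
  show algebraMap B (Localization.AtPrime n.asIdeal) (∑ n', e n' * r n') = x n
  rw [map_sum, Finset.sum_eq_single n (fun n' _ hn => by rw [map_mul, h0 n n' hn, zero_mul])
    (fun h => absurd (Finset.mem_univ n) h), map_mul, h1, one_mul, hr]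

theorem separated_of_surjOn (h : Set.SurjOn (Ideal.Quotient.mk ((maximalIdeal A).map (algebraMap A B)))
    {e : B | IsIdempotentElem e} {e | IsIdempotentElem e}) : Separated B := by
  classical
  haveI := finite_maximalSpectrum A B
  haveI := Fintype.ofFinite (MaximalSpectrum B)
  intro n
  let J := (maximalIdeal A).map (algebraMap A B)
  let others : Ideal B := ⨅ n' ∈ Finset.univ.erase n, MaximalSpectrum.asIdeal n'
  have hco : n.asIdeal ⊔ others = ⊤ := Ideal.sup_iInf_eq_top (fun n' hn' => n.isMaximal.coprime_of_ne n'.isMaximal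
    fun h => (Finset.mem_erase.1 hn').1 (MaximalSpectrum.ext h.symm))
  obtain ⟨y, hy, x, hx, hyx⟩ := Submodule.mem_sup.1 ((hco.symm ▸ Submodule.mem_top : (1 : B) ∈ n.asIdeal ⊔ others))
  have hx0 : ∀ n' : MaximalSpectrum B, n' ≠ n → x ∈ n'.asIdeal := fun n' hn' =>
    (iInf₂_le (f := fun (m : MaximalSpectrum B) (_ : m ∈ Finset.univ.erase n) => m.asIdeal) n' (Finset.mem_erase.2 ⟨hn', Finset.mem_univ _⟩)) hx
  have hx1 : ∀ z : MaximalSpectrum B, x * x - x ∈ z.asIdeal := fun z => by
    rw [show x * x - x = -(x * y) by linear_combination x * hyx]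
    refine z.asIdeal.neg_mem ?_
    rcases eq_or_ne z n with rfl | hz
    · exact Ideal.mul_mem_left _ _ hy
    · exact Ideal.mul_mem_right _ _ (hx0 z hz)
  have hrad : x * x - x ∈ J.radical := by
    rw [Ideal.radical_eq_sInf, Ideal.mem_sInf]
    rintro P ⟨hJP, hP⟩
    haveI := hP
    have : P.IsMaximal := Ideal.isMaximal_of_isIntegral_of_isMaximal_comap (R := A) P (by
      have h1 : maximalIdeal A ≤ P.comap (algebraMap A B) := Ideal.map_le_iff_le_comap.1 hJP
      rw [← (maximalIdeal.isMaximal A).eq_of_le (Ideal.IsPrime.comap _).ne_top h1]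
      exact maximalIdeal.isMaximal A)
    exact hx1 ⟨P, this⟩
  obtain ⟨k, hk⟩ := hrad
  let π := Ideal.Quotient.mk (Ideal.span {Ideal.Quotient.mk J (x * x - x)})
  have hnil : ∀ z ∈ RingHom.ker π, IsNilpotent z := fun z hz => by
    rw [Ideal.mk_ker, Ideal.mem_span_singleton] at hz
    obtain ⟨c, rfl⟩ := hz
    exact ⟨k, by rw [mul_pow, ← map_pow, Ideal.Quotient.eq_zero_iff_mem.2 hk, zero_mul]⟩
  obtain ⟨ē, hē, hπ⟩ := exists_isIdempotentElem_eq_of_ker_isNilpotent π hnil (π (Ideal.Quotient.mk J x)) ⟨_, rfl⟩ (by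
    show π (Ideal.Quotient.mk J x) * π (Ideal.Quotient.mk J x) = π (Ideal.Quotient.mk J x)
    rw [← map_mul, Ideal.Quotient.eq, ← map_mul, ← map_sub]
    exact Ideal.mem_span_singleton_self _)
  obtain ⟨e, he, rfl⟩ := h hē
  rw [Ideal.Quotient.eq, Ideal.mem_span_singleton] at hπ
  obtain ⟨c, hc⟩ := hπ
  obtain ⟨c, rfl⟩ := Ideal.Quotient.mk_surjective c
  rw [← map_sub, ← map_mul, Ideal.Quotient.eq] at hc
  have hmem : ∀ z : MaximalSpectrum B, e - x ∈ z.asIdeal := fun z => by
    haveI := z.isMaximal
    have := z.asIdeal.add_mem (map_le A B z.asIdeal hc) (Ideal.mul_mem_right c _ (hx1 z))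
    rwa [sub_add_cancel] at this
  refine ⟨e, he, fun hen => ?_, fun n' hn' => ?_⟩
  · have h2 := n.asIdeal.sub_mem hen (hmem n)
    rw [sub_sub_cancel] at h2
    exact n.isMaximal.ne_top ((Ideal.eq_top_iff_one _).2 (hyx ▸ n.asIdeal.add_mem hy h2))
  · have := n'.asIdeal.add_mem (hmem n') (hx0 n' hn')
    rwa [sub_add_cancel] at this

variable (B)

omit [Algebra A B] [Module.Finite A B] in
theorem separated_of_pi {ι : Type u} [Fintype ι] (C : ι → Type u) [∀ j, CommRing (C j)] [∀ j, IsLocalRing (C j)]
    (φ : B ≃+* ∀ j, C j) : Separated B := by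
  classical
  intro n
  haveI := n.isMaximal
  -- every maximal ideal is the pullback of a maximal ideal of one factor
  have key : ∀ z : MaximalSpectrum B, ∃ j, φ.symm (Pi.single j 1) ∉ z.asIdeal := fun z => by
    by_contra hcon
    push Not at hcon
    refine z.isMaximal.ne_top ((Ideal.eq_top_iff_one _).2 ?_)
    have : (1 : B) = ∑ j, φ.symm (Pi.single j 1) := by
      rw [← map_sum, ← map_one φ.symm]
      congr 1
      exact (Finset.univ_sum_single (1 : ∀ j, C j)).symm
    rw [this]
    exact Ideal.sum_mem _ fun j _ => hcon j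
  obtain ⟨j, hj⟩ := key n
  refine ⟨φ.symm (Pi.single j 1), ?_, hj, fun n' hn' => ?_⟩
  · show _ * _ = _
    rw [← map_mul, ← Pi.single_mul, one_mul]
  by_contra hj'
  -- both maximal ideals pull back from the same local factor
  have hval : ∀ z : MaximalSpectrum B, φ.symm (Pi.single j 1) ∉ z.asIdeal → ∀ b, b ∈ z.asIdeal ↔ φ b j ∈ maximalIdeal (C j) := by
    intro z hz b
    constructor
    · intro hb
      by_contra hu
      obtain ⟨u, hu⟩ := IsLocalRing.notMem_maximalIdeal.1 hu
      refine hz ?_
      have : φ.symm (Pi.single j 1) = b * φ.symm (Pi.single j (↑u⁻¹ : C j)) := by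
        apply φ.injective
        rw [map_mul, φ.apply_symm_apply, φ.apply_symm_apply]
        funext k
        rcases eq_or_ne k j with rfl | hk
        · rw [Pi.mul_apply, Pi.single_eq_same, Pi.single_eq_same, hu.symm, Units.mul_inv]
        · rw [Pi.mul_apply, Pi.single_eq_of_ne hk, Pi.single_eq_of_ne hk, mul_zero]
      rw [this]
      exact Ideal.mul_mem_right _ _ hb
    · intro hb
      by_contra hbz
      obtain ⟨c, i, hi, hci⟩ := z.isMaximal.exists_inv hbz
      have h2 : φ i j ∈ maximalIdeal (C j) → False := fun h => by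
        have h3 : φ (c * b + i) j ∈ maximalIdeal (C j) := by
          rw [map_add, map_mul, Pi.add_apply, Pi.mul_apply]
          exact Ideal.add_mem _ (Ideal.mul_mem_left _ _ hb) h
        rw [hci, map_one] at h3
        exact (maximalIdeal.isMaximal (C j)).ne_top ((Ideal.eq_top_iff_one _).2 h3)
      obtain ⟨u, hu⟩ := IsLocalRing.notMem_maximalIdeal.1 h2
      refine hz ?_
      have : φ.symm (Pi.single j 1) = i * φ.symm (Pi.single j (↑u⁻¹ : C j)) := by
        apply φ.injective
        rw [map_mul, φ.apply_symm_apply, φ.apply_symm_apply]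
        funext k
        rcases eq_or_ne k j with rfl | hk
        · rw [Pi.mul_apply, Pi.single_eq_same, Pi.single_eq_same, hu.symm, Units.mul_inv]
        · rw [Pi.mul_apply, Pi.single_eq_of_ne hk, Pi.single_eq_of_ne hk, mul_zero]
      rw [this]
      exact Ideal.mul_mem_right _ _ hi
  exact hn' (MaximalSpectrum.ext (Ideal.ext fun b => (hval n' hj' b).trans (hval n hj b).symm))

theorem surjOn_of_pi {ι : Type u} [Fintype ι] (C : ι → Type u) [∀ j, CommRing (C j)] [∀ j, IsLocalRing (C j)]
    (φ : B ≃+* ∀ j, C j) : Set.SurjOn (Ideal.Quotient.mk ((maximalIdeal A).map (algebraMap A B)))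
      {e : B | IsIdempotentElem e} {e | IsIdempotentElem e} := by
  classical
  intro q hq
  obtain ⟨b, rfl⟩ := Ideal.Quotient.mk_surjective q
  have hb : b * b - b ∈ (maximalIdeal A).map (algebraMap A B) := by
    rw [← Ideal.Quotient.eq, map_mul]
    exact hq
  let ε : ∀ j, C j := fun j => if IsUnit (φ b j) then 1 else 0
  let w : ∀ j, C j := fun j => if IsUnit (φ b j) then -Ring.inverse (φ b j) else -Ring.inverse (φ b j - 1)
  refine ⟨φ.symm ε, ?_, Ideal.Quotient.eq.2 ?_⟩
  · show _ * _ = _
    rw [← map_mul]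
    congr 1
    funext j
    simp only [ε, Pi.mul_apply]
    split_ifs <;> simp
  · rw [show φ.symm ε - b = (b * b - b) * φ.symm w from ?_]
    · exact Ideal.mul_mem_right _ _ hb
    apply φ.injective
    rw [map_sub, map_mul, map_sub, map_mul, φ.apply_symm_apply, φ.apply_symm_apply]
    funext j
    simp only [ε, w, Pi.mul_apply, Pi.sub_apply]
    split_ifs with hu
    · linear_combination (φ b j - 1) * Ring.mul_inverse_cancel _ hu
    · have hu' : IsUnit (φ b j - 1) := by
        rcases IsLocalRing.isUnit_or_isUnit_of_isUnit_add (a := φ b j) (b := 1 - φ b j) (by rw [add_sub_cancel]; exact isUnit_one) with h | h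
        · exact absurd h hu
        · simpa using h.neg
      linear_combination (φ b j) * Ring.mul_inverse_cancel _ hu'

end Groth.Agent.Hensel.SemiLocalProd
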