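import Groth.Agent.Hensel.Ops

/-!
Square systems with invertible jacobian have unique solutions over henselian pairs.
-/

set_option autoImplicit false

namespace Groth.Agent.Hensel

universe u

open MvPolynomial

variable {A : Type u} [CommRing A] {I : Ideal A}

/-- The Jacobian determinant of a square system. -/
noncomputable def jacDet {n : ℕ} (G : Fin n → MvPolynomial (Fin n) A) : MvPolynomial (Fin n) A :=
  (Matrix.of fun i j => pderiv i (G j)).det

theorem existsUnique_root_system [HenselianRing A I] {n : ℕ} (G : Fin n → MvPolynomial (Fin n) A) (a : Fin n → A)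
    (h : ∀ i, eval a (G i) ∈ I) (hdet : IsUnit (Ideal.Quotient.mk I (eval a (jacDet G)))) :
    ∃! b : Fin n → A, (∀ i, eval b (G i) = 0) ∧ ∀ i, b i - a i ∈ I := by
  classical
  let K : Ideal (MvPolynomial (Fin n) A) := Ideal.span (Set.range G)
  let Q := MvPolynomial (Fin n) A ⧸ K
  let π : MvPolynomial (Fin n) A →ₐ[A] Q := Ideal.Quotient.mkₐ A K
  let P : Algebra.PreSubmersivePresentation A Q (Fin n) (Fin n) :=
    Algebra.PreSubmersivePresentation.naive (v := G) id Function.injective_id
  let Δ : Q := P.jacobian
  have hjac : Δ = π (jacDet G) := by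
    change P.jacobian = _
    rw [Algebra.PreSubmersivePresentation.jacobian_eq_jacobiMatrix_det]
    have : P.jacobiMatrix = Matrix.of fun i j => pderiv i (G j) :=
      Matrix.ext fun i j => Algebra.PreSubmersivePresentation.jacobiMatrix_naive id Function.injective_id _ _ i j
    rw [this]
    rfl
  haveI hE : Algebra.Etale A (Localization.Away Δ) := by
    have hΔ : IsUnit (algebraMap Q (Localization.Away Δ) Δ) := IsLocalization.Away.algebraMap_isUnit _
    let S : Algebra.SubmersivePresentation A (Localization.Away Δ) _ _ :=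
      { toPreSubmersivePresentation := .comp (.localizationAway (Localization.Away Δ) Δ) P,
        jacobian_isUnit := by simpa [Algebra.smul_def, -isUnit_map_iff, Δ] using hΔ }
    have : Algebra.IsStandardSmoothOfRelativeDimension 0 A (Localization.Away Δ) :=
      ⟨_, _, _, inferInstance, S, by
        simp only [Algebra.PreSubmersivePresentation.dimension_comp_eq_dimension_add_dimension, S]
        simp [Algebra.Presentation.dimension]⟩
    infer_instance
  -- points of `E` are roots with unit jacobian
  have hlift : ∀ (T : Type u) [CommRing T] [Algebra A T] (b : Fin n → T), (∀ i, aeval b (G i) = 0) →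
      IsUnit (aeval b (jacDet G)) → ∃ f : Localization.Away Δ →ₐ[A] T,
        ∀ i, f (algebraMap Q (Localization.Away Δ) (π (X i))) = b i := by
    intro T _ _ b hb hu
    let f₀ : Q →ₐ[A] T := Ideal.Quotient.liftₐ K (aeval b) fun x hx => by
      induction hx using Submodule.span_induction with
      | mem x hx => obtain ⟨i, rfl⟩ := hx; exact hb i
      | zero => exact map_zero _
      | add x y _ _ hx hy => rw [map_add, hx, hy, add_zero]
      | smul c x _ hx => rw [smul_eq_mul, map_mul, hx, mul_zero]
    have hf₀ : IsUnit (f₀ Δ) := by rw [hjac]; exact hu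
    refine ⟨IsLocalization.Away.liftAlgHom (f := f₀) Δ hf₀, fun i => ?_⟩
    change IsLocalization.lift _ (algebraMap Q (Localization.Away Δ) (π (X i))) = b i
    rw [IsLocalization.lift_eq]
    exact aeval_X b i
  have hmk : ∀ p : MvPolynomial (Fin n) A, aeval (fun i => Ideal.Quotient.mk I (a i)) p = Ideal.Quotient.mk I (eval a p) :=
    fun p => by
      rw [← Ideal.Quotient.algebraMap_eq]
      exact (aeval_algebraMap_apply (A ⧸ I) a p)
  obtain ⟨σ, hσ⟩ := hlift (A ⧸ I) (fun i => Ideal.Quotient.mk I (a i))
    (fun i => by rw [hmk]; exact Ideal.Quotient.eq_zero_iff_mem.2 (h i)) (by rw [hmk]; exact hdet)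
  obtain ⟨τ, hτ, huniq⟩ := existsUnique_algHom_lift σ
  let b : Fin n → A := fun i => τ (algebraMap Q (Localization.Away Δ) (π (X i)))
  have hev : ∀ p, eval b p = τ (algebraMap Q (Localization.Away Δ) (π p)) := fun p => by
    have := congrArg (fun φ => φ p) (aeval_unique (τ.comp ((IsScalarTower.toAlgHom A Q (Localization.Away Δ)).comp π)))
    simp only [AlgHom.comp_apply, IsScalarTower.coe_toAlgHom'] at this
    rw [this]
    rfl
  refine ⟨b, ⟨fun i => ?_, fun i => ?_⟩, ?_⟩
  · rw [hev, show π (G i) = 0 from Ideal.Quotient.eq_zero_iff_mem.2 (Ideal.subset_span ⟨i, rfl⟩), map_zero, map_zero]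
  · rw [← Ideal.Quotient.eq, hτ]; exact hσ i
  · rintro c ⟨hc, hca⟩
    have hmkc : Ideal.Quotient.mk I (eval c (jacDet G)) = Ideal.Quotient.mk I (eval a (jacDet G)) := by
      have h1 : Ideal.Quotient.mk I ∘ c = Ideal.Quotient.mk I ∘ a := funext fun i => Ideal.Quotient.eq.2 (hca i)
      rw [eval₂_comp, eval₂_comp, h1]
    obtain ⟨f, hf⟩ := hlift A c (fun i => hc i) (isUnit_of_mk HenselianRing.jac (hmkc ▸ hdet))
    have hfτ : f = τ := huniq f fun x => by
      have : (Ideal.Quotient.mkₐ A I).comp f = σ := by
        refine IsLocalization.algHom_ext (Submonoid.powers Δ) ?_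
        refine Ideal.Quotient.algHom_ext A (MvPolynomial.algHom_ext fun i => ?_)
        change Ideal.Quotient.mk I (f (algebraMap Q _ (π (X i)))) = σ (algebraMap Q _ (π (X i)))
        rw [hf, hσ]; exact Ideal.Quotient.eq.2 (hca i)
      exact AlgHom.congr_fun this x
    funext i
    rw [← hf i, hfτ]

end Groth.Agent.Hensel
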