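import Groth.Agent.Hensel.TensorFinite
import Mathlib.FieldTheory.PurelyInseparable.Basic

/-!
Strict henselizations commute with tensor products along (ind-)quasi-finite maps.
-/

set_option autoImplicit false

namespace Groth.Agent.Hensel

universe u

open IsLocalRing TensorProduct

/-- An algebraic tensor product over a strictly henselian base is local. -/
theorem isLocalRing_tensor_of_isIntegral (R : Type u) [CommRing R] [IsLocalRing R] [IsSepClosed (ResidueField R)]
    (S : Type u) [CommRing S] [IsLocalRing S] [Algebra R S] [IsLocalHom (algebraMap R S)] [Algebra.IsIntegral R S]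
    (T : Type u) [CommRing T] [IsLocalRing T] [Algebra R T] [IsLocalHom (algebraMap R T)]
    [Nontrivial (S ⊗[R] T)] :
    IsLocalRing (S ⊗[R] T) := by
  letI : Algebra T (S ⊗[R] T) := Algebra.TensorProduct.includeRight.toRingHom.toAlgebra
  haveI : IsScalarTower R T (S ⊗[R] T) := IsScalarTower.of_algebraMap_eq fun r =>
    ((Algebra.TensorProduct.includeRight : T →ₐ[R] S ⊗[R] T).commutes r).symm
  haveI : Algebra.IsIntegral T (S ⊗[R] T) := ⟨fun y => by
    induction y using TensorProduct.induction_on with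
    | zero => exact isIntegral_zero
    | add a b ha hb => exact ha.add hb
    | tmul s t =>
      rw [show s ⊗ₜ[R] t = s ⊗ₜ 1 * algebraMap T (S ⊗[R] T) t by
        rw [RingHom.algebraMap_toAlgebra, AlgHom.toRingHom_eq_coe, RingHom.coe_coe,
          Algebra.TensorProduct.includeRight_apply, Algebra.TensorProduct.tmul_mul_tmul, mul_one, one_mul]]
      exact ((Algebra.IsIntegral.isIntegral (R := R) s).map
        (Algebra.TensorProduct.includeLeft : S →ₐ[R] S ⊗[R] T)).tower_top.mul
        isIntegral_algebraMap⟩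
  obtain ⟨k, hk⟩ := ExpChar.exists (ResidueField R)
  haveI := hk
  haveI : Algebra.IsIntegral R (ResidueField S) :=
    Algebra.IsIntegral.of_surjective (IsScalarTower.toAlgHom R S _) residue_surjective
  haveI : Algebra.IsIntegral (ResidueField R) (ResidueField S) := Algebra.IsIntegral.tower_top R
  -- every maximal ideal restricts to the maximal ideals of the factors
  have hT : ∀ (M : Ideal (S ⊗[R] T)) [M.IsMaximal], ∀ t, (1 : S) ⊗ₜ[R] t ∈ M ↔ t ∈ maximalIdeal T := by
    intro M _ t
    haveI : (M.comap (algebraMap T (S ⊗[R] T))).IsMaximal :=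
      Ideal.isMaximal_comap_of_isIntegral_of_isMaximal M
    rw [← eq_maximalIdeal this]
    rfl
  have hS : ∀ (M : Ideal (S ⊗[R] T)) [M.IsMaximal], ∀ s ∈ maximalIdeal S, s ⊗ₜ[R] (1 : T) ∈ M := by
    intro M _ s hs
    let P := M.comap (algebraMap S (S ⊗[R] T))
    haveI : P.IsPrime := Ideal.IsPrime.comap _
    have hPR : P.comap (algebraMap R S) = maximalIdeal R := by
      ext r
      rw [Ideal.mem_comap, Ideal.mem_comap, ← IsScalarTower.algebraMap_apply,
        IsScalarTower.algebraMap_apply R T (S ⊗[R] T), ← maximalIdeal_comap (algebraMap R T), Ideal.mem_comap]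
      exact hT M _
    have hP : P = maximalIdeal S := eq_maximalIdeal
      (Ideal.isMaximal_of_isIntegral_of_isMaximal_comap (R := R) P (hPR ▸ maximalIdeal.isMaximal R))
    exact (show s ∈ P from hP.symm ▸ hs)
  -- every element is, up to a power, congruent to an element of the second factor
  have key : ∀ y : S ⊗[R] T, ∃ (n : ℕ) (t : T), ∀ (M : Ideal (S ⊗[R] T)) [M.IsMaximal],
      y ^ k ^ n - (1 : S) ⊗ₜ[R] t ∈ M := by
    intro y
    induction y using TensorProduct.induction_on with
    | zero => exact ⟨0, 0, fun M _ => by simp⟩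
    | tmul s t =>
      obtain ⟨n, a, ha⟩ := IsPurelyInseparable.pow_mem (ResidueField R) k (residue S s)
      obtain ⟨a, rfl⟩ := residue_surjective a
      refine ⟨n, algebraMap R T a * t ^ k ^ n, fun M _ => ?_⟩
      have h1 : s ^ k ^ n - algebraMap R S a ∈ maximalIdeal S := by
        rw [← residue_eq_zero_iff, map_sub, map_pow, sub_eq_zero, ← ha]
        exact ResidueField.algebraMap_residue a
      have h2 := M.mul_mem_right ((1 : S) ⊗ₜ[R] (t ^ k ^ n)) (hS M _ h1)
      rw [Algebra.TensorProduct.tmul_mul_tmul, mul_one, one_mul, TensorProduct.sub_tmul] at h2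
      rwa [Algebra.TensorProduct.tmul_pow, ← Algebra.smul_def a (t ^ k ^ n), ← TensorProduct.smul_tmul,
        ← Algebra.algebraMap_eq_smul_one]
    | add a b ha hb =>
      obtain ⟨m, ta, hta⟩ := ha
      obtain ⟨n, tb, htb⟩ := hb
      refine ⟨m + n, ta ^ k ^ n + tb ^ k ^ m, fun M _ => ?_⟩
      letI := Ideal.Quotient.field M
      let φ : ResidueField R →+* (S ⊗[R] T) ⧸ M := Ideal.Quotient.lift (maximalIdeal R)
        ((Ideal.Quotient.mk M).comp (algebraMap R (S ⊗[R] T))) fun r hr => by
        rw [RingHom.comp_apply, Ideal.Quotient.eq_zero_iff_mem, IsScalarTower.algebraMap_apply R S (S ⊗[R] T)]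
        exact hS M _ ((mem_maximalIdeal _).2 fun h => (mem_maximalIdeal _).1 hr (h.of_map (algebraMap R S) _))
      haveI : ExpChar ((S ⊗[R] T) ⧸ M) k := expChar_of_injective_ringHom φ.injective k
      have h1 := Ideal.Quotient.eq.2 (hta M)
      have h2 := Ideal.Quotient.eq.2 (htb M)
      rw [← Ideal.Quotient.eq, map_pow, map_add, add_pow_expChar_pow, TensorProduct.tmul_add, map_add]
      congr 1
      · rw [pow_add, pow_mul, ← map_pow, h1, ← map_pow, Algebra.TensorProduct.tmul_pow, one_pow]
      · rw [add_comm m n, pow_add, pow_mul, ← map_pow, h2, ← map_pow, Algebra.TensorProduct.tmul_pow, one_pow]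
  obtain ⟨M₀, hM₀⟩ := Ideal.exists_maximal (S ⊗[R] T)
  refine IsLocalRing.of_unique_max_ideal ⟨M₀, hM₀, fun M hM => ?_⟩
  refine hM.eq_of_le hM₀.ne_top fun y hy => ?_
  obtain ⟨n, t, ht⟩ := key y
  have hpos : 0 < k ^ n := pow_pos (expChar_pos (ResidueField R) k) n
  have h1 : (1 : S) ⊗ₜ[R] t ∈ M := by
    have := M.sub_mem (Ideal.pow_mem_of_mem M hy _ hpos) (@ht M hM)
    rwa [sub_sub_cancel] at this
  refine hM₀.isPrime.mem_of_pow_mem (k ^ n) ?_
  have := M₀.add_mem (@ht M₀ hM₀) ((hT M₀ t).2 ((hT M t).1 h1))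
  rwa [sub_add_cancel] at this

variable (A B C : Type u) [CommRing A] [CommRing B] [CommRing C] [Algebra A B] [Algebra A C]
  (pA : Ideal A) [pA.IsPrime] (pB : Ideal B) [pB.IsPrime] [pB.LiesOver pA] (pC : Ideal C) [pC.IsPrime]
  [pC.LiesOver pA] (pD : Ideal (B ⊗[A] C)) [pD.IsPrime] [pD.LiesOver pB]
  (Ash : Type u) [CommRing Ash] [IsLocalRing Ash] [Algebra (Localization.AtPrime pA) Ash]
  [IsLocalHom (algebraMap (Localization.AtPrime pA) Ash)]
  [_root_.Hensel.IsStrictHenselization (Localization.AtPrime pA) Ash]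
  [Algebra A Ash] [IsScalarTower A (Localization.AtPrime pA) Ash]
  (Bsh : Type u) [CommRing Bsh] [IsLocalRing Bsh] [Algebra (Localization.AtPrime pB) Bsh]
  [IsLocalHom (algebraMap (Localization.AtPrime pB) Bsh)]
  [_root_.Hensel.IsStrictHenselization (Localization.AtPrime pB) Bsh]
  [Algebra B Bsh] [IsScalarTower B (Localization.AtPrime pB) Bsh] [Algebra A Bsh] [IsScalarTower A B Bsh]
  [Algebra Ash Bsh] [IsScalarTower A Ash Bsh] [IsLocalHom (algebraMap Ash Bsh)]
  (Csh : Type u) [CommRing Csh] [IsLocalRing Csh] [Algebra (Localization.AtPrime pC) Csh]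
  [IsLocalHom (algebraMap (Localization.AtPrime pC) Csh)]
  [_root_.Hensel.IsStrictHenselization (Localization.AtPrime pC) Csh]
  [Algebra C Csh] [IsScalarTower C (Localization.AtPrime pC) Csh] [Algebra A Csh] [IsScalarTower A C Csh]
  [Algebra Ash Csh] [IsScalarTower A Ash Csh] [IsLocalHom (algebraMap Ash Csh)]
  (Dsh : Type u) [CommRing Dsh] [IsLocalRing Dsh] [Algebra (Localization.AtPrime pD) Dsh]
  [IsLocalHom (algebraMap (Localization.AtPrime pD) Dsh)]
  [_root_.Hensel.IsStrictHenselization (Localization.AtPrime pD) Dsh]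
  [Algebra (B ⊗[A] C) Dsh] [IsScalarTower (B ⊗[A] C) (Localization.AtPrime pD) Dsh]
  [Algebra Bsh Dsh] [IsLocalHom (algebraMap Bsh Dsh)] [Algebra B Dsh] [IsScalarTower B Bsh Dsh]
  [IsScalarTower B (B ⊗[A] C) Dsh] [Algebra Csh Dsh] [IsLocalHom (algebraMap Csh Dsh)]
  [Algebra Ash Dsh] [IsScalarTower Ash Bsh Dsh] [IsScalarTower Ash Csh Dsh]

include pA pB pC pD in
theorem strictTensor_bijective (hDC : pD.comap (Algebra.TensorProduct.includeRight : C →ₐ[A] B ⊗[A] C).toRingHom = pC)
    (hC : ∀ c : C, algebraMap Csh Dsh (algebraMap C Csh c) = algebraMap (B ⊗[A] C) Dsh (1 ⊗ₜ[A] c))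
    [Algebra.IsIntegral Ash Bsh] :
    Function.Bijective (Algebra.TensorProduct.lift (IsScalarTower.toAlgHom Ash Bsh Dsh)
      (IsScalarTower.toAlgHom Ash Csh Dsh) (fun _ _ => Commute.all _ _)) := by
  set L := Algebra.TensorProduct.lift (IsScalarTower.toAlgHom Ash Bsh Dsh)
      (IsScalarTower.toAlgHom Ash Csh Dsh) (fun _ _ => Commute.all _ _)
  have hL : ∀ b c, L (b ⊗ₜ[Ash] c) = algebraMap Bsh Dsh b * algebraMap Csh Dsh c := fun b c => by simp [L]
  haveI : HenselianLocalRing Csh := _root_.Hensel.IsStrictHenselization.henselian (R := Localization.AtPrime pC)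
  haveI : HenselianLocalRing Dsh := _root_.Hensel.IsStrictHenselization.henselian (R := Localization.AtPrime pD)
  haveI : IsSepClosed (ResidueField Ash) :=
    (_root_.Hensel.IsStrictHenselization.isSepClosure (R := Localization.AtPrime pA) (S := Ash)).sep_closed
  haveI : IsSepClosed (ResidueField Csh) :=
    (_root_.Hensel.IsStrictHenselization.isSepClosure (R := Localization.AtPrime pC) (S := Csh)).sep_closed
  haveI hDs := _root_.Hensel.IsStrictHenselization.isSepClosure (R := Localization.AtPrime pD) (S := Dsh)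
  haveI : Algebra.IsSeparable (ResidueField (Localization.AtPrime pD)) (ResidueField Dsh) := hDs.separable
  haveI : Nontrivial (Bsh ⊗[Ash] Csh) := L.toRingHom.domain_nontrivial
  haveI : IsLocalRing (Bsh ⊗[Ash] Csh) := isLocalRing_tensor_of_isIntegral Ash Bsh Csh
  letI : Algebra Csh (Bsh ⊗[Ash] Csh) := Algebra.TensorProduct.includeRight.toRingHom.toAlgebra
  haveI : IsScalarTower Ash Csh (Bsh ⊗[Ash] Csh) := IsScalarTower.of_algebraMap_eq fun r =>
    ((Algebra.TensorProduct.includeRight : Csh →ₐ[Ash] Bsh ⊗[Ash] Csh).commutes r).symm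
  haveI : Algebra.IsIntegral Csh (Bsh ⊗[Ash] Csh) := ⟨fun y => by
    induction y using TensorProduct.induction_on with
    | zero => exact isIntegral_zero
    | add a b ha hb => exact ha.add hb
    | tmul b c =>
      rw [show b ⊗ₜ[Ash] c = b ⊗ₜ 1 * algebraMap Csh (Bsh ⊗[Ash] Csh) c by
        rw [RingHom.algebraMap_toAlgebra, AlgHom.toRingHom_eq_coe, RingHom.coe_coe,
          Algebra.TensorProduct.includeRight_apply, Algebra.TensorProduct.tmul_mul_tmul, mul_one, one_mul]]
      exact ((Algebra.IsIntegral.isIntegral (R := Ash) b).map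
        (Algebra.TensorProduct.includeLeft : Bsh →ₐ[Ash] Bsh ⊗[Ash] Csh)).tower_top.mul
        isIntegral_algebraMap⟩
  haveI : HenselianLocalRing (Bsh ⊗[Ash] Csh) := henselianLocalRing_finite Csh _
  have hLC : L.toRingHom.comp (algebraMap Csh (Bsh ⊗[Ash] Csh)) = algebraMap Csh Dsh :=
    RingHom.ext fun c => (hL 1 c).trans (by rw [map_one, one_mul])
  haveI : ((maximalIdeal Dsh).comap L.toRingHom).IsPrime := Ideal.IsPrime.comap _
  have hLm : (maximalIdeal Dsh).comap L.toRingHom = maximalIdeal (Bsh ⊗[Ash] Csh) := by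
    refine eq_maximalIdeal (Ideal.isMaximal_of_isIntegral_of_isMaximal_comap (R := Csh) _ ?_)
    rw [Ideal.comap_comap, hLC, maximalIdeal_comap (algebraMap Csh Dsh)]
    exact maximalIdeal.isMaximal Csh
  haveI : IsLocalHom L.toRingHom := ((local_hom_TFAE L.toRingHom).out 0 4).2 hLm
  haveI : IsLocalHom (algebraMap Csh (Bsh ⊗[Ash] Csh)) := ((local_hom_TFAE (algebraMap Csh _)).out 0 4).2 (by
    rw [← hLm, Ideal.comap_comap, hLC, maximalIdeal_comap (algebraMap Csh Dsh)])
  haveI : IsSepClosed (ResidueField (Bsh ⊗[Ash] Csh)) := by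
    haveI : Algebra.IsIntegral Csh (ResidueField (Bsh ⊗[Ash] Csh)) :=
      Algebra.IsIntegral.of_surjective (IsScalarTower.toAlgHom Csh (Bsh ⊗[Ash] Csh) _) residue_surjective
    haveI : Algebra.IsIntegral (ResidueField Csh) (ResidueField (Bsh ⊗[Ash] Csh)) :=
      Algebra.IsIntegral.tower_top Csh
    exact Algebra.IsAlgebraic.isSepClosed (F := ResidueField Csh)
  -- the map from the tensor product of the rings
  let νB : B →+* Bsh ⊗[Ash] Csh := Algebra.TensorProduct.includeLeftRingHom.comp (algebraMap B Bsh)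
  let fB : B →ₐ[A] Bsh ⊗[Ash] Csh :=
    { νB with
      commutes' := fun a => by
        change algebraMap B Bsh (algebraMap A B a) ⊗ₜ[Ash] (1 : Csh) = algebraMap A Bsh a ⊗ₜ[Ash] (1 : Csh)
        rw [← IsScalarTower.algebraMap_apply] }
  let fC : C →ₐ[A] Bsh ⊗[Ash] Csh :=
    { (algebraMap Csh (Bsh ⊗[Ash] Csh)).comp (algebraMap C Csh) with
      commutes' := fun a => by
        change algebraMap Csh (Bsh ⊗[Ash] Csh) (algebraMap C Csh (algebraMap A C a)) =
          algebraMap A Bsh a ⊗ₜ[Ash] (1 : Csh)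
        rw [← IsScalarTower.algebraMap_apply A C Csh, IsScalarTower.algebraMap_apply A Ash Csh,
          IsScalarTower.algebraMap_apply A Ash Bsh, ← IsScalarTower.algebraMap_apply Ash Csh]
        rfl }
  let ν : B ⊗[A] C →ₐ[A] Bsh ⊗[Ash] Csh := Algebra.TensorProduct.lift fB fC fun _ _ => Commute.all _ _
  have hνd : ∀ d, L (ν d) = algebraMap (B ⊗[A] C) Dsh d := fun d => by
    induction d using TensorProduct.induction_on with
    | zero => simp
    | add x y hx hy => simp [hx, hy]
    | tmul b c =>
      rw [show b ⊗ₜ[A] c = algebraMap B (B ⊗[A] C) b * (1 ⊗ₜ c) by simp, map_mul, map_mul, map_mul,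
        ← IsScalarTower.algebraMap_apply B (B ⊗[A] C) Dsh, ← hC, IsScalarTower.algebraMap_apply B Bsh Dsh]
      simp [ν, fB, fC, νB, L, RingHom.algebraMap_toAlgebra]
  have hν : (maximalIdeal (Bsh ⊗[Ash] Csh)).comap ν.toRingHom = pD := by
    rw [← hLm, Ideal.comap_comap]
    refine Eq.trans ?_ (comap_point (p := pD) Dsh)
    congr 1
    exact RingHom.ext hνd
  -- the residue fields agree
  obtain ⟨ν', hν'loc, hν'⟩ := exists_localHom (p := pD) ν.toRingHom hν
  haveI := hν'loc
  let lam := ResidueField.map L.toRingHom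
  have hlam : Function.Bijective lam := by
    letI : Algebra (ResidueField (Bsh ⊗[Ash] Csh)) (ResidueField Dsh) := lam.toAlgebra
    letI : Algebra (ResidueField (Localization.AtPrime pD)) (ResidueField (Bsh ⊗[Ash] Csh)) :=
      (ResidueField.map ν').toAlgebra
    haveI : IsScalarTower (ResidueField (Localization.AtPrime pD)) (ResidueField (Bsh ⊗[Ash] Csh))
        (ResidueField Dsh) := IsScalarTower.of_algebraMap_eq' (by
      apply Ideal.ResidueField.ringHom_ext
      ext d
      · simp only [RingHom.comp_apply, RingHom.algebraMap_toAlgebra, lam]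
        rw [IsScalarTower.algebraMap_apply (B ⊗[A] C) (Localization.AtPrime pD) pD.ResidueField,
          ResidueField.algebraMap_eq, ResidueField.map_residue, ResidueField.map_residue,
          ResidueField.algebraMap_residue, ← IsScalarTower.algebraMap_apply, ← RingHom.comp_apply ν', hν']
        exact congrArg _ (hνd _).symm
      · simp only [RingHom.comp_apply, RingHom.algebraMap_toAlgebra, lam]
        rw [IsScalarTower.algebraMap_apply (B ⊗[A] C) (Localization.AtPrime pD) pD.ResidueField,
          ResidueField.algebraMap_eq, ResidueField.map_residue, ResidueField.map_residue,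
          ResidueField.algebraMap_residue, ← IsScalarTower.algebraMap_apply, ← RingHom.comp_apply ν', hν']
        exact congrArg _ (hνd _).symm)
    haveI : Algebra.IsSeparable (ResidueField (Bsh ⊗[Ash] Csh)) (ResidueField Dsh) :=
      Algebra.isSeparable_tower_top_of_isSeparable (ResidueField (Localization.AtPrime pD)) _ _
    exact IsSepClosed.algebraMap_bijective _ _
  let τ := RingEquiv.ofBijective lam hlam
  obtain ⟨ψ, ⟨hψ, hψr⟩, -⟩ := strict_lift (p := pD) Dsh ν.toRingHom hν τ.symm.toRingHom fun d =>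
    τ.symm_apply_eq.2 (congrArg (residue Dsh) (hνd d).symm)
  replace hψ : ∀ d, ψ (algebraMap (B ⊗[A] C) Dsh d) = ν d := RingHom.congr_fun hψ
  replace hψr : ∀ x, residue _ (ψ x) = τ.symm (residue Dsh x) := hψr
  have h1 : L.toRingHom.comp ψ = RingHom.id Dsh := by
    refine strict_ext (p := pD) Dsh _ _ (RingHom.ext fun d => ?_) ?_ fun x => ?_
    · exact (congrArg L (hψ d)).trans (hνd d)
    · refine Eq.trans ?_ (comap_point (p := pD) Dsh)
      congr 1
      exact RingHom.ext fun d => (congrArg L (hψ d)).trans (hνd d)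
    · rw [RingHom.comp_apply, RingHom.id_apply]
      exact (congrArg τ (hψr x)).trans (τ.apply_symm_apply _)
  haveI : HenselianLocalRing Bsh := _root_.Hensel.IsStrictHenselization.henselian (R := Localization.AtPrime pB)
  have hB : ψ.comp (algebraMap Bsh Dsh) = Algebra.TensorProduct.includeLeftRingHom := by
    have hc : ∀ b, ψ (algebraMap Bsh Dsh (algebraMap B Bsh b)) = algebraMap B Bsh b ⊗ₜ[Ash] (1 : Csh) := fun b => by
      rw [← IsScalarTower.algebraMap_apply, IsScalarTower.algebraMap_apply B (B ⊗[A] C) Dsh, hψ]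
      simp [ν, fB, fC, νB]
    refine strict_ext (p := pB) Bsh _ _ (RingHom.ext hc) ?_ fun x => ?_
    · rw [show (ψ.comp (algebraMap Bsh Dsh)).comp (algebraMap B Bsh) =
        ν.toRingHom.comp (algebraMap B (B ⊗[A] C)) from RingHom.ext fun b => by
          refine (hc b).trans ?_
          simp [ν, fB, fC, νB], ← Ideal.comap_comap, hν]
      exact (pD.over_def pB).symm
    · rw [RingHom.comp_apply, hψr]
      refine τ.symm_apply_eq.2 (congrArg (residue Dsh) ?_)
      exact ((hL x 1).trans (by rw [map_one, mul_one])).symm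
  have hCc : ψ.comp (algebraMap Csh Dsh) = algebraMap Csh (Bsh ⊗[Ash] Csh) := by
    have hc : ∀ c, ψ (algebraMap Csh Dsh (algebraMap C Csh c)) =
        algebraMap Csh (Bsh ⊗[Ash] Csh) (algebraMap C Csh c) := fun c => by
      rw [hC, hψ]
      simp [ν, fB, fC, νB, ← Algebra.TensorProduct.one_def]
    refine strict_ext (p := pC) Csh _ _ (RingHom.ext hc) ?_ fun x => ?_
    · rw [show (ψ.comp (algebraMap Csh Dsh)).comp (algebraMap C Csh) =
        ν.toRingHom.comp (Algebra.TensorProduct.includeRight : C →ₐ[A] B ⊗[A] C).toRingHom from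
          RingHom.ext fun c => by
            refine (hc c).trans ?_
            simp [ν, fB, fC, νB, ← Algebra.TensorProduct.one_def], ← Ideal.comap_comap, hν, hDC]
    · rw [RingHom.comp_apply, hψr]
      exact τ.symm_apply_eq.2 (congrArg (residue Dsh) (RingHom.congr_fun hLC x).symm)
  have h2 : ∀ y, ψ (L y) = y := fun y => by
    induction y using TensorProduct.induction_on with
    | zero => simp
    | add x y hx hy => simp [hx, hy]
    | tmul b c =>
      rw [hL, map_mul, ← RingHom.comp_apply, hB, ← RingHom.comp_apply, hCc, RingHom.algebraMap_toAlgebra]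
      simp
  exact ⟨Function.LeftInverse.injective h2, fun x => ⟨ψ x, RingHom.congr_fun h1 x⟩⟩

end Groth.Agent.Hensel
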