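import Groth.Agent.Hensel.PointLift
import Mathlib.RingTheory.TensorProduct.Maps

/-!
Henselizations of tensor products with a henselization, at the canonical point.
-/

set_option autoImplicit false

namespace Groth.Agent.Hensel

universe u

open IsLocalRing TensorProduct

variable (R : Type u) [CommRing R] (S : Type u) [CommRing S] [Algebra R S] (p : Ideal R) [p.IsPrime] (q : Ideal S)
  [q.IsPrime] [q.LiesOver p] (Rh : Type u) [CommRing Rh] [IsLocalRing Rh] [Algebra (Localization.AtPrime p) Rh]
  [IsLocalHom (algebraMap (Localization.AtPrime p) Rh)] [Algebra R Rh] [IsScalarTower R (Localization.AtPrime p) Rh]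
  (Sh : Type u) [CommRing Sh] [IsLocalRing Sh] [Algebra (Localization.AtPrime q) Sh]
  [IsLocalHom (algebraMap (Localization.AtPrime q) Sh)] [Algebra S Sh] [IsScalarTower S (Localization.AtPrime q) Sh]
  [Algebra R Sh] [IsScalarTower R S Sh] [Algebra Rh Sh] [IsScalarTower R Rh Sh]

/-- The canonical map from the tensor product. -/
noncomputable abbrev tLift : Rh ⊗[R] S →ₐ[R] Sh :=
  Algebra.TensorProduct.lift (IsScalarTower.toAlgHom R Rh Sh) (IsScalarTower.toAlgHom R S Sh)
    (fun _ _ => Commute.all _ _)

include q in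
theorem comap_point_left : (maximalIdeal Sh).comap ((algebraMap Rh Sh).comp (algebraMap R Rh)) = p := by
  rw [← IsScalarTower.algebraMap_eq, IsScalarTower.algebraMap_eq R S Sh, ← Ideal.comap_comap,
    comap_point (p := q) Sh]
  exact (q.over_def p).symm

variable (Q : Ideal (Rh ⊗[R] S)) [Q.IsPrime] (E : Type u) [CommRing E] [IsLocalRing E]
  [Algebra (Localization.AtPrime Q) E] [IsLocalHom (algebraMap (Localization.AtPrime Q) E)]
  [Algebra (Rh ⊗[R] S) E] [IsScalarTower (Rh ⊗[R] S) (Localization.AtPrime Q) E]

theorem tensorPoint_equiv [_root_.Hensel.IsHenselization (Localization.AtPrime p) Rh]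
    [_root_.Hensel.IsHenselization (Localization.AtPrime q) Sh]
    [_root_.Hensel.IsHenselization (Localization.AtPrime Q) E]
    (hQ : Q = (maximalIdeal Sh).comap (tLift R S Rh Sh).toRingHom) :
    ∃ e : E ≃+* Sh, ∀ d, e (algebraMap (Rh ⊗[R] S) E d) = tLift R S Rh Sh d := by
  haveI : HenselianLocalRing Sh := _root_.Hensel.IsHenselization.henselian (R := Localization.AtPrime q)
  haveI : HenselianLocalRing E := _root_.Hensel.IsHenselization.henselian (R := Localization.AtPrime Q)
  obtain ⟨g, hg, -⟩ := hens_lift (p := Q) E (tLift R S Rh Sh).toRingHom hQ.symm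
  replace hg : ∀ d, g (algebraMap (Rh ⊗[R] S) E d) = tLift R S Rh Sh d := RingHom.congr_fun hg
  let ν : S →+* E := (algebraMap (Rh ⊗[R] S) E).comp Algebra.TensorProduct.includeRight.toRingHom
  have hν : (maximalIdeal E).comap ν = q := by
    rw [← Ideal.comap_comap, comap_point (p := Q) E, hQ, Ideal.comap_comap]
    refine Eq.trans ?_ (comap_point (p := q) Sh)
    congr 1
    ext s
    simp [tLift]
  obtain ⟨h, hh, -⟩ := hens_lift (p := q) Sh ν hν
  replace hh : ∀ s, h (algebraMap S Sh s) = ν s := RingHom.congr_fun hh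
  have h1 : g.comp h = RingHom.id Sh := by
    refine hens_ext (p := q) Sh _ _ (RingHom.ext fun s => ?_) ?_
    · simp [hh, ν, hg, tLift]
    · refine Eq.trans ?_ (comap_point (p := q) Sh)
      congr 1
      ext s
      simp [hh, ν, hg, tLift]
  have hleft : (h.comp (algebraMap Rh Sh)) =
      (algebraMap (Rh ⊗[R] S) E).comp Algebra.TensorProduct.includeLeftRingHom := by
    have hc : (h.comp (algebraMap Rh Sh)).comp (algebraMap R Rh) =
        ((algebraMap (Rh ⊗[R] S) E).comp Algebra.TensorProduct.includeLeftRingHom).comp (algebraMap R Rh) := by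
      ext r
      simp only [RingHom.comp_apply]
      rw [← IsScalarTower.algebraMap_apply R Rh Sh, IsScalarTower.algebraMap_apply R S Sh, hh]
      simp [ν]
    refine hens_ext (p := p) Rh _ _ hc ?_
    rw [hc, RingHom.comp_assoc, ← Ideal.comap_comap, comap_point (p := Q) E, hQ, Ideal.comap_comap]
    refine Eq.trans ?_ (comap_point_left R S p q Rh Sh)
    congr 1
    ext r
    simpa [tLift] using IsScalarTower.algebraMap_apply R Rh Sh r
  have hlift : ∀ d, h (tLift R S Rh Sh d) = algebraMap (Rh ⊗[R] S) E d := fun d => by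
    induction d using TensorProduct.induction_on with
    | zero => simp
    | add x y hx hy => simp [hx, hy]
    | tmul a s =>
      rw [Algebra.TensorProduct.lift_tmul, map_mul, show a ⊗ₜ[R] s = a ⊗ₜ 1 * (1 ⊗ₜ s) by simp, map_mul]
      exact congrArg₂ (· * ·) (RingHom.congr_fun hleft a) (hh s)
  have h2 : h.comp g = RingHom.id E := by
    refine hens_ext (p := Q) E _ _ (RingHom.ext fun d => ?_) ?_
    · simp [hg, hlift]
    · refine Eq.trans ?_ (comap_point (p := Q) E)
      congr 1
      exact RingHom.ext fun d => by simp [hg, hlift]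
  exact ⟨RingEquiv.ofRingHom g h h1 h2, hg⟩

theorem strictTensorPoint_equiv [_root_.Hensel.IsStrictHenselization (Localization.AtPrime p) Rh]
    [_root_.Hensel.IsStrictHenselization (Localization.AtPrime q) Sh]
    [_root_.Hensel.IsStrictHenselization (Localization.AtPrime Q) E]
    (hQ : Q = (maximalIdeal Sh).comap (tLift R S Rh Sh).toRingHom) :
    ∃ e : E ≃+* Sh, ∀ d, e (algebraMap (Rh ⊗[R] S) E d) = tLift R S Rh Sh d := by
  haveI : HenselianLocalRing Sh := _root_.Hensel.IsStrictHenselization.henselian (R := Localization.AtPrime q)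
  haveI : HenselianLocalRing E := _root_.Hensel.IsStrictHenselization.henselian (R := Localization.AtPrime Q)
  haveI := _root_.Hensel.IsStrictHenselization.isSepClosure (R := Localization.AtPrime Q) (S := E)
  haveI hSh := _root_.Hensel.IsStrictHenselization.isSepClosure (R := Localization.AtPrime q) (S := Sh)
  haveI : IsSepClosed (ResidueField Sh) := hSh.sep_closed
  haveI : Algebra.IsSeparable (ResidueField (Localization.AtPrime q)) (ResidueField Sh) := hSh.separable
  let ν : S →+* E := (algebraMap (Rh ⊗[R] S) E).comp Algebra.TensorProduct.includeRight.toRingHom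
  have hQq : q = Q.comap Algebra.TensorProduct.includeRight.toRingHom := by
    rw [hQ, Ideal.comap_comap]
    refine Eq.trans (comap_point (p := q) Sh).symm ?_
    congr 1
    ext s
    simp [tLift]
  obtain ⟨φ', hφ'loc, hφ'⟩ := exists_localHom (p := Q) (tLift R S Rh Sh).toRingHom hQ.symm
  haveI := hφ'loc
  let ι := Ideal.ResidueField.map q Q Algebra.TensorProduct.includeRight.toRingHom hQq
  obtain ⟨τ, hτ⟩ := exists_equiv_of_isSepClosure (K := ResidueField E) ι (ResidueField.map φ') (by
    apply Ideal.ResidueField.ringHom_ext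
    ext s
    simp only [RingHom.comp_apply, ι, Ideal.ResidueField.map_algebraMap]
    rw [IsScalarTower.algebraMap_apply S (Localization.AtPrime q) q.ResidueField,
      IsScalarTower.algebraMap_apply (Rh ⊗[R] S) (Localization.AtPrime Q) Q.ResidueField,
      ResidueField.algebraMap_eq, ResidueField.algebraMap_eq, ResidueField.map_residue,
      ResidueField.algebraMap_residue, ← IsScalarTower.algebraMap_apply, ← RingHom.comp_apply φ', hφ']
    simp [tLift])
  have hτd : ∀ d, τ (residue E (algebraMap (Rh ⊗[R] S) E d)) = residue Sh (tLift R S Rh Sh d) := fun d => by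
    rw [IsScalarTower.algebraMap_apply (Rh ⊗[R] S) (Localization.AtPrime Q) E, ← ResidueField.algebraMap_residue,
      hτ, ResidueField.map_residue, ← RingHom.comp_apply φ', hφ']
    rfl
  obtain ⟨g, ⟨hg, hgr⟩, -⟩ := strict_lift (p := Q) E (tLift R S Rh Sh).toRingHom hQ.symm τ.toRingHom hτd
  replace hg : ∀ d, g (algebraMap (Rh ⊗[R] S) E d) = tLift R S Rh Sh d := RingHom.congr_fun hg
  replace hgr : ∀ x, residue Sh (g x) = τ (residue E x) := hgr
  have hν : (maximalIdeal E).comap ν = q := by
    rw [← Ideal.comap_comap, comap_point (p := Q) E, ← hQq]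
  obtain ⟨h, ⟨hh, hhr⟩, -⟩ := strict_lift (p := q) Sh ν hν τ.symm.toRingHom fun s => τ.symm_apply_eq.2 (by
    rw [show residue E (ν s) = residue E (algebraMap _ E ((1 : Rh) ⊗ₜ[R] s)) from rfl, hτd]
    simp [tLift])
  replace hh : ∀ s, h (algebraMap S Sh s) = ν s := RingHom.congr_fun hh
  replace hhr : ∀ x, residue E (h x) = τ.symm (residue Sh x) := hhr
  have h1 : g.comp h = RingHom.id Sh := by
    refine strict_ext (p := q) Sh _ _ (RingHom.ext fun s => ?_) ?_ fun x => ?_
    · simp [hh, ν, hg, tLift]
    · refine Eq.trans ?_ (comap_point (p := q) Sh)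
      congr 1
      ext s
      simp [hh, ν, hg, tLift]
    · simp [hgr, hhr]
  have hleft : (h.comp (algebraMap Rh Sh)) =
      (algebraMap (Rh ⊗[R] S) E).comp Algebra.TensorProduct.includeLeftRingHom := by
    have hc : (h.comp (algebraMap Rh Sh)).comp (algebraMap R Rh) =
        ((algebraMap (Rh ⊗[R] S) E).comp Algebra.TensorProduct.includeLeftRingHom).comp (algebraMap R Rh) := by
      ext r
      simp only [RingHom.comp_apply]
      rw [← IsScalarTower.algebraMap_apply R Rh Sh, IsScalarTower.algebraMap_apply R S Sh, hh]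
      simp [ν]
    refine strict_ext (p := p) Rh _ _ hc ?_ fun x => ?_
    · rw [hc, RingHom.comp_assoc, ← Ideal.comap_comap, comap_point (p := Q) E, hQ, Ideal.comap_comap]
      refine Eq.trans ?_ (comap_point_left R S p q Rh Sh)
      congr 1
      ext r
      simpa [tLift] using IsScalarTower.algebraMap_apply R Rh Sh r
    · rw [RingHom.comp_apply, hhr]
      refine τ.symm_apply_eq.2 ?_
      rw [RingHom.comp_apply, hτd]
      simp [tLift]
  have hlift : ∀ d, h (tLift R S Rh Sh d) = algebraMap (Rh ⊗[R] S) E d := fun d => by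
    induction d using TensorProduct.induction_on with
    | zero => simp
    | add x y hx hy => simp [hx, hy]
    | tmul a s =>
      rw [Algebra.TensorProduct.lift_tmul, map_mul, show a ⊗ₜ[R] s = a ⊗ₜ 1 * (1 ⊗ₜ s) by simp, map_mul]
      exact congrArg₂ (· * ·) (RingHom.congr_fun hleft a) (hh s)
  have h2 : h.comp g = RingHom.id E := by
    refine strict_ext (p := Q) E _ _ (RingHom.ext fun d => ?_) ?_ fun x => ?_
    · simp [hg, hlift]
    · refine Eq.trans ?_ (comap_point (p := Q) E)
      congr 1
      exact RingHom.ext fun d => by simp [hg, hlift]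
    · simp [hgr, hhr]
  exact ⟨RingEquiv.ofRingHom g h h1 h2, hg⟩

end Groth.Agent.Hensel
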