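import Mathlib

/-!
Infinitesimal lifting of an algebra against its truncations.
-/

set_option autoImplicit false

namespace Groth.Agent.Hensel

universe u

variable {A : Type u} [CommRing A] {I : Ideal A} {B : Type u} [CommRing B] [Algebra A B]

/-- Algebras killed by `K` are algebras over the quotient. -/
abbrev quotAlgebra (K : Ideal A) (E : Type u) [CommRing E] [Algebra A E] (h : K.map (algebraMap A E) = ⊥) :
    Algebra (A ⧸ K) E :=
  (Ideal.Quotient.lift K (algebraMap A E) fun a ha => by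
    rw [← Ideal.mem_bot, ← h]; exact Ideal.mem_map_of_mem _ ha).toAlgebra

/-- Smooth truncations give lifts. -/
theorem exists_lift_of_trunc {N : ℕ} [Algebra.FormallySmooth (A ⧸ I ^ N) (B ⧸ (I ^ N).map (algebraMap A B))]
    {E C : Type u} [CommRing E] [CommRing C] [Algebra A E] [Algebra A C]
    (hE : (I ^ N).map (algebraMap A E) = ⊥) (hC : (I ^ N).map (algebraMap A C) = ⊥) (p : E →ₐ[A] C)
    (hp : Function.Surjective p) (hn : ∃ M : ℕ, 1 ≤ M ∧ RingHom.ker p ^ M = ⊥) (u : B →ₐ[A] C) :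
    ∃ v : B →ₐ[A] E, p.comp v = u := by
  letI := quotAlgebra (I ^ N) E hE
  letI := quotAlgebra (I ^ N) C hC
  haveI : IsScalarTower A (A ⧸ I ^ N) E := IsScalarTower.of_algebraMap_eq fun _ => rfl
  haveI : IsScalarTower A (A ⧸ I ^ N) C := IsScalarTower.of_algebraMap_eq fun _ => rfl
  let p' : E →ₐ[A ⧸ I ^ N] C := { p with
    commutes' := fun r => by
      obtain ⟨a, rfl⟩ := Ideal.Quotient.mk_surjective r
      exact p.commutes a }
  let u₀ : (B ⧸ (I ^ N).map (algebraMap A B)) →ₐ[A] C := Ideal.Quotient.liftₐ _ u fun b hb => by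
    have h := Ideal.mem_map_of_mem u.toRingHom hb
    rw [Ideal.map_map, show u.toRingHom.comp (algebraMap A B) = algebraMap A C from RingHom.ext u.commutes, hC] at h
    exact h
  let u' : (B ⧸ (I ^ N).map (algebraMap A B)) →ₐ[A ⧸ I ^ N] C := { u₀ with
    commutes' := fun r => by
      obtain ⟨a, rfl⟩ := Ideal.Quotient.mk_surjective r
      exact u₀.commutes a }
  obtain ⟨M, -, hM⟩ := hn
  have hnil : IsNilpotent (RingHom.ker p'.toRingHom) := ⟨M, hM⟩
  let v := Algebra.FormallySmooth.liftOfSurjective u' p' hp hnil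
  have hv : ∀ x, p (v x) = u' x := fun x => AlgHom.congr_fun (Algebra.FormallySmooth.comp_liftOfSurjective u' p' hp hnil) x
  exact ⟨(v.restrictScalars A).comp (Ideal.Quotient.mkₐ A _), AlgHom.ext fun b => hv (Ideal.Quotient.mk _ b)⟩

/-- Unramified truncations give uniqueness of lifts. -/
theorem eq_lift_of_trunc {N : ℕ} [Algebra.FormallyUnramified (A ⧸ I ^ N) (B ⧸ (I ^ N).map (algebraMap A B))]
    {E C : Type u} [CommRing E] [CommRing C] [Algebra A E] [Algebra A C]
    (hE : (I ^ N).map (algebraMap A E) = ⊥) (p : E →ₐ[A] C)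
    (hn : ∃ M : ℕ, 1 ≤ M ∧ RingHom.ker p ^ M = ⊥) (v w : B →ₐ[A] E) (hvw : p.comp v = p.comp w) : v = w := by
  letI := quotAlgebra (I ^ N) E hE
  haveI : IsScalarTower A (A ⧸ I ^ N) E := IsScalarTower.of_algebraMap_eq fun _ => rfl
  have hd : ∀ v : B →ₐ[A] E, ∀ b ∈ (I ^ N).map (algebraMap A B), v b = 0 := fun v b hb => by
    have h := Ideal.mem_map_of_mem v.toRingHom hb
    rw [Ideal.map_map, show v.toRingHom.comp (algebraMap A B) = algebraMap A E from RingHom.ext v.commutes, hE] at h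
    exact h
  let down : (B →ₐ[A] E) → ((B ⧸ (I ^ N).map (algebraMap A B)) →ₐ[A ⧸ I ^ N] E) := fun v =>
    { Ideal.Quotient.liftₐ _ v (hd v) with
      commutes' := fun r => by
        obtain ⟨a, rfl⟩ := Ideal.Quotient.mk_surjective r
        exact v.commutes a }
  obtain ⟨M, -, hM⟩ := hn
  have h : down v = down w := Algebra.FormallyUnramified.ext (I := RingHom.ker p) ⟨M, hM⟩ fun x => by
    obtain ⟨b, rfl⟩ := Ideal.Quotient.mk_surjective x
    rw [Ideal.Quotient.eq, RingHom.mem_ker, map_sub, sub_eq_zero]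
    exact AlgHom.congr_fun hvw b
  exact AlgHom.ext fun b => AlgHom.congr_fun h (Ideal.Quotient.mk _ b)

/-- Lifting gives smooth truncations. -/
theorem formallySmooth_of_lifting {N : ℕ} (hN : 1 ≤ N)
    (H : ∀ (E C : Type u) [CommRing E] [CommRing C] [Algebra A E] [Algebra A C] (N : ℕ), 1 ≤ N →
      (I ^ N).map (algebraMap A E) = ⊥ → (I ^ N).map (algebraMap A C) = ⊥ → ∀ (p : E →ₐ[A] C), Function.Surjective p →
        (∃ M : ℕ, 1 ≤ M ∧ RingHom.ker p ^ M = ⊥) → ∀ u : B →ₐ[A] C, ∃ v : B →ₐ[A] E, p.comp v = u) :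
    Algebra.FormallySmooth (A ⧸ I ^ N) (B ⧸ (I ^ N).map (algebraMap A B)) := by
  refine Algebra.FormallySmooth.of_comp_surjective fun E _ _ J hJ u => ?_
  letI : Algebra A E := ((algebraMap (A ⧸ I ^ N) E).comp (algebraMap A (A ⧸ I ^ N))).toAlgebra
  haveI : IsScalarTower A (A ⧸ I ^ N) E := IsScalarTower.of_algebraMap_eq fun _ => rfl
  have hE : ∀ (T : Type u) [CommRing T] [Algebra A T] [Algebra (A ⧸ I ^ N) T] [IsScalarTower A (A ⧸ I ^ N) T],
      (I ^ N).map (algebraMap A T) = ⊥ := fun T _ _ _ _ => by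
    rw [eq_bot_iff, Ideal.map_le_iff_le_comap]
    intro a ha
    rw [Ideal.mem_comap, IsScalarTower.algebraMap_apply A (A ⧸ I ^ N) T, Ideal.Quotient.algebraMap_eq,
      Ideal.Quotient.eq_zero_iff_mem.2 ha, map_zero]
    exact Submodule.zero_mem _
  obtain ⟨v, hv⟩ := H E (E ⧸ J) N hN (hE E) (hE (E ⧸ J)) (Ideal.Quotient.mkₐ A J) (Ideal.Quotient.mkₐ_surjective A J)
    ⟨2, by norm_num, by rw [show RingHom.ker (Ideal.Quotient.mkₐ A J) = J from Ideal.Quotient.mkₐ_ker A J, hJ]⟩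
    ((u.restrictScalars A).comp (Ideal.Quotient.mkₐ A _))
  have hv0 : ∀ b ∈ (I ^ N).map (algebraMap A B), v b = 0 := fun b hb => by
    have h := Ideal.mem_map_of_mem v.toRingHom hb
    rw [Ideal.map_map, show v.toRingHom.comp (algebraMap A B) = algebraMap A E from RingHom.ext v.commutes, hE E] at h
    exact h
  refine ⟨{ Ideal.Quotient.liftₐ _ v hv0 with
    commutes' := fun r => by
      obtain ⟨a, rfl⟩ := Ideal.Quotient.mk_surjective r
      exact v.commutes a }, AlgHom.ext fun x => ?_⟩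
  obtain ⟨b, rfl⟩ := Ideal.Quotient.mk_surjective x
  exact AlgHom.congr_fun hv b

/-- Uniqueness of lifts gives unramified truncations. -/
theorem formallyUnramified_of_lifting {N : ℕ} (hN : 1 ≤ N)
    (H : ∀ (E C : Type u) [CommRing E] [CommRing C] [Algebra A E] [Algebra A C] (N : ℕ), 1 ≤ N →
      (I ^ N).map (algebraMap A E) = ⊥ → (I ^ N).map (algebraMap A C) = ⊥ → ∀ (p : E →ₐ[A] C), Function.Surjective p →
        (∃ M : ℕ, 1 ≤ M ∧ RingHom.ker p ^ M = ⊥) → ∀ v w : B →ₐ[A] E, p.comp v = p.comp w → v = w) :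
    Algebra.FormallyUnramified (A ⧸ I ^ N) (B ⧸ (I ^ N).map (algebraMap A B)) := by
  refine Algebra.FormallyUnramified.iff_comp_injective.2 fun E _ _ J hJ v w hvw => ?_
  letI : Algebra A E := ((algebraMap (A ⧸ I ^ N) E).comp (algebraMap A (A ⧸ I ^ N))).toAlgebra
  haveI : IsScalarTower A (A ⧸ I ^ N) E := IsScalarTower.of_algebraMap_eq fun _ => rfl
  have hE : ∀ (T : Type u) [CommRing T] [Algebra A T] [Algebra (A ⧸ I ^ N) T] [IsScalarTower A (A ⧸ I ^ N) T],
      (I ^ N).map (algebraMap A T) = ⊥ := fun T _ _ _ _ => by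
    rw [eq_bot_iff, Ideal.map_le_iff_le_comap]
    intro a ha
    rw [Ideal.mem_comap, IsScalarTower.algebraMap_apply A (A ⧸ I ^ N) T, Ideal.Quotient.algebraMap_eq,
      Ideal.Quotient.eq_zero_iff_mem.2 ha, map_zero]
    exact Submodule.zero_mem _
  have h := H E (E ⧸ J) N hN (hE E) (hE (E ⧸ J)) (Ideal.Quotient.mkₐ A J) (Ideal.Quotient.mkₐ_surjective A J)
    ⟨2, by norm_num, by rw [show RingHom.ker (Ideal.Quotient.mkₐ A J) = J from Ideal.Quotient.mkₐ_ker A J, hJ]⟩
    ((v.restrictScalars A).comp (Ideal.Quotient.mkₐ A _)) ((w.restrictScalars A).comp (Ideal.Quotient.mkₐ A _))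
    (AlgHom.ext fun b => AlgHom.congr_fun hvw (Ideal.Quotient.mk _ b))
  refine AlgHom.ext fun x => ?_
  obtain ⟨b, rfl⟩ := Ideal.Quotient.mk_surjective x
  exact AlgHom.congr_fun h b

end Groth.Agent.Hensel
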